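import Cfsg.Agent.Lib.ThPres.CentData

/-!
The centraliser of the first letter: an upper bound for its orbit on the cosets.
-/

set_option autoImplicit false
set_option linter.style.haveILetI false

namespace CfsgLib.ThPres

open Cfsg.Spor CfsgLib.CosetEnum CfsgLib.TwistTree CfsgLib.ThRep
open CfsgLib.TwistCoset (CLev cOK cSize lettersOK lettersOK_iff)

attribute [local irreducible] clsConj clsKey clsNext certL

theorem hK9 : certL.K = 9 := cert_sizes.2.2.2.2.2.2.1

theorem hN : certL.N = 2457 := cert_sizes.2.2.2.2.2.2.2.1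

theorem revInv_lt9 {w : List ℕ} (h : ∀ g ∈ w, g < certL.K) : ∀ g ∈ certL.revInv w, g < certL.K :=
  TwistCoset.Act.revInv_lt h pAct

theorem run_lt0 {w : List ℕ} (hw : ∀ g ∈ w, g < certL.K) {b : ℕ} (hb : b < certL.N) :
    certL.run b w < certL.N := by
  have h := pAct.apply w hw ⟨b, hb⟩
  change _ = certL.run b w at h
  rw [← h]
  exact Fin.isLt _

theorem key_pack {a b c a' b' c' : ℕ} (ha : a < 4096) (hb : b < 4096) (ha' : a' < 4096) (hb' : b' < 4096)
    (h : Nat.add a (Nat.add (Nat.shiftLeft b (nat_lit 12)) (Nat.shiftLeft c (nat_lit 24))) =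
      Nat.add a' (Nat.add (Nat.shiftLeft b' (nat_lit 12)) (Nat.shiftLeft c' (nat_lit 24)))) :
    a = a' ∧ b = b' ∧ c = c' := by
  change a + (b <<< 12 + c <<< 24) = a' + (b' <<< 12 + c' <<< 24) at h
  simp only [Nat.shiftLeft_eq] at h
  omega

theorem keyRun_congr {l m : List ℕ} (h0 : certL.run 0 l = certL.run 0 m)
    (h4 : certL.run 4 l = certL.run 4 m) (h77 : certL.run 77 l = certL.run 77 m) :
    keyRun l = keyRun m := by
  unfold keyRun
  rw [h0, h4, h77]

theorem keyRun_inj {l m : List ℕ} (hl : ∀ g ∈ l, g < certL.K) (hm : ∀ g ∈ m, g < certL.K)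
    (h : keyRun l = keyRun m) : prodW pGen l = prodW pGen m := by
  have a1 := run_lt0 hl (b := 0) (by rw [hN]; norm_num)
  have b1 := run_lt0 hl (b := 4) (by rw [hN]; norm_num)
  have a2 := run_lt0 hm (b := 0) (by rw [hN]; norm_num)
  have b2 := run_lt0 hm (b := 4) (by rw [hN]; norm_num)
  rw [hN] at a1 b1 a2 b2
  have e : certL.run 0 l = certL.run 0 m ∧ certL.run 4 l = certL.run 4 m ∧
      certL.run 77 l = certL.run 77 m := by
    unfold keyRun at h
    exact key_pack (a1.trans (by norm_num)) (b1.trans (by norm_num)) (a2.trans (by norm_num))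
      (b2.trans (by norm_num)) h
  refine eq_sound0 ?_
  simp only [TData.eq, TwistCoset.Act.eqW, tw_C, Bool.and_eq_true, lettersOK_iff, List.all_eq_true]
  refine ⟨⟨hl, hm⟩, fun b hb => ?_⟩
  change b ∈ [0, 4, 77] at hb
  simp only [List.mem_cons, List.not_mem_nil, or_false] at hb
  rcases hb with rfl | rfl | rfl
  · rw [e.1]; exact Nat.beq_refl _
  · rw [e.2.1]; exact Nat.beq_refl _
  · rw [e.2.2]; exact Nat.beq_refl _

/-- a member of the class -/
noncomputable def clsElt (k : ℕ) : PT := prodW pGen (clsWord (clsConj.getD k []))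

/-- the class of the first letter in the point stabiliser -/
noncomputable def cls : Set PT := {x | ∃ k < 819, clsElt k = x}

theorem class_facts : clsConj.length = 819 ∧ clsKey.length = 819 ∧
    (∀ k < 819, (∀ g ∈ clsWord (clsConj.getD k []), g < certL.K) ∧
      (∀ g ∈ clsConj.getD k [], g < certL.K) ∧
      keyRun (clsWord (clsConj.getD k [])) = clsKey.getD k 0) ∧
    keyRun [0] = clsKey.getD 107 0 ∧ incrB clsKey = true := by
  have h := class_ok
  simp only [classOK, Bool.and_eq_true, List.all_eq_true, Nat.blt_eq] at h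
  obtain ⟨⟨⟨⟨h1, h2⟩, h3⟩, h4⟩, h5⟩ := h
  have h1' := Nat.eq_of_beq_eq_true h1
  have h2' := Nat.eq_of_beq_eq_true h2
  refine ⟨h1', h2', fun k hk => ?_, Nat.eq_of_beq_eq_true h5, h3⟩
  have hk1 : k < clsConj.length := by omega
  have hk2 : k < clsKey.length := by omega
  have hz := h4 (clsConj[k], clsKey[k])
    (List.mem_iff_getElem.2 ⟨k, by rw [List.length_zip, h1', h2']; simpa using hk, List.getElem_zip⟩)
  rw [List.getD_eq_getElem _ _ hk1, List.getD_eq_getElem _ _ hk2]
  have hh : ∀ g ∈ clsConj[k], g < certL.K := fun g hg => hK9 ▸ hz.1 g hg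
  refine ⟨fun g hg => ?_, hh, Nat.eq_of_beq_eq_true hz.2⟩
  rcases List.mem_append.1 hg with h | h
  · exact revInv_lt9 hh g h
  · rcases List.mem_cons.1 h with rfl | h
    · rw [hK9]; norm_num
    · exact hh g h

theorem cls_key : ∀ {l : List ℕ} {k k' : ℕ}, incrB l = true → k < k' → k' < l.length →
    l.getD k 0 < l.getD k' 0
  | [], _, _, _, _, h => by simp at h
  | [_], _, _, _, h, h' => by simp at h'; omega
  | a :: b :: l, k, k', h, hk, hk' => by
    simp only [incrB, Bool.and_eq_true, Nat.blt_eq] at h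
    obtain ⟨j', rfl⟩ : ∃ j', k' = j' + 1 := ⟨k' - 1, by omega⟩
    rw [List.length_cons] at hk'
    rcases k with _ | k
    · rw [List.getD_cons_zero, List.getD_cons_succ]
      rcases j' with _ | j'
      · simpa using h.1
      · exact h.1.trans_le (by
          have := cls_key (l := b :: l) (k := 0) (k' := j' + 1) h.2 (by omega) (by omega)
          simpa using this.le)
    · rw [List.getD_cons_succ, List.getD_cons_succ]
      exact cls_key (l := b :: l) h.2 (by omega) (by omega)

theorem clsElt_inj : ∀ k < 819, ∀ k' < 819, clsElt k = clsElt k' → k = k' := by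
  obtain ⟨-, hlen, hk, -, hinc⟩ := class_facts
  have key : ∀ k < 819, ∀ k' < 819, k < k' → clsElt k ≠ clsElt k' := fun k h k' h' hlt e => by
    have hr : ∀ b < certL.N, certL.run b (clsWord (clsConj.getD k [])) =
        certL.run b (clsWord (clsConj.getD k' [])) := fun b hb => by
      have e1 := pAct.apply _ (hk k h).1 ⟨b, hb⟩
      have e2 := pAct.apply _ (hk k' h').1 ⟨b, hb⟩
      unfold clsElt at e
      rw [e] at e1
      exact e1.symm.trans e2
    have := cls_key hinc hlt (hlen ▸ h')
    rw [← (hk k h).2.2, ← (hk k' h').2.2, keyRun_congr (hr 0 (by rw [hN]; norm_num))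
      (hr 4 (by rw [hN]; norm_num)) (hr 77 (by rw [hN]; norm_num))] at this
    exact lt_irrefl _ this
  intro k h k' h' e
  rcases lt_trichotomy k k' with hlt | rfl | hlt
  · exact absurd e (key k h k' h' hlt)
  · rfl
  · exact absurd e.symm (key k' h' k h hlt)

theorem aP_mem : pGen 0 ∈ cls := by
  obtain ⟨-, -, hk, h0, -⟩ := class_facts
  refine ⟨107, by norm_num, ?_⟩
  rw [← prodW_single pGen 0]
  exact keyRun_inj (hk 107 (by norm_num)).1 (by intro g hg; rw [List.mem_singleton] at hg; rw [hK9]; omega)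
    ((hk 107 (by norm_num)).2.2.trans h0.symm)

theorem clsElt_eq {k : ℕ} (hk : k < 819) : clsElt k =
    (prodW pGen (clsConj.getD k []))⁻¹ * pGen 0 * prodW pGen (clsConj.getD k []) := by
  rw [clsElt, clsWord, prodW_append, prodW_cons, pAct.revInv_eq, mul_assoc]

theorem cls_conj_letter {g : ℕ} (hg : g < 9) {x : PT} (hx : x ∈ cls) :
    (pGen g)⁻¹ * x * pGen g ∈ cls := by
  obtain ⟨k, hk, rfl⟩ := hx
  obtain ⟨hlen, -, hf, -, -⟩ := class_facts
  have hc : closedOK g = true := by
    interval_cases g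
    exacts [class_closed0, class_closed1, class_closed2, class_closed3, class_closed4, class_closed5,
      class_closed6, class_closed7, class_closed8]
  simp only [closedOK, Bool.and_eq_true, List.all_eq_true, Nat.blt_eq] at hc
  have hlen2 := Nat.eq_of_beq_eq_true hc.1
  have hk1 : k < clsConj.length := by omega
  have hk2 : k < (clsNext.getD g []).length := by omega
  obtain ⟨hn, he⟩ := hc.2 (clsConj[k], (clsNext.getD g [])[k])
    (List.mem_iff_getElem.2 ⟨k, by rw [List.length_zip, hlen, hlen2]; simpa using hk, List.getElem_zip⟩)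
  refine ⟨_, hn, ?_⟩
  have hgi : certL.inv g < certL.K := pAct.inv_lt g (hK9.symm ▸ hg)
  have hw : ∀ c ∈ certL.inv g :: clsWord clsConj[k] ++ [g], c < certL.K := by
    intro c hc
    rcases List.mem_append.1 hc with h | h
    · rcases List.mem_cons.1 h with rfl | h
      · exact hgi
      · exact (hf k hk).1 c (by rwa [List.getD_eq_getElem _ _ hk1])
    · rw [List.mem_singleton] at h; rw [hK9]; omega
  have e := keyRun_inj (hf _ hn).1 hw ((hf _ hn).2.2.trans (Nat.eq_of_beq_eq_true he).symm)
  rw [clsElt, e, List.cons_append, prodW_cons, prodW_append, prodW_single,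
    eq_inv_of_mul_eq_one_right (pAct.inv_mul g), clsElt, List.getD_eq_getElem _ _ hk1, mul_assoc]

theorem cls_conj (y : PT) {x : PT} (hx : x ∈ cls) : y⁻¹ * x * y ∈ cls := by
  obtain ⟨w, hw, rfl⟩ := exists_pWord y
  rw [hK9] at hw
  induction w generalizing x with
  | nil => simpa using hx
  | cons g w ih =>
    have h := ih (x := (pGen g)⁻¹ * x * pGen g) (cls_conj_letter (hw g List.mem_cons_self) hx)
      (fun c hc => hw c (List.mem_cons_of_mem _ hc))
    rw [prodW_cons]
    simpa [mul_assoc] using h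

theorem cls_iff (x : PT) : x ∈ cls ↔ ∃ p : PT, x = p * pGen 0 * p⁻¹ := by
  constructor
  · rintro ⟨k, hk, rfl⟩
    exact ⟨(prodW pGen (clsConj.getD k []))⁻¹, by rw [clsElt_eq hk, inv_inv]⟩
  · rintro ⟨p, rfl⟩
    simpa using cls_conj p⁻¹ aP_mem

theorem card_cls : Nat.card cls = 819 := by
  let f : Fin 819 → cls := fun k => ⟨clsElt k, k, k.2, rfl⟩
  have hf : Function.Bijective f :=
    ⟨fun k k' e => Fin.ext (clsElt_inj k k.2 k' k'.2 (congrArg Subtype.val e)),
      fun ⟨x, k, hk, e⟩ => ⟨⟨k, hk⟩, Subtype.ext e⟩⟩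
  rw [← Nat.card_eq_of_bijective f hf, Nat.card_fin]

theorem card_centraliser : Nat.card (Subgroup.centralizer ({pGen 0} : Set PT)) = 774144 := by
  haveI := finite_PT
  let f : PT ⧸ Subgroup.centralizer ({pGen 0} : Set PT) → cls := fun q =>
    Quotient.liftOn q (fun p => ⟨p * pGen 0 * p⁻¹, (cls_iff _).2 ⟨p, rfl⟩⟩) fun a b hab => by
      have hk := QuotientGroup.leftRel_apply.mp hab
      rw [Subgroup.mem_centralizer_singleton_iff] at hk
      refine Subtype.ext ?_
      calc a * pGen 0 * a⁻¹ = a * (pGen 0 * (a⁻¹ * b)) * b⁻¹ := by group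
        _ = a * (a⁻¹ * b * pGen 0) * b⁻¹ := by rw [← hk]
        _ = b * pGen 0 * b⁻¹ := by group
  have hf : Function.Bijective f := by
    refine ⟨fun p q => ?_, fun ⟨x, hx⟩ => ?_⟩
    · induction p using QuotientGroup.induction_on with
      | _ a =>
        induction q using QuotientGroup.induction_on with
        | _ b =>
          intro h
          have h' : a * pGen 0 * a⁻¹ = b * pGen 0 * b⁻¹ := congrArg Subtype.val h
          rw [QuotientGroup.eq, Subgroup.mem_centralizer_singleton_iff]
          calc a⁻¹ * b * pGen 0 = a⁻¹ * (b * pGen 0 * b⁻¹) * b := by group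
            _ = a⁻¹ * (a * pGen 0 * a⁻¹) * b := by rw [h']
            _ = pGen 0 * (a⁻¹ * b) := by group
    · obtain ⟨p, rfl⟩ := (cls_iff x).1 hx
      exact ⟨(p : PT ⧸ _), rfl⟩
  have hi : (Subgroup.centralizer ({pGen 0} : Set PT)).index = 819 := by
    rw [← card_cls]
    exact Nat.card_eq_of_bijective f hf
  have h := (Subgroup.centralizer ({pGen 0} : Set PT)).card_mul_index
  rw [hi, card_PT] at h
  exact Nat.eq_of_mul_eq_mul_right (show 0 < 819 by norm_num) (h.trans (by norm_num))

/-- the images of the class at a coset -/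
def Aset (q : Th ⧸ toP.range) : Set Th :=
  {x | ∃ g : Th, ∃ a ∈ cls, (g : Th ⧸ toP.range) = q ∧ x = g * toP a * g⁻¹}

theorem Aset_mk (g : Th) (x : Th) :
    x ∈ Aset (g : Th ⧸ toP.range) ↔ ∃ a ∈ cls, x = g * toP a * g⁻¹ := by
  constructor
  · rintro ⟨g', a, ha, e, rfl⟩
    rw [QuotientGroup.eq] at e
    obtain ⟨p, hp⟩ := e
    refine ⟨p⁻¹ * a * p, cls_conj p ha, ?_⟩
    have hg : g = g' * toP p := by rw [hp, mul_inv_cancel_left]
    rw [hg, map_mul, map_mul, map_inv]
    group
  · rintro ⟨a, ha, e⟩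
    exact ⟨g, a, ha, rfl, e⟩

/-- the cosets at which the first letter is an image of its class -/
def omegaA : Set (Th ⧸ toP.range) := {q | toP (pGen 0) ∈ Aset q}

theorem Aset_smul (p : PT) (q : Th ⧸ toP.range) (x : PT) (h : toP x ∈ Aset q) :
    toP (p * x * p⁻¹) ∈ Aset (toP p • q) := by
  induction q using QuotientGroup.induction_on with
  | _ g =>
    rw [Aset_mk] at h
    rw [MulAction.Quotient.smul_coe, smul_eq_mul, Aset_mk]
    obtain ⟨a, ha, e⟩ := h
    exact ⟨a, ha, by rw [map_mul, map_mul, e, map_inv]; group⟩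

/-- coincidences of the class with its images -/
abbrev PairsA : Type := {e : (Th ⧸ toP.range) × cls // toP (e.2 : PT) ∈ Aset e.1}

theorem card_pairs : Nat.card PairsA = 819 * Nat.card omegaA := by
  have hp : ∀ x : cls, ∃ p : PT, (x : PT) = p * pGen 0 * p⁻¹ := fun x => (cls_iff _).1 x.2
  choose p hp using hp
  let f : cls × omegaA → PairsA := fun e =>
    ⟨(toP (p e.1) • e.2.1, e.1), by rw [hp e.1]; exact Aset_smul _ _ _ e.2.2⟩
  have hf : Function.Bijective f := by
    refine ⟨?_, ?_⟩
    · rintro ⟨x, q⟩ ⟨x', q'⟩ e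
      have h := congrArg Subtype.val e
      simp only [f, Prod.mk.injEq] at h
      obtain rfl : x = x' := h.2
      exact Prod.ext rfl (Subtype.ext (smul_left_cancel _ h.1))
    · rintro ⟨⟨q, x⟩, h⟩
      refine ⟨(x, ⟨toP (p x)⁻¹ • q, ?_⟩), ?_⟩
      · have h2 := Aset_smul (p x)⁻¹ q _ h
        rwa [show (p x)⁻¹ * (x : PT) * ((p x)⁻¹)⁻¹ = pGen 0 by rw [hp x]; group] at h2
      · refine Subtype.ext ?_
        simp only [f, map_inv, smul_inv_smul]
  rw [← Nat.card_eq_of_bijective f hf, Nat.card_prod, card_cls]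

/-- bounds for the members of the class that stay in it at the eleven states -/
def hitBound : List ℕ := [819, 3, 1, 0, 0, 0, 0, 0, 0, 0, 0]

theorem same_stab {i : ℕ} {y : PT} (h : y ∈ TData.stb rig i) :
    ∃ z : PT, TData.wst rig i * toP y = toP z * TData.wst rig i := by
  have h2 := (TData.mem_stb i y).1 h
  unfold CfsgLib.DCoset.Same at h2
  obtain ⟨z, hz⟩ := h2
  exact ⟨z, by rw [hz, inv_mul_cancel_right]⟩

theorem stab_gen {i : ℕ} (hi : 1 ≤ i) (hi' : i < 11) :
    ∀ l ∈ chainL.getD i [], ∀ g ∈ l.gens, prodW pGen g ∈ TData.stb rig i := by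
  obtain ⟨-, hg, -, -⟩ := chain_facts i hi hi'
  intro l hl g hgm
  have hmem : l.gens ∈ (witL.getD i []).map Prod.fst := hg ▸ List.mem_map_of_mem hl
  obtain ⟨e, he, hee⟩ := List.mem_map.1 hmem
  have hw := wits_ok
  simp only [List.all_eq_true, List.mem_range, Bool.and_eq_true] at hw
  obtain ⟨hlen, hall⟩ := hw i hi' e he
  rw [← hee] at hgm
  obtain ⟨k, hk, rfl⟩ := List.getElem_of_mem hgm
  have hk2 : k < e.2.length := Nat.eq_of_beq_eq_true hlen ▸ hk
  have h := hall (e.1[k], e.2[k]) (List.mem_iff_getElem.2 ⟨k, by simp [hk, hk2], by simp⟩)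
  unfold witOK at h
  cases hkl : tw.kList 4360 i e.2[k] with
  | none => simp [hkl] at h
  | some kw =>
    simp only [hkl] at h
    rw [eq_sound0 h, TData.mem_stb]
    exact TData.kList_spec holds hkl

theorem card_stb {i : ℕ} (hi : i < 11) :
    Nat.card (TData.stb rig i) * orbSizes.getD i 0 = 634023936 := by
  rw [← orb_card i hi, TData.card_orb, Subgroup.card_mul_index, card_PT]

theorem rho_injective0 : Function.Injective rho := by
  haveI := simple_Th
  rw [← MonoidHom.ker_eq_bot_iff]
  refine rho.normal_ker.eq_bot_or_eq_top.resolve_right fun h => orderOf_word13.2 ?_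
  have hm : toP (prodW pGen word13) ∈ rho.ker := by rw [h]; trivial
  exact MonoidHom.mem_ker.1 hm

theorem hit_bound {i : ℕ} (hi : 1 ≤ i) (hi' : i < 11) {k : ℕ} (hk : k < 819)
    (h : toP (clsElt k) ∈ Aset (TData.pt rig i)) : k ∈ keepL.getD i [] := by
  haveI := finite_PT
  rw [TData.pt, Aset_mk, inv_inv] at h
  obtain ⟨a, ha, e⟩ := h
  have hwa : TData.wst rig i * toP (clsElt k) = toP a * TData.wst rig i := by
    rw [e]; group
  have hst : clsElt k ∈ TData.stb rig i := by
    rw [TData.mem_stb, CfsgLib.DCoset.Same, hwa, mul_inv_cancel_right]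
    exact ⟨a, rfl⟩
  obtain ⟨hc, -, hsz, hsift⟩ := chain_facts i hi hi'
  obtain ⟨hlen, -, hf, -, -⟩ := class_facts
  simp only [siftClass, Bool.and_eq_true, List.all_eq_true] at hsift
  have hk1 : k < clsConj.length := by omega
  have hin := hsift.2 (clsConj[k], k) (List.mem_zipIdx_iff_getElem?.2 (by simp [List.getElem?_eq_getElem hk1]))
  have hB : ∀ b ∈ [0, 4, 77], b < certL.N := fun b hb => by
    simp only [List.mem_cons, List.not_mem_nil, or_false] at hb
    rw [hN]; omega
  have hfix : pAct.fixer (TData.stb rig i) [] = TData.stb rig i := by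
    ext x
    simp [TwistCoset.Act.fixer, ← SetLike.mem_coe]
  have hcard : Nat.card (TData.stb rig i) ≤ cSize (chainL.getD i []) := by
    have h1 := card_stb hi'
    rw [← hsz] at h1
    rcases Nat.eq_zero_or_pos (orbSizes.getD i 0) with h0 | h0
    · rw [h0, mul_zero] at hsz
      omega
    · exact (Nat.eq_of_mul_eq_mul_right h0 h1).le
  have hpass := sift_mem pAct (TData.stb rig i) hB (fun w hw => revInv_lt9 hw) hc hsift.1 (stab_gen hi hi')
    (by rw [hfix]; exact hcard) (hf k hk).1 (by rw [hfix]; exact hst)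
  rw [List.getD_eq_getElem _ _ hk1] at hpass
  simp only [Bool.or_eq_true, Bool.not_eq_true', hpass, Bool.true_eq_false, false_or,
    List.contains_iff_mem, List.mem_append, List.mem_map] at hin
  rcases hin with hin | ⟨⟨k', sq⟩, hm, rfl⟩
  · exact hin
  exfalso
  have hkill := List.all_eq_true.1 (kills_ok i hi') _ hm
  simp only [killOK, Bool.and_eq_true, Bool.not_eq_true'] at hkill
  obtain ⟨h1, h2⟩ := hkill
  set gs := imgL.getD i [] with hgs
  have hget : ∀ t, (∀ c ∈ (gs.getD t ([], [])).1, c < certL.K) ∧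
      (∀ c ∈ (gs.getD t ([], [])).2, c < certL.K) ∧
      TData.wst rig i * toP (prodW pGen (gs.getD t ([], [])).1) =
        toP (prodW pGen (gs.getD t ([], [])).2) * TData.wst rig i := by
    intro t
    by_cases ht : t < gs.length
    · have hio := imgs_ok i hi' t ht
      simp only [imgOK, Bool.and_eq_true, List.all_eq_true, Nat.blt_eq, ← hgs] at hio
      obtain ⟨⟨l1, l2⟩, hm⟩ := hio
      refine ⟨fun c hc => hK9 ▸ l1 c hc, fun c hc => hK9 ▸ l2 c hc, rho_injective0 (Units.ext ?_)⟩
      obtain ⟨g1, e1⟩ := rho_word (ws_lt hi')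
      obtain ⟨g2, e2⟩ := rho_word (w := (gs.getD t ([], [])).1) fun c hc => (l1 c hc).trans (by norm_num)
      obtain ⟨g3, e3⟩ := rho_word (w := (gs.getD t ([], [])).2) fun c hc => (l2 c hc).trans (by norm_num)
      rw [← wst_word i hi'] at e1
      rw [map_mul, map_mul, Units.val_mul, Units.val_mul, toP_word l1, toP_word l2, e1, e2, e3,
        ← (mulP_spec g1 g2).2, ← (mulP_spec g3 g1).2, Nat.eq_of_beq_eq_true hm]
    · rw [List.getD_eq_default _ _ (by omega)]
      simp
  have hprod : ∀ s : List ℕ, (∀ c ∈ s.flatMap fun t => (gs.getD t ([], [])).1, c < certL.K) ∧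
      (∀ c ∈ s.flatMap fun t => (gs.getD t ([], [])).2, c < certL.K) ∧
      TData.wst rig i * toP (prodW pGen (s.flatMap fun t => (gs.getD t ([], [])).1)) =
        toP (prodW pGen (s.flatMap fun t => (gs.getD t ([], [])).2)) * TData.wst rig i := by
    intro s
    induction s with
    | nil => simp
    | cons t s ih =>
      obtain ⟨a1, a2, a3⟩ := hget t
      refine ⟨fun c hc => ?_, fun c hc => ?_, ?_⟩
      · rw [List.flatMap_cons] at hc
        exact (List.mem_append.1 hc).elim (a1 c) (ih.1 c)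
      · rw [List.flatMap_cons] at hc
        exact (List.mem_append.1 hc).elim (a2 c) (ih.2.1 c)
      · rw [List.flatMap_cons, List.flatMap_cons, prodW_append, prodW_append, map_mul, map_mul,
          ← mul_assoc, a3, mul_assoc, ih.2.2, mul_assoc]
  obtain ⟨p1, p2, p3⟩ := hprod sq
  have hx : clsElt k' = prodW pGen (sq.flatMap fun t => (gs.getD t ([], [])).1) :=
    keyRun_inj (hf k' hk).1 p1 (Nat.eq_of_beq_eq_true h1)
  have ha2 : a = prodW pGen (sq.flatMap fun t => (gs.getD t ([], [])).2) := by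
    refine toP_injective (mul_right_cancel (b := TData.wst rig i) ?_)
    rw [← hwa, hx, p3]
  obtain ⟨j, hj, hje⟩ := ha
  have hkey : keyRun (sq.flatMap fun t => (gs.getD t ([], [])).2) = clsKey.getD j 0 := by
    rw [← (hf j hj).2.2]
    have hr : ∀ b < certL.N, certL.run b (sq.flatMap fun t => (gs.getD t ([], [])).2) =
        certL.run b (clsWord (clsConj.getD j [])) := fun b hb => by
      have q1 := pAct.apply _ p2 ⟨b, hb⟩
      have q2 := pAct.apply _ (hf j hj).1 ⟨b, hb⟩
      rw [← ha2, ← hje] at q1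
      exact q1.symm.trans q2
    exact keyRun_congr (hr 0 (hB 0 (by simp))) (hr 4 (hB 4 (by simp))) (hr 77 (hB 77 (by simp)))
  obtain ⟨-, hlk, -, -, -⟩ := class_facts
  rw [List.any_eq_false] at h2
  refine h2 (clsKey.getD j 0) ?_ (by rw [hkey]; exact Nat.beq_refl _)
  rw [List.getD_eq_getElem _ _ (hlk ▸ hj)]
  exact List.getElem_mem _
theorem keep_len : ∀ i < 11, 1 ≤ i → (keepL.getD i []).length = hitBound.getD i 0 := by decide +kernel

theorem fiber_le {i : ℕ} (hi : i < 11) (y : PT) :
    Nat.card {x : cls // toP (x : PT) ∈ Aset (toP y • TData.pt rig i)} ≤ hitBound.getD i 0 := by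
  classical
  haveI := finite_PT
  rcases Nat.eq_zero_or_pos i with rfl | h1
  · exact (Nat.card_le_card_of_injective _ Subtype.val_injective).trans card_cls.le
  have hconj : ∀ x : cls, toP (x : PT) ∈ Aset (toP y • TData.pt rig i) →
      ∃ k ∈ keepL.getD i [], y⁻¹ * (x : PT) * y = clsElt k := fun x hx => by
    have h2 := Aset_smul y⁻¹ _ _ hx
    rw [map_inv, inv_smul_smul, inv_inv] at h2
    obtain ⟨k, hk, e⟩ := cls_conj y x.2
    rw [← e] at h2
    exact ⟨k, hit_bound h1 hi hk h2, e.symm⟩
  choose k hk hke using fun x : {x : cls // toP (x : PT) ∈ Aset (toP y • TData.pt rig i)} => hconj x.1 x.2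
  let f : {x : cls // toP (x : PT) ∈ Aset (toP y • TData.pt rig i)} → (keepL.getD i []).toFinset :=
    fun x => ⟨k x, List.mem_toFinset.2 (hk x)⟩
  have hf : Function.Injective f := fun x x' e => by
    have e2 : k x = k x' := congrArg Subtype.val e
    have h := (hke x).trans (e2 ▸ (hke x').symm)
    exact Subtype.ext (Subtype.ext (mul_left_cancel (mul_right_cancel h)))
  refine (Nat.card_le_card_of_injective f hf).trans ?_
  rw [Nat.card_eq_fintype_card, Fintype.card_coe, ← keep_len i hi h1]
  exact List.toFinset_card_le _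

theorem card_pairs_le : Nat.card PairsA ≤ 98280 := by
  classical
  haveI := finite_PT
  haveI : Finite (Th ⧸ toP.range) := Finite.of_surjective _ toCoset_surj
  letI : Fintype (Th ⧸ toP.range) := Fintype.ofFinite _
  haveI : Finite cls := Subtype.finite
  let e : PairsA ≃ Σ q : Th ⧸ toP.range, {x : cls // toP (x : PT) ∈ Aset q} :=
    { toFun := fun z => ⟨z.1.1, z.1.2, z.2⟩
      invFun := fun z => ⟨(z.1, z.2.1), z.2.2⟩
      left_inv := fun _ => rfl
      right_inv := fun _ => rfl }
  rw [Nat.card_congr e, Nat.card_sigma]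
  have hu : (Finset.univ : Finset (Th ⧸ toP.range)) =
      (Finset.range 11).biUnion fun i => (TData.orb rig i).toFinset := by
    refine (Finset.eq_univ_of_forall fun q => ?_).symm
    obtain ⟨⟨i, y⟩, rfl⟩ := toCoset_surj q
    induction y using QuotientGroup.induction_on with
    | _ y =>
      exact Finset.mem_biUnion.2 ⟨i, Finset.mem_range.2 i.2, Set.mem_toFinset.2 ⟨y, rfl⟩⟩
  have hd : ((Finset.range 11 : Finset ℕ) : Set ℕ).PairwiseDisjoint
      fun i => (TData.orb rig i).toFinset := fun i hi j hj hne => Set.disjoint_toFinset.2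
    ((TData.orb_eq_or_disjoint (R := rig) i j).resolve_left fun h =>
      hne (orb_inj i (show i < 11 from Finset.mem_range.1 hi) j
        (show j < 11 from Finset.mem_range.1 hj) h))
  rw [hu, Finset.sum_biUnion hd]
  calc _ ≤ ∑ i ∈ Finset.range 11, orbSizes.getD i 0 * hitBound.getD i 0 := by
        refine Finset.sum_le_sum fun i hi => ?_
        refine (Finset.sum_le_card_nsmul _ _ (hitBound.getD i 0) fun q hq => ?_).trans ?_
        · obtain ⟨y, rfl⟩ := Set.mem_toFinset.1 hq
          exact fiber_le (Finset.mem_range.1 hi) y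
        · rw [smul_eq_mul, Set.toFinset_card, ← Nat.card_eq_fintype_card,
            orb_card i (Finset.mem_range.1 hi)]
    _ = 98280 := by rfl

theorem omegaA_le : Nat.card omegaA ≤ 120 := by
  have h := card_pairs ▸ card_pairs_le
  omega

/-- the centraliser of the first letter -/
noncomputable def centA : Subgroup Th := Subgroup.centralizer ({toP (pGen 0)} : Set Th)

theorem mem_centA (g : Th) : g ∈ centA ↔ g * toP (pGen 0) = toP (pGen 0) * g := by
  rw [centA, Subgroup.mem_centralizer_singleton_iff]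

theorem omegaA_iff (q : Th ⧸ toP.range) : q ∈ omegaA ↔ ∃ k ∈ centA, (k : Th ⧸ toP.range) = q := by
  constructor
  · induction q using QuotientGroup.induction_on with
    | _ g =>
      intro h
      obtain ⟨a, ha, e⟩ := (Aset_mk g _).1 h
      obtain ⟨p, rfl⟩ := (cls_iff a).1 ha
      refine ⟨g * toP p, (mem_centA _).2 ?_, ?_⟩
      · rw [map_mul, map_mul, map_inv] at e
        calc g * toP p * toP (pGen 0)
            = g * (toP p * toP (pGen 0) * (toP p)⁻¹) * g⁻¹ * (g * toP p) := by group
          _ = toP (pGen 0) * (g * toP p) := by rw [← e]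
      · rw [QuotientGroup.eq]
        exact ⟨p⁻¹, by rw [map_inv, mul_inv_rev, inv_mul_cancel_right]⟩
  · rintro ⟨k, hk, rfl⟩
    refine (Aset_mk k _).2 ⟨pGen 0, aP_mem, ?_⟩
    rw [(mem_centA k).1 hk, mul_inv_cancel_right]

end CfsgLib.ThPres
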