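import Cfsg.Agent.Lib.ThPres.CentQDefs

/-!
Kernel checks of the extraspecial subgroup.
-/

set_option autoImplicit false
set_option Elab.async false

namespace CfsgLib.ThPres

theorem q_key : qKeyOK = true := by decide +kernel

theorem q_mul : (List.range 9).all qMulOK = true := by decide +kernel

theorem q_conj : qConj.all qConjOK = true := by decide +kernel

theorem q_wit : qWitOK = true := by decide +kernel

theorem q_first : qFirst = true := by decide +kernel

theorem q_distinct : distinctB qKey = true := by decide +kernel

end CfsgLib.ThPres
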