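import Cfsg.Agent.Lib.ThPres.CentQDefs

/-!
Kernel checks of conjugates by the last letter.
-/

set_option autoImplicit false
set_option Elab.async false

namespace CfsgLib.ThPres

theorem q_conjU6 : qConjUOK 6 = true := by decide +kernel

theorem q_conjU7 : qConjUOK 7 = true := by decide +kernel

theorem q_conjU8 : qConjUOK 8 = true := by decide +kernel

end CfsgLib.ThPres
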