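import Cfsg.Agent.Lib.ThPres.CentOrder
import Cfsg.Agent.Lib.ThPres.CentQCheck
import Cfsg.Agent.Lib.ThPres.CentQU0
import Cfsg.Agent.Lib.ThPres.CentQU1
import Cfsg.Agent.Lib.ThPres.CentQU2
import Cfsg.Agent.Lib.Extraspecial.Setting

/-!
The normal extraspecial subgroup of the centraliser of the first letter.
-/

set_option autoImplicit false
set_option linter.style.haveILetI false

namespace CfsgLib.ThPres

open Cfsg.Spor CfsgLib.CosetEnum CfsgLib.TwistTree CfsgLib.ThRep

open scoped commutatorElement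

attribute [local irreducible] certL qKey qMul qWit qElts

/-- a word of the subgroup -/
noncomputable def qe (k : ℕ) : PT := prodW pGen (qElts.getD k [])

/-- the generators -/
def qGenSet : Set PT := {x | ∃ q ∈ qGens, prodW pGen q = x}

/-- the extraspecial subgroup -/
def qGrp : Subgroup PT := Subgroup.closure qGenSet

theorem key_of_eq {l m : List ℕ} (hl : ∀ g ∈ l, g < 9) (hm : ∀ g ∈ m, g < 9)
    (h : prodW pGen l = prodW pGen m) : keyRun l = keyRun m := by
  have hr : ∀ b < certL.N, certL.run b l = certL.run b m := fun b hb => by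
    have e1 := pAct.apply _ (hK9.symm ▸ hl) ⟨b, hb⟩
    have e2 := pAct.apply _ (hK9.symm ▸ hm) ⟨b, hb⟩
    rw [h] at e1
    exact e1.symm.trans e2
  exact keyRun_congr (hr 0 (by rw [hN]; norm_num)) (hr 4 (by rw [hN]; norm_num))
    (hr 77 (by rw [hN]; norm_num))

theorem eq_of_key {l m : List ℕ} (hl : ∀ g ∈ l, g < 9) (hm : ∀ g ∈ m, g < 9)
    (h : keyRun l = keyRun m) : prodW pGen l = prodW pGen m :=
  keyRun_inj (hK9.symm ▸ hl) (hK9.symm ▸ hm) h

theorem unpack {a b c : ℕ} (ha : a < 4096) (hb : b < 4096) :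
    (a + (b * 4096 + c * 16777216)) % 4096 = a ∧ (a + (b * 4096 + c * 16777216)) / 4096 % 4096 = b ∧
      (a + (b * 4096 + c * 16777216)) / 16777216 = c := by
  omega

theorem keyRun_unfold (l : List ℕ) :
    keyRun l = certL.run 0 l + (certL.run 4 l * 4096 + certL.run 77 l * 16777216) := by
  show certL.run 0 l + (certL.run 4 l <<< 12 + certL.run 77 l <<< 24) = _
  simp only [Nat.shiftLeft_eq]

theorem actKey_run {l : List ℕ} (hl : ∀ g ∈ l, g < 9) (w : List ℕ) :
    actKey (keyRun l) w = keyRun (l ++ w) := by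
  have a1 := run_lt0 (hK9.symm ▸ hl) (b := 0) (by rw [hN]; norm_num)
  have b1 := run_lt0 (hK9.symm ▸ hl) (b := 4) (by rw [hN]; norm_num)
  rw [hN] at a1 b1
  have hk := keyRun_unfold l
  obtain ⟨e0, e4, e77⟩ := unpack (c := certL.run 77 l) (a1.trans (by norm_num : 2457 < 4096))
    (b1.trans (by norm_num : 2457 < 4096))
  rw [← hk] at e0 e4 e77
  change Nat.add (certL.run (keyRun l % 4096) w)
    (Nat.add (Nat.shiftLeft (certL.run (keyRun l / 4096 % 4096) w) 12)
      (Nat.shiftLeft (certL.run (keyRun l / 16777216) w) 24)) = _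
  rw [e0, e4, e77]
  unfold keyRun
  rw [run_append, run_append, run_append]

theorem q_facts : qGens.length = 9 ∧ qGens.getD 0 [] = [0] ∧ qElts.length = 512 ∧ qKey.length = 512 ∧
    (∀ q ∈ qGens, ∀ g ∈ q, g < 9) ∧
    ∀ k < 512, (∀ g ∈ qElts.getD k [], g < 9) ∧ keyRun (qElts.getD k []) = qKey.getD k 0 ∧
      (qe k * qe k = 1 ∨ qe k * qe k = pGen 0) := by
  have h := q_key
  simp only [qKeyOK, Bool.and_eq_true, List.all_eq_true, Nat.blt_eq, beq_iff_eq, Bool.or_eq_true] at h
  obtain ⟨⟨⟨⟨⟨h1, h2⟩, h3⟩, h4⟩, h5⟩, h6⟩ := h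
  have h1' := Nat.eq_of_beq_eq_true h1
  have h2' := Nat.eq_of_beq_eq_true h2
  refine ⟨Nat.eq_of_beq_eq_true h3, h4, h1', h2', h5, fun k hk => ?_⟩
  have hk1 : k < qElts.length := by omega
  have hk2 : k < qKey.length := by omega
  obtain ⟨⟨hl, hkey⟩, hsq⟩ := h6 (qElts[k], qKey[k])
    (List.mem_iff_getElem.2 ⟨k, by rw [List.length_zip, h1', h2']; simpa using hk, List.getElem_zip⟩)
  have hkey' : keyRun qElts[k] = qKey[k] := Nat.eq_of_beq_eq_true hkey
  rw [qe, List.getD_eq_getElem _ _ hk1, List.getD_eq_getElem _ _ hk2]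
  refine ⟨hl, hkey', ?_⟩
  rw [← hkey'] at hsq
  simp only [actKey_run hl] at hsq
  rw [← prodW_append]
  have hl2 : ∀ g ∈ qElts[k] ++ qElts[k], g < 9 := fun g hg => (List.mem_append.1 hg).elim (hl g) (hl g)
  rcases hsq with hsq | hsq
  · exact Or.inl (by rw [eq_of_key hl2 (by simp) (Nat.eq_of_beq_eq_true hsq), prodW_nil])
  · exact Or.inr (by rw [eq_of_key hl2 (by simp) (Nat.eq_of_beq_eq_true hsq), prodW_single])

theorem qe_inj : ∀ k < 512, ∀ k' < 512, qe k = qe k' → k = k' := by
  intro k hk k' hk' e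
  obtain ⟨-, -, -, hlen, -, h⟩ := q_facts
  have hkey := key_of_eq (h k hk).1 (h k' hk').1 e
  rw [(h k hk).2.1, (h k' hk').2.1, List.getD_eq_getElem _ _ (hlen.symm ▸ hk),
    List.getD_eq_getElem _ _ (hlen.symm ▸ hk')] at hkey
  exact (distinctB_spec q_distinct).getElem_inj_iff.1 hkey

theorem subWords_mem {K : Subgroup PT} : ∀ {qs acc : List (List ℕ)}, (∀ q ∈ qs, prodW pGen q ∈ K) →
    (∀ w ∈ acc, prodW pGen w ∈ K) → ∀ w ∈ subWords qs acc, prodW pGen w ∈ K
  | [], _, _, ha, w, hw => ha w hw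
  | q :: qs, acc, hq, ha, w, hw => by
    rw [subWords] at hw
    refine subWords_mem (fun c hc => hq c (List.mem_cons_of_mem _ hc)) (fun c hc => ?_) w hw
    rcases List.mem_append.1 hc with hc | hc
    · exact ha c hc
    · obtain ⟨d, hd, rfl⟩ := List.mem_map.1 hc
      rw [prodW_append]
      exact mul_mem (ha d hd) (hq q List.mem_cons_self)

theorem qe_mem {k : ℕ} (hk : k < 512) : qe k ∈ qGrp := by
  obtain ⟨-, -, hlen, -⟩ := q_facts
  rw [qe, List.getD_eq_getElem _ _ (hlen.symm ▸ hk)]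
  have hm : qElts[k]'(hlen.symm ▸ hk) ∈ qElts := List.getElem_mem _
  generalize qElts[k]'(hlen.symm ▸ hk) = w at hm ⊢
  rw [qElts] at hm
  exact subWords_mem (K := qGrp) (qs := qGens) (acc := [[]])
    (fun q hq => Subgroup.subset_closure (show prodW pGen q ∈ qGenSet from ⟨q, hq, rfl⟩))
    (fun w hw => by rw [List.mem_singleton] at hw; simp [hw]) _ hm

theorem qe_step {k : ℕ} (hk : k < 512) {x : PT} (hx : x ∈ qGenSet) : ∃ m < 512, qe k * x = qe m := by
  obtain ⟨q, hq, rfl⟩ := hx
  obtain ⟨j, hj, rfl⟩ := List.getElem_of_mem hq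
  obtain ⟨h9, -, -, hlen, hgl, h⟩ := q_facts
  have hm := List.all_eq_true.1 q_mul j (List.mem_range.2 (h9 ▸ hj))
  simp only [qMulOK, Bool.and_eq_true, List.all_eq_true, Nat.blt_eq] at hm
  have hl2 := Nat.eq_of_beq_eq_true hm.1
  have hk2 : k < qKey.length := by omega
  have hk3 : k < (qMul.getD j []).length := by omega
  obtain ⟨hlt, hval⟩ := hm.2 (qKey[k], (qMul.getD j [])[k])
    (List.mem_iff_getElem.2 ⟨k, by rw [List.length_zip, hl2, hlen]; simpa using hk, List.getElem_zip⟩)
  refine ⟨_, hlt, ?_⟩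
  have hval' := Nat.eq_of_beq_eq_true hval
  rw [← List.getD_eq_getElem qKey 0 hk2, ← (h k hk).2.1, ← (h _ hlt).2.1] at hval'
  simp only [actKey_run (h k hk).1, List.getD_eq_getElem qGens _ hj] at hval'
  have hlw : ∀ g ∈ qElts.getD k [] ++ qGens[j], g < 9 := fun g hg =>
    (List.mem_append.1 hg).elim ((h k hk).1 g) (hgl _ (List.getElem_mem _) g)
  rw [qe, qe, ← prodW_append]
  exact eq_of_key hlw (h _ hlt).1 hval'

theorem qe_zero : qe 0 = 1 ∧ qe 1 = pGen 0 := by
  have h := q_first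
  simp only [qFirst, Bool.and_eq_true, beq_iff_eq] at h
  have e := h.1.1.1
  obtain ⟨-, -, hlen, -⟩ := q_facts
  rcases hq : qElts with _ | ⟨w0, _ | ⟨w1, rest⟩⟩
  · simp [hq] at hlen
  · simp [hq] at hlen
  · rw [hq] at e
    simp only [List.take_succ_cons, List.take_zero, List.cons.injEq, and_true] at e
    constructor <;> simp [qe, hq, e.1, e.2]

theorem mem_qGrp (x : PT) : x ∈ qGrp ↔ ∃ k < 512, qe k = x := by
  refine ⟨fun hx => ?_, fun ⟨k, hk, e⟩ => e ▸ qe_mem hk⟩
  haveI := finite_PT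
  have hpow : ∀ y ∈ qGenSet, ∀ n : ℕ, ∀ k < 512, ∃ m < 512, qe k * y ^ n = qe m := by
    intro y hy n
    induction n with
    | zero => exact fun k hk => ⟨k, hk, by simp⟩
    | succ n ih =>
      intro k hk
      obtain ⟨m, hm, e⟩ := ih k hk
      obtain ⟨m', hm', e'⟩ := qe_step hm hy
      exact ⟨m', hm', by rw [pow_succ, ← mul_assoc, e, e']⟩
  induction hx using Subgroup.closure_induction_right with
  | one => exact ⟨0, by norm_num, qe_zero.1⟩
  | mul_right x hx y hy ih =>
    obtain ⟨k, hk, rfl⟩ := ih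
    obtain ⟨m, hm, e⟩ := qe_step hk hy
    exact ⟨m, hm, e.symm⟩
  | mul_inv_cancel x hx y hy ih =>
    obtain ⟨k, hk, rfl⟩ := ih
    obtain ⟨m, hm, e⟩ := hpow y hy (orderOf y - 1) k hk
    refine ⟨m, hm, e.symm.trans ?_⟩
    rw [eq_inv_of_mul_eq_one_left (a := y ^ (orderOf y - 1)) (b := y)
      (by rw [← pow_succ, Nat.sub_add_cancel (orderOf_pos y), pow_orderOf_eq_one])]

theorem card_qGrp : Nat.card qGrp = 512 := by
  let f : Fin 512 → qGrp := fun k => ⟨qe k, qe_mem k.2⟩
  have hf : Function.Bijective f :=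
    ⟨fun a b e => Fin.ext (qe_inj a a.2 b b.2 (congrArg Subtype.val e)), fun ⟨x, hx⟩ => by
      obtain ⟨k, hk, rfl⟩ := (mem_qGrp x).1 hx
      exact ⟨⟨k, hk⟩, rfl⟩⟩
  rw [← Nat.card_eq_of_bijective f hf, Nat.card_fin]

theorem center_qGrp (x : qGrp) :
    x ∈ Subgroup.center qGrp ↔ (x : PT) = 1 ∨ (x : PT) = pGen 0 := by
  obtain ⟨h9, -, hlen, -, hgl, h⟩ := q_facts
  constructor
  · intro hx
    obtain ⟨k, hk, e⟩ := (mem_qGrp x).1 x.2
    rw [← e]
    by_contra hne
    rw [not_or] at hne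
    have hk2 : 2 ≤ k := by
      rcases k with _ | _ | k
      · exact absurd qe_zero.1 hne.1
      · exact absurd qe_zero.2 hne.2
      · omega
    have hw := q_wit
    simp only [qWitOK, Bool.and_eq_true, List.all_eq_true, Nat.blt_eq, Bool.not_eq_true'] at hw
    have hwl := Nat.eq_of_beq_eq_true hw.1
    have hk1 : k < qElts.length := by omega
    have hkw : k < qWit.length := by omega
    obtain ⟨hj, hbad⟩ := hw.2 (qElts[k], qWit[k]) (List.mem_iff_getElem.2 ⟨k - 2, by
      rw [List.length_drop, List.length_zip, hwl, hlen]; omega, by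
      simp only [List.getElem_drop, List.getElem_zip]; simp only [show 2 + (k - 2) = k by omega]⟩)
    have hjl : qWit[k] < qGens.length := h9.symm ▸ hj
    have hg : prodW pGen (qGens.getD qWit[k] []) ∈ qGrp := by
      rw [List.getD_eq_getElem _ _ hjl]
      exact Subgroup.subset_closure ⟨_, List.getElem_mem _, rfl⟩
    have hcomm := congrArg Subtype.val (Subgroup.mem_center_iff.1 hx ⟨_, hg⟩)
    simp only [Subgroup.coe_mul] at hcomm
    rw [← e, qe, List.getD_eq_getElem _ _ hk1, ← prodW_append, ← prodW_append] at hcomm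
    have hl1 : ∀ g ∈ qElts[k], g < 9 := by
      have := (h k hk).1
      rwa [List.getD_eq_getElem _ _ hk1] at this
    have hl2 : ∀ g ∈ qGens.getD qWit[k] [], g < 9 := by
      rw [List.getD_eq_getElem _ _ hjl]
      exact hgl _ (List.getElem_mem _)
    have hkey := key_of_eq (fun g hg => (List.mem_append.1 hg).elim (hl1 g) (hl2 g))
      (fun g hg => (List.mem_append.1 hg).elim (hl2 g) (hl1 g)) hcomm.symm
    rw [hkey] at hbad
    simp at hbad
  · intro hx
    rw [Subgroup.mem_center_iff]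
    intro y
    refine Subtype.ext ?_
    rw [Subgroup.coe_mul, Subgroup.coe_mul]
    rcases hx with hx | hx
    · rw [hx, mul_one, one_mul]
    · obtain ⟨k, hk, e⟩ := (mem_qGrp y).1 y.2
      have hf := q_first
      simp only [qFirst, Bool.and_eq_true, List.all_eq_true] at hf
      have hk1 : k < qElts.length := by omega
      have hc := hf.2 _ (List.getElem_mem hk1)
      rw [hx, ← e, qe, List.getD_eq_getElem _ _ hk1]
      have hl1 : ∀ g ∈ qElts[k], g < 9 := by
        have := (h k hk).1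
        rwa [List.getD_eq_getElem _ _ hk1] at this
      have hw := eq_of_key (l := 0 :: qElts[k]) (m := qElts[k] ++ [0])
        (by simpa using hl1) (fun g hg => by
          rcases List.mem_append.1 hg with hg | hg
          · exact hl1 g hg
          · rw [List.mem_singleton] at hg; omega) (Nat.eq_of_beq_eq_true hc)
      rw [prodW_cons, prodW_append, prodW_single] at hw
      exact hw.symm

theorem qGrp_extraspecial : Cfsg.IsExtraspecial 2 qGrp := by
  haveI := finite_PT
  haveI : Fact (Nat.Prime 2) := ⟨Nat.prime_two⟩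
  have hsq : ∀ a : qGrp, a ^ 2 ∈ Subgroup.center qGrp := fun a => by
    obtain ⟨k, hk, e⟩ := (mem_qGrp a).1 a.2
    rw [center_qGrp, pow_two, Subgroup.coe_mul, ← e]
    exact (q_facts.2.2.2.2.2 k hk).2.2
  have hne : pGen 0 ≠ 1 := fun h => by
    have h2 := qe_inj 1 (by norm_num) 0 (by norm_num) (by rw [qe_zero.1, qe_zero.2, h])
    omega
  refine CfsgLib.Extraspecial.isExtraspecial_of (IsPGroup.of_card (n := 9) (by rw [card_qGrp]; norm_num))
    ?_ (fun a b => ?_) hsq ?_
  · let z : qGrp := ⟨pGen 0, qe_zero.2 ▸ qe_mem (by norm_num)⟩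
    have hset : (Subgroup.center qGrp : Set qGrp) = {1, z} := by
      ext x
      simp only [SetLike.mem_coe, center_qGrp, Set.mem_insert_iff, Set.mem_singleton_iff]
      exact ⟨fun h => h.imp Subtype.ext Subtype.ext,
        fun h => h.imp (congrArg Subtype.val) (congrArg Subtype.val)⟩
    change Nat.card (Subgroup.center qGrp : Set qGrp) = 2
    rw [hset, Nat.card_coe_set_eq, Set.ncard_pair]
    exact fun h => hne (congrArg Subtype.val h).symm
  · rw [show ⁅a, b⁆ = a ^ 2 * (a⁻¹ * b) ^ 2 * (b⁻¹) ^ 2 by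
      rw [commutatorElement_def]; simp only [pow_two, mul_assoc, inv_mul_cancel_left, mul_inv_cancel_left]]
    exact mul_mem (mul_mem (hsq _) (hsq _)) (hsq _)
  · have h2 : (⟨qe 2, qe_mem (by norm_num)⟩ : qGrp) ∉ Subgroup.center qGrp := fun h => by
      rcases (center_qGrp _).1 h with h | h
      · have := qe_inj 2 (by norm_num) 0 (by norm_num) (h.trans qe_zero.1.symm)
        omega
      · have := qe_inj 2 (by norm_num) 1 (by norm_num) (h.trans qe_zero.2.symm)
        omega
    rw [Subgroup.mem_center_iff, not_forall] at h2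
    obtain ⟨y, hy⟩ := h2
    exact ⟨y, _, fun h => hy (commutatorElement_eq_one_iff_mul_comm.1 h)⟩

/-- the subgroup in the Thompson group -/
noncomputable def qTh : Subgroup Th := qGrp.map toP

theorem card_qTh : Nat.card qTh = 512 := by
  rw [qTh, ← Nat.card_congr (qGrp.equivMapOfInjective toP toP_injective).toEquiv, card_qGrp]

theorem conj_letters : (qConj.map Prod.fst) = [0, 2, 3, 4, 5, 6, 7, 8] := by decide +kernel

theorem qTh_conj_gen {g : ℕ} (hg : g ∈ [0, 2, 3, 4, 5, 6, 7, 8, 9]) {q : List ℕ} (hq : q ∈ qGens) :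
    (tg g)⁻¹ * prodW tg q * tg g ∈ qTh := by
  obtain ⟨h9, -, hlen, -, hgl, h⟩ := q_facts
  obtain ⟨j, hj, rfl⟩ := List.getElem_of_mem hq
  have hq9 : ∀ c ∈ qGens[j], c < 9 := hgl _ (List.getElem_mem _)
  by_cases h9' : g = 9
  · subst h9'
    have hu : qConjUOK j = true := by
      rw [h9] at hj
      interval_cases j
      exacts [q_conjU0, q_conjU1, q_conjU2, q_conjU3, q_conjU4, q_conjU5, q_conjU6, q_conjU7, q_conjU8]
    simp only [qConjUOK, Bool.and_eq_true, Nat.blt_eq] at hu
    refine ⟨qe (qConjU.getD j 0), qe_mem hu.1, rho_injective0 (Units.ext ?_)⟩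
    have hlw : ∀ c ∈ [10] ++ qGens.getD j [] ++ [9], c < 11 := by
      rw [List.getD_eq_getElem _ _ hj]
      intro c hc
      simp only [List.mem_append, List.mem_singleton] at hc
      rcases hc with (rfl | hc) | rfl
      · norm_num
      · exact (hq9 c hc).trans (by norm_num)
      · norm_num
    have e1 := (rho_word hlw).2
    have e2 := (rho_word (w := qElts.getD (qConjU.getD j 0) []) fun c hc =>
      ((h _ hu.1).1 c hc).trans (by norm_num)).2
    rw [Nat.eq_of_beq_eq_true hu.2, ← e2, List.getD_eq_getElem qGens _ hj, prodW_append, prodW_append,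
      prodW_single, prodW_single] at e1
    rw [qe, toP_word (h _ hu.1).1, ← e1, show tg 10 = (tg 9)⁻¹ from eq_inv_of_mul_eq_one_right (tg_inv 9)]
  · have hg9 : g < 9 := by simp at hg; omega
    have hgm : g ∈ qConj.map Prod.fst := by
      rw [conj_letters]; simp at hg ⊢; omega
    obtain ⟨⟨g', ks⟩, hm, rfl⟩ := List.mem_map.1 hgm
    have hc := List.all_eq_true.1 q_conj _ hm
    simp only [qConjOK, Bool.and_eq_true, List.all_eq_true, Nat.blt_eq] at hc
    obtain ⟨⟨-, hkl⟩, hz⟩ := hc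
    have hkl' := Nat.eq_of_beq_eq_true hkl
    have hj2 : j < ks.length := hkl'.symm ▸ hj
    obtain ⟨hk, hval⟩ := hz (qGens[j], ks[j])
      (List.mem_iff_getElem.2 ⟨j, by rw [List.length_zip, hkl']; simpa using hj, List.getElem_zip⟩)
    have hval' := Nat.eq_of_beq_eq_true hval
    rw [← (h _ hk).2.1] at hval'
    have hgi : certL.inv g' < 9 := hK9 ▸ pAct.inv_lt g' (hK9.symm ▸ hg9)
    have e := eq_of_key (l := certL.inv g' :: qGens[j] ++ [g']) (fun c hc => by
      simp only [List.mem_cons, List.mem_append, List.mem_singleton, List.cons_append] at hc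
      rcases hc with rfl | hc | rfl | hc
      exacts [hgi, hq9 c hc, hg9, absurd hc List.not_mem_nil]) (h _ hk).1 hval'
    refine ⟨qe ks[j], qe_mem hk, ?_⟩
    rw [qe, ← e, List.cons_append, prodW_cons, prodW_append, prodW_single,
      eq_inv_of_mul_eq_one_right (pAct.inv_mul g'), map_mul, map_mul, map_inv, toP_gen hg9,
      toP_word hq9, mul_assoc]

theorem qTh_le : qTh ≤ centA := by
  rw [qTh, qGrp, MonoidHom.map_closure, Subgroup.closure_le]
  rintro _ ⟨_, ⟨q, hq, rfl⟩, rfl⟩
  have hlet : (qGens.all fun q => q.all cLet.contains) = true := by decide +kernel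
  simp only [List.all_eq_true, List.contains_iff_mem] at hlet
  rw [toP_word (q_facts.2.2.2.2.1 q hq)]
  exact centC_le (word_mem_centC (hlet q hq))

theorem mem_normalizer_qTh : centA ≤ Subgroup.normalizer (qTh : Set Th) := by
  haveI := finite_PT
  haveI : Finite qTh := Nat.finite_of_card_ne_zero (by rw [card_qTh]; norm_num)
  have key : ∀ g ∈ [0, 2, 3, 4, 5, 6, 7, 8, 9], tg g ∈ Subgroup.normalizer (qTh : Set Th) := by
    intro g hg
    set f : Th →* Th := (MulAut.conj (tg g)⁻¹).toMonoidHom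
    have hf : ∀ x, f x = (tg g)⁻¹ * x * tg g := fun x => by simp [f]
    have hle : qTh.map f ≤ qTh := by
      rw [Subgroup.map_le_iff_le_comap]
      conv_lhs => rw [qTh, qGrp, MonoidHom.map_closure]
      rw [Subgroup.closure_le]
      rintro _ ⟨_, ⟨q, hq, rfl⟩, rfl⟩
      rw [SetLike.mem_coe, Subgroup.mem_comap, hf, toP_word (q_facts.2.2.2.2.1 q hq)]
      exact qTh_conj_gen hg hq
    have heq : qTh.map f = qTh := Subgroup.eq_of_le_of_card_ge hle
      (le_of_eq (Nat.card_congr (qTh.equivMapOfInjective f (MulAut.conj (tg g)⁻¹).injective).toEquiv))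
    rw [Subgroup.mem_normalizer_iff]
    refine fun x => ⟨fun hx => ?_, fun hx => ?_⟩
    · rw [← heq] at hx
      obtain ⟨y, hy, rfl⟩ := hx
      rw [hf]
      simpa [mul_assoc] using hy
    · rw [← heq]
      exact ⟨_, hx, by rw [hf]; group⟩
  rw [centA_eq, centC, Subgroup.closure_le]
  rintro _ ⟨g, hg, rfl⟩
  by_cases h10 : g = 10
  · subst h10
    rw [show tg 10 = (tg 9)⁻¹ from eq_inv_of_mul_eq_one_right (tg_inv 9)]
    exact inv_mem (key 9 (by simp))
  · exact key g (by simp [cLet] at hg ⊢; omega)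

end CfsgLib.ThPres
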