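import Cfsg.Agent.Lib.CosetEnum.Chunks
import Cfsg.Agent.Lib.ThPres.DataD

/-!
Kernel check of one block of facts.
-/

set_option autoImplicit false

namespace CfsgLib.ThPres
open CfsgLib.CosetEnum

theorem certD_step18 : allUp certD.stepOK' 12 (18 * 2 ^ 12) = true := by decide +kernel

end CfsgLib.ThPres
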