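import Cfsg.Agent.Lib.ThPres.CheckDStep0
import Cfsg.Agent.Lib.ThPres.CheckDStep1
import Cfsg.Agent.Lib.ThPres.CheckDStep2
import Cfsg.Agent.Lib.ThPres.CheckDStep3
import Cfsg.Agent.Lib.ThPres.CheckDStep4
import Cfsg.Agent.Lib.ThPres.CheckDStep5
import Cfsg.Agent.Lib.ThPres.CheckDStep6
import Cfsg.Agent.Lib.ThPres.CheckDStep7
import Cfsg.Agent.Lib.ThPres.CheckDStep8
import Cfsg.Agent.Lib.ThPres.CheckDStep9
import Cfsg.Agent.Lib.ThPres.CheckDStep10
import Cfsg.Agent.Lib.ThPres.CheckDStep11
import Cfsg.Agent.Lib.ThPres.CheckDStep12
import Cfsg.Agent.Lib.ThPres.CheckDStep13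
import Cfsg.Agent.Lib.ThPres.CheckDStep14
import Cfsg.Agent.Lib.ThPres.CheckDStep15
import Cfsg.Agent.Lib.ThPres.CheckDStep16
import Cfsg.Agent.Lib.ThPres.CheckDStep17
import Cfsg.Agent.Lib.ThPres.CheckDStep18
import Cfsg.Agent.Lib.ThPres.CheckDStep19
import Cfsg.Agent.Lib.ThPres.CheckDStep20
import Cfsg.Agent.Lib.ThPres.CheckDStep21
import Cfsg.Agent.Lib.ThPres.CheckDStep22
import Cfsg.Agent.Lib.ThPres.CheckDStep23
import Cfsg.Agent.Lib.ThPres.CheckDStep24
import Cfsg.Agent.Lib.CosetEnum.Blocks
import Cfsg.Agent.Lib.ThPres.DataD

/-!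
Kernel checks of coset enumeration data.
-/

set_option autoImplicit false
set_option Elab.async false

namespace CfsgLib.ThPres
open CfsgLib.CosetEnum

theorem certD_entry0 : allUp certD.entryOK' 13 (0 * 2 ^ 13) = true := by decide +kernel

theorem certD_entry1 : allUp certD.entryOK' 13 (1 * 2 ^ 13) = true := by decide +kernel

theorem certD_entry2 : allUp certD.entryOK' 13 (2 * 2 ^ 13) = true := by decide +kernel

theorem certD_entry3 : allUp certD.entryOK' 13 (3 * 2 ^ 13) = true := by decide +kernel

theorem certD_complete : certD.Complete :=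
  Cert.complete_of_blocks₂ _ (k := 12) (n := 25) (k₂ := 13) (n₂ := 4) (by decide +kernel)
    (fun j hj => by
      match j, hj with
      | 0, _ => exact certD_step0
      | 1, _ => exact certD_step1
      | 2, _ => exact certD_step2
      | 3, _ => exact certD_step3
      | 4, _ => exact certD_step4
      | 5, _ => exact certD_step5
      | 6, _ => exact certD_step6
      | 7, _ => exact certD_step7
      | 8, _ => exact certD_step8
      | 9, _ => exact certD_step9
      | 10, _ => exact certD_step10
      | 11, _ => exact certD_step11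
      | 12, _ => exact certD_step12
      | 13, _ => exact certD_step13
      | 14, _ => exact certD_step14
      | 15, _ => exact certD_step15
      | 16, _ => exact certD_step16
      | 17, _ => exact certD_step17
      | 18, _ => exact certD_step18
      | 19, _ => exact certD_step19
      | 20, _ => exact certD_step20
      | 21, _ => exact certD_step21
      | 22, _ => exact certD_step22
      | 23, _ => exact certD_step23
      | 24, _ => exact certD_step24
      | n + 25, h => omega)
    (by decide +kernel)
    (fun j hj => by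
      match j, hj with
      | 0, _ => exact certD_entry0
      | 1, _ => exact certD_entry1
      | 2, _ => exact certD_entry2
      | 3, _ => exact certD_entry3
      | n + 4, h => omega)
    (by decide +kernel)

end CfsgLib.ThPres
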