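import Cfsg.Agent.Lib.ThPres.CheckLStep0
import Cfsg.Agent.Lib.ThPres.CheckLStep1
import Cfsg.Agent.Lib.ThPres.CheckLStep2
import Cfsg.Agent.Lib.ThPres.CheckLStep3
import Cfsg.Agent.Lib.ThPres.CheckLStep4
import Cfsg.Agent.Lib.ThPres.CheckLStep5
import Cfsg.Agent.Lib.CosetEnum.Use
import Cfsg.Agent.Lib.ThPres.DataL

/-!
Kernel checks of coset enumeration data.
-/

set_option autoImplicit false

namespace CfsgLib.ThPres
open CfsgLib.CosetEnum

theorem certL_complete : certL.Complete :=
  Cert.complete_of_blocks _ (k := 12) (n := 6) (k₂ := 12) (by decide +kernel)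
    (fun j hj => by
      match j, hj with
      | 0, _ => exact certL_step0
      | 1, _ => exact certL_step1
      | 2, _ => exact certL_step2
      | 3, _ => exact certL_step3
      | 4, _ => exact certL_step4
      | 5, _ => exact certL_step5
      | n + 6, h => omega)
    (by decide +kernel) (by decide +kernel) (by decide +kernel)

theorem certL_action : certL.IsAction :=
  Cert.isAction_of _ 13 12 (by decide +kernel) (by decide +kernel) (by decide +kernel)
    (by decide +kernel) (by decide +kernel) (by decide +kernel) (by decide +kernel)

end CfsgLib.ThPres
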