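import Cfsg.Agent.Lib.CosetEnum.Basic

/-!
Coset enumeration data: 3 cosets, 3 nodes, 21 facts.
-/

set_option autoImplicit false

namespace CfsgLib.ThPres
open CfsgLib.CosetEnum

/-- the certificate -/
def certT : Cert where
  K := 9
  invs := [0, 1, 2, 3, 4, 6, 5, 8, 7]
  rels := [[7, 7, 7],
    [0, 4, 0, 4],
    [1, 3, 1, 3],
    [1, 4, 1, 4],
    [2, 4, 2, 4],
    [6, 0, 5, 0],
    [6, 1, 5, 1],
    [6, 2, 5, 2],
    [5, 3, 5, 3],
    [8, 0, 7, 0],
    [8, 1, 7, 1],
    [8, 2, 7, 2],
    [8, 3, 7, 3],
    [8, 4, 7, 4],
    [8, 5, 7, 6, 6],
    [0, 1, 0, 1, 0, 1],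
    [1, 2, 1, 2, 1, 2],
    [3, 4, 3, 4, 3, 4],
    [5, 5, 5, 5, 5, 5, 5],
    [0, 3, 2, 3, 2, 3, 2, 3, 2],
    [4, 6, 4, 6, 6, 4, 5, 5, 5],
    [1, 2, 3, 4, 1, 2, 3, 4, 1, 2, 3, 4, 1, 2, 3, 4, 1, 2, 3, 4, 1, 2, 3, 4, 1, 2, 3, 4, 1, 2, 3, 4]]
  subs := [[0],
    [1],
    [2],
    [3],
    [4],
    [5]]
  N := 3
  M := 3
  F := 21
  defs := (.leaf 0x800000070000000)
  facts := (.leaf 0x200000048008061240000098000010002000000400180207400001140000200018000003a0100206c00001100000200018000003401002064000010c0000200018000002e0100205c000010800002000180000028010020540000104000020001800000220100204c00001000000200010000001e008020b400000a00000200000000001e000000000000120000000001800000180100606c00000900000100018000001201006064000008c0000100018000000c0100605c000008800001000180000006010060540000084000010001800000000100604c00000800000100000000000000000000000009c000000000000000000000002e000001400000000000000000000000260000010000000000000000000000001e000000c00000000000000000000000160000008000000000000000000000000e00000040000000000000000000000006000000000000)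
  refs := (.leaf 0x1a00002600002600001b00001800000b00000b00001900001800000800001900001800000600001900001800000400001900001800000200001900001800000000001900001800000d00000c00000800000d00000c00000600000d00000c00000400000d00000c00000200000d00000c00000000000d)
  tab := (.leaf 0x10000000002000020000200002000020000200002000000000200001000010000100001000010000100001000020000100000000000000000000000000000000000)
  nd := (.leaf 0x2000001000000)
  edge := (.leaf 0x1a00001900002700002600002500002300002100001f00001d00000d00001b00002800002900001700001500001300001100000f00001800000c00000b00000a000009000007000005000003000001)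
  img := (.leaf 0x20000100000)

end CfsgLib.ThPres
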