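import Cfsg.Agent.Lib.ThPres.Words
import Cfsg.Agent.Lib.ThPres.CheckA
import Cfsg.Agent.Lib.ThPres.CheckU
import Cfsg.Agent.Lib.ThPres.CheckD
import Cfsg.Agent.Lib.ThPres.CheckT
import Cfsg.Agent.Lib.ThPres.CheckL
import Cfsg.Agent.Lib.TwistCoset.Act

/-!
The presented group of a, b, c, d, e, s, t: a bound for its order, its action on 2457 points and
its map to the presented Thompson group.
-/

set_option autoImplicit false

namespace CfsgLib.ThPres

open Cfsg Cfsg.Spor CfsgLib.CosetEnum CfsgLib.TwistCoset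

/-- the nine letters as free generators -/
def pFree (g : ℕ) : FreeGroup (Fin 9) := if h : g < 9 then FreeGroup.of ⟨g, h⟩ else 1

/-- the relators, with those of the inverse letters -/
def pRels : List (List ℕ) := certL.rels ++ (List.range 9).map fun g => [g, inv11 g]

/-- the relators as free words -/
def pRelSet : Set (FreeGroup (Fin 9)) := {x | ∃ r ∈ pRels, prodW pFree r = x}

/-- the presented group -/
abbrev PT : Type := PresentedGroup pRelSet

/-- its letters -/
def pGen (g : ℕ) : PT := PresentedGroup.mk pRelSet (pFree g)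

theorem pGen_of_ge {g : ℕ} (h : 9 ≤ g) : pGen g = 1 := by
  simp [pGen, pFree, show ¬ g < 9 by omega]

theorem pGen_rel {r : List ℕ} (hr : r ∈ pRels) : prodW pGen r = 1 := by
  unfold pGen
  rw [← map_prodW]
  exact PresentedGroup.one_of_mem ⟨r, hr, rfl⟩

theorem pGen_inv (g : ℕ) : pGen g * pGen (inv11 g) = 1 := by
  by_cases h : g < 9
  · have h2 := pGen_rel (r := [g, inv11 g])
      (List.mem_append_right _ (List.mem_map_of_mem (List.mem_range.2 h)))
    simpa using h2
  · rw [pGen_of_ge (by omega), pGen_of_ge, one_mul]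
    by_cases h' : g < 11
    · interval_cases g <;> decide
    · rw [inv11, List.getD_eq_default _ _ (by simp; omega)]
      omega

theorem closure_pGen : Subgroup.closure {y | ∃ g < 9, pGen g = y} = ⊤ := by
  rw [eq_top_iff, ← PresentedGroup.closure_range_of, Subgroup.closure_le]
  rintro _ ⟨i, rfl⟩
  exact Subgroup.subset_closure ⟨i.val, i.2, by simp [pGen, pFree]; rfl⟩

/-- the letters of a certificate in the group -/
def genIn (C : Cert) (lm : List ℕ) (g : ℕ) : PT := if g < C.K then pGen (lm.getD g 9) else 1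

/-- the group of the letters of a certificate -/
def grpIn (C : Cert) (lm : List ℕ) : Subgroup PT := Subgroup.closure {y | ∃ g < C.K, genIn C lm g = y}

/-- the check that a certificate speaks about the group -/
noncomputable def mapOK (C : Cert) (lm : List ℕ) : Bool :=
  Nat.beq C.invs.length C.K &&
    (C.rels.all fun r => (r.all fun g => Nat.blt g C.K) && pRels.contains (r.map fun g => lm.getD g 9)) &&
    (List.range C.K).all fun g => Nat.blt (C.inv g) C.K && Nat.beq (lm.getD (C.inv g) 9) (inv11 (lm.getD g 9))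

/-- the check that the subgroup of one certificate lies in the group of another -/
noncomputable def subsOK (C C' : Cert) (lm lm' : List ℕ) : Bool :=
  C.subs.all fun w => w.all fun g =>
    Nat.blt g C.K && (List.range C'.K).any fun k => Nat.beq (lm'.getD k 9) (lm.getD g 9)

theorem inv_of_ge {C : Cert} (h : C.invs.length = C.K) {g : ℕ} (hg : C.K ≤ g) : C.inv g = g := by
  rw [Cert.inv, List.getD_eq_default _ _ (by omega)]

theorem model_in {C : Cert} {lm : List ℕ} {H : Subgroup PT} (h : mapOK C lm = true)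
    (hs : ∀ w ∈ C.subs, prodW (genIn C lm) w ∈ H) : Model C H (genIn C lm) := by
  simp only [mapOK, Bool.and_eq_true, List.all_eq_true, List.contains_iff_mem, List.mem_range,
    Nat.blt_eq] at h
  obtain ⟨⟨hK, hR⟩, hI⟩ := h
  refine ⟨by simp [genIn], fun g => ?_, fun r hr => ?_, hs⟩
  · by_cases hg : g < C.K
    · obtain ⟨h1, h2⟩ := hI g hg
      simp only [genIn, if_pos hg, if_pos h1, Nat.eq_of_beq_eq_true h2]
      exact pGen_inv _
    · rw [inv_of_ge (Nat.eq_of_beq_eq_true hK) (by omega)]
      simp [genIn, hg]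
  · obtain ⟨hl, hm⟩ := hR r hr
    rw [prodW_congr (gen := genIn C lm) (gen' := fun g => pGen (lm.getD g 9)) fun g hg => (if_pos (hl g hg) : genIn C lm g = _)]
    have := pGen_rel hm
    rwa [prodW, List.map_map] at this

theorem card_step {C C' : Cert} {lm lm' : List ℕ} (c : C.Complete) (h : mapOK C lm = true)
    (hs : subsOK C C' lm lm' = true) {n : ℕ} (hf : Finite (grpIn C' lm'))
    (hn : Nat.card (grpIn C' lm') ≤ n) :
    Finite (grpIn C lm) ∧ Nat.card (grpIn C lm) ≤ C.N * n := by
  have hm : Model C (grpIn C' lm') (genIn C lm) := by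
    refine model_in h fun w hw => ?_
    simp only [subsOK, List.all_eq_true, Bool.and_eq_true, List.any_eq_true, List.mem_range,
      Nat.blt_eq] at hs
    refine Subgroup.list_prod_mem _ fun x hx => ?_
    obtain ⟨g, hg, rfl⟩ := List.mem_map.mp hx
    obtain ⟨hgK, k, hk, e⟩ := hs w hw g hg
    refine Subgroup.subset_closure ⟨k, hk, ?_⟩
    rw [genIn, genIn, if_pos hk, if_pos hgK, Nat.eq_of_beq_eq_true e]
  haveI := hf
  exact finite_card_le c hm n hn

/-- the letters of the five certificates -/
def lmA : List ℕ := [0, 2, 3, 4]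
@[inherit_doc lmA] def lmU : List ℕ := [0, 1, 2, 3, 4]
@[inherit_doc lmA] def lmD : List ℕ := [5, 6, 4, 3, 2, 1, 0]
@[inherit_doc lmA] def lmT : List ℕ := [0, 1, 2, 3, 4, 5, 6, 7, 8]

theorem maps_ok : (mapOK certA lmA && mapOK certU lmU && mapOK certD lmD && mapOK certT lmT &&
    mapOK certL lmT && subsOK certU certA lmU lmA && subsOK certD certU lmD lmU &&
    subsOK certT certD lmT lmD) = true := by decide +kernel

theorem cert_sizes : certA.N = 96 ∧ certU.N = 126 ∧ certD.N = 17472 ∧ certT.N = 3 ∧ certT.K = 9 ∧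
    certA.subs = [] ∧ certL.K = 9 ∧ certL.N = 2457 ∧
    (∀ r ∈ certL.rels, ∀ g ∈ r, g < 9) ∧ certL.invs = [0, 1, 2, 3, 4, 6, 5, 8, 7] := by
  decide +kernel

theorem card_PT_le : Finite PT ∧ Nat.card PT ≤ 634023936 := by
  have h := maps_ok
  simp only [Bool.and_eq_true] at h
  obtain ⟨⟨⟨⟨⟨⟨⟨hA, hU⟩, hD⟩, hT⟩, -⟩, sU⟩, sD⟩, sT⟩ := h
  obtain ⟨nA, nU, nD, nT, kT, subA, -⟩ := cert_sizes
  have mA : Model certA (⊥ : Subgroup PT) (genIn certA lmA) :=
    model_in hA fun w hw => by simp [subA] at hw
  obtain ⟨fA, cA⟩ := finite_card_le certA_complete mA 1 (by simp)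
  obtain ⟨fU, cU⟩ := card_step certU_complete hU sU fA (n := 96) (by rw [nA] at cA; exact cA)
  obtain ⟨fD, cD⟩ := card_step certD_complete hD sD fU (n := 126 * 96) (by rw [nU] at cU; exact cU)
  obtain ⟨fT, cT⟩ := card_step certT_complete hT sT fD (n := 17472 * (126 * 96)) (by rw [nD] at cD; exact cD)
  have htop : grpIn certT lmT = ⊤ := by
    rw [grpIn, kT, ← closure_pGen]
    congr 1
    ext y
    refine exists_congr fun g => and_congr_right fun hg => ?_
    rw [genIn, kT, if_pos hg]
    interval_cases g <;> rfl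
  rw [htop] at fT cT
  rw [nT, Subgroup.card_top] at cT
  exact ⟨Finite.of_equiv _ Subgroup.topEquiv.toEquiv, cT⟩

theorem finite_PT : Finite PT := card_PT_le.1

theorem certL_inv_inv {g : ℕ} (hg : g < 9) :
    certL.inv g < 9 ∧ certL.inv (certL.inv g) = g ∧ certL.inv g = inv11 g := by
  rw [Cert.inv, Cert.inv, cert_sizes.2.2.2.2.2.2.2.2.2]
  interval_cases g <;> decide

theorem exists_pAct : ∃ ψ : PT →* (Equiv.Perm (Fin certL.N))ᵐᵒᵖ, ∀ g < 9,
    ψ (pGen g) = MulOpposite.op (letterPerm certL_complete certL_action g)⁻¹ := by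
  let p := letterPerm certL_complete certL_action
  let f : ℕ → (Equiv.Perm (Fin certL.N))ᵐᵒᵖ := fun g => MulOpposite.op (p g)⁻¹
  have hf : ∀ w, prodW f w = MulOpposite.op (prodW p w)⁻¹ := by
    intro w
    induction w with
    | nil => simp
    | cons g w ih => rw [prodW_cons, ih, prodW_cons, ← MulOpposite.op_mul, mul_inv_rev]
  have hK : certL.K = 9 := cert_sizes.2.2.2.2.2.2.1
  let q : Fin 9 → (Equiv.Perm (Fin certL.N))ᵐᵒᵖ := fun i => f i
  have e : ∀ g < 9, FreeGroup.lift q (pFree g) = f g := fun g hg => by simp [pFree, hg, q]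
  have key : ∀ r ∈ pRelSet, FreeGroup.lift q r = 1 := by
    rintro _ ⟨w, hw, rfl⟩
    rcases List.mem_append.1 hw with hw | hw
    · rw [map_prodW, prodW_congr (gen' := f) fun g hg => e g (cert_sizes.2.2.2.2.2.2.2.2.1 w hw g hg),
        hf, prodW_letterPerm_rel certL_complete certL_action w hw, inv_one, MulOpposite.op_one]
    · obtain ⟨g, hg, rfl⟩ := List.mem_map.1 hw
      obtain ⟨h1, h2, h3⟩ := certL_inv_inv (List.mem_range.1 hg)
      have hlt : ∀ k ∈ [g, certL.inv g], k < 9 := by simp [List.mem_range.1 hg, h1]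
      rw [← h3, map_prodW, prodW_congr (gen' := f) fun k hk => e k (hlt k hk), hf]
      have hp : prodW p [g, certL.inv g] = 1 := by
        refine Equiv.ext fun x => Fin.ext ?_
        rw [prodW_letterPerm certL_complete certL_action fun k hk => hK ▸ hlt k hk]
        simp [Cert.revInv, Cert.run_cons, Cert.run_nil, h2,
          (certL_action.T_lt x.2 (hK ▸ List.mem_range.1 hg)).2]
      rw [hp, inv_one, MulOpposite.op_one]
  exact ⟨PresentedGroup.toGroup key, e⟩

/-- the action on 2457 points -/
noncomputable def pAct : Act certL pGen where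
  ψ := exists_pAct.choose
  inv_mul g := by
    by_cases h : g < 9
    · rw [(certL_inv_inv h).2.2]; exact pGen_inv g
    · rw [Cert.inv, cert_sizes.2.2.2.2.2.2.2.2.2, List.getD_eq_default _ _ (by simp; omega)]
      simp [pGen_of_ge (show 9 ≤ g by omega)]
  inv_lt _ hg := certL_complete.inv_lt hg
  apply w := by
    induction w with
    | nil => intro _ x; simp [Cert.run_nil]
    | cons g w ih =>
      intro hw x
      rw [List.forall_mem_cons] at hw
      rw [prodW_cons, map_mul, exists_pAct.choose_spec g (cert_sizes.2.2.2.2.2.2.1 ▸ hw.1),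
        MulOpposite.unop_mul, MulOpposite.unop_op, Equiv.Perm.mul_apply, ih hw.2, Cert.run_cons]
      congr 1
      simp [letterPerm, hw.1]

theorem exists_toP : ∃ f : PT →* Th, ∀ g < 9, f (pGen g) = tg g := by
  let q : Fin 9 → Th := fun i => tg i
  have e : ∀ g < 9, FreeGroup.lift q (pFree g) = tg g := fun g hg => by simp [pFree, hg, q]
  have h : (pRels.all fun r => (r.all fun g => Nat.blt g 9) &&
      (relsTh.contains r || (List.range 9).any fun g => r == [g, inv11 g])) = true := by decide +kernel
  have key : ∀ r ∈ pRelSet, FreeGroup.lift q r = 1 := by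
    rintro _ ⟨w, hw, rfl⟩
    simp only [List.all_eq_true, Bool.and_eq_true, Bool.or_eq_true, List.contains_iff_mem,
      List.any_eq_true, List.mem_range, beq_iff_eq, Nat.blt_eq] at h
    obtain ⟨hl, hor⟩ := h w hw
    rw [map_prodW, prodW_congr (gen' := tg) fun g hg => e g (hl g hg)]
    rcases hor with hor | ⟨g, -, rfl⟩
    · exact relTh_one w hor
    · simpa using tg_inv g
  exact ⟨PresentedGroup.toGroup key, e⟩

/-- the map to the Thompson group -/
noncomputable def toP : PT →* Th := exists_toP.choose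

theorem toP_gen {g : ℕ} (h : g < 9) : toP (pGen g) = tg g := exists_toP.choose_spec g h

theorem toP_word {w : List ℕ} (h : ∀ g ∈ w, g < 9) : toP (prodW pGen w) = prodW tg w := by
  rw [map_prodW]
  exact prodW_congr fun g hg => toP_gen (h g hg)

end CfsgLib.ThPres
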