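import Cfsg.Agent.Lib.TwistTree.Tree

/-!
The quotient of the centraliser on nine points.
-/

set_option autoImplicit false

namespace CfsgLib.ThPres
open CfsgLib.TwistCoset (wOf)

/-- where the letters take the nine points -/
def ninePts : List (List ℕ) := [[0,1,2,3,4,5,6,7,8], [0,1,2,3,4,5,6,7,8], [1,0,2,5,6,3,4,8,7], [0,2,1,4,3,7,8,5,6], [0,1,5,2,7,4,3,8,6], [0,1,3,6,5,2,8,4,7], [0,1,2,6,8,4,7,3,5], [0,1,2,7,5,8,3,6,4], [0,1,2,7,5,4,6,3,8], [0,1,2,7,5,4,6,3,8]]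

/-- three-cycles and words for them -/
noncomputable def threeWords : List (ℕ × ℕ × ℕ × List ℕ) := [(0,1,2,[2,3,2,8,2,8]),
  (0,1,3,[2,5,3,2,8,2,8,5]),
  (0,1,4,[2,4,4,3,2,8,2,8,4,4]),
  (0,1,5,[2,4,3,2,8,2,8,4]),
  (0,1,6,[2,5,5,3,2,8,2,8,5,5]),
  (0,1,7,[2,6,5,3,2,8,2,8,5,7]),
  (0,1,8,[2,6,4,3,2,8,2,8,4,7]),
  (0,2,1,[2,3,8,2,3,8]),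
  (0,2,3,[5,8,2,8,5,3,5,3,8,2]),
  (0,2,4,[2,3,4,8,2,4,8,4,7]),
  (0,2,5,[8,2,3,4,8,2,8,5,6]),
  (0,2,6,[5,5,8,2,8,5,3,6,4,8,2]),
  (0,2,7,[3,2,4,3,2,8,2,8,4,3]),
  (0,2,8,[2,3,7,4,8,2,4,8,4]),
  (0,3,1,[2,5,3,8,2,3,8,5]),
  (0,3,2,[2,3,8,4,3,4,8,2,8,4]),
  (0,3,4,[2,5,3,2,6,5,8,2,4,8,2]),
  (0,3,5,[2,5,3,4,8,2,4,8,5,7]),
  (0,3,6,[8,2,3,8,5,5,8,4,3,2]),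
  (0,3,7,[2,3,4,7,8,5,3,2,8]),
  (0,3,8,[2,3,2,5,7,8,2,8,5,3,2]),
  (0,4,1,[2,4,4,3,8,2,3,8,4,4]),
  (0,4,2,[6,5,8,2,4,8,5,3,2]),
  (0,4,3,[2,8,2,4,8,2,5,3,2,7,5]),
  (0,4,5,[4,7,8,2,8,5,3,2,8,4]),
  (0,4,6,[4,8,2,5,3,7,4,8,2]),
  (0,4,7,[5,5,8,2,3,4,6,8,2,8]),
  (0,4,8,[2,4,4,3,4,8,2,4,6,8,5]),
  (0,5,1,[2,4,3,8,2,3,8,4]),
  (0,5,2,[7,4,8,2,8,5,3,2,8]),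
  (0,5,3,[6,4,8,2,4,8,5,3,2,5]),
  (0,5,4,[5,8,2,3,4,6,8,2,8,5]),
  (0,5,6,[5,6,8,2,3,4,8,2,8]),
  (0,5,7,[2,4,3,4,8,2,4,6,8,5,5]),
  (0,5,8,[4,4,8,2,4,3,7,8,4,3,2]),
  (0,6,1,[2,5,5,3,8,2,3,8,5,5]),
  (0,6,2,[2,8,5,3,7,4,8,2,8,4,4]),
  (0,6,3,[2,3,5,8,4,4,3,8,2,8]),
  (0,6,4,[2,8,5,3,2,6,5,8,5]),
  (0,6,5,[8,2,8,5,3,2,6,8,4]),
  (0,6,7,[8,2,3,5,8,4,4,3,8,2]),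
  (0,6,8,[4,6,8,2,3,4,3,4,8,2,4]),
  (0,7,1,[2,6,5,3,8,2,3,8,5,7]),
  (0,7,2,[3,2,4,3,8,2,3,8,4,3]),
  (0,7,3,[8,2,3,4,7,8,5,3,2]),
  (0,7,4,[7,8,2,8,5,3,2,8,4,4]),
  (0,7,5,[4,4,6,8,2,4,8,5,3,2,4]),
  (0,7,6,[2,3,8,5,5,8,4,3,2,8]),
  (0,7,8,[2,6,5,3,4,8,2,4,8,5,6]),
  (0,8,1,[2,6,4,3,8,2,3,8,4,7]),
  (0,8,2,[4,8,2,8,5,3,2,6,8]),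
  (0,8,3,[2,3,4,6,8,2,8,2,5,3,2]),
  (0,8,4,[4,6,8,2,4,8,5,3,2,4,4]),
  (0,8,5,[2,3,5,3,7,8,2,4,8,5,5]),
  (0,8,6,[2,3,4,8,5,3,2,4,6,8,5]),
  (0,8,7,[3,8,2,8,5,3,2,6,8,4,3]),
  (1,2,3,[3,6,4,8,2,4,8,2,5,6]),
  (1,2,4,[3,2,7,5,8,2,4,8,5,7]),
  (1,2,5,[3,2,5,8,2,4,8,5,6]),
  (1,2,6,[3,4,8,2,4,8,2,5,7]),
  (1,2,7,[3,7,4,8,2,4,8,2,5]),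
  (1,2,8,[3,2,6,5,8,2,4,8,5]),
  (1,3,2,[2,7,5,8,2,4,8,5,3,7]),
  (1,3,4,[3,4,4,8,2,8,2,5,3,6]),
  (1,3,5,[2,6,4,8,2,4,8,5,3,4]),
  (1,3,6,[3,2,5,5,5,8,2,4,3,8]),
  (1,3,7,[3,8,2,4,4,8,2,4,4,3]),
  (1,3,8,[5,5,3,2,8,2,4,3,4,8]),
  (1,4,2,[3,4,3,4,8,2,8,2,5,8]),
  (1,4,3,[3,2,7,5,8,2,8,5,5,3]),
  (1,4,5,[3,2,7,8,2,4,7,8,5,3]),
  (1,4,6,[3,2,4,6,8,2,8,4,3]),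
  (1,4,7,[3,4,8,2,4,4,8,2,4,3]),
  (1,4,8,[2,8,2,3,5,8,4,4,3,8]),
  (1,5,2,[7,4,8,2,4,8,2,5,3]),
  (1,5,3,[5,3,4,8,2,4,8,2,4,7]),
  (1,5,4,[2,8,2,3,8,5,5,8,4,3]),
  (1,5,6,[5,3,2,6,5,8,2,4,8]),
  (1,5,7,[3,2,5,7,8,2,8,5,3]),
  (1,5,8,[3,4,7,8,5,3,2,8,2]),
  (1,6,2,[2,6,5,8,2,4,8,5,3]),
  (1,6,3,[3,8,2,4,7,8,2,4,3,7]),
  (1,6,4,[2,4,8,2,5,3,7,4,8]),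
  (1,6,5,[8,2,4,8,2,5,3,7,4]),
  (1,6,7,[3,2,4,7,8,2,4,3,7,8]),
  (1,6,8,[3,5,7,5,8,2,8,2,5,3,7]),
  (1,7,2,[2,5,8,2,4,8,5,3,6]),
  (1,7,3,[3,2,4,4,8,2,4,4,3,8]),
  (1,7,4,[3,2,4,8,2,3,4,4,8,5]),
  (1,7,5,[3,4,6,8,2,8,2,5,3]),
  (1,7,6,[3,7,8,2,4,7,8,2,4,3]),
  (1,7,8,[3,7,5,8,2,8,2,4,4,3]),
  (1,8,2,[4,8,2,4,8,2,5,3,7]),
  (1,8,3,[8,5,3,2,4,8,2,3,4,4]),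
  (1,8,4,[3,2,8,2,4,3,4,8,5,5]),
  (1,8,5,[2,8,2,3,4,7,8,5,3]),
  (1,8,6,[2,6,5,8,2,3,4,3,4,8,4]),
  (1,8,7,[3,2,4,4,8,2,8,4,3,6]),
  (2,3,4,[2,7,5,8,2,8,5,5]),
  (2,3,5,[4,8,2,4,4,8,2,4]),
  (2,3,6,[4,4,8,2,4,4,8,2]),
  (2,3,7,[2,7,8,2,4,7,8,5]),
  (2,3,8,[2,4,6,8,2,8,4]),
  (2,4,3,[4,4,8,2,8,2,5,6]),
  (2,4,5,[8,2,4,4,8,2,4,4]),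
  (2,4,6,[2,4,4,8,2,4,8,5,5]),
  (2,4,7,[4,4,4,8,2,8,2,4,7]),
  (2,4,8,[2,5,5,5,8,2,4,8]),
  (2,5,3,[2,4,8,2,4,4,8,5]),
  (2,5,4,[2,4,4,8,2,4,4,8]),
  (2,5,6,[7,5,8,2,8,2,4,4]),
  (2,5,7,[4,6,8,2,8,2,5]),
  (2,5,8,[7,8,2,4,7,8,2,4]),
  (2,6,3,[2,8,2,4,4,8,5,5]),
  (2,6,4,[4,4,8,2,4,8,2,4,4]),
  (2,6,5,[2,4,4,8,2,8,4,6]),
  (2,6,7,[5,5,5,8,2,4,8,2]),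
  (2,6,8,[2,4,4,4,8,2,8,5,7]),
  (2,7,3,[4,7,8,2,4,7,8,2]),
  (2,7,4,[2,5,7,5,8,2,8,4,7]),
  (2,7,5,[2,5,7,8,2,8,5]),
  (2,7,6,[2,8,2,4,7,8,5,7]),
  (2,7,8,[8,2,4,6,8,2,5,8,5]),
  (2,8,3,[5,7,8,2,8,2,4]),
  (2,8,4,[8,2,4,7,8,2,4,7]),
  (2,8,5,[2,4,7,8,2,4,7,8]),
  (2,8,6,[5,7,5,8,2,8,2,5,7]),
  (2,8,7,[4,8,2,5,6,8,2,4,8]),
  (3,4,5,[2,4,7,4,8,2,8,5,7]),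
  (3,4,6,[4,8,2,8,2,5,5,8]),
  (3,4,7,[5,6,8,2,4,8,2,5,7,8]),
  (3,4,8,[2,5,8,2,4,8,4,4]),
  (3,5,4,[5,5,5,8,2,8,2,5,7]),
  (3,5,6,[4,7,4,8,2,8,2,4,7]),
  (3,5,7,[2,4,4,4,8,2,4,8,5]),
  (3,5,8,[2,4,8,2,4,7,8,4,7]),
  (3,6,4,[8,2,5,5,8,2,8,5]),
  (3,6,5,[2,5,5,5,8,2,8,4,7]),
  (3,6,7,[2,6,8,2,8]),
  (3,6,8,[3,4,7,8,2,8,2,5,3]),
  (3,7,4,[2,4,7,4,8,2,4,8,4,6]),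
  (3,7,5,[4,8,2,4,7,8,2,5,7]),
  (3,7,6,[7,8,2,8,2]),
  (3,7,8,[5,5,8,2,8,2,4,6]),
  (3,8,4,[5,5,8,2,4,8,2,5]),
  (3,8,5,[3,2,4,7,8,2,8,4,3]),
  (3,8,6,[2,5,6,8,2,4,8,4,7]),
  (3,8,7,[2,7,4,8,2,8,4,4]),
  (4,5,6,[2,7,4,8,2,4,7,8,4]),
  (4,5,7,[5,6,8,2,4,8,2,5,7]),
  (4,5,8,[2,7,8,2,8]),
  (4,6,5,[5,7,8,2,4,8,2,4,6]),
  (4,6,7,[2,4,7,8,2,8,4]),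
  (4,6,8,[2,5,6,8,2,8,5]),
  (4,7,5,[2,6,5,8,2,4,6,8,4]),
  (4,7,6,[5,6,8,2,8,2,4]),
  (4,7,8,[4,8,2,5,8,2,8,4,7]),
  (4,8,5,[6,8,2,8,2]),
  (4,8,6,[4,7,8,2,8,2,5]),
  (4,8,7,[6,5,3,2,8,2,3,4,8]),
  (5,6,7,[5,8,2,4,8,2,5,5]),
  (5,6,8,[8,2,5,6,8,2,4,8,4]),
  (5,7,6,[2,5,5,8,2,4,8,4]),
  (5,7,8,[7,4,8,2,8,2,5,5]),
  (5,8,6,[5,8,2,4,6,8,2,5,8]),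
  (5,8,7,[2,5,5,8,2,8,5,6]),
  (6,7,8,[8,2,5,6,8,2,8,5,6]),
  (6,8,7,[4,4,6,8,2,8,2,5,8])]

end CfsgLib.ThPres
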