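import Cfsg.Agent.Lib.TwistTree.Tree

/-!
The certified facts about double cosets.
-/

set_option autoImplicit false

namespace CfsgLib.ThPres
open CfsgLib.CosetEnum CfsgLib.TwistTree
open CfsgLib.TwistCoset (wOf cOK CLev cSize lettersOK)

/-- a part of the facts -/
noncomputable def twFactsT1 : BT Fact := (.fork (.fork (.fork (.fork (.fork (.fork (.one (.stab 0 [0]))
 (.one (.edge 5 (wOf 21 0x14543546234572312341) 9 (wOf 13 0x123463457123))))
 (.fork (.one (.edge 5 (wOf 24 0x385432132453463123451230) 6 [0,3,2,1,0,5,5,4,3,5]))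
 (.one (.stab 0 []))))
 (.fork (.fork (.one (.edge 5 (wOf 26 0x2321543232463453123458012) 5 [1,0,7,6,4,3]))
 (.one (.stab 0 [])))
 (.fork (.one (.edge 5 (wOf 26 0x2328543215463234523466210) 5 (wOf 13 0x2345712345340)))
 (.one (.stab 0 [])))))
 (.fork (.fork (.fork (.one (.edge 5 (wOf 17 0x6458323451234623) 3 [1,3,2,1,4,3,2,1,6,4,7,6]))
 (.one (.stab 0 [])))
 (.fork (.one (.edge 5 (wOf 23 0x23236664632345123455201) 5 (wOf 17 0x21645734623466231)))
 (.one (.stab 0 []))))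
 (.fork (.fork (.one (.edge 5 (wOf 20 0x24321323454323123468) 6 [0,1,0,2,5,8]))
 (.one (.stab 0 [])))
 (.fork (.one (.edge 5 (wOf 21 0x10554532345312345432) 5 [2,3,2,1,3,4,7,6,4,3,2,5]))
 (.one (.stab 0 []))))))
 (.fork (.fork (.fork (.fork (.one (.edge 6 (wOf 19 0x6643623123453012343) 8 [0,1,0,2,5,5,7]))
 (.one (.edge 5 (wOf 23 0x23643232458312345231231) 10 (wOf 16 0x861234512346320))))
 (.fork (.one (.edge 5 (wOf 26 0x1275432543545231234553123) 5 [6,8,6,4,3,2,1,3,2,1,0]))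
 (.one (.stab 0 []))))
 (.fork (.fork (.one (.edge 5 (wOf 25 0x1236464321323463451234531) 8 (wOf 13 0x7323455123120)))
 (.one (.stab 0 [])))
 (.fork (.one (.edge 5 (wOf 23 0x32185432345812312345341) 5 (wOf 15 0x462346812323453)))
 (.one (.stab 0 [])))))
 (.fork (.fork (.fork (.one (.edge 5 (wOf 26 0x12132385432646323461234620) 7 [5,4,3,2,1,0,3,2,5,4,6]))
 (.one (.stab 0 [])))
 (.fork (.one (.edge 5 (wOf 27 0x102432154323545523123463012) 5 (wOf 17 0x2646312345734230)))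
 (.one (.stab 0 []))))
 (.fork (.fork (.one (.edge 5 (wOf 18 0x343582341232345120) 7 [2,3,2,6,4,3,2,1,0,3,2]))
 (.one (.stab 0 [])))
 (.fork (.one (.edge 9 (wOf 20 0x23464753462312341230) 3 (wOf 14 0x23450123234310)))
 (.one (.stab 0 [])))))))
 (.fork (.fork (.fork (.fork (.fork (.one (.edge 3 [0,2,3,2,5,8,5] 6 (wOf 23 0x10213213854623234123210)))
 (.one (.edge 9 (wOf 25 0x132454321323462346732341) 5 [0,1,3,7,5,4,3,2,1,3,2,5])))
 (.fork (.one (.edge 5 (wOf 22 0x103485432341232345310) 5 (wOf 17 0x12634573123462323)))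
 (.one (.stab 0 []))))
 (.fork (.fork (.one (.edge 5 (wOf 23 0x32135432864634612340120) 5 [3,2,1,0,5,4,3,6,4,6]))
 (.one (.stab 0 [])))
 (.fork (.one (.edge 5 (wOf 18 0x646432346712341210) 5 [0,3,2,8,5]))
 (.one (.stab 0 [])))))
 (.fork (.fork (.fork (.one (.edge 5 (wOf 23 0x4323454323412323457432) 5 (wOf 15 0x623467012345320)))
 (.one (.stab 0 [])))
 (.fork (.one (.edge 5 (wOf 26 0x1764321324645323454123201) 5 [0,2,3,2,1,0,7,5,4,3,2,6]))
 (.one (.stab 0 []))))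
 (.fork (.fork (.one (.edge 5 (wOf 22 0x4321324832346123467232) 5 (wOf 16 0x852312345323010)))
 (.one (.stab 0 [])))
 (.fork (.one (.edge 5 (wOf 26 0x1234854323466231234582323) 5 (wOf 22 0x121032545312346823423)))
 (.one (.stab 0 []))))))
 (.fork (.fork (.fork (.fork (.one (.edge 5 (wOf 22 0x2323432764532345123012) 6 [0,6,6,4,3,2]))
 (.one (.stab 0 [])))
 (.fork (.one (.edge 5 (wOf 24 0x354323215432346461234120) 5 [6,6,4,3,2,1,0,5,4,3,2]))
 (.one (.stab 0 []))))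
 (.fork (.fork (.one (.edge 5 (wOf 23 0x1323285453462312343123) 7 (wOf 14 0x62323466312345)))
 (.one (.stab 0 [])))
 (.fork (.one (.edge 5 (wOf 27 0x21454326432546731234523431) 5 (wOf 16 0x672312346342320)))
 (.one (.stab 0 [])))))
 (.fork (.fork (.fork (.one (.edge 5 (wOf 19 0x121634682346231201) 8 [1,2,5,4,5,4,3]))
 (.one (.stab 0 [])))
 (.fork (.one (.edge 5 (wOf 22 0x3543643231234534312321) 5 (wOf 14 0x53450123454323)))
 (.one (.stab 0 []))))
 (.fork (.fork (.one (.edge 5 (wOf 27 0x106643213254763234631234310) 5 [5,4,3,2,1,0,3,2,7,6]))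
 (.one (.stab 0 [])))
 (.fork (.one (.edge 9 (wOf 23 0x35432854534623123467321) 5 (wOf 14 0x55234552301234)))
 (.one (.stab 0 []))))))))

/-- a part of the facts -/
noncomputable def twFactsT2 : BT Fact := (.fork (.fork (.fork (.fork (.fork (.fork (.one (.stab 4 [1,0,2,1,4,7]))
 (.one (.edge 5 (wOf 25 0x4321032432684534123123431) 9 (wOf 14 0x52301234574323))))
 (.fork (.one (.edge 5 (wOf 26 0x1255432543646234612346201) 5 [2,5,4,3,2,1,0,8,6,4,3,6]))
 (.one (.stab 0 []))))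
 (.fork (.fork (.one (.edge 5 (wOf 25 0x7543232543645231234534120) 7 (wOf 14 0x63234530123466)))
 (.one (.stab 0 [])))
 (.fork (.one (.edge 5 (wOf 24 0x123246432646834512346120) 5 (wOf 13 0x2345501234632)))
 (.one (.stab 0 [])))))
 (.fork (.fork (.fork (.one (.edge 5 (wOf 17 0x32864634623454232) 5 [6,4,3,2,5,4,5,4,8]))
 (.one (.stab 0 [])))
 (.fork (.one (.edge 5 (wOf 22 0x2643213468232312346345) 5 (wOf 13 0x6452312345323)))
 (.one (.stab 0 []))))
 (.fork (.fork (.one (.edge 5 (wOf 25 0x1432364327646342312345412) 7 [2,3,5,4,3,2,1,0,3]))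
 (.one (.stab 0 [])))
 (.fork (.one (.edge 5 (wOf 25 0x3243554321634673234623431) 5 (wOf 17 0x2663461234523231)))
 (.one (.stab 0 []))))))
 (.fork (.fork (.fork (.fork (.one (.edge 6 (wOf 21 0x264323645532345123401) 8 [0,1,6,4,3,2,1,0,3,2,6,6]))
 (.one (.stab 0 [])))
 (.fork (.one (.edge 5 (wOf 25 0x216435543231234674123234) 5 (wOf 13 0x123451232010)))
 (.one (.stab 0 []))))
 (.fork (.fork (.one (.edge 5 (wOf 19 0x2176432342312346460) 5 [4,3,2,1,0,7,6,4,3,2,6]))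
 (.one (.stab 0 [])))
 (.fork (.one (.edge 5 (wOf 24 0x21432324534643231234321) 5 (wOf 16 0x234581234632340)))
 (.one (.stab 0 [])))))
 (.fork (.fork (.fork (.one (.edge 5 (wOf 26 0x32105432103684632345123231) 6 (wOf 13 0x7523464012312)))
 (.one (.stab 0 [])))
 (.fork (.one (.edge 5 (wOf 26 0x1454323543642312346723412) 5 (wOf 14 0x57523012345310)))
 (.one (.stab 0 []))))
 (.fork (.fork (.one (.edge 5 (wOf 21 0x13464532312346634521) 5 (wOf 16 0x623464612346232)))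
 (.one (.stab 0 [])))
 (.fork (.one (.edge 9 (wOf 24 0x102103554683234631234623) 8 [0,1,5,4,3,2,1,0,3,2,8,5]))
 (.one (.stab 0 [])))))))
 (.fork (.fork (.fork (.fork (.fork (.one (.edge 3 [3,5,4,6] 8 (wOf 25 0x1466432132466312345323467)))
 (.one (.edge 5 (wOf 25 0x4327543264323123453234531) 9 [6,6,4,3,2,1,0,3,2,5])))
 (.fork (.one (.edge 5 (wOf 22 0x2143643552345323457123) 5 (wOf 13 0x2301234554312)))
 (.one (.stab 0 []))))
 (.fork (.fork (.one (.edge 5 (wOf 25 0x6437643213234512346623210) 6 [0,2,1,0,5,4,3,2,6,7]))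
 (.one (.stab 0 [])))
 (.fork (.one (.edge 5 (wOf 23 0x43215432864534512342010) 5 [6,4,3,2,1,0,6,4,3,2,6,6]))
 (.one (.stab 0 [])))))
 (.fork (.fork (.fork (.one (.edge 5 (wOf 26 0x21032143218646345234623464) 8 [0,1,0,5,4,3,2,5,5,7]))
 (.one (.stab 0 [])))
 (.fork (.one (.edge 5 (wOf 24 0x12324643231234582343231) 5 (wOf 16 0x234512346342323)))
 (.one (.stab 0 []))))
 (.fork (.fork (.one (.edge 5 (wOf 25 0x2354326432684531234534232) 6 [0,3,2,1,3,2,6,8,6,4,6]))
 (.one (.stab 0 [])))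
 (.fork (.one (.edge 5 (wOf 19 0x2326745342312346632) 5 (wOf 16 0x764623461234672)))
 (.one (.stab 0 []))))))
 (.fork (.fork (.fork (.fork (.one (.edge 5 (wOf 22 0x2354321534582312346310) 8 (wOf 14 0x67401231234634)))
 (.one (.stab 0 [])))
 (.fork (.one (.edge 5 (wOf 23 0x10213432534682346123458) 5 (wOf 14 0x42312346643231)))
 (.one (.stab 0 []))))
 (.fork (.fork (.one (.edge 5 (wOf 28 0x143232154321634582340123012) 5 [0,4,3,5,4,3,2,1,0,3,6]))
 (.one (.stab 0 [])))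
 (.fork (.one (.edge 5 (wOf 25 0x213213764634231234671232) 5 [0,4,5,4,3,2,1,0,6,4,3,2]))
 (.one (.stab 0 [])))))
 (.fork (.fork (.fork (.one (.edge 5 (wOf 26 0x15432643213662345342323463) 6 [1,0,3,5,4,3,2,7,6]))
 (.one (.stab 0 [])))
 (.fork (.one (.edge 5 (wOf 23 0x2176432646631231234321) 5 (wOf 14 0x23450123453462)))
 (.one (.stab 0 []))))
 (.fork (.fork (.one (.edge 5 (wOf 25 0x4323214646432345123468232) 5 (wOf 18 0x21764532346312310)))
 (.one (.stab 0 [])))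
 (.fork (.one (.edge 9 (wOf 26 0x2321432543684523453123451) 6 [0,3,2,1,0,4,3,2,6,6,6]))
 (.one (.stab 0 []))))))))

/-- a part of the facts -/
noncomputable def twFactsT3 : BT Fact := (.fork (.fork (.fork (.fork (.fork (.fork (.one (.edge 1 (wOf 13 0x6234682323432) 2 [0,4,5,4,3,2,5]))
 (.one (.edge 5 (wOf 18 0x276463234671234523) 9 [0,3,2,1,0,5,4,7,6,4,3,2])))
 (.fork (.one (.edge 5 (wOf 19 0x8643645234612346823) 5 (wOf 14 0x64523123453463)))
 (.one (.stab 0 []))))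
 (.fork (.fork (.one (.edge 6 (wOf 20 0x76432634663234512301) 6 [0,1,0,3,2,1,6]))
 (.one (.stab 0 [])))
 (.fork (.one (.edge 5 (wOf 21 0x354323746231234623210) 5 [2,4,3,2,1,0,6,4,3,5,8,5]))
 (.one (.stab 0 [])))))
 (.fork (.fork (.fork (.one (.edge 6 (wOf 26 0x13275432103646234662312010) 7 [0,2,3,6,4,3,2,1,0,3,2,6]))
 (.one (.stab 0 [])))
 (.fork (.one (.edge 5 (wOf 24 0x214326643234643123464120) 5 (wOf 13 0x7230123464630)))
 (.one (.stab 0 []))))
 (.fork (.fork (.one (.edge 5 (wOf 23 0x12132364664323431230123) 6 (wOf 13 0x8523123463420)))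
 (.one (.stab 0 [])))
 (.fork (.one (.edge 5 (wOf 21 0x210643546231234573230) 5 [0,3,2,6]))
 (.one (.stab 0 []))))))
 (.fork (.fork (.fork (.fork (.one (.edge 2 (wOf 18 0x10634574231234641) 5 [0,5,4,3,2,6]))
 (.one (.stab 0 [])))
 (.fork (.one (.edge 5 (wOf 24 0x213210854583423123454121) 5 [3,2,1,0,5,8,5,4,3,2,6]))
 (.one (.stab 0 []))))
 (.fork (.fork (.one (.edge 5 (wOf 25 0x1321435432534552312341232) 5 (wOf 16 0x512346343123012)))
 (.one (.stab 0 [])))
 (.fork (.one (.edge 5 (wOf 22 0x464321323012346663231) 5 [1,3,2,5,4,3,2,1,0]))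
 (.one (.stab 0 [])))))
 (.fork (.fork (.fork (.one (.edge 5 (wOf 27 0x12864326432645531234612010) 8 [1,0,3,2,6,7]))
 (.one (.stab 0 [])))
 (.fork (.one (.edge 5 (wOf 24 0x324643213462345323468323) 5 [3,4,5,4,3,2,1,0,3,2,6,7]))
 (.one (.stab 0 []))))
 (.fork (.fork (.one (.edge 5 (wOf 21 0x132554323457123462010) 5 (wOf 13 0x2346464012310)))
 (.one (.stab 0 [])))
 (.fork (.one (.edge 9 (wOf 25 0x2132132103754663452312341) 5 (wOf 17 0x2634531234583234)))
 (.one (.stab 0 [])))))))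
 (.fork (.fork (.fork (.fork (.fork (.one (.edge 8 (wOf 15 0x346123123123468) 3 [1,0,3,7]))
 (.one (.edge 9 (wOf 23 0x23216432583461234230123) 5 (wOf 15 0x645234601234520))))
 (.fork (.one (.edge 5 (wOf 28 0x136437543213234612345723210) 5 [4,3,2,1,0,3,5,5,4,3,2,7]))
 (.one (.stab 0 []))))
 (.fork (.fork (.one (.edge 5 (wOf 21 0x354543823461232346412) 5 (wOf 14 0x67346301234542)))
 (.one (.stab 0 [])))
 (.fork (.one (.edge 5 (wOf 26 0x10325543254634682312341210) 5 [2,3,2,1,4,6,4,3,2,1,0,8]))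
 (.one (.stab 0 [])))))
 (.fork (.fork (.fork (.one (.edge 6 (wOf 19 0x2103645842312346342) 7 (wOf 14 0x62345850123460)))
 (.one (.stab 0 [])))
 (.fork (.one (.edge 5 (wOf 26 0x28643213243546723451231231) 5 (wOf 14 0x76423123466301)))
 (.one (.stab 0 []))))
 (.fork (.fork (.one (.edge 5 (wOf 26 0x10543216432664534671234230) 5 (wOf 13 0x8523012345320)))
 (.one (.stab 0 [])))
 (.fork (.one (.edge 5 (wOf 24 0x12324321534584323451234) 5 (wOf 15 0x723012345232345)))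
 (.one (.stab 0 []))))))
 (.fork (.fork (.fork (.fork (.one (.edge 5 (wOf 20 0x32132534551231234543) 5 [4,3,2,1,3,2,1,0,6,6]))
 (.one (.stab 0 [])))
 (.fork (.one (.edge 5 (wOf 19 0x2543646234585123420) 5 (wOf 13 0x123458451230)))
 (.one (.stab 0 []))))
 (.fork (.fork (.one (.edge 5 (wOf 25 0x3764321324543234612323451) 8 [4,3,2,1,0,5,4,7,6,4,3,2]))
 (.one (.stab 0 [])))
 (.fork (.one (.edge 5 (wOf 23 0x21345432545734612312343) 5 [4,3,2,1,0,5,4,3,2,6,6]))
 (.one (.stab 0 [])))))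
 (.fork (.fork (.fork (.one (.edge 5 (wOf 23 0x21764326463452345812342) 5 [2,1,5,4,3,2,1,0,6,6]))
 (.one (.stab 0 [])))
 (.fork (.one (.edge 5 (wOf 16 0x2534583231234121) 5 [1,0,3,2,1,0,4,6,4,3,2,6]))
 (.one (.stab 0 []))))
 (.fork (.fork (.one (.edge 5 (wOf 24 0x132321543646234512345723) 5 (wOf 13 0x7534670123460)))
 (.one (.stab 0 [])))
 (.fork (.one (.edge 9 (wOf 23 0x21034321734543234543210) 5 (wOf 15 0x623012345734232)))
 (.one (.stab 0 []))))))))

/-- a part of the facts -/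
noncomputable def twFactsT4 : BT Fact := (.fork (.fork (.fork (.fork (.fork (.fork (.one (.edge 3 [3,2,1,3,2,3,2,1,6,6] 3 (wOf 17 0x43234543123012346)))
 (.one (.edge 9 (wOf 20 0x23235745323451234662) 5 [3,4,7,6,4,3,2,1,0,3,2,5])))
 (.fork (.one (.edge 5 (wOf 26 0x1324321324546345234585232) 5 (wOf 15 0x623412323457432)))
 (.one (.stab 0 []))))
 (.fork (.fork (.one (.edge 5 (wOf 25 0x143255432673123453234530) 8 (wOf 13 0x7634534012320)))
 (.one (.stab 0 [])))
 (.fork (.one (.edge 5 (wOf 22 0x2343213762346234623451) 5 (wOf 14 0x1234682345323)))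
 (.one (.stab 0 [])))))
 (.fork (.fork (.fork (.one (.edge 5 (wOf 21 0x210343752345412301234) 7 [5,4,3,2,1,3,2,1,0,6]))
 (.one (.stab 0 [])))
 (.fork (.one (.edge 5 (wOf 23 0x12432103846234523123451) 5 (wOf 15 0x646230123463401)))
 (.one (.stab 0 []))))
 (.fork (.fork (.one (.edge 5 (wOf 24 0x432166432634623123463121) 8 (wOf 13 0x3453012345530)))
 (.one (.stab 0 [])))
 (.fork (.one (.edge 5 (wOf 24 0x12143254663452345123464) 5 (wOf 16 0x462345123457234)))
 (.one (.stab 0 []))))))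
 (.fork (.fork (.fork (.fork (.one (.edge 5 (wOf 15 0x585231230123423) 7 [0,3,2,1,0,3,5,4,3,2,7]))
 (.one (.stab 0 [])))
 (.fork (.one (.edge 5 (wOf 22 0x6432132466346123458232) 5 (wOf 16 0x234683123452323)))
 (.one (.stab 0 []))))
 (.fork (.fork (.one (.edge 5 (wOf 27 0x12134321321746345323432301) 6 [5,4,3,2,1,0,3,2,5,5,7]))
 (.one (.stab 0 [])))
 (.fork (.one (.edge 5 (wOf 22 0x1432854632346612340123) 5 (wOf 15 0x234601234532345)))
 (.one (.stab 0 [])))))
 (.fork (.fork (.fork (.one (.edge 5 (wOf 25 0x1325432854534523467123420) 7 (wOf 14 0x52301234545301)))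
 (.one (.stab 0 [])))
 (.fork (.one (.edge 5 (wOf 24 0x123854321634623457232312) 5 [2,7,6,4,3,2,1,5,4,3,2,7]))
 (.one (.stab 0 []))))
 (.fork (.fork (.one (.edge 5 (wOf 25 0x213264321545345234531231) 6 [0,2,1,0,3,2,6,6]))
 (.one (.stab 0 [])))
 (.fork (.one (.edge 9 (wOf 22 0x2545432543123453462321) 5 (wOf 17 0x2683123454323430)))
 (.one (.stab 0 [])))))))
 (.fork (.fork (.fork (.fork (.fork (.one (.edge 8 (wOf 25 0x1210324354632345731234232) 3 [1,0,3,2,1,4,3,2]))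
 (.one (.edge 10 [] 3 (wOf 13 0x6623012346323))))
 (.fork (.one (.edge 5 (wOf 25 0x123210343623463423123210) 5 (wOf 16 0x2463123457341230)))
 (.one (.stab 0 []))))
 (.fork (.fork (.one (.edge 5 (wOf 25 0x106432154634623466234123) 7 (wOf 14 0x23012346642312)))
 (.one (.stab 0 [])))
 (.fork (.one (.edge 5 (wOf 23 0x32386432543231234523458) 5 (wOf 13 0x7230123463430)))
 (.one (.stab 0 [])))))
 (.fork (.fork (.fork (.one (.edge 5 (wOf 26 0x1254321323458342323123452) 5 [5,4,3,2,1,0,3,2,5,5,7]))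
 (.one (.stab 0 [])))
 (.fork (.one (.edge 5 (wOf 26 0x3214664326453466231231210) 5 (wOf 16 0x2634572312346323)))
 (.one (.stab 0 []))))
 (.fork (.fork (.one (.edge 5 (wOf 23 0x24321064632345834512310) 6 [5,5,4,3,2,1,3,2,6,4,7]))
 (.one (.stab 0 [])))
 (.fork (.one (.edge 5 (wOf 25 0x1255432154532345123467423) 5 (wOf 14 0x62301234663452)))
 (.one (.stab 0 []))))))
 (.fork (.fork (.fork (.fork (.one (.edge 5 (wOf 19 0x105546343231234553) 6 [0,4,7,6,4,3,2,6]))
 (.one (.stab 0 [])))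
 (.fork (.one (.edge 5 (wOf 17 0x1632345842312342) 5 [0,1,0,7,6,4,3,2,6]))
 (.one (.stab 0 []))))
 (.fork (.fork (.one (.edge 5 (wOf 24 0x214643232645531234012301) 5 (wOf 14 0x52346612345323)))
 (.one (.stab 0 [])))
 (.fork (.one (.edge 5 (wOf 26 0x1213210432545342312346840) 5 [0,4,5,8,5,4,3,2,1,0,3,2]))
 (.one (.stab 0 [])))))
 (.fork (.fork (.fork (.one (.edge 5 (wOf 25 0x1343543210634523466312301) 8 [2,1,0,6,4,3,2,7,5]))
 (.one (.stab 0 [])))
 (.fork (.one (.edge 5 (wOf 25 0x102354364532345123453210) 5 (wOf 15 0x301234584534231)))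
 (.one (.stab 0 []))))
 (.fork (.fork (.one (.edge 5 (wOf 26 0x36643213213646342323461201) 5 (wOf 15 0x234550123453412)))
 (.one (.stab 0 [])))
 (.fork (.one (.edge 5 (wOf 21 0x121321573463423234541) 9 [0,1,4,3,2,8,5]))
 (.one (.stab 0 []))))))))

/-- a part of the facts -/
noncomputable def twFactsT5 : BT Fact := (.fork (.fork (.fork (.fork (.fork (.fork (.one (.edge 1 [0,1,0,2,1,6] 1 [1,0,2,1,0,5,4]))
 (.one (.edge 9 (wOf 19 0x1043864623123462323) 9 [1,0,2,1,6,6,4,3,2,5,8])))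
 (.fork (.one (.edge 5 (wOf 20 0x25432645832312346320) 5 (wOf 15 0x230123468345234)))
 (.one (.stab 0 []))))
 (.fork (.fork (.one (.edge 5 (wOf 22 0x1435432543123457323432) 6 [2,3,2,1,5,4,3,2,1,0,7]))
 (.one (.stab 0 [])))
 (.fork (.one (.edge 5 (wOf 26 0x1321032164853462346412323) 5 (wOf 14 0x66234501234620)))
 (.one (.stab 0 [])))))
 (.fork (.fork (.fork (.one (.edge 5 (wOf 25 0x214764321346623452340123) 6 [0,1,0,2,5,4,6,6,4,3,2]))
 (.one (.stab 0 [])))
 (.fork (.one (.edge 5 (wOf 26 0x12154321075463452346423120) 5 (wOf 15 0x623012346342320)))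
 (.one (.stab 0 []))))
 (.fork (.fork (.one (.edge 5 (wOf 26 0x1214321543864523452346821) 6 [0,4,3,6,4,3,2,1,0,3,5]))
 (.one (.stab 0 [])))
 (.fork (.one (.edge 5 (wOf 27 0x12432164325432346812346012) 5 (wOf 16 0x672346123452323)))
 (.one (.stab 0 []))))))
 (.fork (.fork (.fork (.fork (.one (.edge 5 (wOf 23 0x34543210534623423123121) 7 [3,5,4,3,2,1,0,6,4,3]))
 (.one (.stab 0 [])))
 (.fork (.one (.edge 5 (wOf 27 0x264321643232764553423123462) 5 (wOf 13 0x6012345712323)))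
 (.one (.stab 0 []))))
 (.fork (.fork (.one (.edge 5 (wOf 22 0x1432321545323468312343) 8 [3,2,1,0,5,4,5,4,3,2]))
 (.one (.stab 0 [])))
 (.fork (.one (.edge 5 (wOf 22 0x132135546323454312321) 5 [0,6,4,3,2,1,0,6,4,3,2,6]))
 (.one (.stab 0 [])))))
 (.fork (.fork (.fork (.one (.edge 6 [1,0,7,6,4,5] 8 [0,1,2,1,7]))
 (.one (.stab 0 [])))
 (.fork (.one (.edge 5 (wOf 18 0x324634672345123461) 5 (wOf 17 0x2466312346312312)))
 (.one (.stab 0 []))))
 (.fork (.fork (.one (.edge 5 (wOf 23 0x1213643664323123431210) 5 [3,2,6,4,3,2,1,0,7,5,4,3]))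
 (.one (.stab 0 [])))
 (.fork (.one (.edge 9 (wOf 16 0x3462342312312345) 5 (wOf 16 0x623123468323430)))
 (.one (.stab 0 [])))))))
 (.fork (.fork (.fork (.fork (.fork (.one (.edge 3 [1,3,6,6,6] 7 (wOf 25 0x210664321684323464312340)))
 (.one (.edge 9 (wOf 26 0x32132185432345812323453423) 5 (wOf 16 0x723123463431231))))
 (.fork (.one (.edge 5 (wOf 23 0x23432138545323432312343) 5 (wOf 14 0x1234523466230)))
 (.one (.stab 0 []))))
 (.fork (.fork (.one (.edge 5 (wOf 22 0x1023285463462312346340) 5 (wOf 16 0x2645534123234684)))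
 (.one (.stab 0 [])))
 (.fork (.one (.edge 5 (wOf 20 0x2103458234512343123) 5 (wOf 14 0x66234601234580)))
 (.one (.stab 0 [])))))
 (.fork (.fork (.fork (.one (.edge 5 (wOf 24 0x210321432346431234585232) 6 [2,1,0,3,2,6,6,4]))
 (.one (.stab 0 [])))
 (.fork (.one (.edge 5 (wOf 25 0x4325543210583462342312346) 5 (wOf 14 0x63461234634230)))
 (.one (.stab 0 []))))
 (.fork (.fork (.one (.edge 5 (wOf 23 0x10466432345123453234671) 5 (wOf 15 0x234501234683230)))
 (.one (.stab 0 [])))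
 (.fork (.one (.edge 5 (wOf 23 0x10343213642323123458343) 5 (wOf 16 0x1346732346312301)))
 (.one (.stab 0 []))))))
 (.fork (.fork (.fork (.fork (.one (.edge 5 (wOf 23 0x2103213463423234583452) 7 (wOf 14 0x55230123463420)))
 (.one (.stab 0 [])))
 (.fork (.one (.edge 5 (wOf 23 0x1243543643231234631201) 5 (wOf 13 0x7623012345432)))
 (.one (.stab 0 []))))
 (.fork (.fork (.one (.edge 6 (wOf 25 0x210321464534623463231210) 7 (wOf 13 0x5854301234532)))
 (.one (.stab 0 [])))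
 (.fork (.one (.edge 5 (wOf 26 0x32643215543523455123462342) 5 (wOf 15 0x623460123452301)))
 (.one (.stab 0 [])))))
 (.fork (.fork (.fork (.one (.edge 8 (wOf 27 0x121043254326457346231234621) 5 (wOf 14 0x85230123453012)))
 (.one (.stab 0 [])))
 (.fork (.one (.edge 5 (wOf 22 0x2464321683462323453210) 5 [5,5,4,3,2,1,3,2,1]))
 (.one (.stab 0 []))))
 (.fork (.fork (.one (.edge 5 (wOf 27 0x135432132437643234551234512) 5 (wOf 17 0x2345457123462320)))
 (.one (.stab 0 [])))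
 (.fork (.one (.edge 9 (wOf 22 0x2132176453462346123450) 5 [0,3,2,1,0,3,7,6,4]))
 (.one (.stab 0 []))))))))

/-- a part of the facts -/
noncomputable def twFactsT6 : BT Fact := (.fork (.fork (.fork (.fork (.fork (.fork (.one (.edge 3 (wOf 21 0x486432534612301234660) 3 (wOf 16 0x234674512301231)))
 (.one (.edge 9 (wOf 25 0x2135432132646634623123455) 5 [3,4,6,4,3,2,1,0,3,2,7,5])))
 (.fork (.one (.edge 5 (wOf 24 0x214643254763452312345723) 5 [1,3,4,5,4,3,2,1,3,2,1,5]))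
 (.one (.stab 0 []))))
 (.fork (.fork (.one (.edge 5 (wOf 26 0x5432136432534123123123454) 8 (wOf 14 0x61230123452346)))
 (.one (.stab 0 [])))
 (.fork (.one (.edge 5 (wOf 25 0x354321032534583452312342) 5 (wOf 16 0x623123468632301)))
 (.one (.stab 0 [])))))
 (.fork (.fork (.fork (.one (.edge 8 (wOf 26 0x12132132432643123458541201) 6 [1,3,2,5,8]))
 (.one (.stab 0 [])))
 (.fork (.one (.edge 5 (wOf 25 0x1343213210546345852341230) 5 (wOf 19 0x213468345234623120)))
 (.one (.stab 0 []))))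
 (.fork (.fork (.one (.edge 5 (wOf 22 0x217543645234123123453) 8 [0,3,4,3,2,1,0,3,2,7,5]))
 (.one (.stab 0 [])))
 (.fork (.one (.edge 5 (wOf 14 0x85312345123464) 5 (wOf 15 0x845234601234520)))
 (.one (.stab 0 []))))))
 (.fork (.fork (.fork (.fork (.one (.edge 7 (wOf 17 0x10346234532346612) 4 (wOf 17 0x3646234661232346)))
 (.one (.stab 0 [])))
 (.fork (.one (.edge 5 (wOf 19 0x2432546346123455232) 5 (wOf 15 0x452345012345343)))
 (.one (.stab 0 []))))
 (.fork (.fork (.one (.edge 5 (wOf 23 0x1254321534572346234232) 6 [0,3,2,1,0,5,4,3,2,7,6]))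
 (.one (.stab 0 [])))
 (.fork (.one (.edge 5 (wOf 28 0x1023664321354573234512346420) 5 (wOf 13 0x2301234632312)))
 (.one (.stab 0 [])))))
 (.fork (.fork (.fork (.one (.edge 5 (wOf 24 0x323543643862346123423121) 6 (wOf 15 0x646623455012320)))
 (.one (.stab 0 [])))
 (.fork (.one (.edge 5 (wOf 26 0x32325432136464323461234620) 5 (wOf 17 0x2631234686342310)))
 (.one (.stab 0 []))))
 (.fork (.fork (.one (.edge 5 (wOf 22 0x2354321753423234545431) 5 (wOf 16 0x623461234673230)))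
 (.one (.stab 0 [])))
 (.fork (.one (.edge 9 (wOf 25 0x2324325432553453123464121) 5 (wOf 15 0x646312345534301)))
 (.one (.stab 0 [])))))))
 (.fork (.fork (.fork (.fork (.fork (.one (.edge 5 (wOf 16 0x5457323453234534) 6 [0,5,4,3,7,5,4,3,2,6]))
 (.one (.edge 9 (wOf 27 0x364323485432312345234523421) 9 [3,2,3,2,1,0,6,4,3,2,7,6])))
 (.fork (.one (.edge 5 (wOf 26 0x1021464323646342312346731) 5 (wOf 17 0x32631234512346231)))
 (.one (.stab 0 []))))
 (.fork (.fork (.one (.edge 5 (wOf 27 0x102321432543754623123467312) 6 [0,6,6,4,3,2,1,0,3,2,4,6]))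
 (.one (.stab 0 [])))
 (.fork (.one (.edge 5 (wOf 25 0x132136432674312346412320) 5 [3,5,4,3,2,1,0,8,5,4,3,2]))
 (.one (.stab 0 [])))))
 (.fork (.fork (.fork (.one (.edge 5 (wOf 22 0x121321764534552343210) 3 [3,2,1,3,2,1,0,8,6]))
 (.one (.stab 0 [])))
 (.fork (.one (.edge 5 (wOf 19 0x2554634623123463123) 5 (wOf 18 0x21663234523234512)))
 (.one (.stab 0 []))))
 (.fork (.fork (.one (.edge 5 (wOf 26 0x10213232154753234523461230) 6 [0,3,2,1,0,4,3,2,5,5,7]))
 (.one (.stab 0 [])))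
 (.fork (.one (.edge 5 (wOf 24 0x102134764632346123463123) 5 (wOf 17 0x32573462312345530)))
 (.one (.stab 0 []))))))
 (.fork (.fork (.fork (.fork (.one (.edge 5 (wOf 23 0x32134323554523452346723) 4 [4,5,4,3,2,1,3,2,1,0,7]))
 (.one (.stab 0 [])))
 (.fork (.one (.edge 5 (wOf 25 0x6432364321534523452323457) 5 (wOf 14 0x57346123453232)))
 (.one (.stab 0 []))))
 (.fork (.fork (.one (.edge 5 (wOf 25 0x1232432154534623468123231) 5 (wOf 14 0x62346601234550)))
 (.one (.stab 0 [])))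
 (.fork (.one (.edge 5 (wOf 26 0x1432136432346123457323012) 5 (wOf 16 0x467231234634010)))
 (.one (.stab 0 [])))))
 (.fork (.fork (.fork (.one (.edge 5 (wOf 25 0x864321543554623458123462) 7 (wOf 15 0x12345451234542)))
 (.one (.stab 0 [])))
 (.fork (.one (.edge 5 (wOf 13 0x7601234662323) 5 (wOf 14 0x64623012345732)))
 (.one (.stab 0 []))))
 (.fork (.fork (.one (.edge 5 (wOf 27 0x10213213754534523454123210) 5 [4,3,2,1,6,4,3,2,1,0]))
 (.one (.stab 0 [])))
 (.fork (.one (.edge 9 (wOf 25 0x3435432321864632345234510) 8 [1,4,3,2,1,0,7,6,4,3,2,6]))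
 (.one (.stab 0 []))))))))

/-- a part of the facts -/
noncomputable def twFactsT7 : BT Fact := (.fork (.fork (.fork (.fork (.fork (.fork (.one (.edge 2 [0,3,2,3,4,3,6,4,6,7] 2 [0,3,6,4,3,2]))
 (.one (.edge 5 (wOf 20 0x32643864532346231231) 9 [0,3,2,7,6])))
 (.fork (.one (.edge 5 (wOf 22 0x124364553234323123460) 5 (wOf 16 0x523123458345323)))
 (.one (.stab 0 []))))
 (.fork (.fork (.one (.edge 5 (wOf 27 0x132554321325463462345812310) 6 [0,1,0,5,4,3,6,6]))
 (.one (.stab 0 [])))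
 (.fork (.one (.edge 5 (wOf 26 0x10216432643554231231234554) 5 [0,2,1,0,6,4,3,2,6]))
 (.one (.stab 0 [])))))
 (.fork (.fork (.fork (.one (.edge 5 (wOf 25 0x126432103462345853123123) 8 [0,4,5,4,3,2]))
 (.one (.stab 0 [])))
 (.fork (.one (.edge 5 (wOf 23 0x13213213646832345432346) 5 (wOf 14 0x23012345734012)))
 (.one (.stab 0 []))))
 (.fork (.fork (.one (.edge 6 (wOf 18 0x102663412323431230) 6 [1,3,2,6,6]))
 (.one (.stab 0 [])))
 (.fork (.one (.edge 5 (wOf 26 0x2154326432631234543234532) 5 (wOf 16 0x623123457345123)))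
 (.one (.stab 0 []))))))
 (.fork (.fork (.fork (.fork (.one (.edge 5 (wOf 22 0x6432132554634323123453) 8 [0,4,5,4,3,2,1,0,3,2,5,5]))
 (.one (.stab 0 [])))
 (.fork (.one (.edge 5 (wOf 23 0x1432364853423234612346) 5 (wOf 17 0x1646323457234232)))
 (.one (.stab 0 []))))
 (.fork (.fork (.one (.edge 5 (wOf 28 0x267643216432546346612346010) 5 (wOf 17 0x2663461234572323)))
 (.one (.stab 0 [])))
 (.fork (.one (.edge 5 (wOf 23 0x21643217546345234581230) 5 (wOf 15 0x846231234643012)))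
 (.one (.stab 0 [])))))
 (.fork (.fork (.fork (.one (.edge 5 (wOf 23 0x10432164863452346123120) 3 [2,3,2,1,0,5,4,3,2,5,5,7]))
 (.one (.stab 0 [])))
 (.fork (.one (.edge 5 (wOf 20 0x1321432345512345521) 5 [0,2,7,6,4,3,2,1,6,4,3,2]))
 (.one (.stab 0 []))))
 (.fork (.fork (.one (.edge 5 (wOf 25 0x124376432346423123464210) 5 (wOf 15 0x645723451234532)))
 (.one (.stab 0 [])))
 (.fork (.one (.edge 9 (wOf 21 0x321321545346823012310) 6 [0,1,3,2,4,6,7]))
 (.one (.stab 0 [])))))))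
 (.fork (.fork (.fork (.fork (.fork (.one (.edge 6 [2,5,8,5,4] 5 [0,6,6,6,4]))
 (.one (.edge 9 (wOf 23 0x21854323646823423123010) 5 (wOf 13 0x7545345701230))))
 (.fork (.one (.edge 5 (wOf 27 0x46432132432634681234643232) 5 (wOf 14 0x58523123453410)))
 (.one (.stab 0 []))))
 (.fork (.fork (.one (.edge 5 (wOf 24 0x12325432574631234512301) 6 [4,3,2,1,6,6,4,3,5,4]))
 (.one (.stab 0 [])))
 (.fork (.one (.edge 5 (wOf 26 0x1210354323864532312346823) 5 (wOf 15 0x672301234534623)))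
 (.one (.stab 0 [])))))
 (.fork (.fork (.fork (.one (.edge 5 (wOf 18 0x132546632312340123) 8 [2,3,5,4,3,2,1,0,6,4,3,2]))
 (.one (.stab 0 [])))
 (.fork (.one (.edge 5 (wOf 24 0x643264321664534662345120) 5 (wOf 14 0x55230123454310)))
 (.one (.stab 0 []))))
 (.fork (.fork (.one (.edge 7 (wOf 19 0x1321546346232345312) 5 [0,1,2,1,0,6,4,3,2,5,4,6]))
 (.one (.stab 0 [])))
 (.fork (.one (.edge 5 (wOf 20 0x10321853234523123453) 5 [1,0,7,5]))
 (.one (.stab 0 []))))))
 (.fork (.fork (.fork (.fork (.one (.edge 6 (wOf 24 0x234323575432312345012346) 7 (wOf 13 0x6723012346232)))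
 (.one (.stab 0 [])))
 (.fork (.one (.edge 5 (wOf 24 0x355543213467234123012345) 5 [1,0,6,4,3,7,6,4,3,2,1,0]))
 (.one (.stab 0 []))))
 (.fork (.fork (.one (.edge 5 (wOf 25 0x1321464321534523458523461) 3 [0,2,3,2,1,0,4,3,2,8,6,4]))
 (.one (.stab 0 [])))
 (.fork (.one (.edge 5 (wOf 24 0x123235432674534512345401) 5 (wOf 13 0x2345712346340)))
 (.one (.stab 0 [])))))
 (.fork (.fork (.fork (.one (.edge 5 (wOf 21 0x664321674323463231232) 6 [1,4,7,5,4,3,2]))
 (.one (.stab 0 [])))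
 (.fork (.one (.edge 5 (wOf 25 0x2103237643646234231231210) 5 (wOf 13 0x6230123458340)))
 (.one (.stab 0 []))))
 (.fork (.fork (.one (.edge 5 (wOf 22 0x2435486432312346342320) 5 [1,0,3,6,8,6,4,3,2,1,3,2]))
 (.one (.stab 0 [])))
 (.fork (.one (.edge 9 (wOf 24 0x123854321634623452345410) 5 (wOf 14 0x23454501234620)))
 (.one (.stab 0 []))))))))

/-- a part of the facts -/
noncomputable def twFactsT8 : BT Fact := (.fork (.fork (.fork (.fork (.fork (.fork (.one (.edge 6 [] 1 [1,0,3,2,5,5,7]))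
 (.one (.edge 9 (wOf 24 0x15432155453452346612346) 5 (wOf 14 0x76345123461231))))
 (.fork (.one (.edge 5 (wOf 25 0x2135432154532346312346340) 5 (wOf 13 0x6234501234630)))
 (.one (.stab 0 []))))
 (.fork (.fork (.one (.edge 5 (wOf 22 0x543235458323461232341) 8 [1,7,5,4,5,4,3,2]))
 (.one (.stab 0 [])))
 (.fork (.one (.edge 5 (wOf 28 0x324326432164534623467123452) 5 [3,2,1,0,6,6,4,3,2]))
 (.one (.stab 0 [])))))
 (.fork (.fork (.fork (.one (.edge 8 (wOf 21 0x43264573452345234642) 8 [3,2,7,6]))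
 (.one (.stab 0 [])))
 (.fork (.one (.edge 5 (wOf 23 0x1023216645734231234123) 5 [5,4,5,4,3,2,1,0,3,2,5]))
 (.one (.stab 0 []))))
 (.fork (.fork (.one (.edge 5 (wOf 24 0x123435432643123466340120) 5 (wOf 16 0x462346712346320)))
 (.one (.stab 0 [])))
 (.fork (.one (.edge 5 (wOf 24 0x243234643542312346863123) 5 (wOf 18 0x210346345323468323)))
 (.one (.stab 0 []))))))
 (.fork (.fork (.fork (.fork (.one (.edge 6 (wOf 22 0x2104321346234663423121) 5 (wOf 14 0x23468450123210)))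
 (.one (.stab 0 [])))
 (.fork (.one (.edge 5 (wOf 23 0x13213243762312346723231) 5 (wOf 16 0x623452345512345)))
 (.one (.stab 0 []))))
 (.fork (.fork (.one (.edge 5 (wOf 24 0x386432135453234631234554) 6 (wOf 13 0x6234673012340)))
 (.one (.stab 0 [])))
 (.fork (.one (.edge 5 (wOf 26 0x2103543213646623234612301) 5 (wOf 16 0x646231234573230)))
 (.one (.stab 0 [])))))
 (.fork (.fork (.fork (.one (.edge 5 (wOf 27 0x137643232164532345346123210) 8 (wOf 15 0x680123463451230)))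
 (.one (.stab 0 [])))
 (.fork (.one (.edge 5 (wOf 25 0x232643216646323453462342) 5 (wOf 17 0x2645312345532301)))
 (.one (.stab 0 []))))
 (.fork (.fork (.one (.edge 5 (wOf 24 0x102134364732345432312301) 5 [1,3,2,1,6,4,3,2,1,0,5,8]))
 (.one (.stab 0 [])))
 (.fork (.one (.edge 9 (wOf 25 0x1032137543623462345123121) 5 (wOf 16 0x674612346123420)))
 (.one (.stab 0 [])))))))
 (.fork (.fork (.fork (.fork (.fork (.one (.edge 8 (wOf 26 0x3210321343723454123231234) 6 [0,1,0,2,5,5,7]))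
 (.one (.edge 10 (wOf 21 0x125432531234231234555) 9 [0,3,2,1,0,5,4,8,5,4,3,2])))
 (.fork (.one (.edge 5 (wOf 24 0x25432155453462346123234) 5 (wOf 15 0x684230123454323)))
 (.one (.stab 0 []))))
 (.fork (.fork (.one (.edge 5 (wOf 25 0x1021432543545823123452312) 8 (wOf 17 0x1745234612343010)))
 (.one (.stab 0 [])))
 (.fork (.one (.edge 5 (wOf 25 0x1021364321634643234323120) 5 (wOf 14 0x52346123462343)))
 (.one (.stab 0 [])))))
 (.fork (.fork (.fork (.one (.edge 5 (wOf 22 0x4325543234681234623010) 6 [0,4,6,6,4,3,2,1,0,5]))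
 (.one (.stab 0 [])))
 (.fork (.one (.edge 5 (wOf 23 0x1054323545832345341230) 5 (wOf 14 0x58512346123460)))
 (.one (.stab 0 []))))
 (.fork (.fork (.one (.edge 5 (wOf 26 0x24327543254634623123453421) 6 [0,2,1,4,6,6,4,3,2,1,5]))
 (.one (.stab 0 [])))
 (.fork (.one (.edge 5 (wOf 22 0x6432164832312346323453) 5 (wOf 13 0x4623463123463)))
 (.one (.stab 0 []))))))
 (.fork (.fork (.fork (.fork (.one (.edge 5 (wOf 26 0x1215432103466234623461210) 8 (wOf 13 0x5723450123431)))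
 (.one (.stab 0 [])))
 (.fork (.one (.edge 5 (wOf 26 0x14321326432543234612346720) 5 [2,5,4,3,2,1,0,5,4,3,6,6]))
 (.one (.stab 0 []))))
 (.fork (.fork (.one (.edge 5 (wOf 21 0x364321646346234523401) 5 (wOf 13 0x2346012346423)))
 (.one (.stab 0 [])))
 (.fork (.one (.edge 5 (wOf 19 0x3213545723451234010) 5 (wOf 15 0x523012345843120)))
 (.one (.stab 0 [])))))
 (.fork (.fork (.fork (.one (.edge 5 (wOf 28 0x213213264321646346723431232) 8 [0,1,3,2,1,0,5,4,6]))
 (.one (.stab 0 [])))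
 (.fork (.one (.edge 5 (wOf 23 0x10554321323467323455312) 5 (wOf 15 0x462345012345812)))
 (.one (.stab 0 []))))
 (.fork (.fork (.one (.edge 5 (wOf 26 0x10643266432646346712345234) 5 [3,6,4,3,2,1,0,3,2,6,4]))
 (.one (.stab 0 [])))
 (.fork (.one (.edge 9 (wOf 26 0x1021343232574531234123121) 9 [0,1,0,5,4,3,2,5,5,7]))
 (.one (.stab 0 []))))))))

/-- a part of the facts -/
noncomputable def twFactsT9 : BT Fact := (.fork (.fork (.fork (.fork (.fork (.fork (.one (.edge 1 [] 0 [0,2]))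
 (.one (.edge 5 (wOf 25 0x2143232104632346341232312) 9 [0,2,1,0,3,4,7,6,4,3,2,5])))
 (.fork (.one (.edge 5 (wOf 26 0x2186432132463451234323123) 5 [3,2,1,0,4,5,4,3,2,5]))
 (.one (.stab 0 []))))
 (.fork (.fork (.one (.edge 5 (wOf 18 0x43666234123234646) 5 [2,1,6,4,3,2,7,6]))
 (.one (.stab 0 [])))
 (.fork (.one (.edge 5 (wOf 26 0x1243210764534523452346712) 5 (wOf 13 0x2345450123467)))
 (.one (.stab 0 [])))))
 (.fork (.fork (.fork (.one (.edge 5 (wOf 22 0x132554683234631231231) 6 [1,0,7,6,4,3,2]))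
 (.one (.stab 0 [])))
 (.fork (.one (.edge 5 (wOf 23 0x32321454323123464634120) 5 (wOf 13 0x2312346645323)))
 (.one (.stab 0 []))))
 (.fork (.fork (.one (.edge 5 (wOf 24 0x104554321634623452345412) 6 [0,1,0,3,2,5,5,7]))
 (.one (.stab 0 [])))
 (.fork (.one (.edge 5 (wOf 23 0x1023243645734231230120) 5 (wOf 13 0x5734601234663)))
 (.one (.stab 0 []))))))
 (.fork (.fork (.fork (.fork (.one (.edge 8 (wOf 26 0x1032147543234661234231231) 3 [0,2,3,2,1,4,3,2]))
 (.one (.stab 0 [])))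
 (.fork (.one (.edge 5 (wOf 26 0x2321476432646346123451234) 5 (wOf 17 0x2854312345453432)))
 (.one (.stab 0 []))))
 (.fork (.fork (.one (.edge 5 (wOf 25 0x1232103264853462346123450) 8 [3,4,3,2,1,3,2,1,6,4,6]))
 (.one (.stab 0 [])))
 (.fork (.one (.edge 5 (wOf 25 0x432164325463457234531232) 5 (wOf 16 0x234612346342320)))
 (.one (.stab 0 [])))))
 (.fork (.fork (.fork (.one (.edge 5 (wOf 21 0x432132553452312345342) 7 [0,2,3,6,4,3,2,1,0,3,7,6]))
 (.one (.stab 0 [])))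
 (.fork (.one (.edge 5 (wOf 23 0x21643232645345823123401) 5 (wOf 16 0x762312345323010)))
 (.one (.stab 0 []))))
 (.fork (.fork (.one (.edge 5 (wOf 18 0x216432345523123464) 8 [0,3,6]))
 (.one (.stab 0 [])))
 (.fork (.one (.edge 9 (wOf 23 0x13432132645534523451232) 5 [3,2,4,3,6,4,3,2,1,0,3]))
 (.one (.stab 0 [])))))))
 (.fork (.fork (.fork (.fork (.fork (.one (.edge 5 (wOf 24 0x13234321323453234683234) 7 [1,0,5,4,3,5,8]))
 (.one (.edge 9 (wOf 25 0x3664323216432345512345010) 5 [6,6,6,4,3,2,1,0,3,2])))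
 (.fork (.one (.edge 5 (wOf 26 0x43210643213458423234531230) 5 (wOf 14 0x23450123468632)))
 (.one (.stab 0 []))))
 (.fork (.fork (.one (.edge 5 (wOf 20 0x12132634674312301230) 5 (wOf 17 0x1623461234682323)))
 (.one (.stab 0 [])))
 (.fork (.one (.edge 5 (wOf 23 0x1235543523461234682301) 5 (wOf 14 0x74630123463423)))
 (.one (.stab 0 [])))))
 (.fork (.fork (.fork (.one (.edge 5 (wOf 17 0x13852312346312342) 6 [4,5,4,3,2,1,0,3,2,6,7]))
 (.one (.stab 0 [])))
 (.fork (.one (.edge 5 (wOf 21 0x86432312345843234612) 5 (wOf 14 0x75452312345832)))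
 (.one (.stab 0 []))))
 (.fork (.fork (.one (.edge 5 (wOf 22 0x4323215546346623451232) 5 (wOf 15 0x572301234643012)))
 (.one (.stab 0 [])))
 (.fork (.one (.edge 5 (wOf 24 0x132104643546234523453123) 5 (wOf 14 0x67462346123210)))
 (.one (.stab 0 []))))))
 (.fork (.fork (.fork (.fork (.one (.edge 5 (wOf 19 0x3432346432346661201) 7 [0,3,2,1,0,6,4,3,6,6,4]))
 (.one (.stab 0 [])))
 (.fork (.one (.edge 5 (wOf 26 0x2104321543523454123234632) 5 [0,3,2,1,0,5,5,4,3,2,5,8]))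
 (.one (.stab 0 []))))
 (.fork (.fork (.one (.edge 5 (wOf 24 0x21323438543234661234232) 7 (wOf 17 0x2554534612345320)))
 (.one (.stab 0 [])))
 (.fork (.one (.edge 5 (wOf 27 0x132466432132463468232312346) 5 (wOf 17 0x2631234663452342)))
 (.one (.stab 0 [])))))
 (.fork (.fork (.fork (.one (.edge 3 (wOf 23 0x2132132575453231234532) 3 (wOf 14 0x63460123423010)))
 (.one (.stab 0 [])))
 (.fork (.one (.edge 5 (wOf 21 0x12432545345232346812) 5 (wOf 19 0x210346632345323432)))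
 (.one (.stab 0 []))))
 (.fork (.fork (.one (.edge 5 (wOf 25 0x102432154863234231234510) 5 [0,3,7,5,4,3,2,1,0,3,2,6]))
 (.one (.stab 0 [])))
 (.fork (.one (.edge 9 (wOf 25 0x455432132345342312346730) 5 (wOf 16 0x1532345234673232)))
 (.one (.stab 0 []))))))))

/-- a part of the facts -/
noncomputable def twFactsT10 : BT Fact := (.fork (.fork (.fork (.fork (.fork (.fork (.one (.stab 4 (wOf 15 0x823423231234210)))
 (.one (.edge 9 (wOf 23 0x23235432345123467423210) 5 (wOf 16 0x452312345453120))))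
 (.fork (.one (.edge 5 (wOf 23 0x21343643234512345341201) 5 (wOf 16 0x852312345123234)))
 (.one (.stab 0 []))))
 (.fork (.fork (.one (.edge 5 (wOf 24 0x432154326453234531234523) 8 (wOf 14 0x64230123468450)))
 (.one (.stab 0 [])))
 (.fork (.one (.edge 5 (wOf 19 0x1343234512301234670) 5 [7,6,4,3,2,1,0,3,5,8]))
 (.one (.stab 0 [])))))
 (.fork (.fork (.fork (.one (.edge 5 (wOf 16 0x1746234630123430) 5 (wOf 13 0x6012346712312)))
 (.one (.stab 0 [])))
 (.fork (.one (.edge 5 (wOf 27 0x246432132432346463123462310) 5 (wOf 14 0x43012346643012)))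
 (.one (.stab 0 []))))
 (.fork (.fork (.one (.edge 5 (wOf 21 0x10232854531234581210) 8 (wOf 13 0x5723460123430)))
 (.one (.stab 0 [])))
 (.fork (.one (.edge 5 (wOf 24 0x104321324863452312345853) 5 [0,4,5,4,3,2,1,6,4,3,6,4]))
 (.one (.stab 0 []))))))
 (.fork (.fork (.fork (.fork (.one (.edge 8 (wOf 20 0x32455432345123458521) 3 [0,3,2,1,0,3,2]))
 (.one (.stab 0 [])))
 (.fork (.one (.edge 5 (wOf 25 0x132143235453453234612340) 5 (wOf 17 0x2663461234523012)))
 (.one (.stab 0 []))))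
 (.fork (.fork (.one (.edge 5 (wOf 25 0x321432103754634623461231) 6 [0,1,2,1,0,8,5,4,3,2,5]))
 (.one (.stab 0 [])))
 (.fork (.one (.edge 5 (wOf 20 0x4321553463234523466) 5 (wOf 15 0x862345123463230)))
 (.one (.stab 0 [])))))
 (.fork (.fork (.fork (.one (.edge 8 (wOf 21 0x486432534231234542310) 6 [0,3,2,1,0,5,4,3,2,5,8]))
 (.one (.stab 0 [])))
 (.fork (.one (.edge 5 (wOf 22 0x3213432546345234583120) 5 (wOf 16 0x2345312345323120)))
 (.one (.stab 0 []))))
 (.fork (.fork (.one (.edge 5 (wOf 24 0x104543216453423123457120) 5 (wOf 13 0x2312346645320)))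
 (.one (.stab 0 [])))
 (.fork (.one (.stab 9 (wOf 21 0x213215463234612346232)))
 (.one (.stab 0 [])))))))
 (.fork (.fork (.fork (.fork (.fork (.one (.edge 5 (wOf 13 0x3458450123012) 8 (wOf 23 0x43264321546734623454210)))
 (.one (.edge 9 (wOf 19 0x3232546463423123121) 9 [1,0,2,1,3,2,4,6,4,8,5])))
 (.fork (.one (.edge 5 (wOf 22 0x2343285432312345234120) 5 (wOf 16 0x234512346623412)))
 (.one (.stab 0 []))))
 (.fork (.fork (.one (.edge 5 (wOf 23 0x23643210734523451234540) 6 [1,0,5,4,3,2,5,4,6]))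
 (.one (.stab 0 [])))
 (.fork (.one (.edge 5 (wOf 24 0x23432105463234673123453) 5 (wOf 18 0x213523468123464231)))
 (.one (.stab 0 [])))))
 (.fork (.fork (.fork (.one (.edge 5 (wOf 22 0x4327543623467312346301) 8 [2,3,5,5,7]))
 (.one (.stab 0 [])))
 (.fork (.one (.edge 5 (wOf 23 0x13254321553423012345510) 5 (wOf 15 0x234545123462345)))
 (.one (.stab 0 []))))
 (.fork (.fork (.one (.edge 5 (wOf 23 0x12432554532345312345120) 6 [0,3,2,1,6,4,3,2,1,0,6,7]))
 (.one (.stab 0 [])))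
 (.fork (.one (.edge 5 (wOf 20 0x64323554623467123120) 5 (wOf 13 0x2301234664231)))
 (.one (.stab 0 []))))))
 (.fork (.fork (.fork (.fork (.one (.edge 5 (wOf 23 0x21324543234123234674120) 3 [0,2,3,2,1,0,4,3,2,7,6]))
 (.one (.stab 0 [])))
 (.fork (.one (.edge 5 (wOf 26 0x1216432354534672346123466) 5 (wOf 13 0x6234585012320)))
 (.one (.stab 0 []))))
 (.fork (.fork (.one (.edge 5 (wOf 22 0x3264321574323463123454) 5 [2,1,0,6,4,3,7,5]))
 (.one (.stab 0 [])))
 (.fork (.one (.edge 5 (wOf 28 0x1213247643216453234612346723) 5 (wOf 14 0x60123451232310)))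
 (.one (.stab 0 [])))))
 (.fork (.fork (.fork (.one (.edge 5 (wOf 21 0x243643823123453423210) 7 (wOf 16 0x234673123463420)))
 (.one (.stab 0 [])))
 (.fork (.one (.edge 5 (wOf 24 0x104325432664534671231210) 5 (wOf 21 0x21321663452346812323)))
 (.one (.stab 0 []))))
 (.fork (.fork (.one (.edge 5 (wOf 26 0x1432543216743234541231201) 5 [0,4,3,2,1,0,6,4,3,2,7,6]))
 (.one (.stab 0 [])))
 (.fork (.one (.edge 9 (wOf 24 0x123643764323461234612342) 8 (wOf 13 0x7523464012320)))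
 (.one (.stab 0 []))))))))

/-- a part of the facts -/
noncomputable def twFactsT11 : BT Fact := (.fork (.fork (.fork (.fork (.fork (.fork (.one (.edge 2 (wOf 20 0x3543546623462346232) 2 [0,3,2,6]))
 (.one (.edge 5 (wOf 27 0x102324643543523123458234523) 9 [3,4,3,2,1,0,3,6,4,3,2,6])))
 (.fork (.one (.edge 5 (wOf 24 0x321032106432345412323467) 5 (wOf 15 0x753453012345832)))
 (.one (.stab 0 []))))
 (.fork (.fork (.one (.edge 5 (wOf 24 0x102132143645232312346830) 6 [0,2,1,0,5,4,3,2,6,4,6]))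
 (.one (.stab 0 [])))
 (.fork (.one (.edge 5 (wOf 24 0x123432132634571234552321) 5 (wOf 15 0x234012323467432)))
 (.one (.stab 0 [])))))
 (.fork (.fork (.fork (.one (.edge 5 (wOf 26 0x13232543235432312346842323) 8 [2,1,3,6]))
 (.one (.stab 0 [])))
 (.fork (.one (.edge 5 (wOf 24 0x25432154663423123463432) 5 (wOf 19 0x213574623451230120)))
 (.one (.stab 0 []))))
 (.fork (.fork (.one (.edge 5 (wOf 28 0x1254326432543682312342312345) 6 (wOf 13 0x4623455012320)))
 (.one (.stab 0 [])))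
 (.fork (.one (.edge 5 (wOf 23 0x21321076453452312346630) 5 [0,4,3,2,1,0,6,4,3,6,6,4]))
 (.one (.stab 0 []))))))
 (.fork (.fork (.fork (.fork (.one (.edge 6 (wOf 21 0x432324634532312345012) 7 (wOf 15 0x523460123453120)))
 (.one (.stab 0 [])))
 (.fork (.one (.edge 5 (wOf 26 0x12321676432534631234232310) 5 (wOf 14 0x1234523457342)))
 (.one (.stab 0 []))))
 (.fork (.fork (.one (.edge 5 (wOf 22 0x143210346643231234530) 5 (wOf 13 0x6723450123210)))
 (.one (.stab 0 [])))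
 (.fork (.one (.edge 5 (wOf 23 0x32175432645342312345412) 5 (wOf 18 0x21674534623453123)))
 (.one (.stab 0 [])))))
 (.fork (.fork (.fork (.one (.edge 5 (wOf 25 0x121664321646323412323467) 8 [3,4,3,2,1,3,2,1,0,7,6]))
 (.one (.stab 0 [])))
 (.fork (.one (.edge 5 (wOf 25 0x321343854323466123460123) 5 (wOf 15 0x674301234554323)))
 (.one (.stab 0 []))))
 (.fork (.fork (.one (.edge 5 (wOf 24 0x43216455432346123234534) 5 [2,3,6,4,3,2,1,0,3,6]))
 (.one (.stab 0 [])))
 (.fork (.one (.edge 9 (wOf 26 0x12186432543584231234501201) 6 [2,1,0,4,7,5,4,3,2,6]))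
 (.one (.stab 0 [])))))))
 (.fork (.fork (.fork (.fork (.fork (.one (.edge 4 [5,4,3,2,5] 8 (wOf 20 0x2103234631234501201)))
 (.one (.edge 9 (wOf 20 0x14385453234612346232) 5 [1,6,4,6,4,3,6,4])))
 (.fork (.one (.edge 5 (wOf 24 0x123213643642312345734510) 5 [3,2,1,3,2,6,6,6]))
 (.one (.stab 0 []))))
 (.fork (.fork (.one (.edge 5 (wOf 22 0x3214327546345231234623) 6 [2,1,0,5,4,3,6,4,3,2]))
 (.one (.stab 0 [])))
 (.fork (.one (.edge 5 (wOf 23 0x10213254534632343231231) 5 (wOf 15 0x672301234532301)))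
 (.one (.stab 0 [])))))
 (.fork (.fork (.fork (.one (.edge 5 (wOf 25 0x123213243664532345812323) 8 [5,4,7,6,4,3,2,1,0]))
 (.one (.stab 0 [])))
 (.fork (.one (.edge 5 (wOf 26 0x34323464321323462345412312) 5 (wOf 15 0x623401232345343)))
 (.one (.stab 0 []))))
 (.fork (.fork (.one (.edge 5 (wOf 24 0x213215436843234612345430) 5 (wOf 16 0x662312345832343)))
 (.one (.stab 0 [])))
 (.fork (.one (.edge 5 (wOf 24 0x12343254632346612323458) 5 (wOf 13 0x2345012345523)))
 (.one (.stab 0 []))))))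
 (.fork (.fork (.fork (.fork (.one (.edge 8 (wOf 16 0x231234630123457) 6 [2,1,0,6,4,3,6,7]))
 (.one (.stab 0 [])))
 (.fork (.one (.edge 5 (wOf 23 0x2543254634231234674512) 5 [0,2,3,2,1,4,7,5,4,3,2]))
 (.one (.stab 0 []))))
 (.fork (.fork (.one (.edge 5 (wOf 26 0x43235543235463231234523461) 8 (wOf 15 0x672346234612320)))
 (.one (.stab 0 [])))
 (.fork (.one (.edge 5 (wOf 23 0x21032134634632345312010) 5 (wOf 14 0x75523450123010)))
 (.one (.stab 0 [])))))
 (.fork (.fork (.fork (.one (.edge 5 (wOf 25 0x2145432321453452323453120) 6 [0,2,1,0,4,7,5,4,3,6]))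
 (.one (.stab 0 [])))
 (.fork (.one (.edge 5 (wOf 25 0x1021543264534623467123432) 5 (wOf 15 0x723460123454320)))
 (.one (.stab 0 []))))
 (.fork (.fork (.one (.edge 5 (wOf 26 0x14643215432545345123453234) 5 (wOf 15 0x462346012345830)))
 (.one (.stab 0 [])))
 (.fork (.one (.edge 9 (wOf 25 0x132166432534612342312343) 5 (wOf 18 0x10466234623457234)))
 (.one (.stab 0 []))))))))

/-- a part of the facts -/
noncomputable def twFactsT12 : BT Fact := (.fork (.fork (.fork (.fork (.fork (.fork (.one (.edge 3 (wOf 17 0x21663423012346840) 3 (wOf 15 0x234673401230123)))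
 (.one (.edge 9 (wOf 24 0x106432175463234534612312) 5 [6,4,3,2,1,5,4,5,4,3,2,1])))
 (.fork (.one (.edge 5 (wOf 23 0x21064321534543234312321) 5 (wOf 13 0x7545234661230)))
 (.one (.stab 0 []))))
 (.fork (.fork (.one (.edge 5 (wOf 20 0x2143546323461232345) 8 (wOf 13 0x2345746012341)))
 (.one (.stab 0 [])))
 (.fork (.one (.edge 5 (wOf 24 0x210643213545323458423210) 5 (wOf 16 0x123461234663230)))
 (.one (.stab 0 [])))))
 (.fork (.fork (.fork (.one (.edge 6 (wOf 21 0x12134532346312346801) 8 [0,2,6,4,3,2,1,0]))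
 (.one (.stab 0 [])))
 (.fork (.one (.edge 5 (wOf 26 0x1235432164634672342323123) 5 [0,4,5,4,3,2,1,0,3,2,5]))
 (.one (.stab 0 []))))
 (.fork (.fork (.one (.edge 5 (wOf 21 0x213213645852323453412) 4 [1,5,4,3,2,7,6]))
 (.one (.stab 0 [])))
 (.fork (.one (.edge 5 (wOf 25 0x4643213243672345123464231) 5 (wOf 13 0x6623012345532)))
 (.one (.stab 0 []))))))
 (.fork (.fork (.fork (.fork (.one (.edge 5 (wOf 21 0x23764632346123452312) 3 [3,2,1,5,4,3,5,8]))
 (.one (.stab 0 [])))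
 (.fork (.one (.edge 5 (wOf 27 0x85432132432546342312345210) 5 (wOf 15 0x452346123457234)))
 (.one (.stab 0 []))))
 (.fork (.fork (.one (.edge 5 (wOf 22 0x4643213545234674231201) 6 [1,0,2,3,2,1,6,4,3,2,6,6]))
 (.one (.stab 0 [])))
 (.fork (.one (.edge 5 (wOf 25 0x137643216453234512345231) 5 (wOf 17 0x2634523461234682)))
 (.one (.stab 0 [])))))
 (.fork (.fork (.fork (.one (.edge 5 (wOf 25 0x1032343554323123452346123) 7 (wOf 13 0x2345830123462)))
 (.one (.stab 0 [])))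
 (.fork (.one (.edge 5 (wOf 24 0x123255432546312312345512) 5 (wOf 15 0x462312345853234)))
 (.one (.stab 0 []))))
 (.fork (.fork (.one (.edge 5 (wOf 27 0x12103255432646312342312340) 6 [5,4,3,2,1,0,5,4,3,2,7,6]))
 (.one (.stab 0 [])))
 (.fork (.one (.edge 9 (wOf 23 0x1032154863462345234323) 5 (wOf 16 0x231234663452320)))
 (.one (.stab 0 [])))))))
 (.fork (.fork (.fork (.fork (.fork (.one (.edge 5 (wOf 17 0x21553452301234530) 3 [0,2,3,5,8]))
 (.one (.edge 10 (wOf 25 0x1023286432546312345534231) 5 (wOf 14 0x64523455012301))))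
 (.fork (.one (.edge 5 (wOf 23 0x1210321453234584312341) 5 (wOf 13 0x6723012346342)))
 (.one (.stab 0 []))))
 (.fork (.fork (.one (.edge 5 (wOf 27 0x10210643264673423123464320) 7 [0,3,6,4,3,2,1,3,2,4,7]))
 (.one (.stab 0 [])))
 (.fork (.one (.edge 5 (wOf 18 0x102853452312345712) 5 (wOf 17 0x2345123467341231)))
 (.one (.stab 0 [])))))
 (.fork (.fork (.fork (.one (.edge 5 (wOf 18 0x103234612346323450) 6 [0,1,3,2,1,0,4,3,2]))
 (.one (.stab 0 [])))
 (.fork (.one (.edge 5 (wOf 25 0x436432132746432346345231) 5 [1,4,7,6,4,3,2,1,5]))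
 (.one (.stab 0 []))))
 (.fork (.fork (.one (.edge 5 (wOf 25 0x2321045432346612323123453) 6 (wOf 14 0x84523460123201)))
 (.one (.stab 0 [])))
 (.fork (.one (.edge 5 (wOf 22 0x1032134323466123451231) 5 [6,4,3,2,1,0,5,4,3,7,6]))
 (.one (.stab 0 []))))))
 (.fork (.fork (.fork (.fork (.one (.edge 5 (wOf 24 0x276432132453452345323467) 7 (wOf 14 0x76234501234542)))
 (.one (.stab 0 [])))
 (.fork (.one (.edge 5 (wOf 24 0x46432543645823423123450) 5 (wOf 16 0x845123451234520)))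
 (.one (.stab 0 []))))
 (.fork (.fork (.one (.edge 5 (wOf 21 0x432543554623467231230) 5 (wOf 14 0x32345752341230)))
 (.one (.stab 0 [])))
 (.fork (.one (.edge 5 (wOf 24 0x104364321574323453463121) 5 [1,0,2,3,2,5,4]))
 (.one (.stab 0 [])))))
 (.fork (.fork (.fork (.one (.edge 5 (wOf 22 0x2643213682346234612321) 8 [0,3,4,3,2,1,0,3,2]))
 (.one (.stab 0 [])))
 (.fork (.one (.edge 5 (wOf 25 0x103543213546462323431230) 5 (wOf 15 0x623460123462343)))
 (.one (.stab 0 []))))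
 (.fork (.fork (.one (.edge 5 (wOf 25 0x121326432546832345123462) 5 [1,0,3,5,4,3,2,1,3,2,7]))
 (.one (.stab 0 [])))
 (.fork (.one (.edge 5 (wOf 25 0x2554321032646346231234312) 9 [3,2,1,0,6,8,6,4,3,2]))
 (.one (.stab 0 []))))))))

/-- a part of the facts -/
noncomputable def twFactsT13 : BT Fact := (.fork (.fork (.fork (.fork (.fork (.fork (.one (.stab 2 (wOf 21 0x324326455345523452346)))
 (.one (.edge 5 (wOf 24 0x321343215466346234231210) 9 [0,3,2,1,4,3,2,5,5,7])))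
 (.fork (.one (.edge 5 [1,0,2,1,3,2,1,3,5,4,6,6] 5 [4,3,2,1,0,3,2,8,5]))
 (.one (.stab 0 []))))
 (.fork (.fork (.one (.edge 5 (wOf 21 0x108543523123462312321) 6 [0,3,2,1,0,4,3,2,6,6]))
 (.one (.stab 0 [])))
 (.fork (.one (.edge 5 (wOf 22 0x232154534323123463432) 5 (wOf 16 0x463458123452320)))
 (.one (.stab 0 [])))))
 (.fork (.fork (.fork (.one (.edge 8 (wOf 23 0x1321543572341230123461) 6 [1,0,6,4,3,6,4]))
 (.one (.stab 0 [])))
 (.fork (.one (.edge 5 (wOf 21 0x13213457342323123450) 5 (wOf 13 0x5830123463452)))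
 (.one (.stab 0 []))))
 (.fork (.fork (.one (.edge 5 (wOf 26 0x54325432186463462346232312) 6 [0,1,0,5,4,3,2,6,4,7,6]))
 (.one (.stab 0 [])))
 (.fork (.one (.edge 5 (wOf 24 0x321321554534582346234521) 5 (wOf 14 0x23123468634232)))
 (.one (.stab 0 []))))))
 (.fork (.fork (.fork (.fork (.one (.edge 8 (wOf 23 0x12143854532346612323123) 4 [0,4,5,4,3,2,5,4]))
 (.one (.stab 0 [])))
 (.fork (.one (.edge 5 (wOf 21 0x166432683453123123463) 5 [5,4,3,2,1,0,8,5,4,3,2,5]))
 (.one (.stab 0 []))))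
 (.fork (.fork (.one (.edge 5 (wOf 25 0x2135432643823461232346634) 8 [2,1,0,3,5,8,5]))
 (.one (.stab 0 [])))
 (.fork (.one (.edge 5 (wOf 21 0x385432345231234623231) 5 (wOf 13 0x8523450123468)))
 (.one (.stab 0 [])))))
 (.fork (.fork (.fork (.one (.edge 5 (wOf 22 0x102132554534532345812) 8 [0,3,4,3,2,1,0,3,2,6]))
 (.one (.stab 0 [])))
 (.fork (.one (.edge 5 (wOf 16 0x234534623451230) 5 [0,1,3,2,1,0,4,3,2,5,5,7]))
 (.one (.stab 0 []))))
 (.fork (.fork (.one (.edge 5 (wOf 23 0x1214643231234534623462) 5 (wOf 16 0x234581234532301)))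
 (.one (.stab 0 [])))
 (.fork (.one (.edge 9 (wOf 24 0x664323245432312345234632) 5 [0,3,2,1,0,5,4,3,5,8]))
 (.one (.stab 0 [])))))))
 (.fork (.fork (.fork (.fork (.fork (.one (.edge 5 [8,5,4] 6 [6,4]))
 (.one (.edge 9 (wOf 21 0x176432345712346231234) 5 (wOf 13 0x7234230123450))))
 (.fork (.one (.edge 5 (wOf 25 0x121321324663463234612320) 5 (wOf 15 0x623467012346123)))
 (.one (.stab 0 []))))
 (.fork (.fork (.one (.edge 5 (wOf 18 0x232763461230123453) 5 [0,3,2,5,4,5,8,5]))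
 (.one (.stab 0 [])))
 (.fork (.one (.edge 5 (wOf 24 0x125432108545342312345310) 5 [0,3,6,6,4,3,2,1,0,3,4]))
 (.one (.stab 0 [])))))
 (.fork (.fork (.fork (.one (.edge 5 (wOf 24 0x21432132345731234632312) 7 [0,5,4,3,2,1,0,3,2,6,6]))
 (.one (.stab 0 [])))
 (.fork (.one (.edge 5 (wOf 28 0x124554321324634682323451232) 5 (wOf 15 0x523451234554231)))
 (.one (.stab 0 []))))
 (.fork (.fork (.one (.edge 5 (wOf 27 0x103243275432643123467123412) 5 (wOf 13 0x6234601234572)))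
 (.one (.stab 0 [])))
 (.fork (.one (.edge 5 (wOf 24 0x102143264634523234641230) 5 (wOf 17 0x2345812345323432)))
 (.one (.stab 0 []))))))
 (.fork (.fork (.fork (.fork (.one (.edge 5 (wOf 23 0x12321436746342323123421) 3 [2,3,2,1,0,5,4,3,2,5,8]))
 (.one (.stab 0 [])))
 (.fork (.one (.edge 5 (wOf 26 0x2643218543523461234232312) 5 [0,2,1,5,4,3,2]))
 (.one (.stab 0 []))))
 (.fork (.fork (.one (.edge 5 (wOf 25 0x326432854634231234661230) 8 (wOf 13 0x6452345012343)))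
 (.one (.stab 0 [])))
 (.fork (.one (.edge 5 (wOf 25 0x5543213254323454512323451) 5 (wOf 15 0x646230123466320)))
 (.one (.stab 0 [])))))
 (.fork (.fork (.fork (.one (.edge 5 (wOf 25 0x1046432364534523468123410) 5 (wOf 14 0x45234680123120)))
 (.one (.stab 0 [])))
 (.fork (.one (.edge 5 (wOf 25 0x3243213454673234612343010) 5 (wOf 16 0x645123123453412)))
 (.one (.stab 0 []))))
 (.fork (.fork (.one (.edge 5 (wOf 26 0x32103210327646346234671232) 5 [0,3,5,8,5,4,3,2,1,5,4,3]))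
 (.one (.stab 0 [])))
 (.fork (.one (.edge 9 (wOf 27 0x154321321326846345231234523) 5 (wOf 14 0x63458345012320)))
 (.one (.stab 0 []))))))))

/-- a part of the facts -/
noncomputable def twFactsT14 : BT Fact := (.fork (.fork (.fork (.fork (.fork (.fork (.one (.edge 3 [3,2,1,0,3,2,1,6,4,3] 3 (wOf 20 0x23485432346612301230)))
 (.one (.edge 9 (wOf 26 0x13218543213546632343231232) 5 (wOf 16 0x623466123455231))))
 (.fork (.one (.edge 5 (wOf 23 0x23543210546634623458123) 5 [0,4,3,6,4,3,2,1,0,3,5,8]))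
 (.one (.stab 0 []))))
 (.fork (.fork (.one (.edge 5 (wOf 16 0x681232341232312) 8 [1,0,3,2,5,8,5]))
 (.one (.stab 0 [])))
 (.fork (.one (.edge 5 (wOf 27 0x26432154321853464323432312) 5 (wOf 19 0x121573453462323453)))
 (.one (.stab 0 [])))))
 (.fork (.fork (.fork (.one (.edge 5 (wOf 26 0x1326643216463452345234672) 7 (wOf 15 0x552301234543230)))
 (.one (.stab 0 [])))
 (.fork (.one (.edge 5 (wOf 27 0x121321854321684532345832346) 5 (wOf 17 0x2463123468345234)))
 (.one (.stab 0 []))))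
 (.fork (.fork (.one (.edge 5 (wOf 25 0x2325432345453452345123450) 8 [0,3,2,1,6,4,3,2,1,6,6,4]))
 (.one (.stab 0 [])))
 (.fork (.one (.edge 5 (wOf 25 0x343210321674634231234551) 5 [5,4,3,2,1,3,2,1,6,4,7,6]))
 (.one (.stab 0 []))))))
 (.fork (.fork (.fork (.fork (.one (.edge 6 (wOf 26 0x14321354364532345123432312) 7 [2,5,4,3,6,6]))
 (.one (.stab 0 [])))
 (.fork (.one (.edge 5 (wOf 22 0x2132436432345123423120) 5 [3,2,1,0,5,5,4,3,2,6,6]))
 (.one (.stab 0 []))))
 (.fork (.fork (.one (.edge 5 (wOf 26 0x32103210354634572312312346) 6 [0,3,2,1,8,6,4,3,2,5]))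
 (.one (.stab 0 [])))
 (.fork (.one (.edge 5 (wOf 24 0x143213643862346431234010) 5 [2,1,3,6,6,4,3,2,1,3,2]))
 (.one (.stab 0 [])))))
 (.fork (.fork (.fork (.one (.edge 5 (wOf 22 0x3214664323454312345721) 6 [0,5,4,3,2,1,0,3,2,5,8]))
 (.one (.stab 0 [])))
 (.fork (.one (.edge 5 (wOf 25 0x143264321583452323431201) 5 (wOf 15 0x12312346734232)))
 (.one (.stab 0 []))))
 (.fork (.fork (.one (.edge 5 (wOf 27 0x26432643217645323453123210) 5 [0,3,2,1,4,5,4,3,2,5]))
 (.one (.stab 0 [])))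
 (.fork (.one (.edge 9 (wOf 26 0x10432167643546234512345721) 5 (wOf 14 0x23450123464123)))
 (.one (.stab 0 [])))))))
 (.fork (.fork (.fork (.fork (.fork (.one (.edge 8 (wOf 20 0x16432534662312343232) 6 [0,4,3,2]))
 (.one (.edge 5 (wOf 21 0x466432634231234646421) 9 [1,5,4,3,7,5,4,3,2,1,0])))
 (.fork (.one (.edge 5 (wOf 26 0x1213213243645532345523121) 5 (wOf 15 0x862346012346120)))
 (.one (.stab 0 []))))
 (.fork (.fork (.one (.edge 5 (wOf 25 0x554321323646823123453120) 6 [1,2,3,2,1,0,6,4,3,2]))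
 (.one (.stab 0 [])))
 (.fork (.one (.edge 5 (wOf 23 0x34321032534531234584123) 5 (wOf 13 0x6230123468634)))
 (.one (.stab 0 [])))))
 (.fork (.fork (.fork (.one (.edge 5 (wOf 27 0x135432103264663423123458123) 4 [0,5,4,3,2,1,0,3,2]))
 (.one (.stab 0 [])))
 (.fork (.one (.edge 5 (wOf 26 0x1213213643854623123431210) 5 (wOf 15 0x523450123453430)))
 (.one (.stab 0 []))))
 (.fork (.fork (.one (.edge 5 (wOf 20 0x21054632345812340121) 6 (wOf 13 0x7012345123430)))
 (.one (.stab 0 [])))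
 (.fork (.one (.edge 5 (wOf 17 0x32853123467312342) 5 [5,5,4,3,2,1,0,3,2,6,6]))
 (.one (.stab 0 []))))))
 (.fork (.fork (.fork (.fork (.one (.edge 5 (wOf 26 0x12321543213574523423123423) 6 (wOf 15 0x623463454301232)))
 (.one (.stab 0 [])))
 (.fork (.one (.edge 5 (wOf 22 0x2143264323461234543201) 5 (wOf 16 0x634512346343230)))
 (.one (.stab 0 []))))
 (.fork (.fork (.one (.edge 5 (wOf 28 0x123454326432645312345712301) 5 (wOf 15 0x762301234532312)))
 (.one (.stab 0 [])))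
 (.fork (.one (.edge 5 (wOf 26 0x54321643276463452345123460) 5 (wOf 14 0x72301234634301)))
 (.one (.stab 0 [])))))
 (.fork (.fork (.fork (.one (.edge 5 (wOf 26 0x32106432554534682346123460) 8 [1,0,5,4,3,7,6]))
 (.one (.stab 0 [])))
 (.fork (.one (.edge 5 (wOf 22 0x2103432646734612345421) 5 [0,2,3,4,3,2,1,0,3,5,4,3]))
 (.one (.stab 0 []))))
 (.fork (.fork (.one (.edge 5 (wOf 27 0x12132454321323468323453210) 5 (wOf 13 0x6234660123120)))
 (.one (.stab 0 [])))
 (.fork (.one (.edge 5 (wOf 24 0x323245432634631234631231) 9 [1,0,3,2,6]))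
 (.one (.stab 0 []))))))))

/-- a part of the facts -/
noncomputable def twFactsT15 : BT Fact := (.fork (.fork (.fork (.fork (.fork (.fork (.one (.stab 3 [0,2,4,5,4,6]))
 (.one (.edge 5 (wOf 18 0x26463452312345553) 9 [1,0,3,2,5,8,5])))
 (.fork (.one (.edge 5 (wOf 22 0x5543210345231234683010) 5 (wOf 20 0x2643646231234673230)))
 (.one (.stab 0 []))))
 (.fork (.fork (.one (.edge 5 (wOf 20 0x32132453462346234543) 7 (wOf 13 0x6234670123460)))
 (.one (.stab 0 [])))
 (.fork (.one (.edge 5 (wOf 21 0x321686432346412323463) 5 [0,5,4,3,2,1,0,3,2,7,6]))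
 (.one (.stab 0 [])))))
 (.fork (.fork (.fork (.one (.edge 5 (wOf 20 0x1432634542312345321) 3 [1,0,3,2,1,0,4,3,2,6,6,6]))
 (.one (.stab 0 [])))
 (.fork (.one (.edge 5 (wOf 23 0x35432132645831234534121) 5 [0,2,1,3,2,1,5,8]))
 (.one (.stab 0 []))))
 (.fork (.fork (.one (.edge 5 (wOf 25 0x1023864321543234623457120) 6 (wOf 14 0x68462345401230)))
 (.one (.stab 0 [])))
 (.fork (.one (.edge 5 (wOf 20 0x21354532345231234523) 5 (wOf 13 0x2301234664321)))
 (.one (.stab 0 []))))))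
 (.fork (.fork (.fork (.fork (.one (.edge 3 (wOf 22 0x3643213674532342312321) 5 [0,4,6,4,3,6,6]))
 (.one (.stab 0 [])))
 (.fork (.one (.edge 5 (wOf 24 0x146432132746345323458120) 5 (wOf 18 0x21853234523123430)))
 (.one (.stab 0 []))))
 (.fork (.fork (.one (.edge 5 (wOf 21 0x124321674534623234632) 5 (wOf 19 0x234532346712345230)))
 (.one (.stab 0 [])))
 (.fork (.one (.edge 5 (wOf 18 0x485432345123457320) 5 (wOf 13 0x123461234580)))
 (.one (.stab 0 [])))))
 (.fork (.fork (.fork (.one (.edge 5 (wOf 25 0x1043213254763234634123120) 5 (wOf 14 0x75523450123121)))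
 (.one (.stab 0 [])))
 (.fork (.one (.edge 5 (wOf 25 0x2343232143645323451234301) 5 (wOf 17 0x1623461234663232)))
 (.one (.stab 0 []))))
 (.fork (.fork (.one (.edge 5 (wOf 23 0x32364321754323123455341) 5 [1,3,4,3,2,1,3,8,6,4,3]))
 (.one (.stab 0 [])))
 (.fork (.one (.edge 9 (wOf 26 0x24321643237545323431231201) 7 [2,6,4,3,2,1,8,6,4,3,2,6]))
 (.one (.stab 0 [])))))))
 (.fork (.fork (.fork (.fork (.fork (.one (.edge 8 (wOf 19 0x213843234512345210) 4 [1,4,5,4,3,2,1,3,2,6,7]))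
 (.one (.edge 5 (wOf 24 0x454321646432345231234623) 9 [3,2,1,0,4,3,6,8])))
 (.fork (.one (.edge 5 (wOf 27 0x102132321754534231234512320) 5 (wOf 14 0x62346012345732)))
 (.one (.stab 0 []))))
 (.fork (.fork (.one (.edge 5 (wOf 24 0x107543216457346234631201) 6 [4,5,4,3,2,1,3,2,7]))
 (.one (.stab 0 [])))
 (.fork (.one (.edge 5 (wOf 25 0x646432132346232345312342) 5 (wOf 14 0x23012346643234)))
 (.one (.stab 0 [])))))
 (.fork (.fork (.fork (.one (.edge 5 (wOf 26 0x64321032435463234531234572) 8 [2,1,3,2,6,6,6,4]))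
 (.one (.stab 0 [])))
 (.fork (.one (.edge 5 (wOf 24 0x321032103467346234512345) 5 [2,3,2,1,0,6,4,3,2]))
 (.one (.stab 0 []))))
 (.fork (.fork (.one (.edge 5 (wOf 24 0x132145432574534512341201) 6 [0,1,0,5,8,5,4,3,2,6]))
 (.one (.stab 0 [])))
 (.fork (.one (.edge 5 (wOf 23 0x5432364643231234673230) 5 (wOf 14 0x46234501234570)))
 (.one (.stab 0 []))))))
 (.fork (.fork (.fork (.fork (.one (.edge 8 (wOf 22 0x2324543542312345734312) 7 [0,1,3,2,1,0,4,7,5,4,3,2]))
 (.one (.stab 0 [])))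
 (.fork (.one (.edge 5 (wOf 22 0x1366432663464312346010) 5 (wOf 16 0x623458345123452)))
 (.one (.stab 0 []))))
 (.fork (.fork (.one (.edge 5 (wOf 25 0x4375432103523467123423123) 3 [0,3,2,1,0,4,3,2,7,6]))
 (.one (.stab 0 [])))
 (.fork (.one (.edge 5 (wOf 26 0x10454321345743234623412323) 5 (wOf 14 0x23463450123462)))
 (.one (.stab 0 [])))))
 (.fork (.fork (.fork (.one (.edge 5 (wOf 25 0x1643232143546323451234572) 6 [5,4,3,2,1,0,5,4,3,2,6,8]))
 (.one (.stab 0 [])))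
 (.fork (.one (.edge 5 (wOf 26 0x12323543213554632346234662) 5 (wOf 13 0x2345450123450)))
 (.one (.stab 0 []))))
 (.fork (.fork (.one (.edge 5 (wOf 24 0x14321037546346234612321) 7 (wOf 16 0x764523412323454)))
 (.one (.stab 0 [])))
 (.fork (.one (.edge 9 (wOf 28 0x3210321386432534683123012301) 6 (wOf 14 0x66012346123201)))
 (.one (.stab 0 []))))))))

/-- a part of the facts -/
noncomputable def twFactsT16 : BT Fact := (.fork (.fork (.fork (.fork (.fork (.fork (.one (.edge 7 [] 2 [1,0,2]))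
 (.one (.edge 9 (wOf 21 0x243213745234623123455) 5 [4,3,2,1,6,6,4,3,2,5])))
 (.fork (.one (.edge 5 (wOf 26 0x1343254321543234523453231) 5 (wOf 14 0x23464601234610)))
 (.one (.stab 0 []))))
 (.fork (.fork (.one (.edge 5 (wOf 26 0x10210328643645234231234684) 4 [0,5,4,3,2,1,0,3,2,5,8]))
 (.one (.stab 0 [])))
 (.fork (.one (.edge 5 (wOf 23 0x2132321574632346123121) 5 (wOf 14 0x1234512345830)))
 (.one (.stab 0 [])))))
 (.fork (.fork (.fork (.one (.edge 6 (wOf 26 0x43213554323546234581234512) 8 [0,2,3,2,1,0,4,3,2,7,6,4]))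
 (.one (.stab 0 [])))
 (.fork (.one (.edge 5 (wOf 26 0x10325435454323123452341231) 5 (wOf 16 0x2345731234632301)))
 (.one (.stab 0 []))))
 (.fork (.fork (.one (.edge 5 (wOf 22 0x210435545323468123420) 5 (wOf 19 0x3213582346123454232)))
 (.one (.stab 0 [])))
 (.fork (.one (.edge 5 (wOf 26 0x23432324643231234543234631) 5 (wOf 19 0x213674623453123120)))
 (.one (.stab 0 []))))))
 (.fork (.fork (.fork (.fork (.one (.edge 5 (wOf 26 0x32364321643762346123123455) 6 [1,0,6,4,3,2,6,6]))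
 (.one (.stab 0 [])))
 (.fork (.one (.edge 5 (wOf 26 0x2136432543545231234512343) 5 [3,7,5,4,3,2,1,3,2,6,4]))
 (.one (.stab 0 []))))
 (.fork (.fork (.one (.edge 5 (wOf 25 0x1543643213854623412323120) 6 [4,5,4,3,2,1,3,5,5,4,3,6]))
 (.one (.stab 0 [])))
 (.fork (.one (.edge 5 (wOf 23 0x23213543854232346612321) 5 (wOf 19 0x2132575345231234510)))
 (.one (.stab 0 [])))))
 (.fork (.fork (.fork (.one (.edge 6 (wOf 24 0x105432164634523468312341) 8 [4,3,2,1,0,8,6,4,3,2]))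
 (.one (.stab 0 [])))
 (.fork (.one (.edge 5 (wOf 25 0x1454326432345123458301231) 5 (wOf 14 0x23461234634231)))
 (.one (.stab 0 []))))
 (.fork (.fork (.one (.edge 5 (wOf 25 0x4321321436746323123453432) 5 [0,3,2,1,0,4,6,4,3,8,6]))
 (.one (.stab 0 [])))
 (.fork (.one (.edge 9 (wOf 25 0x213643266432346812323431) 5 (wOf 17 0x2673451234612301)))
 (.one (.stab 0 [])))))))
 (.fork (.fork (.fork (.fork (.fork (.one (.edge 5 (wOf 20 0x64323584534623123012) 3 [1,0,3,2,6,4,6,4]))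
 (.one (.edge 5 (wOf 21 0x432105453452341232346) 10 [3,2,1,0,3,2,5,8])))
 (.fork (.one (.edge 5 (wOf 22 0x364321634232346123468) 5 (wOf 17 0x2734523123453232)))
 (.one (.stab 0 []))))
 (.fork (.fork (.one (.edge 5 (wOf 23 0x1235432634661231231201) 8 [0,2,3,2,1,0,5,4,5,5,4,3]))
 (.one (.stab 0 [])))
 (.fork (.one (.edge 5 (wOf 26 0x13432103643582345323123452) 5 (wOf 13 0x6234530123458)))
 (.one (.stab 0 [])))))
 (.fork (.fork (.fork (.one (.edge 7 (wOf 24 0x21032154634523458512346) 6 (wOf 13 0x4523467412320)))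
 (.one (.stab 0 [])))
 (.fork (.one (.edge 5 (wOf 24 0x21321543546232312345552) 5 (wOf 16 0x453451234543232)))
 (.one (.stab 0 []))))
 (.fork (.fork (.one (.edge 5 (wOf 23 0x1543232846343231234530) 6 [4,5,4,3,2,1,0,3,5,5,4]))
 (.one (.stab 0 [])))
 (.fork (.one (.edge 9 [4,5,4,3,2,3,2,4,5,4,8] 5 [1,3,2,1,0,7,6]))
 (.one (.stab 0 []))))))
 (.fork (.fork (.fork (.fork (.one (.edge 5 (wOf 22 0x1232132553462323453123) 8 [0,1,0,5,4,3,2,6]))
 (.one (.stab 0 [])))
 (.fork (.one (.edge 5 (wOf 22 0x2321543762345412312312) 5 (wOf 16 0x623451232345312)))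
 (.one (.stab 0 []))))
 (.fork (.fork (.one (.edge 5 (wOf 24 0x343232154632346723123462) 5 (wOf 13 0x5230123458423)))
 (.one (.stab 0 [])))
 (.fork (.one (.edge 5 (wOf 24 0x10218643646234123123468) 5 [4,3,6,4,3,2,1,0,3,2,6]))
 (.one (.stab 0 [])))))
 (.fork (.fork (.fork (.one (.edge 5 (wOf 16 0x1346642323467123) 3 [0,1,3,2,1,0,4,3,2,5,7]))
 (.one (.stab 0 [])))
 (.fork (.one (.edge 5 (wOf 23 0x12132554634231230123455) 5 (wOf 18 0x21554534623468323)))
 (.one (.stab 0 []))))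
 (.fork (.fork (.one (.edge 5 (wOf 23 0x3545432312345532346323) 5 (wOf 13 0x4623450123452)))
 (.one (.stab 0 [])))
 (.fork (.one (.edge 5 (wOf 23 0x1245436463234671231210) 9 [0,3,2,1,5,4,3,7,6]))
 (.one (.stab 0 []))))))))

/-- a part of the facts -/
noncomputable def twFactsT17 : BT Fact := (.fork (.fork (.fork (.fork (.fork (.fork (.one (.stab 0 [4]))
 (.one (.edge 5 (wOf 26 0x15436432103645234682341232) 9 (wOf 15 0x623458345012320))))
 (.fork (.one (.edge 5 (wOf 26 0x10343215432634612346623010) 6 [3,2,1,0,6,4,3,5,8,5]))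
 (.one (.stab 0 []))))
 (.fork (.fork (.one (.edge 5 (wOf 18 0x10634231234585432) 5 (wOf 13 0x2346745012301)))
 (.one (.stab 0 [])))
 (.fork (.one (.edge 5 (wOf 25 0x2321064327545345723412321) 5 (wOf 17 0x2346812346431230)))
 (.one (.stab 0 [])))))
 (.fork (.fork (.fork (.one (.edge 5 (wOf 22 0x6432326467346234512312) 4 [0,5,4,3,2,1,0,3,4,7,6,4]))
 (.one (.stab 0 [])))
 (.fork (.one (.edge 5 (wOf 24 0x10213234534583231234612) 5 (wOf 16 0x523123452343232)))
 (.one (.stab 0 []))))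
 (.fork (.fork (.one (.edge 5 (wOf 24 0x32154321546346823412301) 6 [6,6,4,3,2,1,0,3]))
 (.one (.stab 0 [])))
 (.fork (.one (.edge 5 (wOf 23 0x2321435463234572312341) 5 (wOf 15 0x630123468634231)))
 (.one (.stab 0 []))))))
 (.fork (.fork (.fork (.fork (.one (.edge 5 (wOf 25 0x102154328546346234123012) 8 [0,1,2,3,2,3,6]))
 (.one (.edge 5 (wOf 18 0x164853234612343232) 10 (wOf 20 0x12321468453234532345))))
 (.fork (.one (.edge 5 (wOf 23 0x3210854673234612323431) 5 (wOf 15 0x663463012346740)))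
 (.one (.stab 0 []))))
 (.fork (.fork (.one (.edge 5 (wOf 24 0x214321321664532345731231) 8 [4,3,2,1,6,4,6,4,3,2,6]))
 (.one (.stab 0 [])))
 (.fork (.one (.edge 5 (wOf 25 0x1054321643645234123123453) 5 (wOf 15 0x230123458543120)))
 (.one (.stab 0 [])))))
 (.fork (.fork (.fork (.one (.edge 5 (wOf 28 0x103432543216432345543123401) 7 (wOf 17 0x1645852346234520)))
 (.one (.stab 0 [])))
 (.fork (.one (.edge 5 (wOf 22 0x4326432583463123464120) 5 [6,4,3,2,1,0,5,4,5,4,3,2]))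
 (.one (.stab 0 []))))
 (.fork (.fork (.one (.edge 5 (wOf 24 0x132136432673432312346423) 8 [0,1,0,6,4,6,4,3,2,6]))
 (.one (.stab 0 [])))
 (.fork (.one (.edge 9 (wOf 22 0x125432646345723123010) 5 (wOf 13 0x5753123453010)))
 (.one (.stab 0 [])))))))
 (.fork (.fork (.fork (.fork (.fork (.one (.stab 7 [1,2,1,3,2,1,8]))
 (.one (.edge 9 (wOf 20 0x12132453234573234632) 5 (wOf 14 0x23460123463423))))
 (.fork (.one (.edge 5 (wOf 26 0x2643254321754532346234610) 5 [0,2,4,3,2,1,0,6,4,3,2]))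
 (.one (.stab 0 []))))
 (.fork (.fork (.one (.edge 5 (wOf 21 0x432134754323123454312) 5 [2,3,2,1,0,6,6,4,3,2]))
 (.one (.stab 0 [])))
 (.fork (.one (.edge 5 (wOf 26 0x1021343232764531234573010) 5 (wOf 16 0x523451234534301)))
 (.one (.stab 0 [])))))
 (.fork (.fork (.fork (.one (.edge 5 (wOf 18 0x432645734523455232) 6 [0,4,5,4,3,2]))
 (.one (.stab 0 [])))
 (.fork (.one (.edge 5 (wOf 25 0x2323438543234512312345832) 5 [0,2,3,2,1,4,7,5,4,3,2,6]))
 (.one (.stab 0 []))))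
 (.fork (.fork (.one (.edge 5 (wOf 23 0x10343213764623234663120) 5 (wOf 16 0x234612346631230)))
 (.one (.stab 0 [])))
 (.fork (.one (.edge 5 (wOf 23 0x13264327546345231234663) 5 (wOf 18 0x323452312346632310)))
 (.one (.stab 0 []))))))
 (.fork (.fork (.fork (.fork (.one (.edge 6 (wOf 25 0x2106432175453234612345721) 6 [1,4,8,5,4,3,2,5]))
 (.one (.stab 0 [])))
 (.fork (.one (.edge 5 (wOf 27 0x12143213254632346412323464) 5 (wOf 15 0x467012312345532)))
 (.one (.stab 0 []))))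
 (.fork (.fork (.one (.edge 5 (wOf 23 0x21543213462345832345121) 7 (wOf 13 0x6234660123462)))
 (.one (.stab 0 [])))
 (.fork (.one (.edge 5 (wOf 21 0x123235545346234623462) 5 (wOf 13 0x8512312346732)))
 (.one (.stab 0 [])))))
 (.fork (.fork (.fork (.one (.edge 5 (wOf 25 0x343854323454323123462342) 8 [3,2,1,0,6,4,3,2,7,6]))
 (.one (.stab 0 [])))
 (.fork (.one (.edge 5 (wOf 26 0x10216432643754623123453120) 5 [4,3,2,1,3,6,4,3,7,6]))
 (.one (.stab 0 []))))
 (.fork (.fork (.one (.edge 5 (wOf 22 0x4323214646834231234610) 5 (wOf 16 0x2457345123464320)))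
 (.one (.stab 0 [])))
 (.fork (.one (.edge 9 (wOf 25 0x1326432136458323464231201) 5 [0,2,1,0,4,7,6,4,3,2,6]))
 (.one (.stab 0 []))))))))

/-- a part of the facts -/
noncomputable def twFactsT18 : BT Fact := (.fork (.fork (.fork (.fork (.fork (.fork (.one (.edge 3 [3,2,1,0,3,2,1,3,5,8] 3 (wOf 18 0x432543234661230123)))
 (.one (.edge 9 (wOf 25 0x1321432154534523234634521) 5 (wOf 14 0x57523451234520))))
 (.fork (.one (.edge 5 (wOf 24 0x364321321345323430123123) 5 [4,3,2,1,0,5,4,8,5,4,3,2]))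
 (.one (.stab 0 []))))
 (.fork (.fork (.one (.edge 5 (wOf 25 0x123864354323462312345346) 7 (wOf 14 0x62345701234620)))
 (.one (.stab 0 [])))
 (.fork (.one (.edge 5 (wOf 26 0x10321435432634512346342010) 5 [0,4,3,2,1,5,4,3,2,7,6]))
 (.one (.stab 0 [])))))
 (.fork (.fork (.fork (.one (.edge 5 (wOf 23 0x32346435432346234571232) 5 [1,0,4,3,2,1,0,5,5,4,3,2]))
 (.one (.stab 0 [])))
 (.fork (.one (.edge 5 (wOf 27 0x43236432136463234534231232) 5 (wOf 13 0x2312346632312)))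
 (.one (.stab 0 []))))
 (.fork (.fork (.one (.edge 5 (wOf 23 0x2436432543123451234584) 7 (wOf 13 0x6623460123452)))
 (.one (.stab 0 [])))
 (.fork (.one (.edge 5 (wOf 25 0x232432164832345423123458) 5 (wOf 13 0x5230123457343)))
 (.one (.stab 0 []))))))
 (.fork (.fork (.fork (.fork (.one (.edge 5 (wOf 20 0x64321584634230123463) 8 (wOf 13 0x2345451234542)))
 (.one (.stab 0 [])))
 (.fork (.one (.edge 5 (wOf 18 0x108643231234584232) 5 (wOf 13 0x6723453012301)))
 (.one (.stab 0 []))))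
 (.fork (.fork (.one (.edge 5 (wOf 25 0x2103464321534323123455120) 5 (wOf 17 0x2583123453230120)))
 (.one (.stab 0 [])))
 (.fork (.one (.edge 5 (wOf 25 0x1864325432554634671231234) 5 (wOf 16 0x645234631234682)))
 (.one (.stab 0 [])))))
 (.fork (.fork (.fork (.one (.edge 5 (wOf 24 0x213254321583453234632343) 6 [0,4,5,4,3,2,1,0,3,2,5,5]))
 (.one (.stab 0 [])))
 (.fork (.one (.edge 5 (wOf 22 0x2321432753452312345312) 5 (wOf 14 0x72346012346341)))
 (.one (.stab 0 []))))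
 (.fork (.fork (.one (.edge 5 (wOf 21 0x102132753462323467321) 5 (wOf 13 0x6234581234620)))
 (.one (.stab 0 [])))
 (.fork (.one (.edge 9 (wOf 22 0x2643264553455234523423) 8 [1,0,3,2,6,6]))
 (.one (.stab 0 [])))))))
 (.fork (.fork (.fork (.fork (.fork (.one (.edge 4 [0,2,5,4,3,2,8,5] 5 (wOf 21 0x432643542312301234673)))
 (.one (.edge 5 (wOf 16 0x1864632345323468) 9 [4,5,4,3,2,1,0,3,2,5,5])))
 (.fork (.one (.edge 5 (wOf 27 0x13264321643623466312343210) 5 (wOf 16 0x231234585432301)))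
 (.one (.stab 0 []))))
 (.fork (.fork (.one (.edge 5 (wOf 21 0x354323646432312342323) 6 [0,1,2,1,0,5,5,4,3,2,5,8]))
 (.one (.stab 0 [])))
 (.fork (.one (.edge 5 (wOf 23 0x1325432645345723123010) 5 (wOf 15 0x523450123458410)))
 (.one (.stab 0 [])))))
 (.fork (.fork (.fork (.one (.edge 5 (wOf 25 0x1454321321746345234623010) 8 [1,2,1,0,6,4,3,2,5,8,5]))
 (.one (.stab 0 [])))
 (.fork (.one (.edge 5 (wOf 22 0x132103546346323455123) 5 (wOf 14 0x62345123466232)))
 (.one (.stab 0 []))))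
 (.fork (.fork (.one (.edge 5 (wOf 24 0x325432103462346431234120) 6 (wOf 13 0x5852346123451)))
 (.one (.stab 0 [])))
 (.fork (.one (.edge 5 (wOf 26 0x3213245432645323468123460) 5 [3,4,5,4,3,2,1,0,3,2,7]))
 (.one (.stab 0 []))))))
 (.fork (.fork (.fork (.fork (.one (.edge 5 (wOf 24 0x326432136453234581232346) 3 [3,2,1,0,5,4,3,6,6]))
 (.one (.stab 0 [])))
 (.fork (.one (.edge 5 (wOf 21 0x432136643234512346830) 5 (wOf 13 0x6230123467320)))
 (.one (.stab 0 []))))
 (.fork (.fork (.one (.edge 5 (wOf 26 0x32164321321645345732340120) 5 (wOf 13 0x6234550123401)))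
 (.one (.stab 0 [])))
 (.fork (.one (.edge 5 (wOf 24 0x215432321643234574301230) 5 (wOf 17 0x2634612346323458)))
 (.one (.stab 0 [])))))
 (.fork (.fork (.fork (.one (.edge 5 (wOf 25 0x132324643552346123234673) 7 (wOf 17 0x32834545231234630)))
 (.one (.stab 0 [])))
 (.fork (.one (.edge 5 (wOf 27 0x10232186432546323468312341) 5 (wOf 13 0x6723463401230)))
 (.one (.stab 0 []))))
 (.fork (.fork (.one (.edge 5 (wOf 27 0x121454321324854323466341231) 5 (wOf 15 0x463461234584123)))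
 (.one (.stab 0 [])))
 (.fork (.one (.edge 9 (wOf 26 0x21321328543546234612346710) 7 [2,3,5,4,3,2,1,0,5,4,3,2]))
 (.one (.stab 0 []))))))))

/-- a part of the facts -/
noncomputable def twFactsT19 : BT Fact := (.fork (.fork (.fork (.fork (.fork (.fork (.one (.edge 2 (wOf 17 0x32734543234532345) 2 [0,6,6,4,3,2,6]))
 (.one (.edge 9 (wOf 25 0x1214321032546346612345123) 9 [0,2,3,2,1,5,4,3,2,5,8])))
 (.fork (.one (.edge 5 (wOf 25 0x321343213468452323431230) 5 (wOf 18 0x21734632345323460)))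
 (.one (.stab 0 []))))
 (.fork (.fork (.one (.edge 5 (wOf 24 0x23254321574632345231230) 6 [1,0,4,8,5,4,3,2,6,4]))
 (.one (.stab 0 [])))
 (.fork (.one (.edge 5 (wOf 24 0x10213543546234682341232) 5 (wOf 17 0x2754631234643012)))
 (.one (.stab 0 [])))))
 (.fork (.fork (.fork (.one (.edge 6 (wOf 25 0x1043213643542323453123464) 8 [1,2,5,8,5,4,3,2,3]))
 (.one (.stab 0 [])))
 (.fork (.one (.edge 5 (wOf 25 0x1321676432545345412312346) 5 [1,2,5,4,3,2,5,5,7]))
 (.one (.stab 0 []))))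
 (.fork (.fork (.one (.edge 5 (wOf 20 0x1021634623430123123) 6 (wOf 13 0x5234660123454)))
 (.one (.stab 0 [])))
 (.fork (.one (.edge 5 (wOf 26 0x3213643215467323463123210) 5 (wOf 15 0x523468012346430)))
 (.one (.stab 0 []))))))
 (.fork (.fork (.fork (.fork (.one (.edge 8 (wOf 22 0x1214321683453234581201) 6 [0,2,3,2,5,4,5,4,8]))
 (.one (.stab 0 [])))
 (.fork (.one (.edge 5 (wOf 26 0x1543232143754323466123423) 5 (wOf 15 0x674634501234540)))
 (.one (.stab 0 []))))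
 (.fork (.fork (.one (.edge 6 (wOf 22 0x1323643623463231234550) 5 (wOf 16 0x661234523468230)))
 (.one (.stab 0 [])))
 (.fork (.one (.edge 5 (wOf 25 0x105432164585342312345120) 5 (wOf 18 0x23545823451234662)))
 (.one (.stab 0 [])))))
 (.fork (.fork (.fork (.one (.edge 5 (wOf 28 0x102134321354323467412301201) 8 [1,0,6,4,3,6,6]))
 (.one (.stab 0 [])))
 (.fork (.one (.edge 5 (wOf 26 0x18643254321346623462345820) 5 (wOf 15 0x623457012345231)))
 (.one (.stab 0 []))))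
 (.fork (.fork (.one (.edge 5 (wOf 25 0x321348643523423123464301) 5 (wOf 15 0x523012345743230)))
 (.one (.stab 0 [])))
 (.fork (.one (.edge 9 (wOf 21 0x321043545234623412310) 6 (wOf 13 0x8523455012320)))
 (.one (.stab 0 [])))))))
 (.fork (.fork (.fork (.fork (.fork (.one (.edge 6 [5,8] 5 [5,8,5]))
 (.one (.edge 9 (wOf 22 0x3234543574231234542312) 5 (wOf 20 0x1214645345723462321))))
 (.fork (.one (.edge 5 (wOf 25 0x4326643216453234512345723) 5 [0,2,1,0,3,2,5,5,7]))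
 (.one (.stab 0 []))))
 (.fork (.fork (.one (.edge 5 (wOf 20 0x21343546323461231210) 6 [0,2,1,3,2]))
 (.one (.stab 0 [])))
 (.fork (.one (.edge 5 (wOf 21 0x14643234671234231232) 5 (wOf 16 0x623123466323430)))
 (.one (.stab 0 [])))))
 (.fork (.fork (.fork (.one (.edge 5 (wOf 25 0x1054321643546723462312341) 7 (wOf 13 0x5823012346320)))
 (.one (.stab 0 [])))
 (.fork (.one (.edge 5 (wOf 24 0x123236643623458123423012) 5 (wOf 17 0x2754534612345820)))
 (.one (.stab 0 []))))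
 (.fork (.fork (.one (.edge 5 (wOf 23 0x21432134643234554312321) 5 (wOf 15 0x762301234534323)))
 (.one (.stab 0 [])))
 (.fork (.one (.edge 5 (wOf 25 0x121321754323454312345234) 5 (wOf 15 0x645312345341232)))
 (.one (.stab 0 []))))))
 (.fork (.fork (.fork (.fork (.one (.edge 5 [2,3,2,3,7,5,4,3,2,5,4] 5 (wOf 16 0x674523464123012)))
 (.one (.stab 0 [])))
 (.fork (.one (.edge 5 (wOf 26 0x23213234326745323463123451) 5 (wOf 16 0x464231234632312)))
 (.one (.stab 0 []))))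
 (.fork (.fork (.one (.edge 5 (wOf 25 0x104664321346234623453123) 8 [0,3,2,1,0,3,2,4]))
 (.one (.stab 0 [])))
 (.fork (.one (.edge 5 (wOf 24 0x123243210663462343231230) 5 [0,2,4,3,2,1,0,7,6,4,3,2]))
 (.one (.stab 0 [])))))
 (.fork (.fork (.fork (.one (.edge 5 (wOf 24 0x13210643545823412301201) 6 [5,4,3,2,1,0,6,4,3,2,5,4]))
 (.one (.stab 0 [])))
 (.fork (.one (.edge 5 (wOf 24 0x10213234664323458312301) 5 [1,3,2,6,4,3,2,1,0]))
 (.one (.stab 0 []))))
 (.fork (.fork (.one (.edge 5 (wOf 24 0x147643213452346623412312) 5 (wOf 16 0x645231234662341)))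
 (.one (.stab 0 [])))
 (.fork (.one (.edge 9 (wOf 24 0x12323854534623464123201) 5 (wOf 14 0x62345731234120)))
 (.one (.stab 0 []))))))))

/-- a part of the facts -/
noncomputable def twFactsT20 : BT Fact := (.fork (.fork (.fork (.fork (.fork (.fork (.one (.stab 3 (wOf 21 0x14643823123463231234)))
 (.one (.edge 9 (wOf 24 0x32464325463423123466423) 5 (wOf 13 0x8534550123210))))
 (.fork (.one (.edge 5 (wOf 20 0x12432543123458512342) 5 (wOf 13 0x4623123455323)))
 (.one (.stab 0 []))))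
 (.fork (.fork (.one (.edge 5 (wOf 27 0x123764321364632345234673121) 8 [2,1,0,3,2,5,8,5,4,6]))
 (.one (.stab 0 [])))
 (.fork (.one (.edge 5 (wOf 24 0x35432135432345451234230) 5 [0,5,4,5,5,4,3,2,1,0,3,2]))
 (.one (.stab 0 [])))))
 (.fork (.fork (.fork (.one (.edge 5 (wOf 21 0x21032834612323461232) 7 (wOf 16 0x674523412323454)))
 (.one (.stab 0 [])))
 (.fork (.one (.edge 5 (wOf 27 0x154321323543645234672312345) 5 [0,2,3,2,1,0,6,4,3,2,5,8]))
 (.one (.stab 0 []))))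
 (.fork (.fork (.one (.edge 5 (wOf 25 0x3432132186463423123123466) 4 [1,0,2,5,4,3,2,5,4,5,4,8]))
 (.one (.stab 0 [])))
 (.fork (.one (.edge 5 (wOf 23 0x12145432864312346343121) 5 (wOf 18 0x21646632346234610)))
 (.one (.stab 0 []))))))
 (.fork (.fork (.fork (.fork (.one (.edge 5 (wOf 19 0x2103554634523123430) 8 (wOf 17 0x2553462312345532)))
 (.one (.stab 0 [])))
 (.fork (.one (.edge 5 (wOf 27 0x254325432643862345123467210) 5 (wOf 14 0x62346012346620)))
 (.one (.stab 0 []))))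
 (.fork (.fork (.one (.edge 5 (wOf 22 0x3210454632312345234673) 6 [0,4,3,2,1,7,5,4,3,2]))
 (.one (.stab 0 [])))
 (.fork (.one (.edge 5 (wOf 26 0x10232864321646323455234231) 5 (wOf 16 0x231234575232310)))
 (.one (.stab 0 [])))))
 (.fork (.fork (.fork (.one (.edge 5 (wOf 27 0x10232145432634542312346310) 7 [2,3,2,5,4,3,2,1,3,2,6,7]))
 (.one (.stab 0 [])))
 (.fork (.one (.edge 5 (wOf 27 0x10321464321534523458234210) 5 (wOf 16 0x572345123462343)))
 (.one (.stab 0 []))))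
 (.fork (.fork (.one (.edge 5 (wOf 27 0x123432154325453452312346812) 6 [2,1,5,4,3,2,1,0,5,5,4,6]))
 (.one (.stab 0 [])))
 (.fork (.one (.edge 9 (wOf 24 0x103215432553452312345712) 5 [4,8,5,4,3,2,1,0,5,4,3,2]))
 (.one (.stab 0 [])))))))
 (.fork (.fork (.fork (.fork (.fork (.one (.edge 8 (wOf 22 0x3243234684532312346210) 6 [0,6,6,4,3,2,6]))
 (.one (.edge 10 (wOf 21 0x243234574323412301234) 5 (wOf 13 0x2345840123010))))
 (.fork (.one (.edge 5 (wOf 22 0x7543232463461234623462) 5 (wOf 17 0x2463458123452301)))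
 (.one (.stab 0 []))))
 (.fork (.fork (.one (.edge 5 (wOf 25 0x321432103546234512345841) 7 (wOf 14 0x62346012345420)))
 (.one (.stab 0 [])))
 (.fork (.one (.edge 5 (wOf 25 0x2132134323466423123467120) 5 (wOf 14 0x64552345012345)))
 (.one (.stab 0 [])))))
 (.fork (.fork (.fork (.one (.edge 8 (wOf 23 0x26432132466323123463432) 5 (wOf 14 0x86230123464301)))
 (.one (.stab 0 [])))
 (.fork (.one (.edge 5 (wOf 27 0x132132166432553453423123450) 5 (wOf 15 0x852301234583230)))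
 (.one (.stab 0 []))))
 (.fork (.fork (.one (.edge 5 (wOf 26 0x24326432137543234512345510) 6 [2,1,0,3,2,7,5]))
 (.one (.stab 0 [])))
 (.fork (.one (.edge 5 (wOf 25 0x3214325432545432346123201) 5 (wOf 17 0x2345451234542320)))
 (.one (.stab 0 []))))))
 (.fork (.fork (.fork (.fork (.one (.edge 5 (wOf 23 0x32664321323457423234641) 7 (wOf 15 0x646601231234632)))
 (.one (.stab 0 [])))
 (.fork (.one (.edge 5 (wOf 25 0x321032134754323457323123) 5 (wOf 14 0x85234601231210)))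
 (.one (.stab 0 []))))
 (.fork (.fork (.one (.edge 5 (wOf 27 0x210432185432645345123454310) 5 (wOf 16 0x2573123453234530)))
 (.one (.stab 0 [])))
 (.fork (.one (.edge 5 (wOf 22 0x6432132466346123457012) 5 (wOf 13 0x123234553453)))
 (.one (.stab 0 [])))))
 (.fork (.fork (.fork (.one (.edge 5 (wOf 25 0x1043543234546323123423120) 8 [1,0,2,4,5,5,4,3,2]))
 (.one (.stab 0 [])))
 (.fork (.one (.edge 5 (wOf 25 0x2354321321745345234641230) 5 (wOf 16 0x523123457342323)))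
 (.one (.stab 0 []))))
 (.fork (.fork (.one (.edge 5 (wOf 23 0x1543210534582345231231) 5 (wOf 14 0x75234601234663)))
 (.one (.stab 0 [])))
 (.fork (.one (.edge 5 (wOf 25 0x432136432634531234583121) 9 [0,1,0,2,1,4,5,4,3,6,7]))
 (.one (.stab 0 []))))))))

/-- a part of the facts -/
noncomputable def twFactsT21 : BT Fact := (.fork (.fork (.fork (.fork (.fork (.fork (.one (.stab 2 (wOf 22 0x2325432645534552345234)))
 (.one (.edge 5 (wOf 27 0x13234321854632345123460123) 9 [2,1,0,3,2,1,0,3,2])))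
 (.fork (.one (.edge 5 (wOf 26 0x13214643215463452323467120) 5 (wOf 19 0x121634572345234301)))
 (.one (.stab 0 []))))
 (.fork (.fork (.one (.edge 5 (wOf 23 0x54321324323461234553201) 6 [0,3,4,6,4,3,2,8]))
 (.one (.stab 0 [])))
 (.fork (.one (.edge 5 (wOf 26 0x10210376432546345231234543) 5 (wOf 17 0x2634681234642323)))
 (.one (.stab 0 [])))))
 (.fork (.fork (.fork (.one (.edge 5 (wOf 26 0x2135432132645343231234674) 6 [2,1,0,5,4,3,2,5]))
 (.one (.stab 0 [])))
 (.fork (.one (.edge 5 (wOf 27 0x485432132324634623461234612) 5 [0,3,2,1,0,5,4,3,7,5]))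
 (.one (.stab 0 []))))
 (.fork (.fork (.one (.edge 5 (wOf 26 0x1054364321323453464323123) 6 [0,3,2,1,0,3,2,7,6]))
 (.one (.stab 0 [])))
 (.fork (.one (.edge 5 (wOf 28 0x134854321321345232346834121) 5 (wOf 13 0x2345012346710)))
 (.one (.stab 0 []))))))
 (.fork (.fork (.fork (.fork (.one (.edge 5 (wOf 19 0x210632345731231201) 8 [0,1,0,7,6,4,3,6,8]))
 (.one (.stab 0 [])))
 (.fork (.one (.edge 5 (wOf 25 0x2164375432534512346623210) 5 [3,2,1,4,5,5,4,3,2]))
 (.one (.stab 0 []))))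
 (.fork (.fork (.one (.edge 5 (wOf 24 0x543213643623466312345010) 8 [0,5,5,4,3,2,1,0,3,7,6]))
 (.one (.stab 0 [])))
 (.fork (.one (.edge 5 (wOf 25 0x210321325463234553451210) 5 (wOf 15 0x452346601234531)))
 (.one (.stab 0 [])))))
 (.fork (.fork (.fork (.one (.edge 5 (wOf 21 0x275432546346232312346) 8 (wOf 15 0x852301234634512)))
 (.one (.stab 0 [])))
 (.fork (.one (.edge 5 (wOf 25 0x1232354321543234501234540) 5 [3,2,1,0,3,7,5,4,3,2]))
 (.one (.stab 0 []))))
 (.fork (.fork (.one (.edge 5 (wOf 15 0x834323123464120) 5 (wOf 17 0x2573461234634230)))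
 (.one (.stab 0 [])))
 (.fork (.one (.edge 9 (wOf 19 0x3210634572312343230) 5 (wOf 18 0x21646834523464230)))
 (.one (.stab 0 [])))))))
 (.fork (.fork (.fork (.fork (.fork (.one (.edge 7 [4,5,4,3,2,1,3,6,7] 6 (wOf 17 0x1323412323123210)))
 (.one (.edge 9 (wOf 25 0x1232106432634634542312346) 5 (wOf 17 0x2634681234612343))))
 (.fork (.one (.edge 5 (wOf 24 0x643232854534231234612343) 5 (wOf 16 0x1346345234662323)))
 (.one (.stab 0 []))))
 (.fork (.fork (.one (.edge 5 (wOf 25 0x107643210646734623412310) 5 (wOf 15 0x755230123453423)))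
 (.one (.stab 0 [])))
 (.fork (.one (.edge 5 (wOf 27 0x64321854321534632345543121) 5 (wOf 13 0x3450123467340)))
 (.one (.stab 0 [])))))
 (.fork (.fork (.fork (.one (.edge 6 (wOf 19 0x1021545834323123120) 7 (wOf 18 0x23545823123463412)))
 (.one (.stab 0 [])))
 (.fork (.one (.edge 5 (wOf 24 0x236435432346231234523466) 5 [0,1,5,4,3,2,1,0,6,6]))
 (.one (.stab 0 []))))
 (.fork (.fork (.one (.edge 3 (wOf 23 0x2105432674631234643121) 5 (wOf 17 0x2673461234523012)))
 (.one (.stab 0 [])))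
 (.fork (.one (.edge 5 (wOf 27 0x164327543213523462323463412) 5 (wOf 15 0x623452345701231)))
 (.one (.stab 0 []))))))
 (.fork (.fork (.fork (.fork (.one (.edge 5 (wOf 19 0x3210663432312346830) 8 (wOf 16 0x466234512346812)))
 (.one (.stab 0 [])))
 (.fork (.one (.edge 5 (wOf 23 0x13236432645312345553121) 5 (wOf 13 0x6457230123453)))
 (.one (.stab 0 []))))
 (.fork (.fork (.one (.edge 5 (wOf 27 0x43215432164634623461234551) 7 [0,5,4,3,2,1,0,3,5,4,6]))
 (.one (.stab 0 [])))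
 (.fork (.one (.edge 5 (wOf 26 0x18543213216455346232312340) 5 (wOf 17 0x1623451234662301)))
 (.one (.stab 0 [])))))
 (.fork (.fork (.fork (.one (.edge 8 (wOf 21 0x343238646323451232343) 5 (wOf 16 0x523458512346230)))
 (.one (.stab 0 [])))
 (.fork (.one (.edge 5 (wOf 20 0x32764632346732312301) 5 (wOf 13 0x6234646012301)))
 (.one (.stab 0 []))))
 (.fork (.fork (.one (.edge 5 (wOf 20 0x14321543234545712323) 5 (wOf 13 0x8534601234320)))
 (.one (.stab 0 [])))
 (.fork (.one (.edge 9 (wOf 26 0x15754321324632346312346401) 5 (wOf 14 0x82345123464310)))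
 (.one (.stab 0 []))))))))

/-- a part of the facts -/
noncomputable def twFactsT22 : BT Fact := (.fork (.fork (.fork (.fork (.fork (.fork (.one (.edge 3 [3,2,1,0,3,2,1,5,4,3] 3 (wOf 20 0x3213453452323123468)))
 (.one (.edge 9 (wOf 26 0x1643210354634231234523412) 5 (wOf 17 0x12346345123452310))))
 (.fork (.one (.edge 5 (wOf 26 0x32134321543852345123464232) 5 (wOf 13 0x8534501234540)))
 (.one (.stab 0 []))))
 (.fork (.fork (.one (.edge 5 (wOf 24 0x13236643234612345234321) 8 (wOf 13 0x5234674012320)))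
 (.one (.stab 0 [])))
 (.fork (.one (.edge 5 (wOf 22 0x1021864634632312345312) 5 (wOf 19 0x210674632345532343)))
 (.one (.stab 0 [])))))
 (.fork (.fork (.fork (.one (.edge 5 (wOf 23 0x10432154634623234583423) 6 [1,0,5,8,5,4,3,2,5]))
 (.one (.stab 0 [])))
 (.fork (.one (.edge 5 (wOf 23 0x32108643542312345523453) 5 (wOf 15 0x623461234532340)))
 (.one (.stab 0 []))))
 (.fork (.fork (.one (.edge 5 (wOf 26 0x10213643213468623452312310) 8 [1,0,2,6,4,3,2,7,6]))
 (.one (.stab 0 [])))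
 (.fork (.one (.edge 5 (wOf 23 0x1021326432345431234666) 5 (wOf 14 0x64523457012340)))
 (.one (.stab 0 []))))))
 (.fork (.fork (.fork (.fork (.one (.edge 5 (wOf 19 0x2643545723234634232) 6 [0,5,5,4,3,7]))
 (.one (.stab 0 [])))
 (.fork (.one (.edge 5 (wOf 25 0x343213543623454312345012) 5 (wOf 19 0x210684532346345232)))
 (.one (.stab 0 []))))
 (.fork (.fork (.one (.edge 5 (wOf 27 0x12554321543546234612345712) 6 (wOf 15 0x450123463431232)))
 (.one (.stab 0 [])))
 (.fork (.one (.edge 5 (wOf 25 0x3213236432674312346423123) 5 (wOf 13 0x8234601234583)))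
 (.one (.stab 0 [])))))
 (.fork (.fork (.fork (.one (.edge 5 (wOf 25 0x102134643572345312345401) 6 [0,4,6,6,4,3,2,1,0,3,2]))
 (.one (.stab 0 [])))
 (.fork (.one (.edge 5 (wOf 22 0x121432834512343012310) 5 (wOf 15 0x760123451234620)))
 (.one (.stab 0 []))))
 (.fork (.fork (.one (.edge 5 (wOf 21 0x275432546312345431232) 5 (wOf 16 0x467123123453412)))
 (.one (.stab 0 [])))
 (.fork (.one (.edge 9 (wOf 24 0x123213543545234123234531) 5 (wOf 17 0x1234612345852323)))
 (.one (.stab 0 [])))))))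
 (.fork (.fork (.fork (.fork (.fork (.one (.edge 5 (wOf 21 0x327643546234661230120) 6 [0,5,4,3,2,6,6]))
 (.one (.edge 5 (wOf 23 0x36432175432345123458012) 9 [0,3,2,1,0,5,4,3,2,6,4,6])))
 (.fork (.one (.edge 5 (wOf 24 0x432134854323123451232343) 5 (wOf 13 0x3450123457323)))
 (.one (.stab 0 []))))
 (.fork (.fork (.one (.edge 5 (wOf 27 0x21326432543623461234632301) 6 [0,1,6,4,3,2,6,6,4]))
 (.one (.stab 0 [])))
 (.fork (.one (.edge 5 (wOf 22 0x1324364553231230123455) 5 (wOf 13 0x6723460123201)))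
 (.one (.stab 0 [])))))
 (.fork (.fork (.fork (.one (.edge 5 (wOf 22 0x2386432634581234523410) 3 [0,3,2,1,0,3,4,3,2]))
 (.one (.stab 0 [])))
 (.fork (.one (.edge 5 (wOf 25 0x218643254323461234583231) 5 (wOf 16 0x723451232345312)))
 (.one (.stab 0 []))))
 (.fork (.fork (.one (.edge 5 (wOf 14 0x80123123431210) 6 [0,2,3,2,1,0,4,3,2]))
 (.one (.stab 0 [])))
 (.fork (.one (.edge 5 (wOf 22 0x7543254634672312345232) 5 (wOf 13 0x6601234512320)))
 (.one (.stab 0 []))))))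
 (.fork (.fork (.fork (.fork (.one (.edge 3 (wOf 20 0x2103645231234312010) 5 (wOf 19 0x213686234523123012)))
 (.one (.stab 0 [])))
 (.fork (.one (.edge 5 (wOf 27 0x32343213543234545123234661) 5 (wOf 17 0x1645323453234512)))
 (.one (.stab 0 []))))
 (.fork (.fork (.one (.edge 5 (wOf 22 0x3432132345123467232341) 5 (wOf 13 0x6230123466310)))
 (.one (.stab 0 [])))
 (.fork (.one (.edge 5 (wOf 26 0x23432132346463462323412323) 5 (wOf 15 0x754623012345432)))
 (.one (.stab 0 [])))))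
 (.fork (.fork (.fork (.one (.edge 5 (wOf 26 0x1021076432645345812345120) 7 [0,2,1,0,4,3,8,5,4,3,2]))
 (.one (.stab 0 [])))
 (.fork (.one (.edge 5 (wOf 26 0x4323643213854583234612301) 5 [3,6,4,3,2,3,2,1,0,4,3,2]))
 (.one (.stab 0 []))))
 (.fork (.fork (.one (.edge 5 (wOf 25 0x4321754321545346234312310) 5 [0,5,4,3,2,1,0,8,5,4,3,2]))
 (.one (.stab 0 [])))
 (.fork (.one (.edge 5 (wOf 28 0x121321643864532346312312312) 9 [1,0,2,5,5,7]))
 (.one (.stab 0 []))))))))

/-- a part of the facts -/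
noncomputable def twFactsT23 : BT Fact := (.fork (.fork (.fork (.fork (.fork (.fork (.one (.edge 1 [1,6] 3 []))
 (.one (.edge 5 (wOf 26 0x32764326432346123466323423) 9 [1,0,7,6,4,3,2,1,3,2,3])))
 (.fork (.one (.edge 5 (wOf 22 0x134643623467123462312) 5 (wOf 13 0x2345830123462)))
 (.one (.stab 0 []))))
 (.fork (.fork (.one (.edge 5 (wOf 23 0x21321343523462312345731) 7 [2,5,4,3,2,1,6,4,3,2,6,7]))
 (.one (.stab 0 [])))
 (.fork (.one (.edge 5 (wOf 25 0x1345432103452345823412321) 5 (wOf 14 0x57234501234670)))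
 (.one (.stab 0 [])))))
 (.fork (.fork (.fork (.one (.edge 5 (wOf 26 0x1232543213645823452345234) 3 [2,3,2,1,0,5,4,3,2,6]))
 (.one (.stab 0 [])))
 (.fork (.one (.edge 5 (wOf 23 0x12143264634672323123450) 5 [6,4,3,2,1,6,4,6,4,3,2,6]))
 (.one (.stab 0 []))))
 (.fork (.fork (.one (.edge 5 (wOf 21 0x214325458342312345423) 6 (wOf 14 0x64662346012345)))
 (.one (.stab 0 [])))
 (.fork (.one (.edge 5 (wOf 24 0x232432643864523234571232) 5 (wOf 14 0x23012345532343)))
 (.one (.stab 0 []))))))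
 (.fork (.fork (.fork (.fork (.one (.edge 5 (wOf 20 0x23264534552345323423) 4 [4,5,4,3,2,6,8]))
 (.one (.stab 0 [])))
 (.fork (.one (.edge 5 [1,0,4,3,2,1,0,3,4,6,4] 5 (wOf 14 0x64634601234640)))
 (.one (.stab 0 []))))
 (.fork (.fork (.one (.edge 5 (wOf 22 0x232643754523452345121) 5 (wOf 13 0x2345801234532)))
 (.one (.stab 0 [])))
 (.fork (.one (.edge 5 (wOf 25 0x2543213543864623123453121) 5 (wOf 15 0x852312345832301)))
 (.one (.stab 0 [])))))
 (.fork (.fork (.fork (.one (.edge 5 (wOf 27 0x35454321323462345712312312) 3 [1,0,3,2,1,0,4,3,6,4,6]))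
 (.one (.stab 0 [])))
 (.fork (.one (.edge 5 (wOf 26 0x1213432543864231234581210) 5 (wOf 18 0x12673451234642320)))
 (.one (.stab 0 []))))
 (.fork (.fork (.one (.edge 5 (wOf 26 0x10432132643764323123467010) 5 (wOf 16 0x234545123464230)))
 (.one (.stab 0 [])))
 (.fork (.one (.edge 9 (wOf 22 0x1032134534532346323423) 7 [6,4,3,2,1,7,6,4,3,2,1,0]))
 (.one (.stab 0 [])))))))
 (.fork (.fork (.fork (.fork (.fork (.one (.edge 8 (wOf 21 0x102132674631234553210) 6 [0,1,0,4,6,4,6,4,3,2,1,0]))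
 (.one (.edge 9 (wOf 23 0x13243543755231234532301) 9 (wOf 15 0x723451234672010))))
 (.fork (.one (.edge 5 (wOf 25 0x232143210634634523423120) 5 (wOf 14 0x85230123464320)))
 (.one (.stab 0 []))))
 (.fork (.fork (.one (.edge 5 (wOf 23 0x32643264753462346612312) 6 (wOf 13 0x7462345401230)))
 (.one (.stab 0 [])))
 (.fork (.one (.edge 5 (wOf 23 0x12432643686423123464320) 5 (wOf 13 0x6234601234672)))
 (.one (.stab 0 [])))))
 (.fork (.fork (.fork (.one (.edge 5 (wOf 17 0x32754534623234632) 8 (wOf 14 0x85234601234682)))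
 (.one (.stab 0 [])))
 (.fork (.one (.edge 5 (wOf 18 0x321346834232341230) 5 (wOf 17 0x21834532346323458)))
 (.one (.stab 0 []))))
 (.fork (.fork (.one (.edge 5 (wOf 24 0x321032432674312346123461) 6 [0,1,0,5,5,4,3,2,6]))
 (.one (.stab 0 [])))
 (.fork (.one (.edge 5 (wOf 21 0x10210346623453123467) 5 [0,3,6,6,4,3,2,1,5,4,3,2]))
 (.one (.stab 0 []))))))
 (.fork (.fork (.fork (.fork (.one (.edge 6 (wOf 21 0x13543552345123450120) 7 [0,2,3,5,5,7]))
 (.one (.stab 0 [])))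
 (.fork (.one (.edge 5 (wOf 24 0x643215432543123461234573) 5 (wOf 17 0x2534584312345232)))
 (.one (.stab 0 []))))
 (.fork (.fork (.one (.edge 5 (wOf 24 0x121385432634532312345423) 3 (wOf 15 0x632346623451231)))
 (.one (.stab 0 [])))
 (.fork (.one (.edge 5 (wOf 25 0x1554323216453452345234671) 5 (wOf 15 0x230123453234530)))
 (.one (.stab 0 [])))))
 (.fork (.fork (.fork (.one (.edge 5 (wOf 23 0x1213210583463234634120) 6 [0,2,3,2,1,0,4,6,6,4,3,5]))
 (.one (.stab 0 [])))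
 (.fork (.one (.edge 5 (wOf 26 0x32134323543234543231234623) 5 (wOf 13 0x2301234664530)))
 (.one (.stab 0 []))))
 (.fork (.fork (.one (.edge 5 (wOf 23 0x13543236455323412323412) 6 [0,1,0,7,5,4,5,4,3,2]))
 (.one (.stab 0 [])))
 (.fork (.one (.edge 9 (wOf 23 0x10213214534632312345834) 6 [0,4,3,6,4,3,2,1,0,3,2,7]))
 (.one (.stab 0 []))))))))

/-- a part of the facts -/
noncomputable def twFactsT24 : BT Fact := (.fork (.fork (.fork (.fork (.fork (.fork (.one (.edge 5 [6] 4 [0,2,8,5]))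
 (.one (.edge 9 (wOf 23 0x25432643764231234523123) 5 [3,5,4,3,2,1,3,5,5,7])))
 (.fork (.one (.edge 5 (wOf 22 0x121321853462345234620) 5 (wOf 17 0x1662346123466010)))
 (.one (.stab 0 []))))
 (.fork (.fork (.one (.edge 5 (wOf 18 0x12532312345842312) 3 (wOf 14 0x62341232345532)))
 (.one (.stab 0 [])))
 (.fork (.one (.edge 5 (wOf 24 0x12432185463234523412010) 5 [1,3,2,1,5,4,3,2,1,0,7,5]))
 (.one (.stab 0 [])))))
 (.fork (.fork (.fork (.one (.edge 5 (wOf 23 0x32103254534623457123460) 8 [1,0,5,4,3,2,6,6]))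
 (.one (.stab 0 [])))
 (.fork (.one (.edge 5 (wOf 22 0x6643213234512312346632) 5 [4,3,2,1,0,3,2,4,7,5]))
 (.one (.stab 0 []))))
 (.fork (.fork (.one (.edge 5 (wOf 24 0x123215432534571234623210) 5 (wOf 14 0x67230123453234)))
 (.one (.stab 0 [])))
 (.fork (.one (.edge 5 (wOf 22 0x3454321345234632345712) 5 [3,5,4,3,2,1,0,6,4,3,7]))
 (.one (.stab 0 []))))))
 (.fork (.fork (.fork (.fork (.one (.edge 7 (wOf 22 0x3234321323462346323412) 6 [0,4,5,4,3,2,1,0,3,2,8,6]))
 (.one (.stab 0 [])))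
 (.fork (.one (.edge 5 (wOf 26 0x10210432157545345234123120) 5 (wOf 17 0x21764534672346231)))
 (.one (.stab 0 []))))
 (.fork (.fork (.one (.edge 5 (wOf 26 0x23210432106764634523412320) 6 (wOf 14 0x32312345712323)))
 (.one (.stab 0 [])))
 (.fork (.one (.edge 5 (wOf 24 0x32132754534523412323451) 5 (wOf 16 0x852312345346230)))
 (.one (.stab 0 [])))))
 (.fork (.fork (.fork (.one (.edge 6 (wOf 23 0x36764321634623450123423) 8 [3,2,1,0,5,4,3,2,7,6]))
 (.one (.stab 0 [])))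
 (.fork (.one (.edge 5 (wOf 22 0x3864321534543234581230) 5 (wOf 17 0x1623458123452320)))
 (.one (.stab 0 []))))
 (.fork (.fork (.one (.edge 5 (wOf 24 0x12132132345453462312342) 5 (wOf 14 0x64585234612321)))
 (.one (.stab 0 [])))
 (.fork (.one (.edge 9 (wOf 28 0x1043643213235453462346123458) 5 (wOf 15 0x523463401232345)))
 (.one (.stab 0 [])))))))
 (.fork (.fork (.fork (.fork (.fork (.one (.edge 5 (wOf 22 0x3543210346231234583430) 7 [3,5,4,3,2,1,0,6,4,3,2,5]))
 (.one (.edge 10 (wOf 22 0x643213854542323123401) 9 (wOf 18 0x12573451234643210))))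
 (.fork (.one (.edge 5 (wOf 23 0x1854321534683234631210) 5 (wOf 14 0x64672346123452)))
 (.one (.stab 0 []))))
 (.fork (.fork (.one (.edge 5 (wOf 24 0x21043255453468231234530) 8 (wOf 14 0x80123464312340)))
 (.one (.stab 0 [])))
 (.fork (.one (.edge 5 (wOf 26 0x1324854321342323455345310) 5 (wOf 13 0x3460123458532)))
 (.one (.stab 0 [])))))
 (.fork (.fork (.fork (.one (.edge 5 (wOf 13 0x6845323123451) 6 (wOf 13 0x5723460123430)))
 (.one (.stab 0 [])))
 (.fork (.one (.edge 5 (wOf 26 0x23213432103645523452341230) 5 (wOf 16 0x466312346234231)))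
 (.one (.stab 0 []))))
 (.fork (.fork (.one (.edge 5 (wOf 25 0x543264321554632346234612) 6 [3,2,1,0,5,4,3,5,5,4,7]))
 (.one (.stab 0 [])))
 (.fork (.one (.edge 5 (wOf 25 0x3215432764534642312340120) 5 (wOf 15 0x234501234663231)))
 (.one (.stab 0 []))))))
 (.fork (.fork (.fork (.fork (.one (.edge 6 (wOf 18 0x103862345123234571) 8 [0,1,6,4,3,2,1,0]))
 (.one (.stab 0 [])))
 (.fork (.one (.edge 5 (wOf 22 0x104355463234512342310) 5 (wOf 17 0x1764523461234620)))
 (.one (.stab 0 []))))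
 (.fork (.fork (.one (.edge 5 (wOf 23 0x45432105453423123468630) 5 [4,3,6,4,3,2,7,6]))
 (.one (.stab 0 [])))
 (.fork (.one (.edge 5 (wOf 25 0x3213543264634523123455501) 5 (wOf 13 0x8523012345346)))
 (.one (.stab 0 [])))))
 (.fork (.fork (.fork (.one (.edge 5 (wOf 25 0x1032146432534551234582341) 8 [0,2,3,2,1,6,6,4,3,2,5,8]))
 (.one (.stab 0 [])))
 (.fork (.one (.edge 5 (wOf 22 0x1210432545343231234554) 5 [2,1,3,5,4,3,2,1,3,7,6]))
 (.one (.stab 0 []))))
 (.fork (.fork (.one (.edge 5 (wOf 25 0x1032186435432345123463412) 5 [2,3,2,5,4,5,5,4,3,2,1,0]))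
 (.one (.stab 0 [])))
 (.fork (.one (.edge 5 (wOf 25 0x132132343543231230123455) 9 (wOf 13 0x5723012346012)))
 (.one (.stab 0 []))))))))

/-- a part of the facts -/
noncomputable def twFactsT25 : BT Fact := (.fork (.fork (.fork (.fork (.fork (.fork (.one (.stab 1 [2]))
 (.one (.edge 5 (wOf 23 0x5432543645234231234581) 9 [0,3,2,1,0,3,2,6])))
 (.fork (.one (.edge 5 (wOf 18 0x103623123453234573) 5 [1,0,3,2,1,5,5,4,3,2,6,6]))
 (.one (.stab 0 []))))
 (.fork (.fork (.one (.edge 5 (wOf 26 0x1323454321646345234671210) 5 (wOf 15 0x453450123468310)))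
 (.one (.stab 0 [])))
 (.fork (.one (.edge 5 (wOf 24 0x12323432863453123423210) 5 (wOf 14 0x62301234585301)))
 (.one (.stab 0 [])))))
 (.fork (.fork (.fork (.one (.edge 5 (wOf 22 0x1243218546323452346423) 6 [3,2,1,5,5,4,3,2,1,7]))
 (.one (.stab 0 [])))
 (.fork (.one (.edge 5 (wOf 19 0x123523123468301234) 5 [0,3,2]))
 (.one (.stab 0 []))))
 (.fork (.fork (.one (.edge 5 (wOf 24 0x43254325463452312345412) 6 (wOf 13 0x8523450123468)))
 (.one (.stab 0 [])))
 (.fork (.one (.edge 5 (wOf 21 0x104321643234573234632) 5 [2,1,0,3,2,1,0,3,5,4,3,2]))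
 (.one (.stab 0 []))))))
 (.fork (.fork (.fork (.fork (.one (.edge 8 (wOf 21 0x125454634231234674210) 6 (wOf 13 0x6746123466010)))
 (.one (.stab 0 [])))
 (.fork (.one (.edge 5 (wOf 21 0x323264532345346231231) 5 [3,2,1,4,5,8,5,4,3,2]))
 (.one (.stab 0 []))))
 (.fork (.fork (.one (.edge 5 (wOf 27 0x21323254325463462312346621) 8 [0,3,2,1,0,3,2,5,7,5]))
 (.one (.stab 0 [])))
 (.fork (.one (.edge 5 (wOf 27 0x121432176432545312345731234) 5 [3,5,4,5,4,3,2,1,0,3,2,5]))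
 (.one (.stab 0 [])))))
 (.fork (.fork (.fork (.one (.edge 5 (wOf 25 0x2464321323462345823123460) 7 (wOf 13 0x5230123454530)))
 (.one (.stab 0 [])))
 (.fork (.one (.edge 5 (wOf 25 0x123214321345823412323123) 5 (wOf 17 0x32457345123462320)))
 (.one (.stab 0 []))))
 (.fork (.fork (.one (.edge 5 (wOf 26 0x12454321324632346312345540) 3 [0,1,3,2,1,0,3,2,5,8]))
 (.one (.stab 0 [])))
 (.fork (.one (.edge 9 (wOf 25 0x102132432634631234662312) 5 (wOf 14 0x23012345342323)))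
 (.one (.stab 0 [])))))))
 (.fork (.fork (.fork (.fork (.fork (.one (.edge 4 [0,3,6,4,3,2,6] 3 (wOf 22 0x213255463452312346801)))
 (.one (.edge 9 (wOf 17 0x86432346812345012) 5 (wOf 14 0x51231234534323))))
 (.fork (.one (.edge 5 (wOf 24 0x132132105463462345123410) 5 (wOf 13 0x8645230123460)))
 (.one (.stab 0 []))))
 (.fork (.fork (.one (.edge 5 (wOf 25 0x213432103575453234312310) 5 (wOf 15 0x230123463454230)))
 (.one (.stab 0 [])))
 (.fork (.one (.edge 5 (wOf 23 0x43213232546634231234310) 5 (wOf 14 0x66234612345423)))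
 (.one (.stab 0 [])))))
 (.fork (.fork (.fork (.one (.edge 5 (wOf 24 0x121326664634623467123462) 6 [3,2,1,0,3,2,5,5,7]))
 (.one (.stab 0 [])))
 (.fork (.one (.edge 5 (wOf 23 0x10214321346462312346834) 5 (wOf 13 0x7523467123462)))
 (.one (.stab 0 []))))
 (.fork (.fork (.one (.edge 5 (wOf 23 0x6432105463467234612346) 5 (wOf 16 0x672346312346232)))
 (.one (.stab 0 [])))
 (.fork (.one (.edge 5 (wOf 23 0x21343643234612345123467) 5 [0,5,4,3,2,1,5,4,3,2,6,6]))
 (.one (.stab 0 []))))))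
 (.fork (.fork (.fork (.fork (.one (.edge 5 (wOf 25 0x354323764632345812342312) 7 (wOf 13 0x2346012345320)))
 (.one (.stab 0 [])))
 (.fork (.one (.edge 5 (wOf 25 0x1213216432634612345523120) 5 (wOf 15 0x523012346345720)))
 (.one (.stab 0 []))))
 (.fork (.fork (.one (.edge 5 (wOf 26 0x23214364321634572346323461) 7 [0,2,1,0,3,2,5,5,7]))
 (.one (.stab 0 [])))
 (.fork (.one (.edge 5 (wOf 24 0x12324321754323463423121) 5 (wOf 16 0x851234612345234)))
 (.one (.stab 0 [])))))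
 (.fork (.fork (.fork (.one (.edge 5 (wOf 23 0x13237643623123467231231) 4 (wOf 13 0x2301234634510)))
 (.one (.stab 0 [])))
 (.fork (.one (.edge 5 (wOf 22 0x1754325453452346234120) 5 (wOf 15 0x301234664323012)))
 (.one (.stab 0 []))))
 (.fork (.fork (.one (.edge 5 (wOf 25 0x2754326432546346712346230) 5 (wOf 18 0x213646623453123430)))
 (.one (.stab 0 [])))
 (.fork (.one (.edge 9 (wOf 17 0x43645723423123012) 5 (wOf 14 0x23458450123420)))
 (.one (.stab 0 []))))))))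

/-- a part of the facts -/
noncomputable def twFactsT26 : BT Fact := (.fork (.fork (.fork (.fork (.fork (.fork (.one (.edge 3 (wOf 23 0x3454321546346623012341) 3 (wOf 14 0x52345401230123)))
 (.one (.edge 9 (wOf 23 0x2143215463462345812312) 5 [0,2,1,0,5,5,4,3,2,5,8])))
 (.fork (.one (.edge 5 (wOf 22 0x1243237646323453123466) 5 [5,4,5,5,4,3,2,1,3,2,4]))
 (.one (.stab 0 []))))
 (.fork (.fork (.one (.edge 5 (wOf 23 0x32321043862346732312342) 8 [0,3,2,1,0,3,7,6]))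
 (.one (.stab 0 [])))
 (.fork (.one (.edge 5 (wOf 20 0x12321534523466301234) 5 [1,0,6,4,3,2,5,4,8]))
 (.one (.stab 0 [])))))
 (.fork (.fork (.fork (.one (.edge 8 (wOf 23 0x1543210554534231234621) 6 [1,0,3,2]))
 (.one (.stab 0 [])))
 (.fork (.one (.edge 5 (wOf 23 0x23210432346841232346410) 5 (wOf 14 0x62346801234642)))
 (.one (.stab 0 []))))
 (.fork (.fork (.one (.edge 5 (wOf 27 0x105432136432645834612312010) 8 (wOf 16 0x457234612345312)))
 (.one (.stab 0 [])))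
 (.fork (.one (.edge 5 (wOf 26 0x10215432864634662345123458) 5 (wOf 14 0x82345012346432)))
 (.one (.stab 0 []))))))
 (.fork (.fork (.fork (.fork (.one (.edge 7 (wOf 21 0x34323545732341232345) 3 (wOf 15 0x646601234123010)))
 (.one (.stab 0 [])))
 (.fork (.one (.edge 5 (wOf 26 0x43543213216432346463412321) 5 [0,5,4,3,2,1,0,3,2,5,8]))
 (.one (.stab 0 []))))
 (.fork (.fork (.one (.edge 5 (wOf 23 0x7643213464623234531234) 6 [0,2,1,0,3,2,5,5,7]))
 (.one (.stab 0 [])))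
 (.fork (.one (.edge 5 (wOf 25 0x4323215432584634123123468) 5 (wOf 18 0x16453234634523120)))
 (.one (.stab 0 [])))))
 (.fork (.fork (.fork (.one (.edge 5 (wOf 24 0x136432154534623461232345) 6 [1,4,3,2,1,6,6,4,3,2,6,7]))
 (.one (.stab 0 [])))
 (.fork (.one (.edge 5 (wOf 23 0x12485432346712345234501) 5 (wOf 17 0x2674531234532312)))
 (.one (.stab 0 []))))
 (.fork (.fork (.one (.edge 5 (wOf 25 0x213214543646723461234541) 5 (wOf 16 0x1573455234512340)))
 (.one (.stab 0 [])))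
 (.fork (.one (.edge 9 (wOf 22 0x8643232645345812341230) 3 (wOf 16 0x2466346123423010)))
 (.one (.stab 0 [])))))))
 (.fork (.fork (.fork (.fork (.fork (.one (.stab 8 (wOf 26 0x1021366432673461234623460)))
 (.one (.edge 5 (wOf 27 0x103464321323458345234612312) 9 [0,1,0,5,4,3,2,5,5,4,7,6])))
 (.fork (.one (.edge 5 (wOf 25 0x1232464321573234523423123) 5 (wOf 13 0x6732346231230)))
 (.one (.stab 0 []))))
 (.fork (.fork (.one (.edge 5 (wOf 23 0x3243218646342323466120) 6 (wOf 15 0x501234512346340)))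
 (.one (.stab 0 [])))
 (.fork (.one (.edge 5 (wOf 17 0x1853234673012342) 5 [0,1,0,4,7,6,4,3,2,6]))
 (.one (.stab 0 [])))))
 (.fork (.fork (.fork (.one (.edge 6 (wOf 24 0x102132321846323451234523) 8 [0,3,4,3,2,1,0,3,2,5,8]))
 (.one (.stab 0 [])))
 (.fork (.one (.edge 5 (wOf 19 0x1234683234612301210) 5 (wOf 17 0x2346745123462301)))
 (.one (.stab 0 []))))
 (.fork (.fork (.one (.edge 5 (wOf 22 0x134323546723463123450) 6 (wOf 13 0x6234646012312)))
 (.one (.stab 0 [])))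
 (.fork (.one (.edge 5 (wOf 22 0x1213214673423231234321) 5 (wOf 14 0x23451234534620)))
 (.one (.stab 0 []))))))
 (.fork (.fork (.fork (.fork (.one (.edge 6 (wOf 23 0x24385432631234553234643) 4 [1,0,2,4,6]))
 (.one (.stab 0 [])))
 (.fork (.one (.edge 5 (wOf 20 0x2543854623461234620) 5 (wOf 19 0x232754534512345232)))
 (.one (.stab 0 []))))
 (.fork (.fork (.one (.edge 5 (wOf 24 0x437543210634582342312010) 5 (wOf 17 0x2683453123467323)))
 (.one (.stab 0 [])))
 (.fork (.one (.edge 5 (wOf 27 0x13432136432763453123453231) 5 [3,5,5,4,3,2,1,3,7,6,4]))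
 (.one (.stab 0 [])))))
 (.fork (.fork (.fork (.one (.edge 5 (wOf 19 0x1325432346461234501) 7 (wOf 15 0x452345012345532)))
 (.one (.stab 0 [])))
 (.fork (.one (.edge 5 (wOf 24 0x102132132684634231231234) 5 [2,3,2,4,3,2,1,0,6,6,4,6]))
 (.one (.stab 0 []))))
 (.fork (.fork (.one (.edge 5 (wOf 20 0x64325453452346823462) 5 [0,4,6,6,4,3,2,5]))
 (.one (.stab 0 [])))
 (.fork (.one (.edge 9 (wOf 25 0x1210435432634581234230121) 8 (wOf 13 0x6823464012320)))
 (.one (.stab 0 []))))))))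

/-- a part of the facts -/
noncomputable def twFactsT27 : BT Fact := (.fork (.fork (.fork (.fork (.fork (.fork (.one (.edge 1 (wOf 18 0x376463234682345232) 2 [0,4,3,2,5,5,7]))
 (.one (.edge 5 (wOf 26 0x21643264321546634623412301) 9 [2,1,0,3,2,7])))
 (.fork (.one (.edge 5 (wOf 26 0x25432132437543234512342323) 5 [0,6,4,3,2,1,0,3,2,7,6]))
 (.one (.stab 0 []))))
 (.fork (.fork (.one (.edge 5 (wOf 25 0x2343854321346623451232010) 6 (wOf 13 0x6423012346742)))
 (.one (.stab 0 [])))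
 (.fork (.one (.edge 5 (wOf 18 0x213464323467342323) 5 (wOf 19 0x213454523451230120)))
 (.one (.stab 0 [])))))
 (.fork (.fork (.fork (.one (.edge 5 (wOf 23 0x1543213645232345123462) 8 [0,1,0,2,5,8,5,4,3,5]))
 (.one (.stab 0 [])))
 (.fork (.one (.edge 5 (wOf 23 0x2132164323454123234553) 5 (wOf 17 0x2853123463123430)))
 (.one (.stab 0 []))))
 (.fork (.fork (.one (.edge 6 (wOf 24 0x102154323674632346312312) 6 [2,3,2,1,0,5,4,8,5,4,3,2]))
 (.one (.stab 0 [])))
 (.fork (.one (.edge 5 (wOf 24 0x23643216458323461234631) 5 (wOf 15 0x230123458543012)))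
 (.one (.stab 0 []))))))
 (.fork (.fork (.fork (.fork (.one (.edge 5 (wOf 23 0x21032143645234543123012) 7 [1,0,3,6,4,3,2,1,0,3,6,7]))
 (.one (.stab 0 [])))
 (.fork (.one (.edge 5 (wOf 22 0x1324321863467232345343) 5 (wOf 16 0x2764534512345830)))
 (.one (.stab 0 []))))
 (.fork (.fork (.one (.edge 5 (wOf 23 0x21754326453231234553210) 5 (wOf 15 0x634523461234570)))
 (.one (.stab 0 [])))
 (.fork (.one (.edge 5 (wOf 26 0x36432324643234612345234673) 5 [0,3,4,5,4,3,2,1,3,2,8,6]))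
 (.one (.stab 0 [])))))
 (.fork (.fork (.fork (.one (.edge 5 (wOf 24 0x213285432534683123431230) 8 [0,1,0,5,4,3,2,6,6,4]))
 (.one (.stab 0 [])))
 (.fork (.one (.edge 5 (wOf 25 0x143543213234551234323120) 5 (wOf 15 0x646623455012345)))
 (.one (.stab 0 []))))
 (.fork (.fork (.one (.edge 5 (wOf 25 0x4543213286463462346712341) 5 (wOf 13 0x3454501234570)))
 (.one (.stab 0 [])))
 (.fork (.one (.edge 9 (wOf 26 0x2132321436458323461234581) 6 [2,3,2,1,0,5,8,5,4,3,2,6]))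
 (.one (.stab 0 [])))))))
 (.fork (.fork (.fork (.fork (.fork (.one (.stab 8 (wOf 23 0x12154321545343231234553)))
 (.one (.edge 9 (wOf 21 0x102147646346234582342) 5 (wOf 17 0x2663123453230120))))
 (.fork (.one (.edge 5 (wOf 21 0x13243546234643123121) 5 [3,7,6,4,3,2,1,3,2,1,5,8]))
 (.one (.stab 0 []))))
 (.fork (.fork (.one (.edge 5 (wOf 26 0x21325432164323464231234512) 6 [0,2,1,0,3,2,6]))
 (.one (.stab 0 [])))
 (.fork (.one (.edge 5 (wOf 24 0x121643213854634232346310) 5 (wOf 13 0x6230123453431)))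
 (.one (.stab 0 [])))))
 (.fork (.fork (.fork (.one (.edge 5 (wOf 22 0x2323764532343231234601) 8 [0,6,4,3,2,1,0,3,6,4,7,6]))
 (.one (.stab 0 [])))
 (.fork (.one (.edge 5 (wOf 24 0x185432321463423234543210) 5 (wOf 18 0x12674534123234674)))
 (.one (.stab 0 []))))
 (.fork (.fork (.one (.edge 5 (wOf 22 0x103216646634623458123) 5 (wOf 18 0x432345523123464323)))
 (.one (.stab 0 [])))
 (.fork (.one (.edge 5 (wOf 25 0x2324643264643231234532345) 5 (wOf 13 0x8523123464120)))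
 (.one (.stab 0 []))))))
 (.fork (.fork (.fork (.fork (.one (.edge 6 (wOf 24 0x124325543523453123453462) 7 [6,4,3,2,1,0,7,5,4,3,2,6]))
 (.one (.stab 0 [])))
 (.fork (.one (.edge 5 (wOf 21 0x243643723451234501230) 5 (wOf 14 0x67234501234623)))
 (.one (.stab 0 []))))
 (.fork (.fork (.one (.edge 5 (wOf 22 0x121346453468234512340) 8 (wOf 13 0x5723012346340)))
 (.one (.stab 0 [])))
 (.fork (.one (.edge 5 (wOf 23 0x1321432854583452345121) 5 (wOf 20 0x1210663462345123010)))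
 (.one (.stab 0 [])))))
 (.fork (.fork (.fork (.one (.edge 5 (wOf 25 0x2343213213464323455341201) 6 [0,3,2,1,7,5,4,3,2,6]))
 (.one (.stab 0 [])))
 (.fork (.one (.edge 5 (wOf 22 0x1024543542312346623453) 5 (wOf 16 0x3234523451234554)))
 (.one (.stab 0 []))))
 (.fork (.fork (.one (.edge 5 (wOf 26 0x6432754321646345823462310) 5 (wOf 13 0x6634530123468)))
 (.one (.stab 0 [])))
 (.fork (.one (.edge 9 (wOf 21 0x213243645342312346743) 5 [7,5,4,3,2,1,0,3,2,5]))
 (.one (.stab 0 []))))))))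

/-- a part of the facts -/
noncomputable def twFactsT28 : BT Fact := (.fork (.fork (.fork (.fork (.fork (.fork (.one (.edge 5 [] 1 [1,0,3,2,6]))
 (.one (.edge 9 (wOf 13 0x7523231234634) 5 (wOf 15 0x623450123462301))))
 (.fork (.one (.edge 5 (wOf 23 0x32543213455432345234521) 5 (wOf 14 0x23453460123452)))
 (.one (.stab 0 []))))
 (.fork (.fork (.one (.edge 5 (wOf 27 0x10213266432864634612345201) 8 [4,3,2,1,7,5,4,5,4,3,2]))
 (.one (.stab 0 [])))
 (.fork (.one (.edge 5 (wOf 20 0x3454532346323123421) 5 (wOf 13 0x2345746012301)))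
 (.one (.stab 0 [])))))
 (.fork (.fork (.fork (.one (.edge 5 (wOf 17 0x2683462345823452) 8 (wOf 17 0x2554634512345832)))
 (.one (.stab 0 [])))
 (.fork (.one (.edge 5 (wOf 27 0x10432186432534531234543120) 5 (wOf 15 0x523461234530121)))
 (.one (.stab 0 []))))
 (.fork (.fork (.one (.edge 5 (wOf 21 0x102103454523461234523) 5 (wOf 15 0x552301234542323)))
 (.one (.stab 0 [])))
 (.fork (.one (.edge 5 (wOf 21 0x12321646634232341230) 5 (wOf 16 0x234571234534230)))
 (.one (.stab 0 []))))))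
 (.fork (.fork (.fork (.fork (.one (.edge 8 (wOf 24 0x324321054532346612323123) 4 [8,6,4,3,2,3,2,1,0,5]))
 (.one (.stab 0 [])))
 (.fork (.one (.edge 5 (wOf 24 0x143285432531234553234321) 5 (wOf 13 0x6234601234670)))
 (.one (.stab 0 []))))
 (.fork (.fork (.one (.edge 5 (wOf 25 0x1364321326466342312346842) 6 [0,4,5,4,3,2,1,0,3,2,8]))
 (.one (.stab 0 [])))
 (.fork (.one (.edge 5 (wOf 27 0x432321754326463423123455012) 5 (wOf 14 0x62340123234532)))
 (.one (.stab 0 [])))))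
 (.fork (.fork (.fork (.one (.edge 5 (wOf 15 0x12345452345232) 7 (wOf 13 0x6230123453230)))
 (.one (.stab 0 [])))
 (.fork (.one (.edge 5 (wOf 25 0x3643218543546234523467121) 5 (wOf 17 0x1453234545232310)))
 (.one (.stab 0 []))))
 (.fork (.fork (.one (.edge 5 (wOf 23 0x12323432646346123455120) 6 [0,1,0,2,6,4,3,5,8]))
 (.one (.stab 0 [])))
 (.fork (.one (.edge 9 (wOf 22 0x4321323864634323123464) 5 (wOf 15 0x623460123234584)))
 (.one (.stab 0 [])))))))
 (.fork (.fork (.fork (.fork (.fork (.one (.edge 6 (wOf 27 0x12143643213864523412312310) 3 [3,2,1,3,4,3,2,1,6]))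
 (.one (.edge 10 (wOf 19 0x643823454123012346) 5 (wOf 13 0x6234553012301))))
 (.fork (.one (.edge 5 (wOf 22 0x2364323854623123012346) 5 [2,1,0,3,2,1,5,4,3,2,6]))
 (.one (.stab 0 []))))
 (.fork (.fork (.one (.edge 5 (wOf 26 0x21432164321646345234683121) 7 (wOf 15 0x852301234612345)))
 (.one (.stab 0 [])))
 (.fork (.one (.edge 5 (wOf 25 0x2354323214645323466312340) 5 [4,3,6,4,3,2,1,0,3,2,7,6]))
 (.one (.stab 0 [])))))
 (.fork (.fork (.fork (.one (.edge 5 (wOf 20 0x4328546346234523462) 6 [0,4,5,4,3,2,6,7]))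
 (.one (.stab 0 [])))
 (.fork (.one (.edge 5 (wOf 25 0x102157543645234612323464) 5 (wOf 13 0x5546234501234)))
 (.one (.stab 0 []))))
 (.fork (.fork (.one (.edge 5 (wOf 25 0x1543232154543234512346421) 6 [3,2,1,5,4,3,6,6]))
 (.one (.stab 0 [])))
 (.fork (.one (.edge 5 (wOf 27 0x123754321543545234551231231) 5 [2,3,2,1,0,4,7,6,4,3,2,6]))
 (.one (.stab 0 []))))))
 (.fork (.fork (.fork (.fork (.one (.edge 4 [0,1,2,1,0,5,4,5,7] 8 [0,1,2,1,0,5,8]))
 (.one (.stab 0 [])))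
 (.fork (.one (.edge 5 (wOf 24 0x134364321634523461234663) 5 [2,4,3,6,4,3,2,1,0,3,2,4]))
 (.one (.stab 0 []))))
 (.fork (.fork (.one (.edge 6 (wOf 23 0x23254385453234582312310) 5 (wOf 16 0x623461234542320)))
 (.one (.stab 0 [])))
 (.fork (.one (.edge 5 (wOf 24 0x10327543546234512345841) 5 (wOf 15 0x762345012346620)))
 (.one (.stab 0 [])))))
 (.fork (.fork (.fork (.one (.edge 5 (wOf 26 0x23214864323646234123123463) 8 [2,3,2,1,5,5,4,3,2,1]))
 (.one (.stab 0 [])))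
 (.fork (.one (.edge 5 (wOf 24 0x464321326463452346323452) 5 (wOf 13 0x2345801234520)))
 (.one (.stab 0 []))))
 (.fork (.fork (.one (.edge 5 (wOf 27 0x12321466432634612323412323) 5 [6,4,3,2,1,3,5,4,3]))
 (.one (.stab 0 [])))
 (.fork (.one (.edge 9 (wOf 25 0x3234364321573234523452341) 9 [1,0,3,2,1,0,3,2,6]))
 (.one (.stab 0 []))))))))

/-- a part of the facts -/
noncomputable def twFactsT29 : BT Fact := (.fork (.fork (.fork (.fork (.fork (.fork (.one (.stab 2 [8]))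
 (.one (.edge 5 (wOf 23 0x4321364754323412323120) 9 [0,1,0,6,6,4,3,2,6,4,7,6])))
 (.fork (.one (.edge 5 (wOf 18 0x121864634623462341) 5 (wOf 17 0x21645323453230120)))
 (.one (.stab 0 []))))
 (.fork (.fork (.one (.edge 5 (wOf 16 0x3574323123450123) 6 (wOf 15 0x646623460123201)))
 (.one (.stab 0 [])))
 (.fork (.one (.edge 5 (wOf 22 0x1364643234623123423231) 5 (wOf 14 0x46012345234623)))
 (.one (.stab 0 [])))))
 (.fork (.fork (.fork (.one (.edge 5 (wOf 17 0x1763234540123234) 7 [0,5,4,3,2,5]))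
 (.one (.stab 0 [])))
 (.fork (.one (.edge 5 (wOf 22 0x1036432634555123234312) 5 (wOf 15 0x401232345534532)))
 (.one (.stab 0 []))))
 (.fork (.fork (.one (.edge 5 (wOf 26 0x14643213210466345231231210) 6 [0,4,5,4,3,2,1,3,2,6,7]))
 (.one (.stab 0 [])))
 (.fork (.one (.edge 5 (wOf 24 0x10323432643123123464310) 5 [3,2,6,4,3,2,1,3,6,4,3,2]))
 (.one (.stab 0 []))))))
 (.fork (.fork (.fork (.fork (.one (.edge 6 (wOf 18 0x324634582346234542) 4 [0,4,5,4,3]))
 (.one (.stab 0 [])))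
 (.fork (.one (.edge 5 (wOf 17 0x5468323123401232) 5 [4,3,2,3,2,1]))
 (.one (.stab 0 []))))
 (.fork (.fork (.one (.edge 5 (wOf 21 0x13234854632345323467) 3 [3,2,3,6,4,3,2,1,3,4,7,6]))
 (.one (.stab 0 [])))
 (.fork (.one (.edge 5 (wOf 26 0x1064321054634523452346710) 5 [3,6,4,3,2,1,0,3,2]))
 (.one (.stab 0 [])))))
 (.fork (.fork (.fork (.one (.edge 5 (wOf 24 0x12464325453452346712341) 8 [1,0,4,6,6,4,3,2,5]))
 (.one (.stab 0 [])))
 (.fork (.one (.edge 5 (wOf 20 0x14325432346123467323) 5 [0,1,3,6,6,4,3,2,6]))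
 (.one (.stab 0 []))))
 (.fork (.fork (.one (.edge 5 (wOf 24 0x21323215453234646231210) 5 (wOf 17 0x2853451234623430)))
 (.one (.stab 0 [])))
 (.fork (.one (.edge 9 (wOf 25 0x264326432546831234542312) 5 (wOf 13 0x5301234543232)))
 (.one (.stab 0 [])))))))
 (.fork (.fork (.fork (.fork (.fork (.one (.edge 2 [1,5,5,7] 8 []))
 (.one (.edge 9 (wOf 21 0x102134543234623463120) 5 (wOf 18 0x21634674323453423))))
 (.fork (.one (.edge 5 (wOf 19 0x2432684534523234634) 5 [3,2,7,6,4,3,2,3]))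
 (.one (.stab 0 []))))
 (.fork (.fork (.one (.edge 5 (wOf 23 0x35432132454573123453210) 5 (wOf 14 0x46234573123453)))
 (.one (.stab 0 [])))
 (.fork (.one (.edge 5 (wOf 24 0x213213254863423123464310) 5 (wOf 16 0x523451234683232)))
 (.one (.stab 0 [])))))
 (.fork (.fork (.fork (.one (.edge 5 (wOf 23 0x23246432863412323461230) 7 (wOf 14 0x23460123454120)))
 (.one (.stab 0 [])))
 (.fork (.one (.edge 5 (wOf 23 0x10214323546231234674231) 5 (wOf 14 0x23466312346323)))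
 (.one (.stab 0 []))))
 (.fork (.fork (.one (.edge 5 (wOf 24 0x10321032846346123123432) 5 (wOf 15 0x746230123453420)))
 (.one (.stab 0 [])))
 (.fork (.one (.edge 5 (wOf 19 0x364683234512346323) 5 [3,2,5,5,4,3,2,1,3,2]))
 (.one (.stab 0 []))))))
 (.fork (.fork (.fork (.fork (.one (.edge 5 (wOf 24 0x124364321634623461234123) 4 [0,2,1,4,5,4,3,2,1,3,8,6]))
 (.one (.stab 0 [])))
 (.fork (.one (.edge 5 (wOf 26 0x21323454321545323453461230) 5 (wOf 14 0x50123466234523)))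
 (.one (.stab 0 []))))
 (.fork (.fork (.one (.edge 5 (wOf 25 0x2325432154663234631234120) 8 [1,0,3,7,5,4,3,6]))
 (.one (.stab 0 [])))
 (.fork (.one (.edge 5 (wOf 23 0x2143213854632346232310) 5 [4,3,2,1,0,6,8,6,4,3,2]))
 (.one (.stab 0 [])))))
 (.fork (.fork (.fork (.one (.edge 5 (wOf 23 0x3432132545346623451201) 5 (wOf 16 0x2663123453234510)))
 (.one (.stab 0 [])))
 (.fork (.one (.edge 5 (wOf 25 0x1324321754534523457231232) 5 (wOf 15 0x301234584532301)))
 (.one (.stab 0 []))))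
 (.fork (.fork (.one (.edge 5 (wOf 21 0x21343523451234601230) 5 (wOf 15 0x662346012345431)))
 (.one (.stab 0 [])))
 (.fork (.one (.edge 9 (wOf 25 0x104321643764632345123234) 5 (wOf 13 0x5234612346460)))
 (.one (.stab 0 []))))))))

/-- a part of the facts -/
noncomputable def twFactsT30 : BT Fact := (.fork (.fork (.fork (.fork (.fork (.fork (.one (.edge 3 (wOf 13 0x6723451230123) 3 (wOf 16 0x453234581230123)))
 (.one (.edge 9 (wOf 26 0x32326643213546323458523210) 5 (wOf 15 0x623455012323455))))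
 (.fork (.one (.edge 5 (wOf 26 0x21324364321323454312345710) 5 (wOf 15 0x460123458531234)))
 (.one (.stab 0 []))))
 (.fork (.fork (.one (.edge 5 (wOf 21 0x103215466345234582321) 8 [0,5,4,3,2,1,0,3,2,4,7,6]))
 (.one (.stab 0 [])))
 (.fork (.one (.edge 5 (wOf 21 0x102103234574631234531) 5 [3,5,4,3,2,6,4,6,4,3,2,1]))
 (.one (.stab 0 [])))))
 (.fork (.fork (.fork (.one (.edge 5 (wOf 26 0x1215543210346234552312341) 7 (wOf 16 0x746462312346320)))
 (.one (.stab 0 [])))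
 (.fork (.one (.edge 5 (wOf 24 0x10323432534631234530121) 5 (wOf 14 0x85346012346420)))
 (.one (.stab 0 []))))
 (.fork (.fork (.one (.edge 5 (wOf 26 0x12134326432546345123453421) 8 [3,2,1,0,5,4,3,2]))
 (.one (.stab 0 [])))
 (.fork (.one (.edge 5 (wOf 26 0x4854321364553234623123012) 5 (wOf 16 0x234571234532340)))
 (.one (.stab 0 []))))))
 (.fork (.fork (.fork (.fork (.one (.edge 7 (wOf 25 0x4323246432573453234612323) 7 [0,3,2,1,0,3,2,6,4]))
 (.one (.stab 0 [])))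
 (.fork (.one (.edge 5 (wOf 24 0x234854321543234673123452) 5 (wOf 15 0x234570123455312)))
 (.one (.stab 0 []))))
 (.fork (.fork (.one (.edge 5 (wOf 23 0x10321043523453123457410) 6 [0,1,0,3,2,5,5,5]))
 (.one (.stab 0 [])))
 (.fork (.one (.edge 5 (wOf 26 0x43216432164534582323453121) 5 (wOf 16 0x755231234532340)))
 (.one (.stab 0 [])))))
 (.fork (.fork (.fork (.one (.edge 5 (wOf 22 0x102132834543123454232) 7 [0,6,4,3,2,1,7,5,4,5,4,3]))
 (.one (.stab 0 [])))
 (.fork (.one (.edge 5 (wOf 25 0x1432643215543234671234321) 5 (wOf 13 0x8462346012321)))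
 (.one (.stab 0 []))))
 (.fork (.fork (.one (.edge 5 (wOf 22 0x4354543231234623234663) 6 [0,1,2,5,4,7,6,4,3,2]))
 (.one (.stab 0 [])))
 (.fork (.one (.edge 9 (wOf 17 0x23854323455412321) 5 (wOf 17 0x2345512345342320)))
 (.one (.stab 0 [])))))))
 (.fork (.fork (.fork (.fork (.fork (.one (.edge 5 (wOf 22 0x1055432531234662323432) 7 [3,2,1,0,6,4,3,2,5,4,6]))
 (.one (.edge 5 (wOf 25 0x213264321545323453234573) 9 (wOf 14 0x23464601234323))))
 (.fork (.one (.edge 5 (wOf 23 0x1321321634632345532310) 5 (wOf 15 0x755230123453012)))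
 (.one (.stab 0 []))))
 (.fork (.fork (.one (.edge 5 (wOf 24 0x14321064553452345823421) 6 [0,1,3,2,1,0,6,6,4,3,2]))
 (.one (.stab 0 [])))
 (.fork (.one (.edge 5 (wOf 26 0x2154321854634623464123120) 5 [0,3,5,4,3,2,1,0,3,2,6]))
 (.one (.stab 0 [])))))
 (.fork (.fork (.fork (.one (.edge 5 (wOf 24 0x32154321543234583123464) 5 [0,2,1,0,3,2,6]))
 (.one (.stab 0 [])))
 (.fork (.one (.edge 5 (wOf 25 0x3432164326463452312346810) 5 (wOf 14 0x23454512346620)))
 (.one (.stab 0 []))))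
 (.fork (.fork (.one (.edge 5 (wOf 26 0x1232343210674534523123431) 6 (wOf 13 0x6012346123450)))
 (.one (.stab 0 [])))
 (.fork (.one (.edge 5 (wOf 22 0x436432553123452312345) 5 (wOf 14 0x64534501234612)))
 (.one (.stab 0 []))))))
 (.fork (.fork (.fork (.fork (.one (.edge 8 (wOf 20 0x21343234612301234570) 6 [3,2,1,0,3,2,7]))
 (.one (.stab 0 [])))
 (.fork (.one (.edge 5 (wOf 23 0x1213432634532312345542) 5 (wOf 14 0x52346712346323)))
 (.one (.stab 0 []))))
 (.fork (.fork (.one (.edge 5 (wOf 24 0x43213254663234612346230) 5 (wOf 15 0x234601234542320)))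
 (.one (.stab 0 [])))
 (.fork (.one (.edge 5 (wOf 23 0x12132136453234583231230) 5 (wOf 16 0x523123454532340)))
 (.one (.stab 0 [])))))
 (.fork (.fork (.fork (.one (.edge 5 (wOf 22 0x103210834523452312342) 8 [1,0,6,4,3,2,6,4]))
 (.one (.stab 0 [])))
 (.fork (.one (.edge 5 (wOf 25 0x213213210545345234681210) 5 [0,5,4,6,6,4,3,2,1,0,3,2]))
 (.one (.stab 0 []))))
 (.fork (.fork (.one (.edge 5 (wOf 24 0x232143276453452346412321) 5 (wOf 13 0x6623123453230)))
 (.one (.stab 0 [])))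
 (.fork (.one (.edge 5 (wOf 17 0x2345453231234301) 9 [2,1,0,3,2,1,0,3,2,6,6]))
 (.one (.stab 0 []))))))))

/-- a part of the facts -/
noncomputable def twFactsT31 : BT Fact := (.fork (.fork (.fork (.fork (.fork (.fork (.one (.edge 3 (wOf 19 0x3432634631230123421) 2 [1,0,2,1,3,2,6]))
 (.one (.edge 5 (wOf 19 0x3210753432312346632) 9 (wOf 15 0x701234612346623))))
 (.fork (.one (.edge 5 (wOf 21 0x321764534623234553412) 5 (wOf 17 0x21646323453123010)))
 (.one (.stab 0 []))))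
 (.fork (.fork (.one (.edge 5 (wOf 23 0x1210321453466234523423) 7 (wOf 21 0x102132534623123463420)))
 (.one (.stab 0 [])))
 (.fork (.one (.edge 5 (wOf 22 0x1232543523461234632346) 5 (wOf 13 0x6742301234551)))
 (.one (.stab 0 [])))))
 (.fork (.fork (.fork (.one (.edge 5 (wOf 23 0x12154321546342323466120) 5 (wOf 16 0x2731234543123012)))
 (.one (.stab 0 [])))
 (.fork (.one (.edge 5 (wOf 24 0x164321321673463234542321) 5 [0,3,7,6,4,3,2,1,0,3,6]))
 (.one (.stab 0 []))))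
 (.fork (.fork (.one (.edge 5 (wOf 26 0x75432354321545323452346710) 6 [3,2,1,0,5,4,3,2,5,4,8]))
 (.one (.stab 0 [])))
 (.fork (.one (.edge 5 (wOf 27 0x15543232164573452345123464) 5 [0,2,1,4,7,5,4,3,2,1,0,6]))
 (.one (.stab 0 []))))))
 (.fork (.fork (.fork (.fork (.one (.edge 5 (wOf 20 0x24321674534230123463) 6 [0,7,6,4,3,2,6]))
 (.one (.stab 0 [])))
 (.fork (.one (.edge 5 (wOf 26 0x10321345432534632345831234) 5 (wOf 13 0x2345312345734)))
 (.one (.stab 0 []))))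
 (.fork (.fork (.one (.edge 5 (wOf 26 0x1215486432346123452323463) 5 (wOf 16 0x2683123454323010)))
 (.one (.stab 0 [])))
 (.fork (.one (.edge 5 (wOf 25 0x102143213864623463234510) 5 (wOf 17 0x32534512312346312)))
 (.one (.stab 0 [])))))
 (.fork (.fork (.fork (.one (.edge 5 (wOf 22 0x123235546342312345734) 5 (wOf 15 0x572301234634301)))
 (.one (.stab 0 [])))
 (.fork (.one (.edge 5 (wOf 26 0x1321432132432346845341231) 5 (wOf 17 0x2634612345323120)))
 (.one (.stab 0 []))))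
 (.fork (.fork (.one (.edge 5 (wOf 26 0x12326432135457342312343121) 5 (wOf 16 0x234612345346230)))
 (.one (.stab 0 [])))
 (.fork (.one (.edge 9 (wOf 24 0x121435432345842323464123) 7 [5,4,3,2,1,0,3,2,5,8,5]))
 (.one (.stab 0 [])))))))
 (.fork (.fork (.fork (.fork (.fork (.one (.edge 8 (wOf 19 0x346464323123012345) 6 [0,6,4,6,4,3,2,6]))
 (.one (.edge 9 (wOf 23 0x32321466432312346832343) 9 (wOf 13 0x4646345012320))))
 (.fork (.one (.edge 5 (wOf 22 0x1254321323468453234612) 5 (wOf 15 0x423123466453230)))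
 (.one (.stab 0 []))))
 (.fork (.fork (.one (.edge 5 (wOf 24 0x232132437643234554231234) 6 [0,1,2,1,6,4,3,2,5,8]))
 (.one (.stab 0 [])))
 (.fork (.one (.edge 5 (wOf 22 0x213213546234543123451) 5 (wOf 14 0x72301234543230)))
 (.one (.stab 0 [])))))
 (.fork (.fork (.fork (.one (.edge 5 (wOf 20 0x1864532312346312312) 8 [3,2,1,0,5,4,3,2,5]))
 (.one (.stab 0 [])))
 (.fork (.one (.edge 5 (wOf 24 0x164326643554623123461234) 5 [6,4,3,2,3,2,1,0,5,4,3]))
 (.one (.stab 0 []))))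
 (.fork (.fork (.one (.edge 5 (wOf 24 0x121032186463234672312340) 6 [5,4,3,2,1,0,6,4,3,2,8]))
 (.one (.stab 0 [])))
 (.fork (.one (.edge 5 (wOf 25 0x2132135543645234612345012) 5 (wOf 14 0x34601234663232)))
 (.one (.stab 0 []))))))
 (.fork (.fork (.fork (.fork (.one (.edge 8 [0,1,0,2,1,0,4,6,6,6] 8 [0,2,6,6]))
 (.one (.stab 0 [])))
 (.fork (.one (.edge 5 (wOf 23 0x45432103454572312345312) 5 (wOf 18 0x12345123458532340)))
 (.one (.stab 0 []))))
 (.fork (.fork (.one (.edge 5 (wOf 24 0x32643216643234571234530) 4 [1,0,3,2,5,4,5,8]))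
 (.one (.stab 0 [])))
 (.fork (.one (.edge 5 (wOf 22 0x132321464632345232345) 5 [1,0,3,2,1,0,5,4,3,2,5,8]))
 (.one (.stab 0 [])))))
 (.fork (.fork (.fork (.one (.edge 5 (wOf 21 0x643232545834512345010) 6 [1,3,2,6,4,3,2,3]))
 (.one (.stab 0 [])))
 (.fork (.one (.edge 5 (wOf 25 0x436432136646323452346321) 5 (wOf 14 0x86230123464323)))
 (.one (.stab 0 []))))
 (.fork (.fork (.one (.edge 5 (wOf 25 0x2354323643646231234571234) 5 (wOf 13 0x6345012345850)))
 (.one (.stab 0 [])))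
 (.fork (.one (.edge 9 (wOf 16 0x1553458234523123) 6 [2,1,0,6,4,3,2,7,6]))
 (.one (.stab 0 []))))))))

/-- a part of the facts -/
noncomputable def twFactsT32 : BT Fact := (.fork (.fork (.fork (.fork (.fork (.fork (.one (.edge 3 [1,3,2,5,8] 6 (wOf 20 0x34664323412301234553)))
 (.one (.edge 9 (wOf 22 0x166432634683423123210) 5 [0,2,1,0,3,2,7,6,4])))
 (.fork (.one (.edge 5 (wOf 23 0x1021343231234634523451) 5 (wOf 17 0x2453451234534323)))
 (.one (.stab 0 []))))
 (.fork (.fork (.one (.edge 5 (wOf 26 0x1243215432834623451234623) 5 [1,3,2,1,0,6]))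
 (.one (.stab 0 [])))
 (.fork (.one (.edge 5 (wOf 26 0x13254321643854623451234301) 5 (wOf 17 0x1462346462346231)))
 (.one (.stab 0 [])))))
 (.fork (.fork (.fork (.one (.edge 5 (wOf 23 0x46432132834612346712341) 4 (wOf 13 0x2301234634520)))
 (.one (.stab 0 [])))
 (.fork (.one (.edge 5 (wOf 26 0x1213243643862342312345812) 5 (wOf 17 0x2345451234512301)))
 (.one (.stab 0 []))))
 (.fork (.fork (.one (.edge 5 (wOf 25 0x123432132545743123455323) 5 (wOf 18 0x21463453234634231)))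
 (.one (.stab 0 [])))
 (.fork (.one (.edge 5 (wOf 24 0x147643236455323123452345) 5 (wOf 17 0x2431234664323010)))
 (.one (.stab 0 []))))))
 (.fork (.fork (.fork (.fork (.one (.edge 5 (wOf 18 0x343645323458234232) 6 [0,4,3,2,7,6]))
 (.one (.stab 0 [])))
 (.fork (.one (.edge 5 (wOf 27 0x215432543210734623452345232) 5 (wOf 16 0x461234661234620)))
 (.one (.stab 0 []))))
 (.fork (.fork (.one (.edge 5 (wOf 24 0x21364321634623464232312) 6 [0,2,1,0,3,2,7,6]))
 (.one (.stab 0 [])))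
 (.fork (.one (.edge 5 (wOf 22 0x2132146843234543234510) 5 (wOf 16 0x623457123462345)))
 (.one (.stab 0 [])))))
 (.fork (.fork (.fork (.one (.edge 5 (wOf 20 0x32103846234631234523) 8 [0,6,6,4,3,2,1,0,3,2,4,6]))
 (.one (.stab 0 [])))
 (.fork (.one (.edge 5 (wOf 25 0x3264323643672312346343232) 5 [3,4,6,4,3,2,1,0,3,2,5,5]))
 (.one (.stab 0 []))))
 (.fork (.fork (.one (.edge 5 (wOf 22 0x4321348543234551232343) 5 [2,3,4,6,4,3,2,1,0,3,5,5]))
 (.one (.stab 0 [])))
 (.fork (.one (.edge 9 (wOf 21 0x216432634683123401230) 5 [3,4,3,2,1,0,6,6,4,3,2,5]))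
 (.one (.stab 0 [])))))))
 (.fork (.fork (.fork (.fork (.fork (.one (.edge 8 (wOf 23 0x1321754534623461234643) 6 [1,3,2,3,2,1,5,4,3,2,1,6]))
 (.one (.edge 5 (wOf 21 0x254321584534230123432) 10 (wOf 13 0x2301234523410))))
 (.fork (.one (.edge 5 (wOf 26 0x23213254321634634523234120) 5 [4,6,4,3,5,4,3,2,1,3,2]))
 (.one (.stab 0 []))))
 (.fork (.fork (.one (.edge 5 (wOf 19 0x243545234681232010) 8 (wOf 16 0x234572345123460)))
 (.one (.stab 0 [])))
 (.fork (.one (.edge 5 (wOf 26 0x1243218543545234571234510) 5 (wOf 15 0x323452346123452)))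
 (.one (.stab 0 [])))))
 (.fork (.fork (.fork (.one (.edge 5 [5,5,4,3,5,4,5] 7 [3,2,1,0,6,4,3,2,7,5]))
 (.one (.stab 0 [])))
 (.fork (.one (.edge 5 (wOf 24 0x105454321345232345453123) 5 (wOf 13 0x2346012346620)))
 (.one (.stab 0 []))))
 (.fork (.fork (.one (.edge 5 (wOf 24 0x13234385432342312346840) 7 (wOf 16 0x123457461234620)))
 (.one (.stab 0 [])))
 (.fork (.one (.edge 9 (wOf 20 0x10210732345312345323) 6 [1,2,1,0,5,4,3,5,7,5]))
 (.one (.stab 0 []))))))
 (.fork (.fork (.fork (.fork (.one (.edge 5 (wOf 26 0x2132436432346845123234634) 3 [2,3,2,1,0,5,4,3,2]))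
 (.one (.stab 0 [])))
 (.fork (.one (.edge 5 (wOf 20 0x2326463452346123234) 5 [2,3,2,1,0,5,4,7,6,4,3,2]))
 (.one (.stab 0 []))))
 (.fork (.fork (.one (.edge 5 (wOf 19 0x2104646323412301234) 5 [1,0,6,6]))
 (.one (.stab 0 [])))
 (.fork (.one (.edge 5 (wOf 24 0x121454321346234523012312) 5 (wOf 13 0x8452346012345)))
 (.one (.stab 0 [])))))
 (.fork (.fork (.fork (.one (.edge 5 (wOf 21 0x213235432346431234552) 5 (wOf 14 0x62345801234601)))
 (.one (.stab 0 [])))
 (.fork (.one (.edge 5 (wOf 26 0x21032135543545723462312346) 5 (wOf 16 0x623461234634232)))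
 (.one (.stab 0 []))))
 (.fork (.fork (.one (.edge 5 (wOf 26 0x1376432132646734623412301) 5 (wOf 14 0x57230123462323)))
 (.one (.stab 0 [])))
 (.fork (.one (.edge 5 (wOf 22 0x1217543546234612323412) 9 [0,2,3,2,1,0,4,3,2,7,6]))
 (.one (.stab 0 []))))))))

/-- a part of the facts -/
noncomputable def twFactsT33 : BT Fact := (.fork (.fork (.fork (.fork (.fork (.fork (.one (.stab 0 [2]))
 (.one (.edge 5 (wOf 26 0x43213754321545346623451234) 9 [0,1,0,4,3,2,1,0,5,5,7])))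
 (.fork (.one (.edge 5 (wOf 26 0x21043643213664323123454321) 6 (wOf 14 0x23466623401230)))
 (.one (.stab 0 []))))
 (.fork (.fork (.one (.edge 6 (wOf 21 0x346432834512342301232) 5 [6,8,6,4,3,2,1,0,3,2,6]))
 (.one (.stab 0 [])))
 (.fork (.one (.edge 5 (wOf 24 0x366432321464323463123450) 5 (wOf 16 0x645312346323430)))
 (.one (.stab 0 [])))))
 (.fork (.fork (.fork (.one (.edge 5 (wOf 22 0x3432354323123468234120) 4 (wOf 13 0x2345301234530)))
 (.one (.stab 0 [])))
 (.fork (.one (.edge 5 (wOf 26 0x10210321643645823461234601) 5 (wOf 14 0x85230123453231)))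
 (.one (.stab 0 []))))
 (.fork (.fork (.one (.edge 5 (wOf 20 0x12454323451234552312) 6 [0,1,0,3,2,5,8]))
 (.one (.stab 0 [])))
 (.fork (.one (.edge 5 (wOf 24 0x43215543542312346463120) 5 [3,4,6,4,3,2,1,0,3,6,8]))
 (.one (.stab 0 []))))))
 (.fork (.fork (.fork (.fork (.one (.edge 5 (wOf 23 0x1021554323458123423120) 8 [4,5,4,3,2,1,3,2,1,0,8,6]))
 (.one (.edge 9 (wOf 25 0x1232432132645346823464120) 10 [0,1,2,3,2,1,0,5,5,4,3,6])))
 (.fork (.one (.edge 5 (wOf 24 0x121364323764542312346310) 5 (wOf 14 0x23012345834301)))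
 (.one (.stab 0 []))))
 (.fork (.fork (.one (.edge 5 (wOf 27 0x286432154321346234541232010) 8 [2,3,2,5,4,3,2,1,0,8,5]))
 (.one (.stab 0 [])))
 (.fork (.one (.edge 5 (wOf 24 0x324355432634681234623463) 5 (wOf 14 0x23012346732321)))
 (.one (.stab 0 [])))))
 (.fork (.fork (.fork (.one (.edge 5 (wOf 26 0x5432354321683463234612320) 7 [1,6,4,7,5,4,3,2,1,0,3,2]))
 (.one (.stab 0 [])))
 (.fork (.one (.edge 5 (wOf 23 0x3214386453234543123012) 5 (wOf 13 0x7553450123451)))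
 (.one (.stab 0 []))))
 (.fork (.fork (.one (.edge 5 (wOf 26 0x12106432854534623451234231) 8 [4,3,6,4,3,2,1,3,2,1,0,6]))
 (.one (.stab 0 [])))
 (.fork (.one (.edge 9 (wOf 25 0x123643232646341232346310) 5 (wOf 14 0x12345312345532)))
 (.one (.stab 0 [])))))))
 (.fork (.fork (.fork (.fork (.fork (.one (.edge 4 [0,1,2,1] 7 (wOf 18 0x34732312301234323)))
 (.one (.edge 9 (wOf 25 0x103214864323451234523451) 5 (wOf 13 0x6734501234620))))
 (.fork (.one (.edge 5 (wOf 23 0x3454321753452323458342) 5 [3,2,1,0,6,4,3,7]))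
 (.one (.stab 0 []))))
 (.fork (.fork (.one (.edge 6 (wOf 24 0x121464321584534623468210) 5 (wOf 14 0x85234660123462)))
 (.one (.stab 0 [])))
 (.fork (.one (.edge 5 (wOf 23 0x1354543234523123466321) 5 (wOf 15 0x234501234673423)))
 (.one (.stab 0 [])))))
 (.fork (.fork (.fork (.one (.edge 5 (wOf 22 0x1232643585423123461201) 5 (wOf 13 0x7230123463401)))
 (.one (.stab 0 [])))
 (.fork (.one (.edge 5 (wOf 23 0x1023214534634231234543) 5 (wOf 16 0x623461234573231)))
 (.one (.stab 0 []))))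
 (.fork (.fork (.one (.edge 5 (wOf 15 0x843123463012342) 5 (wOf 13 0x3468451234512)))
 (.one (.stab 0 [])))
 (.fork (.one (.edge 5 (wOf 23 0x14543216746346234572346) 5 (wOf 15 0x646123451234623)))
 (.one (.stab 0 []))))))
 (.fork (.fork (.fork (.fork (.one (.edge 5 (wOf 20 0x64325458345231234501) 6 [1,0,5,4,3,2,6,4,6]))
 (.one (.stab 0 [])))
 (.fork (.one (.edge 5 (wOf 16 0x123458234530123) 5 (wOf 18 0x21746323454323010)))
 (.one (.stab 0 []))))
 (.fork (.fork (.one (.edge 5 (wOf 25 0x643216432585453423123123) 7 [0,1,2,1,0,3,6,4,3,2]))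
 (.one (.stab 0 [])))
 (.fork (.one (.edge 5 (wOf 26 0x23264321032463462345732346) 5 (wOf 16 0x512346641232010)))
 (.one (.stab 0 [])))))
 (.fork (.fork (.fork (.one (.edge 6 (wOf 22 0x2543254583452346623121) 8 [0,5,4,3,2,1,0,3,2,5,4,6]))
 (.one (.stab 0 [])))
 (.fork (.one (.edge 5 (wOf 24 0x266432166453234583123450) 5 (wOf 15 0x234501234534610)))
 (.one (.stab 0 []))))
 (.fork (.fork (.one (.edge 5 (wOf 26 0x34321328543234681234623210) 5 (wOf 15 0x645312346834523)))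
 (.one (.stab 0 [])))
 (.fork (.one (.edge 9 (wOf 24 0x215543213462345123466010) 5 (wOf 15 0x845234501234582)))
 (.one (.stab 0 []))))))))

/-- a part of the facts -/
noncomputable def twFactsT34 : BT Fact := (.fork (.fork (.fork (.fork (.fork (.fork (.one (.edge 2 [1,2,3,2,1,8,5] 3 (wOf 19 0x2323546432345323466)))
 (.one (.edge 5 (wOf 23 0x23432164634623454123121) 9 [0,1,0,2,6,4])))
 (.fork (.one (.edge 5 (wOf 20 0x3216463423234646123) 5 (wOf 13 0x3458123452320)))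
 (.one (.stab 0 []))))
 (.fork (.fork (.one (.edge 5 (wOf 24 0x243213764323467423123421) 7 (wOf 13 0x5230123454532)))
 (.one (.stab 0 [])))
 (.fork (.one (.edge 5 (wOf 28 0x213554321354634623464123012) 5 [4,5,4,3,2,1,0,3,2,5,5]))
 (.one (.stab 0 [])))))
 (.fork (.fork (.fork (.one (.edge 6 (wOf 21 0x232105468323451234521) 5 (wOf 15 0x862346123468120)))
 (.one (.stab 0 [])))
 (.fork (.one (.edge 5 (wOf 25 0x2136432321764643234123201) 5 (wOf 17 0x2585453461234530)))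
 (.one (.stab 0 []))))
 (.fork (.fork (.one (.edge 5 (wOf 26 0x24543210321546634623412320) 7 (wOf 17 0x2674534612345320)))
 (.one (.stab 0 [])))
 (.fork (.one (.edge 5 (wOf 22 0x1213210468346323453210) 5 (wOf 14 0x64230123457342)))
 (.one (.stab 0 []))))))
 (.fork (.fork (.fork (.fork (.one (.edge 5 (wOf 17 0x12463466312312343) 8 (wOf 16 0x661234612345420)))
 (.one (.stab 0 [])))
 (.fork (.one (.edge 5 (wOf 25 0x327543216453467234623462) 5 (wOf 13 0x6231234573423)))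
 (.one (.stab 0 []))))
 (.fork (.fork (.one (.edge 5 (wOf 24 0x185432321645342301234612) 5 (wOf 13 0x2345830123452)))
 (.one (.stab 0 [])))
 (.fork (.one (.edge 5 (wOf 25 0x1023218643546823462345412) 5 (wOf 18 0x21646834623453232)))
 (.one (.stab 0 [])))))
 (.fork (.fork (.fork (.one (.edge 5 (wOf 26 0x12543276432646312345712312) 6 [0,3,2,1,6,4,3,2,1,0]))
 (.one (.stab 0 [])))
 (.fork (.one (.edge 5 (wOf 25 0x132104643546234542312345) 5 (wOf 16 0x823461234631232)))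
 (.one (.stab 0 []))))
 (.fork (.fork (.one (.edge 5 (wOf 22 0x2327543234512346323121) 5 (wOf 15 0x230123458323430)))
 (.one (.stab 0 [])))
 (.fork (.one (.edge 9 (wOf 22 0x1045432634531231234551) 8 (wOf 13 0x7612346612340)))
 (.one (.stab 0 [])))))))
 (.fork (.fork (.fork (.fork (.fork (.one (.edge 3 [1,3,5,5,7] 6 (wOf 19 0x2432664583452345234)))
 (.one (.edge 9 (wOf 24 0x103464321543234631234310) 9 (wOf 13 0x6452346012323))))
 (.fork (.one (.edge 5 (wOf 20 0x1032543123455432343) 5 [0,1,0,3,2,1,6,6,4,3,5,8]))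
 (.one (.stab 0 []))))
 (.fork (.fork (.one (.edge 5 (wOf 26 0x34323216432634531234534120) 6 [0,1,4,7,5,4,3,2]))
 (.one (.stab 0 [])))
 (.fork (.one (.edge 5 (wOf 24 0x254321754534523461234523) 5 (wOf 17 0x2634531234530121)))
 (.one (.stab 0 [])))))
 (.fork (.fork (.fork (.one (.edge 6 (wOf 26 0x1064321324645323454312010) 8 [0,2,5,4,5,4,3,2,6]))
 (.one (.stab 0 [])))
 (.fork (.one (.edge 5 (wOf 22 0x354321674323453462310) 5 (wOf 14 0x60123463234660)))
 (.one (.stab 0 []))))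
 (.fork (.fork (.one (.edge 5 (wOf 22 0x376432646346123412010) 6 [0,1,0,3,2,1,5,4,3,2,1]))
 (.one (.stab 0 [])))
 (.fork (.one (.edge 5 (wOf 25 0x102146432546345123462320) 5 (wOf 14 0x34512346742320)))
 (.one (.stab 0 []))))))
 (.fork (.fork (.fork (.fork (.one (.edge 5 (wOf 23 0x25432107546342312345723) 8 [2,8,6,4,3,2,1,0,5,4,3,2]))
 (.one (.stab 0 [])))
 (.fork (.one (.edge 5 (wOf 24 0x234321032584631234512323) 5 (wOf 13 0x3460123234663)))
 (.one (.stab 0 []))))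
 (.fork (.fork (.one (.edge 5 (wOf 26 0x2132132145453452323468120) 5 (wOf 18 0x21646323458532340)))
 (.one (.stab 0 [])))
 (.fork (.one (.edge 5 (wOf 26 0x13217543264632345312345343) 5 [2,1,5,5,4,3,2,1,0,3,2]))
 (.one (.stab 0 [])))))
 (.fork (.fork (.fork (.one (.edge 5 (wOf 26 0x1432643210573453234534232) 7 (wOf 14 0x62346012345320)))
 (.one (.stab 0 [])))
 (.fork (.one (.edge 5 (wOf 26 0x14354321321458346234231201) 5 (wOf 13 0x6230123455430)))
 (.one (.stab 0 []))))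
 (.fork (.fork (.one (.edge 5 (wOf 24 0x21036643623461234523012) 5 (wOf 14 0x67230123455323)))
 (.one (.stab 0 [])))
 (.fork (.one (.edge 9 (wOf 27 0x232143213264683462312312310) 6 (wOf 14 0x55423012346842)))
 (.one (.stab 0 []))))))))

/-- a part of the facts -/
noncomputable def twFactsT35 : BT Fact := (.fork (.fork (.fork (.fork (.fork (.fork (.one (.edge 2 (wOf 20 0x3543684523452345232) 2 [0,4,5,4,3,2]))
 (.one (.edge 5 (wOf 23 0x3213276463423123458432) 9 [0,2,1,7,6,4,3,6])))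
 (.fork (.one (.edge 5 (wOf 25 0x2175432136463234553123462) 5 (wOf 15 0x234601234632343)))
 (.one (.stab 0 []))))
 (.fork (.fork (.one (.edge 5 (wOf 24 0x34325432643123462345432) 6 [2,3,2,1,0,7,5,4,3,2]))
 (.one (.stab 0 [])))
 (.fork (.one (.edge 5 (wOf 27 0x21321324321346432345812321) 5 (wOf 19 0x210734646234623432)))
 (.one (.stab 0 [])))))
 (.fork (.fork (.fork (.one (.edge 5 (wOf 24 0x64321032645346712341230) 8 [2,1,0,6,4,3,2,6,4,7,6]))
 (.one (.stab 0 [])))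
 (.fork (.one (.edge 5 (wOf 22 0x5543254634523123423121) 5 (wOf 14 0x23450123463423)))
 (.one (.stab 0 []))))
 (.fork (.fork (.one (.edge 5 (wOf 23 0x12432386463234673123423) 6 [0,1,0,5,5,4,3,2,7,5,4]))
 (.one (.stab 0 [])))
 (.fork (.one (.edge 5 (wOf 23 0x6432136466323123464312) 5 [2,3,2,1,0,7,5,4,3,2,6]))
 (.one (.stab 0 []))))))
 (.fork (.fork (.fork (.fork (.one (.edge 8 (wOf 23 0x25432132545323464631231) 6 [2,5,4,3,2,1,0,5,5,7]))
 (.one (.stab 0 [])))
 (.fork (.one (.edge 5 (wOf 20 0x2324646734523451234) 5 [0,3,2,1,3,4,3,6,4,3,2,5]))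
 (.one (.stab 0 []))))
 (.fork (.fork (.one (.edge 6 (wOf 26 0x1324325432546341232345843) 5 (wOf 15 0x823450123464320)))
 (.one (.stab 0 [])))
 (.fork (.one (.edge 5 (wOf 25 0x210364323543231234682341) 5 (wOf 16 0x2553123464312301)))
 (.one (.stab 0 [])))))
 (.fork (.fork (.fork (.one (.edge 5 (wOf 25 0x2343234643523123462323453) 8 (wOf 13 0x7623454012320)))
 (.one (.stab 0 [])))
 (.fork (.one (.edge 5 (wOf 21 0x210357545323463123464) 5 (wOf 14 0x53450123466320)))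
 (.one (.stab 0 []))))
 (.fork (.fork (.one (.edge 5 (wOf 24 0x143255432534583123453232) 5 (wOf 18 0x21863464323463232)))
 (.one (.stab 0 [])))
 (.fork (.one (.edge 9 (wOf 25 0x5432643235457323123453421) 5 (wOf 15 0x672301234531231)))
 (.one (.stab 0 [])))))))
 (.fork (.fork (.fork (.fork (.fork (.one (.edge 1 (wOf 20 0x86432645834523452341) 6 [2,1,0,3,2,1,0,4,6,4,3,6]))
 (.one (.edge 9 (wOf 27 0x123464354321345234571234210) 5 (wOf 17 0x32457345512345232))))
 (.fork (.one (.edge 5 (wOf 25 0x121464325432312346743230) 5 [0,1,0,2,3,2,5,5,7]))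
 (.one (.stab 0 []))))
 (.fork (.fork (.one (.edge 7 (wOf 20 0x10364854323451230123) 5 [0,3,6,4,3,2,1,0,5,4,3,2]))
 (.one (.stab 0 [])))
 (.fork (.one (.edge 5 (wOf 24 0x343210326453455234512320) 5 (wOf 14 0x23012345746234)))
 (.one (.stab 0 [])))))
 (.fork (.fork (.fork (.one (.edge 5 (wOf 27 0x46432132543546723423231234) 7 [0,1,5,4,3,2,1,3,7,6]))
 (.one (.stab 0 [])))
 (.fork (.one (.edge 5 (wOf 21 0x21032534632345346210) 5 (wOf 14 0x46123464612340)))
 (.one (.stab 0 []))))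
 (.fork (.fork (.one (.edge 5 (wOf 23 0x43232643646234631234523) 5 (wOf 16 0x646231234553423)))
 (.one (.stab 0 [])))
 (.fork (.one (.edge 5 (wOf 23 0x1032132745343231234663) 5 [1,0,2,6,4,3,2,5,8,5]))
 (.one (.stab 0 []))))))
 (.fork (.fork (.fork (.fork (.one (.edge 6 (wOf 25 0x8543213215457323463412310) 5 (wOf 13 0x6012346123010)))
 (.one (.stab 0 [])))
 (.fork (.one (.edge 5 (wOf 29 0x2143232154321345423123466123) 5 (wOf 17 0x21554323468343012)))
 (.one (.stab 0 []))))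
 (.fork (.fork (.one (.edge 5 (wOf 28 0x1021321343254534582323123452) 8 [0,5,5,4,3,2,1,3,2,6,6,4]))
 (.one (.stab 0 [])))
 (.fork (.one (.edge 5 (wOf 21 0x214321646345732301230) 5 (wOf 16 0x234612345341230)))
 (.one (.stab 0 [])))))
 (.fork (.fork (.fork (.one (.edge 5 (wOf 25 0x4854321543642323464123231) 6 [2,1,6,4,3,2,1,0,7,6]))
 (.one (.stab 0 [])))
 (.fork (.one (.edge 5 (wOf 25 0x213214543674623461234230) 5 (wOf 15 0x530123457432340)))
 (.one (.stab 0 []))))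
 (.fork (.fork (.one (.edge 5 (wOf 23 0x2325432646312346431230) 5 (wOf 15 0x234601234555323)))
 (.one (.stab 0 [])))
 (.fork (.one (.edge 9 (wOf 26 0x26432364321634583234512341) 5 (wOf 15 0x523012345834310)))
 (.one (.stab 0 []))))))))

/-- a part of the facts -/
noncomputable def twFactsT36 : BT Fact := (.fork (.fork (.fork (.fork (.fork (.fork (.one (.edge 3 (wOf 13 0x5734512301231) 3 (wOf 20 0x35543523464123012346)))
 (.one (.edge 9 (wOf 25 0x1324325754534523123457234) 5 (wOf 19 0x214673453234543120))))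
 (.fork (.one (.edge 5 (wOf 19 0x2321734523450123121) 5 [2,6,6,4,3,2,1,0,5,4,3,2]))
 (.one (.stab 0 []))))
 (.fork (.fork (.one (.edge 5 (wOf 23 0x21324321646323458312310) 8 (wOf 14 0x45723464012320)))
 (.one (.stab 0 [])))
 (.fork (.one (.edge 5 (wOf 27 0x32164326464323451234640123) 5 (wOf 14 0x86230123463431)))
 (.one (.stab 0 [])))))
 (.fork (.fork (.fork (.one (.edge 5 (wOf 27 0x21321554321346723453231210) 7 (wOf 13 0x8523012346320)))
 (.one (.stab 0 [])))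
 (.fork (.one (.edge 5 (wOf 19 0x4385463231234682345) 5 (wOf 15 0x234534612346820)))
 (.one (.stab 0 []))))
 (.fork (.fork (.one (.edge 5 (wOf 26 0x13213234354863231234634230) 8 (wOf 15 0x754601231234543)))
 (.one (.stab 0 [])))
 (.fork (.one (.edge 5 (wOf 19 0x121466346423123432) 5 (wOf 13 0x8501234551231)))
 (.one (.stab 0 []))))))
 (.fork (.fork (.fork (.fork (.one (.edge 4 (wOf 16 0x731234630123454) 8 [0,1,2,5,4,3,2,5,8]))
 (.one (.stab 0 [])))
 (.fork (.one (.edge 5 (wOf 21 0x126643623463123457010) 5 (wOf 16 0x846231234634301)))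
 (.one (.stab 0 []))))
 (.fork (.fork (.one (.edge 5 (wOf 26 0x12543216643623453412323120) 6 [2,1,4,7,5,4,3,2,1,0]))
 (.one (.stab 0 [])))
 (.fork (.one (.edge 5 (wOf 15 0x753234601232345) 5 [0,2,1,0,5,4,3,5,8]))
 (.one (.stab 0 [])))))
 (.fork (.fork (.fork (.one (.edge 5 (wOf 23 0x24376432534523453231232) 7 (wOf 13 0x2301234663232)))
 (.one (.stab 0 [])))
 (.fork (.one (.edge 5 (wOf 27 0x321321543236845323412323464) 5 [3,6,8,6,4,3,2,1,0,3,4,6]))
 (.one (.stab 0 []))))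
 (.fork (.fork (.one (.edge 5 (wOf 26 0x1232164321345234543234583) 6 (wOf 14 0x64501234551232)))
 (.one (.stab 0 [])))
 (.fork (.one (.edge 9 (wOf 26 0x54321032164534523451234542) 5 [2,4,3,2,1,0,6,4,3,2]))
 (.one (.stab 0 [])))))))
 (.fork (.fork (.fork (.fork (.fork (.one (.edge 3 (wOf 26 0x1214328543523463123462310) 5 [1,0,3,2,1,0,8,6,4,3,6]))
 (.one (.stab 10 [1,0,2,1,4])))
 (.fork (.one (.edge 5 (wOf 26 0x10210354321583453234123012) 5 (wOf 13 0x6234230123464)))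
 (.one (.stab 0 []))))
 (.fork (.fork (.one (.edge 5 (wOf 26 0x1210326764634523123467234) 7 (wOf 14 0x51234612346820)))
 (.one (.stab 0 [])))
 (.fork (.one (.edge 5 (wOf 20 0x13432534553234312321) 5 (wOf 17 0x21683453234534230)))
 (.one (.stab 0 [])))))
 (.fork (.fork (.fork (.one (.edge 5 (wOf 14 0x54582345234620) 5 [0,4,3,2,5,7,5,4]))
 (.one (.stab 0 [])))
 (.fork (.one (.edge 5 (wOf 28 0x5432543215432754634231234671) 5 [0,3,2,1,3,4,6,4,3,2,8,6]))
 (.one (.stab 0 []))))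
 (.fork (.fork (.one (.edge 5 (wOf 25 0x1023214543234623451234543) 6 (wOf 13 0x4662345501230)))
 (.one (.stab 0 [])))
 (.fork (.one (.edge 5 (wOf 22 0x2104321545323458323463) 5 [1,0,3,2,1,0,4,3,6,4,3]))
 (.one (.stab 0 []))))))
 (.fork (.fork (.fork (.fork (.one (.edge 5 (wOf 26 0x14323264321574632345346121) 7 [4,5,4,3,2,1,0,3,2,8,6]))
 (.one (.stab 0 [])))
 (.fork (.one (.edge 5 (wOf 24 0x102135432854312346342321) 5 (wOf 15 0x852301234583450)))
 (.one (.stab 0 []))))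
 (.fork (.fork (.one (.edge 5 (wOf 23 0x23234321543234570123423) 5 (wOf 15 0x580123123463412)))
 (.one (.stab 0 [])))
 (.fork (.one (.edge 5 (wOf 22 0x102103546834523451234) 5 (wOf 18 0x21834643234623432)))
 (.one (.stab 0 [])))))
 (.fork (.fork (.fork (.one (.edge 5 (wOf 27 0x21323217643523467123123453) 8 [5,4,6,6,4,3,2,1,3,2,1,0]))
 (.one (.stab 0 [])))
 (.fork (.one (.edge 5 (wOf 22 0x210454663462312345532) 5 [1,0,3,2,1,0,3,6,4,3,6]))
 (.one (.stab 0 []))))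
 (.fork (.fork (.one (.edge 5 (wOf 21 0x554321346723463230120) 5 (wOf 14 0x70123462346623)))
 (.one (.stab 0 [])))
 (.fork (.one (.edge 9 (wOf 15 0x432345453231230) 9 [0,1,2,1,0,4,6]))
 (.one (.stab 0 []))))))))

/-- a part of the facts -/
noncomputable def twFactsT37 : BT Fact := (.fork (.fork (.fork (.fork (.fork (.fork (.one (.edge 1 [3] 2 []))
 (.one (.edge 5 (wOf 24 0x106432175463234662312310) 9 [0,1,0,3,2,5,5,7])))
 (.fork (.one (.edge 5 (wOf 20 0x1232543234664531230) 5 (wOf 13 0x2345730123462)))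
 (.one (.stab 0 []))))
 (.fork (.fork (.one (.edge 5 (wOf 25 0x4321032375453423123401201) 6 [5,5,4,3,2,1,0,3,2,4]))
 (.one (.stab 0 [])))
 (.fork (.one (.edge 5 (wOf 24 0x664321321854632345123423) 5 (wOf 13 0x5730123464301)))
 (.one (.stab 0 [])))))
 (.fork (.fork (.fork (.one (.edge 7 (wOf 22 0x3432346432312346231232) 6 [0,3,2,1,0,4,7,6,4,3,2,6]))
 (.one (.stab 0 [])))
 (.fork (.one (.edge 5 (wOf 23 0x3243216467346234531230) 5 (wOf 13 0x7623012345320)))
 (.one (.stab 0 []))))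
 (.fork (.fork (.one (.edge 5 (wOf 24 0x215432132864632346343123) 6 [5,4,3,2,1,3,2,4,7,6]))
 (.one (.stab 0 [])))
 (.fork (.one (.edge 5 (wOf 25 0x2345432132845346423234641) 5 (wOf 16 0x623453123458320)))
 (.one (.stab 0 []))))))
 (.fork (.fork (.fork (.fork (.one (.edge 6 (wOf 17 0x10834623464123234) 7 [0,1,2,1,5,4,3,5,8]))
 (.one (.stab 0 [])))
 (.fork (.one (.edge 5 (wOf 24 0x23216432646341230123468) 5 (wOf 13 0x5346012345323)))
 (.one (.stab 0 []))))
 (.fork (.fork (.one (.edge 5 (wOf 26 0x21324325436463231234534123) 8 [0,1,0,7,6,4,3,2]))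
 (.one (.stab 0 [])))
 (.fork (.one (.edge 5 (wOf 23 0x21043215745342312345321) 5 (wOf 16 0x672346123452340)))
 (.one (.stab 0 [])))))
 (.fork (.fork (.fork (.one (.edge 5 (wOf 17 0x23462323123464012) 8 [1,2,1,3,2]))
 (.one (.stab 0 [])))
 (.fork (.one (.edge 5 (wOf 25 0x1232143643546234512345320) 5 (wOf 17 0x2731234646323432)))
 (.one (.stab 0 []))))
 (.fork (.fork (.one (.edge 5 (wOf 24 0x12643215463234641231231) 5 [2,1,0,4,3,6,4,3,2,1,0,3]))
 (.one (.stab 0 [])))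
 (.fork (.one (.edge 9 (wOf 20 0x46432831230123464323) 5 (wOf 14 0x23451234673232)))
 (.one (.stab 0 [])))))))
 (.fork (.fork (.fork (.fork (.fork (.one (.edge 5 [6,6] 5 [0,2,5,8]))
 (.one (.edge 9 (wOf 25 0x1043216643234581234534210) 5 (wOf 13 0x6423012345301))))
 (.fork (.one (.edge 5 (wOf 24 0x217543213523453412301230) 5 (wOf 14 0x53012345453230)))
 (.one (.stab 0 []))))
 (.fork (.fork (.one (.edge 8 (wOf 24 0x754321643646623455123012) 5 (wOf 13 0x123123466432)))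
 (.one (.stab 0 [])))
 (.fork (.one (.edge 5 (wOf 25 0x4864321032453468234612346) 5 (wOf 14 0x62345123466234)))
 (.one (.stab 0 [])))))
 (.fork (.fork (.fork (.one (.edge 5 (wOf 24 0x264326432674312345501234) 6 [1,0,5,8,5,4,3,2,6]))
 (.one (.stab 0 [])))
 (.fork (.one (.edge 5 (wOf 20 0x43213234643234686120) 5 (wOf 14 0x67230123453463)))
 (.one (.stab 0 []))))
 (.fork (.fork (.one (.edge 6 (wOf 15 0x543234646312310) 5 (wOf 14 0x62312345532343)))
 (.one (.stab 0 [])))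
 (.fork (.one (.edge 5 (wOf 23 0x10321032554634523455120) 5 [3,4,3,2,1,0,5,4,3,2]))
 (.one (.stab 0 []))))))
 (.fork (.fork (.fork (.fork (.one (.edge 5 (wOf 20 0x43210763234531234523) 7 [2,6,4,7,6]))
 (.one (.stab 0 [])))
 (.fork (.one (.edge 5 (wOf 23 0x12432107646734623461230) 5 (wOf 14 0x84230123454320)))
 (.one (.stab 0 []))))
 (.fork (.fork (.one (.edge 5 (wOf 26 0x1327543216453234552345121) 7 (wOf 16 0x634523455123452)))
 (.one (.stab 0 [])))
 (.fork (.one (.edge 5 (wOf 24 0x385432132345342312346663) 5 (wOf 14 0x67423012345532)))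
 (.one (.stab 0 [])))))
 (.fork (.fork (.fork (.one (.edge 5 (wOf 26 0x15432643285463452312345234) 5 (wOf 14 0x58012345234662)))
 (.one (.stab 0 [])))
 (.fork (.one (.edge 5 (wOf 27 0x24321643232584531234531234) 5 (wOf 16 0x2731234543123010)))
 (.one (.stab 0 []))))
 (.fork (.fork (.one (.edge 5 (wOf 25 0x143543232645346612341230) 5 [3,2,1,0,4,6,4,3,2,5,7]))
 (.one (.stab 0 [])))
 (.fork (.one (.edge 9 (wOf 26 0x32554321354632346632345512) 5 (wOf 15 0x646623460123454)))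
 (.one (.stab 0 []))))))))

/-- a part of the facts -/
noncomputable def twFactsT38 : BT Fact := (.fork (.fork (.fork (.fork (.fork (.fork (.one (.edge 3 (wOf 21 0x464321346230123457323) 3 (wOf 16 0x645123467231231)))
 (.one (.edge 9 (wOf 25 0x1236432135458432345231201) 5 (wOf 14 0x50123451234660))))
 (.fork (.one (.edge 5 (wOf 27 0x21321454321546346234581234) 5 [3,2,1,5,4,3,6]))
 (.one (.stab 0 []))))
 (.fork (.fork (.one (.edge 5 (wOf 26 0x23754323210453466234623120) 8 [0,3,2,1,0,3,2,5,5,7]))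
 (.one (.stab 0 [])))
 (.fork (.one (.edge 5 (wOf 26 0x2106643213574632346231231) 5 (wOf 15 0x672312345234232)))
 (.one (.stab 0 [])))))
 (.fork (.fork (.fork (.one (.edge 5 (wOf 25 0x2143215432631234573234532) 6 [0,1,2,5,4,3,6,4,3,2]))
 (.one (.stab 0 [])))
 (.fork (.one (.edge 5 (wOf 23 0x1243664323458423123464) 5 (wOf 13 0x1231234664531)))
 (.one (.stab 0 []))))
 (.fork (.fork (.one (.edge 5 (wOf 26 0x3210543213846234231234581) 8 (wOf 14 0x75453457012340)))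
 (.one (.stab 0 [])))
 (.fork (.one (.edge 5 (wOf 24 0x121034543823123453401210) 5 [0,5,5,4,3,2,1,0,3,2,7,6]))
 (.one (.stab 0 []))))))
 (.fork (.fork (.fork (.fork (.one (.edge 5 (wOf 20 0x55432634312301234543) 4 [0,6,6,4,3,2,6,7]))
 (.one (.stab 0 [])))
 (.fork (.one (.edge 5 (wOf 18 0x54583231234534320) 5 (wOf 15 0x234601234555320)))
 (.one (.stab 0 []))))
 (.fork (.fork (.one (.edge 5 (wOf 18 0x36455323453412312) 6 [0,3,2,1,0,3,2,6,6]))
 (.one (.stab 0 [])))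
 (.fork (.one (.edge 5 (wOf 20 0x1021534664323423123) 5 (wOf 13 0x2345450123210)))
 (.one (.stab 0 [])))))
 (.fork (.fork (.fork (.one (.edge 5 (wOf 21 0x210343545234512346232) 6 (wOf 13 0x6462346601234)))
 (.one (.stab 0 [])))
 (.fork (.one (.edge 5 (wOf 20 0x5432312346823234631) 5 (wOf 15 0x234680123463420)))
 (.one (.stab 0 []))))
 (.fork (.fork (.one (.edge 5 (wOf 21 0x34323864323123012343) 5 [2,1,0,3,2,1,0,5,5,4,3]))
 (.one (.stab 0 [])))
 (.fork (.one (.edge 9 (wOf 18 0x323846234612301234) 5 (wOf 14 0x85230123458340)))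
 (.one (.stab 0 [])))))))
 (.fork (.fork (.fork (.fork (.fork (.one (.edge 8 (wOf 23 0x35432106463432312346721) 6 [0,5,4,3,2,7,6]))
 (.one (.edge 9 (wOf 21 0x243254634672346231230) 9 [0,1,3,2,1,0,4,3,5,8])))
 (.fork (.one (.edge 5 (wOf 24 0x143213214532346631234321) 5 (wOf 15 0x623012345734012)))
 (.one (.stab 0 []))))
 (.fork (.fork (.one (.edge 5 (wOf 21 0x147643623454323123462) 6 [1,0,3,2,7,6]))
 (.one (.stab 0 [])))
 (.fork (.one (.edge 5 (wOf 21 0x102136746323453231232) 5 (wOf 15 0x452345123455401)))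
 (.one (.stab 0 [])))))
 (.fork (.fork (.fork (.one (.edge 5 (wOf 22 0x186432634523123468012) 3 [0,3,2,1,0,3,2,6,6,4,6]))
 (.one (.stab 0 [])))
 (.fork (.one (.edge 5 (wOf 21 0x321543523463234634210) 5 (wOf 15 0x623460123455320)))
 (.one (.stab 0 []))))
 (.fork (.fork (.one (.edge 5 (wOf 26 0x12321864325466323453123462) 6 [1,5,4,3,2,1,5,4,3,5,4,8]))
 (.one (.stab 0 [])))
 (.fork (.one (.edge 5 (wOf 24 0x243235432345453231234623) 5 [5,4,3,2,1,0,3,8]))
 (.one (.stab 0 []))))))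
 (.fork (.fork (.fork (.fork (.one (.edge 8 (wOf 17 0x32663123012346323) 5 (wOf 13 0x6746012345010)))
 (.one (.stab 0 [])))
 (.fork (.one (.edge 5 (wOf 25 0x1285432164634523467234120) 5 [3,4,5,4,3,2,1,0,3,2,8,6]))
 (.one (.stab 0 []))))
 (.fork (.fork (.one (.edge 5 (wOf 25 0x2166643213462345812342010) 5 (wOf 15 0x852345012345420)))
 (.one (.stab 0 [])))
 (.fork (.one (.edge 5 (wOf 24 0x10213217545346234512320) 5 (wOf 15 0x601231234583423)))
 (.one (.stab 0 [])))))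
 (.fork (.fork (.fork (.one (.edge 5 (wOf 22 0x1664323452346123464201) 7 (wOf 16 0x671234531234542)))
 (.one (.stab 0 [])))
 (.fork (.one (.edge 5 (wOf 23 0x21435432645342312301230) 5 (wOf 19 0x321845346234682323)))
 (.one (.stab 0 []))))
 (.fork (.fork (.one (.edge 5 (wOf 24 0x854321643584623451234320) 5 (wOf 15 0x723451234623430)))
 (.one (.stab 0 [])))
 (.fork (.one (.edge 5 (wOf 24 0x121321432543231234534301) 9 [1,2,1,5,7,5,4,3,2,1,0]))
 (.one (.stab 0 []))))))))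

/-- a part of the facts -/
noncomputable def twFactsT39 : BT Fact := (.fork (.fork (.fork (.fork (.fork (.fork (.one (.edge 1 [3,6,4] 1 (wOf 17 0x43764552323463423)))
 (.one (.edge 5 (wOf 18 0x354584323123452323) 9 [6,6,4,3,2,1,0,3,2])))
 (.fork (.one (.edge 5 (wOf 27 0x12143643232646731234612010) 5 (wOf 14 0x23457123455320)))
 (.one (.stab 0 []))))
 (.fork (.fork (.one (.edge 5 (wOf 22 0x213664323461234534320) 7 [5,4,3,2,1,3,2,6,6]))
 (.one (.stab 0 [])))
 (.fork (.one (.edge 5 (wOf 25 0x3436432132466345232346123) 5 (wOf 13 0x2301234632340)))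
 (.one (.stab 0 [])))))
 (.fork (.fork (.fork (.one (.edge 5 (wOf 28 0x123454323864643231234523451) 3 (wOf 13 0x4555234012301)))
 (.one (.stab 0 [])))
 (.fork (.one (.edge 5 (wOf 19 0x5432584531234671230) 5 (wOf 18 0x232545734512346423)))
 (.one (.stab 0 []))))
 (.fork (.fork (.one (.edge 5 (wOf 25 0x213235432545323461234673) 6 [1,6,4,3,2,1,0,5,8,5,4]))
 (.one (.stab 0 [])))
 (.fork (.one (.edge 5 (wOf 25 0x1213285432683463123430123) 5 (wOf 13 0x2346012345432)))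
 (.one (.stab 0 []))))))
 (.fork (.fork (.fork (.fork (.one (.edge 8 (wOf 25 0x121034321534532345812310) 8 [6,4,3,2,1,3,2,1,0,6,4]))
 (.one (.stab 0 [])))
 (.fork (.one (.edge 5 (wOf 21 0x13664323468123123432) 5 (wOf 18 0x21453234634571231)))
 (.one (.stab 0 []))))
 (.fork (.fork (.one (.edge 5 (wOf 25 0x2132103214864323466341231) 5 (wOf 16 0x755231234534012)))
 (.one (.stab 0 [])))
 (.fork (.one (.edge 5 (wOf 25 0x2134754323466231234523231) 5 (wOf 14 0x60123123468342)))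
 (.one (.stab 0 [])))))
 (.fork (.fork (.fork (.one (.edge 5 (wOf 21 0x854321634632345312312) 3 (wOf 14 0x82323453412301)))
 (.one (.stab 0 [])))
 (.fork (.one (.edge 5 (wOf 24 0x43213236745345234523123) 5 (wOf 14 0x85234550123450)))
 (.one (.stab 0 []))))
 (.fork (.fork (.one (.edge 5 (wOf 23 0x12132354546342312345512) 5 (wOf 15 0x623457012346232)))
 (.one (.stab 0 [])))
 (.fork (.one (.edge 9 (wOf 21 0x324545432312345231234) 7 [5,4,3,6,4,3,2,1,0,3,2]))
 (.one (.stab 0 [])))))))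
 (.fork (.fork (.fork (.fork (.fork (.one (.edge 8 (wOf 22 0x1216432764534612341201) 3 [0,1,0,3,2,1,0,6,6,4,6]))
 (.one (.edge 9 (wOf 16 0x4583234642323410) 6 [0,2,3,2,1,0,6,4,3,2])))
 (.fork (.one (.edge 5 (wOf 19 0x135432312346342321) 5 (wOf 15 0x573461234532301)))
 (.one (.stab 0 []))))
 (.fork (.fork (.one (.edge 5 (wOf 18 0x454673234534123123) 6 [0,2,3,2,1,0,4,3,7,6]))
 (.one (.stab 0 [])))
 (.fork (.one (.edge 5 (wOf 19 0x1323754532346323464) 5 [1,0,2,7]))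
 (.one (.stab 0 [])))))
 (.fork (.fork (.fork (.one (.edge 5 (wOf 20 0x23213464632345312312) 8 [1,2,1,0,4,7,5,4,3,6]))
 (.one (.stab 0 [])))
 (.fork (.one (.edge 5 (wOf 26 0x64321064323545346723123410) 5 (wOf 14 0x62346012345730)))
 (.one (.stab 0 []))))
 (.fork (.fork (.one (.edge 5 (wOf 27 0x143255432345432312345234631) 6 (wOf 16 0x823123123464312)))
 (.one (.stab 0 [])))
 (.fork (.one (.edge 5 (wOf 26 0x3213254326463234581234632) 5 (wOf 16 0x623452312345530)))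
 (.one (.stab 0 []))))))
 (.fork (.fork (.fork (.fork (.one (.edge 5 (wOf 19 0x3243646632345823423) 7 [0,3,2,1,0,6,4,3,7,5]))
 (.one (.stab 0 [])))
 (.fork (.one (.edge 5 (wOf 18 0x12664553123412320) 5 (wOf 13 0x8501234612342)))
 (.one (.stab 0 []))))
 (.fork (.fork (.one (.edge 5 (wOf 22 0x1355432545345123423121) 3 [1,3,2,1,0,5,4,3,2]))
 (.one (.stab 0 [])))
 (.fork (.one (.edge 5 (wOf 20 0x32143231234661234532) 5 (wOf 13 0x6745301234543)))
 (.one (.stab 0 [])))))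
 (.fork (.fork (.fork (.one (.edge 5 (wOf 25 0x2132432176432345123468310) 6 [3,2,1,0,3,2,4,6,7]))
 (.one (.stab 0 [])))
 (.fork (.one (.edge 5 (wOf 26 0x12326432132845346234623468) 5 (wOf 15 0x501234512345320)))
 (.one (.stab 0 []))))
 (.fork (.fork (.one (.edge 5 (wOf 23 0x10213245453234631234540) 6 (wOf 17 0x1646234571234010)))
 (.one (.stab 0 [])))
 (.fork (.one (.edge 9 (wOf 27 0x213210354325846345234612301) 5 (wOf 16 0x646623461234582)))
 (.one (.stab 0 []))))))))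

/-- a part of the facts -/
noncomputable def twFactsT40 : BT Fact := (.fork (.fork (.fork (.fork (.fork (.fork (.one (.stab 6 (wOf 16 0x323123401232343)))
 (.one (.edge 9 (wOf 24 0x13254321673453234231232) 5 (wOf 15 0x572346012345423))))
 (.fork (.one (.edge 5 (wOf 25 0x4321354323546231234572310) 5 (wOf 14 0x23458012345230)))
 (.one (.stab 0 []))))
 (.fork (.fork (.one (.edge 5 (wOf 25 0x2321324386463234523123423) 3 (wOf 15 0x623012345723423)))
 (.one (.stab 0 [])))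
 (.fork (.one (.edge 5 (wOf 25 0x235432132673452345234512) 5 (wOf 16 0x572312312346343)))
 (.one (.stab 0 [])))))
 (.fork (.fork (.fork (.one (.edge 5 (wOf 28 0x213210343254534623123458323) 8 [0,1,2,5,5,4,3,2,1,3]))
 (.one (.stab 0 [])))
 (.fork (.one (.edge 5 (wOf 24 0x13210343852345312312343) 5 (wOf 17 0x2755312345323453)))
 (.one (.stab 0 []))))
 (.fork (.fork (.one (.edge 5 (wOf 24 0x213213218646346234662312) 5 (wOf 14 0x67012345123201)))
 (.one (.stab 0 [])))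
 (.fork (.one (.edge 5 (wOf 25 0x3246432154532345312343230) 5 (wOf 14 0x58234501234512)))
 (.one (.stab 0 []))))))
 (.fork (.fork (.fork (.fork (.one (.edge 8 (wOf 20 0x4323546632341230123) 5 [0,5,4,3,2,5,8]))
 (.one (.stab 0 [])))
 (.fork (.one (.edge 5 (wOf 25 0x3254321323645346232343121) 5 (wOf 17 0x2645345123458323)))
 (.one (.stab 0 []))))
 (.fork (.fork (.one (.edge 5 (wOf 27 0x21464321321845346632345121) 6 [0,4,5,4,3,2,1,3,2,5,4,7]))
 (.one (.stab 0 [])))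
 (.fork (.one (.edge 5 (wOf 26 0x1216432154763452346612320) 5 (wOf 15 0x634661234623467)))
 (.one (.stab 0 [])))))
 (.fork (.fork (.fork (.one (.edge 5 (wOf 22 0x3432108543231234663452) 8 [0,6,4,3,6,6]))
 (.one (.stab 0 [])))
 (.fork (.one (.edge 5 (wOf 23 0x2136432346123466323421) 5 (wOf 18 0x12673461234623450)))
 (.one (.stab 0 []))))
 (.fork (.fork (.one (.edge 5 (wOf 25 0x1326432132674534532341210) 5 (wOf 15 0x462346701234632)))
 (.one (.stab 0 [])))
 (.fork (.one (.edge 9 (wOf 23 0x64323264863423123457210) 5 [3,5,8,5,4,3,2,1,0,3,2,6]))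
 (.one (.stab 0 [])))))))
 (.fork (.fork (.fork (.fork (.fork (.one (.edge 5 (wOf 23 0x23264321346643230123453) 7 [3,2,1,6,4,3,2,7,6,4]))
 (.one (.edge 10 (wOf 20 0x64323452312301234664) 9 (wOf 16 0x623451234672010))))
 (.fork (.one (.edge 5 (wOf 23 0x14321324753462323454120) 5 (wOf 16 0x2464631234632343)))
 (.one (.stab 0 []))))
 (.fork (.fork (.one (.edge 5 (wOf 27 0x12324326432345123234574312) 8 [0,1,0,5,8,5,4,3,2,6]))
 (.one (.stab 0 [])))
 (.fork (.one (.edge 5 (wOf 25 0x3285432354853423123462341) 5 [6,4,3,2,1,5,4,3,2,1,0,6]))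
 (.one (.stab 0 [])))))
 (.fork (.fork (.fork (.one (.edge 5 (wOf 22 0x323643572345512323412) 6 [2,3,2,1,0,5,4,7,6,4,3,2]))
 (.one (.stab 0 [])))
 (.fork (.one (.edge 5 (wOf 22 0x143213574623453123463) 5 (wOf 15 0x234501234686320)))
 (.one (.stab 0 []))))
 (.fork (.fork (.one (.edge 5 (wOf 25 0x136432321543234623457312) 6 (wOf 17 0x2463453123455320)))
 (.one (.stab 0 [])))
 (.fork (.one (.edge 5 (wOf 25 0x435432132645345234673120) 5 (wOf 17 0x2745531234523461)))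
 (.one (.stab 0 []))))))
 (.fork (.fork (.fork (.fork (.one (.edge 5 (wOf 17 0x32345232312345401) 8 (wOf 14 0x82323453123460)))
 (.one (.stab 0 [])))
 (.fork (.one (.edge 5 (wOf 21 0x432132754532345843120) 5 (wOf 15 0x234686012345123)))
 (.one (.stab 0 []))))
 (.fork (.fork (.one (.edge 5 (wOf 27 0x21032166643234543123454232) 5 [0,3,2,1,0,5,4,3,2,6,7]))
 (.one (.stab 0 [])))
 (.fork (.one (.edge 5 (wOf 18 0x232463453234552345) 5 [2,1,0,3,2,1,0,5,4,5,4,3]))
 (.one (.stab 0 [])))))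
 (.fork (.fork (.fork (.one (.edge 5 (wOf 19 0x1232734553231234523) 8 [1,6,4,3,2,5,4,3,2,3,5,7]))
 (.one (.stab 0 [])))
 (.fork (.one (.edge 5 (wOf 26 0x10321324364673234512345201) 5 (wOf 19 0x213453462345812310)))
 (.one (.stab 0 []))))
 (.fork (.fork (.one (.edge 5 (wOf 23 0x13213435453234583234610) 5 (wOf 14 0x23450123458523)))
 (.one (.stab 0 [])))
 (.fork (.one (.edge 5 (wOf 22 0x1064321764634523458120) 9 (wOf 13 0x3012345742323)))
 (.one (.stab 0 []))))))))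

/-- a part of the facts -/
noncomputable def twFactsT41 : BT Fact := (.fork (.fork (.fork (.fork (.fork (.fork (.one (.stab 1 [4]))
 (.one (.edge 5 (wOf 28 0x323435432132845346231231231) 9 [0,6,6,4,3,2,6])))
 (.fork (.one (.edge 5 (wOf 25 0x1854323215453234646312310) 5 [0,1,4,3,7,6,4,3,2,1,3,6]))
 (.one (.stab 0 []))))
 (.fork (.fork (.one (.edge 5 (wOf 23 0x34543210734552312343123) 5 (wOf 16 0x643123467312301)))
 (.one (.stab 0 [])))
 (.fork (.one (.edge 5 (wOf 24 0x102143213845432345231230) 5 (wOf 16 0x745523123453123)))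
 (.one (.stab 0 [])))))
 (.fork (.fork (.fork (.one (.edge 5 (wOf 25 0x1376432321645734231234554) 6 [0,1,0,8,5,4,3,6]))
 (.one (.stab 0 [])))
 (.fork (.one (.edge 5 (wOf 26 0x10213432185453466234512321) 5 (wOf 16 0x462345123457230)))
 (.one (.stab 0 []))))
 (.fork (.fork (.one (.edge 5 (wOf 20 0x3234645323453123401) 6 (wOf 13 0x5545501234512)))
 (.one (.stab 0 [])))
 (.fork (.one (.edge 5 (wOf 22 0x1264327546345234571232) 5 (wOf 17 0x1462312345323120)))
 (.one (.stab 0 []))))))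
 (.fork (.fork (.fork (.fork (.one (.edge 6 (wOf 21 0x235543523461234582321) 3 [0,2,3,2,1,0,4,3,2,6]))
 (.one (.stab 0 [])))
 (.fork (.one (.edge 5 (wOf 27 0x32143285432643123463457234) 5 (wOf 16 0x623461232346631)))
 (.one (.stab 0 []))))
 (.fork (.fork (.one (.edge 5 (wOf 24 0x21323210432346464123231) 8 [1,7,6,4,3,2,5,4,6]))
 (.one (.stab 0 [])))
 (.fork (.one (.edge 5 (wOf 25 0x2321032134545345234512345) 5 (wOf 16 0x823461234583232)))
 (.one (.stab 0 [])))))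
 (.fork (.fork (.fork (.one (.edge 5 (wOf 25 0x1324325432546346123453120) 7 (wOf 13 0x5231234574301)))
 (.one (.stab 0 [])))
 (.fork (.one (.edge 5 (wOf 20 0x43213854232345553120) 5 (wOf 13 0x6230123466323)))
 (.one (.stab 0 []))))
 (.fork (.fork (.one (.edge 5 (wOf 26 0x23216643213462323468341231) 8 [3,2,1,0,4,6,6,4,3,2,5]))
 (.one (.stab 0 [])))
 (.fork (.one (.edge 9 (wOf 21 0x246432534612301234554) 5 (wOf 13 0x4301234573432)))
 (.one (.stab 0 [])))))))
 (.fork (.fork (.fork (.fork (.fork (.one (.edge 7 [0,2,1,3] 4 [1,3,2,4,3,2,1,0,3,2,1,8]))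
 (.one (.edge 9 (wOf 25 0x1213643213642323458453410) 5 (wOf 16 0x572312346234323))))
 (.fork (.one (.edge 5 (wOf 16 0x5846432343123012) 5 [0,5,8,5,4,3,2,6,4]))
 (.one (.stab 0 []))))
 (.fork (.fork (.one (.edge 5 (wOf 23 0x12132454634523123458410) 5 (wOf 13 0x8530123467301)))
 (.one (.stab 0 [])))
 (.fork (.one (.edge 5 (wOf 25 0x213210666463462345123012) 5 (wOf 18 0x21346462346312301)))
 (.one (.stab 0 [])))))
 (.fork (.fork (.fork (.one (.edge 5 (wOf 24 0x35454321543230123457323) 6 [0,4,6,6,4,3,2,5]))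
 (.one (.stab 0 [])))
 (.fork (.one (.edge 5 (wOf 25 0x108543213543234664512312) 5 [3,5,4,3,2,1,0,3,2,6,4,7]))
 (.one (.stab 0 []))))
 (.fork (.fork (.one (.edge 5 (wOf 23 0x12432132463464323463412) 5 [2,1,3,2,1,0,5,4,3,2,5,8]))
 (.one (.stab 0 [])))
 (.fork (.one (.edge 5 (wOf 23 0x1021432534631234531231) 5 (wOf 14 0x72301234643231)))
 (.one (.stab 0 []))))))
 (.fork (.fork (.fork (.fork (.one (.edge 8 (wOf 27 0x323432543213764523467234232) 7 [5,4,3,2,1,0,3,5,5,7]))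
 (.one (.stab 0 [])))
 (.fork (.one (.edge 5 (wOf 23 0x1213643752341230123010) 5 (wOf 13 0x6345012346232)))
 (.one (.stab 0 []))))
 (.fork (.fork (.one (.edge 5 (wOf 24 0x13214321554534523468231) 7 [0,2,1,5,4,3,6]))
 (.one (.stab 0 [])))
 (.fork (.one (.edge 5 (wOf 24 0x664321324634532346723120) 5 (wOf 13 0x5523012346343)))
 (.one (.stab 0 [])))))
 (.fork (.fork (.fork (.one (.edge 5 (wOf 20 0x12143854523461234663) 3 (wOf 13 0x5234664012312)))
 (.one (.stab 0 [])))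
 (.fork (.one (.edge 5 (wOf 25 0x3664321321546346632341231) 5 (wOf 17 0x2553123463432310)))
 (.one (.stab 0 []))))
 (.fork (.fork (.one (.edge 5 (wOf 20 0x1032453457345234231) 5 (wOf 17 0x2345523123453432)))
 (.one (.stab 0 [])))
 (.fork (.one (.edge 9 (wOf 20 0x34323745231234012323) 5 (wOf 16 0x234581234532343)))
 (.one (.stab 0 []))))))))

/-- a part of the facts -/
noncomputable def twFactsT42 : BT Fact := (.fork (.fork (.fork (.fork (.fork (.fork (.one (.edge 3 [0,1,0,2,1,0,5,4,8] 3 [0,1,0,2,1,0,6,6]))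
 (.one (.edge 9 (wOf 21 0x102321455342323464312) 5 (wOf 21 0x321321674634623452310))))
 (.fork (.one (.edge 5 (wOf 25 0x2132543217646346723451230) 5 [2,3,4,6,4,3,2,3,2,1,5,5]))
 (.one (.stab 0 []))))
 (.fork (.fork (.one (.edge 5 (wOf 27 0x10485432103462346231234623) 8 [0,4,3,2,1,0,7,5,4,3,2,6]))
 (.one (.stab 0 [])))
 (.fork (.one (.edge 5 (wOf 24 0x321323214534523467423120) 5 (wOf 15 0x670123462346234)))
 (.one (.stab 0 [])))))
 (.fork (.fork (.fork (.one (.edge 5 (wOf 19 0x3864534623463234232) 6 [0,4,3,2,6,6,4,5,7]))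
 (.one (.stab 0 [])))
 (.fork (.one (.edge 5 (wOf 22 0x2143213455231234643121) 5 (wOf 14 0x52301234545234)))
 (.one (.stab 0 []))))
 (.fork (.fork (.one (.edge 5 (wOf 19 0x3243234661234543012) 8 (wOf 14 0x67460123451230)))
 (.one (.stab 0 [])))
 (.fork (.one (.edge 5 (wOf 14 0x34583432312310) 5 (wOf 13 0x2301234664301)))
 (.one (.stab 0 []))))))
 (.fork (.fork (.fork (.fork (.one (.edge 3 (wOf 25 0x214386432534512346312010) 3 (wOf 13 0x7552345012301)))
 (.one (.stab 0 [])))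
 (.fork (.one (.edge 5 (wOf 23 0x23543213546432346341201) 5 (wOf 15 0x663123462312340)))
 (.one (.stab 0 []))))
 (.fork (.fork (.one (.edge 5 (wOf 27 0x103210323432554312346234510) 6 [3,4,3,2,1,5,4,3,2,6,6]))
 (.one (.stab 0 [])))
 (.fork (.one (.edge 5 (wOf 25 0x132764321645346234231210) 5 (wOf 16 0x645231234683423)))
 (.one (.stab 0 [])))))
 (.fork (.fork (.fork (.one (.edge 5 (wOf 26 0x1232476432645312346123121) 6 [1,0,2,3,2,1,0,6,4,3,2]))
 (.one (.stab 0 [])))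
 (.fork (.one (.edge 5 (wOf 21 0x213232664532345832345) 5 [1,0,5,8]))
 (.one (.stab 0 []))))
 (.fork (.fork (.one (.edge 5 (wOf 27 0x14326432155432346743123012) 5 (wOf 15 0x573460123463423)))
 (.one (.stab 0 [])))
 (.fork (.one (.edge 9 (wOf 26 0x2143643213645842323453210) 3 (wOf 15 0x862301234634323)))
 (.one (.stab 0 [])))))))
 (.fork (.fork (.fork (.fork (.fork (.one (.edge 6 [3,4] 8 (wOf 22 0x3243213543234545341210)))
 (.one (.edge 9 (wOf 24 0x32132321463234231234666) 9 [0,3,2,1,5,4,3,2,1,5,7,5])))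
 (.fork (.one (.edge 5 (wOf 20 0x32143623458512342301) 5 (wOf 13 0x6234501234672)))
 (.one (.stab 0 []))))
 (.fork (.fork (.one (.edge 5 (wOf 23 0x12132543523453463123010) 6 [0,1,0,7,6,4,3,2,6,4]))
 (.one (.stab 0 [])))
 (.fork (.one (.edge 5 (wOf 23 0x10343216468323423123451) 5 (wOf 14 0x67234630123452)))
 (.one (.stab 0 [])))))
 (.fork (.fork (.fork (.one (.edge 5 (wOf 18 0x10455342312346843) 8 (wOf 13 0x6734501234542)))
 (.one (.stab 0 [])))
 (.fork (.one (.edge 5 (wOf 22 0x1543236463457231234531) 5 (wOf 16 0x682312345343230)))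
 (.one (.stab 0 []))))
 (.fork (.fork (.one (.edge 5 (wOf 26 0x3213764321534682346423123) 6 (wOf 13 0x7552345012320)))
 (.one (.stab 0 [])))
 (.fork (.one (.edge 5 (wOf 25 0x3264326435432312346461232) 5 (wOf 16 0x345451234523012)))
 (.one (.stab 0 []))))))
 (.fork (.fork (.fork (.fork (.one (.edge 6 (wOf 24 0x234321032834612346432321) 3 [1,0,3,2,1,0,4,3,2,6]))
 (.one (.stab 0 [])))
 (.fork (.one (.edge 5 (wOf 24 0x123213254634523457123420) 5 (wOf 13 0x3012345346310)))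
 (.one (.stab 0 []))))
 (.fork (.fork (.one (.edge 5 (wOf 24 0x264321864634623461234230) 5 (wOf 18 0x21853234534612323)))
 (.one (.stab 0 [])))
 (.fork (.one (.edge 5 (wOf 23 0x2324326453423123455123) 5 [8,5,4,3,2,1,6,4,3,2,6,6]))
 (.one (.stab 0 [])))))
 (.fork (.fork (.fork (.one (.edge 5 (wOf 23 0x23864321634623234512301) 7 [2,3,2,6,4,3,2,1,0,3,2,6]))
 (.one (.stab 0 [])))
 (.fork (.one (.edge 5 (wOf 16 0x1323457412301234) 5 (wOf 14 0x62301234683452)))
 (.one (.stab 0 []))))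
 (.fork (.fork (.one (.edge 5 (wOf 25 0x3543232176463234531234301) 5 (wOf 15 0x582345012346230)))
 (.one (.stab 0 [])))
 (.fork (.one (.edge 9 (wOf 20 0x43210646634231234671) 8 [0,6,4,3,2,1,7,6,4,3]))
 (.one (.stab 0 []))))))))

/-- a part of the facts -/
noncomputable def twFactsT43 : BT Fact := (.fork (.fork (.fork (.fork (.fork (.fork (.one (.edge 1 (wOf 14 0x23453463234572) 2 [0,4,5,4,3,2,6,7]))
 (.one (.edge 5 (wOf 25 0x1043213664532346231234301) 9 [0,2,3,2,1,5,5,4,3,5,4,6])))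
 (.fork (.one (.edge 5 (wOf 20 0x13243864523451234660) 5 (wOf 15 0x455230123463432)))
 (.one (.stab 0 []))))
 (.fork (.fork (.one (.edge 5 (wOf 23 0x16435432346231234542310) 6 [0,2,1,5,5,4,3,2,5,4,6,7]))
 (.one (.stab 0 [])))
 (.fork (.one (.edge 5 (wOf 21 0x343232546431234553010) 5 (wOf 16 0x623453123453231)))
 (.one (.stab 0 [])))))
 (.fork (.fork (.fork (.one (.edge 6 (wOf 27 0x213254321643684523123463423) 8 [0,1,4,8,5,4,3,2]))
 (.one (.stab 0 [])))
 (.fork (.one (.edge 5 (wOf 25 0x2435432328546342312345723) 5 [4,3,5,4,3,2,1,0,7,5,4,3]))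
 (.one (.stab 0 []))))
 (.fork (.fork (.one (.edge 5 (wOf 23 0x32136432534631234512310) 6 (wOf 14 0x74623123463420)))
 (.one (.stab 0 [])))
 (.fork (.one (.edge 5 (wOf 25 0x1345432154673234553123401) 5 (wOf 15 0x764623450123467)))
 (.one (.stab 0 []))))))
 (.fork (.fork (.fork (.fork (.one (.edge 4 (wOf 19 0x4323645323453423234) 7 [0,3,2,1,0,3,2,5,5,7]))
 (.one (.stab 0 [])))
 (.fork (.one (.edge 5 (wOf 23 0x12543254573234512345421) 5 (wOf 15 0x763123454232312)))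
 (.one (.stab 0 []))))
 (.fork (.fork (.one (.edge 5 (wOf 23 0x1213210646346234662312) 5 [1,0,2,3,2,6]))
 (.one (.stab 0 [])))
 (.fork (.one (.edge 5 (wOf 23 0x10210321834545323464120) 5 (wOf 14 0x84545301234640)))
 (.one (.stab 0 [])))))
 (.fork (.fork (.fork (.one (.edge 5 (wOf 26 0x23248643213645234523468232) 8 [0,2,3,2,1,4,6,6,4,3,5]))
 (.one (.stab 0 [])))
 (.fork (.one (.edge 5 (wOf 17 0x3854532312346423) 5 (wOf 16 0x674623123463231)))
 (.one (.stab 0 []))))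
 (.fork (.fork (.one (.edge 5 (wOf 27 0x103214321324545346234573120) 5 [2,3,2,1,0,4,7,5,4,3,2]))
 (.one (.stab 0 [])))
 (.fork (.one (.edge 9 (wOf 26 0x12324854321345234532346301) 6 (wOf 14 0x57312312346432)))
 (.one (.stab 0 [])))))))
 (.fork (.fork (.fork (.fork (.fork (.one (.edge 6 [1,0,2,1,5,5,4,7,6] 6 [0,1,0,2,1,0,8,5,4,5]))
 (.one (.edge 9 (wOf 26 0x34321323216746432343123012) 5 (wOf 13 0x6746230123467))))
 (.fork (.one (.edge 5 (wOf 22 0x1023264853432312346423) 5 (wOf 17 0x2453461234673120)))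
 (.one (.stab 0 []))))
 (.fork (.fork (.one (.edge 5 (wOf 25 0x210854326453452345812346) 6 [2,1,3,2,1,0,7,6,4,3,2,6]))
 (.one (.stab 0 [])))
 (.fork (.one (.edge 5 (wOf 21 0x243643852312345340123) 5 [0,4,3,7,6,4,3,2,1,0]))
 (.one (.stab 0 [])))))
 (.fork (.fork (.fork (.one (.edge 5 (wOf 21 0x13210346323451232010) 8 [0,5,4,3,2,1,3,2,5,7,5]))
 (.one (.stab 0 [])))
 (.fork (.one (.edge 5 (wOf 19 0x4543234672346123450) 5 (wOf 16 0x623412312345753)))
 (.one (.stab 0 []))))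
 (.fork (.fork (.one (.edge 5 (wOf 24 0x12324326643231234572342) 5 (wOf 16 0x512345543123432)))
 (.one (.stab 0 [])))
 (.fork (.one (.edge 5 (wOf 26 0x2132432132458346234623412) 5 (wOf 14 0x52301234583012)))
 (.one (.stab 0 []))))))
 (.fork (.fork (.fork (.fork (.one (.edge 5 (wOf 22 0x3246432831234501234232) 7 [3,6,4,3,2,1,3,2,1,0,7,6]))
 (.one (.stab 0 [])))
 (.fork (.one (.edge 5 (wOf 25 0x5432132436745323423123461) 5 [6,4,3,2,1,0,5,4,3,2,8,5]))
 (.one (.stab 0 []))))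
 (.fork (.fork (.one (.edge 5 (wOf 22 0x3234325746345234231232) 8 [0,3,2,1,0,3,2,5,8]))
 (.one (.stab 0 [])))
 (.fork (.one (.edge 5 (wOf 26 0x1215432132345534523123423) 5 (wOf 16 0x723123455431234)))
 (.one (.stab 0 [])))))
 (.fork (.fork (.fork (.one (.edge 8 (wOf 24 0x13214321345423234663432) 6 [5,4,3,2,1,0,3,2,6]))
 (.one (.stab 0 [])))
 (.fork (.one (.edge 5 (wOf 26 0x12103243216645323458342312) 5 (wOf 18 0x132534571234552340)))
 (.one (.stab 0 []))))
 (.fork (.fork (.one (.edge 5 (wOf 16 0x3545432345523452) 5 (wOf 15 0x762345346123012)))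
 (.one (.stab 0 [])))
 (.fork (.one (.edge 9 (wOf 27 0x18643232154632345234681234) 5 (wOf 13 0x2345301234670)))
 (.one (.stab 0 []))))))))

/-- a part of the facts -/
noncomputable def twFactsT44 : BT Fact := (.fork (.fork (.fork (.fork (.fork (.fork (.one (.edge 3 (wOf 22 0x2321034634534231234670) 3 (wOf 15 0x645234123012310)))
 (.one (.edge 9 (wOf 20 0x32345467323123423231) 5 (wOf 14 0x43012345734231))))
 (.fork (.one (.edge 5 (wOf 24 0x12676432345412323453421) 5 [6,4,3,2,1,0,5,4,3,2,5,8]))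
 (.one (.stab 0 []))))
 (.fork (.fork (.one (.edge 5 (wOf 27 0x266432154325463467232341230) 8 [3,2,1,0,6,4,3,6]))
 (.one (.stab 0 [])))
 (.fork (.one (.edge 5 (wOf 28 0x321676432321545342312346610) 5 (wOf 14 0x62345701234623)))
 (.one (.stab 0 [])))))
 (.fork (.fork (.fork (.one (.edge 6 (wOf 23 0x3432103823461234623458) 8 [1,0,5,4,3,2,5,5,7]))
 (.one (.stab 0 [])))
 (.fork (.one (.edge 5 (wOf 23 0x12464321323454232346123) 5 (wOf 17 0x1452345512345234)))
 (.one (.stab 0 []))))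
 (.fork (.fork (.one (.edge 5 (wOf 27 0x325432132643623468341232010) 4 [5,4,3,2,1,3,2,1,6,6,4,6]))
 (.one (.stab 0 [])))
 (.fork (.one (.edge 5 (wOf 23 0x66432135463234661234620) 5 (wOf 13 0x8123123453432)))
 (.one (.stab 0 []))))))
 (.fork (.fork (.fork (.fork (.one (.edge 8 (wOf 22 0x5543264553455234523421) 4 [1,0,5,4,3,2,5,8]))
 (.one (.stab 0 [])))
 (.fork (.one (.edge 5 (wOf 24 0x21646432543123451234523) 5 (wOf 14 0x23457012345320)))
 (.one (.stab 0 []))))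
 (.fork (.fork (.one (.edge 5 (wOf 27 0x210436432164732345123467234) 6 [0,3,2,1,0,4,3,2,5,8,5]))
 (.one (.stab 0 [])))
 (.fork (.one (.edge 5 (wOf 26 0x13213643213646346234623423) 5 (wOf 14 0x46346012346720)))
 (.one (.stab 0 [])))))
 (.fork (.fork (.fork (.one (.edge 5 (wOf 24 0x346432326432312346842312) 7 [0,5,4,3,2,1,0,3,2,5,5]))
 (.one (.stab 0 [])))
 (.fork (.one (.edge 5 (wOf 24 0x121454321645346230123453) 5 [3,2,3,4,5,4,3,2,1,3,5]))
 (.one (.stab 0 []))))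
 (.fork (.fork (.one (.edge 5 (wOf 27 0x10543235432554312345346412) 6 [0,3,2,1,0,4,6,4,6,4,3,2]))
 (.one (.stab 0 [])))
 (.fork (.one (.edge 9 (wOf 25 0x124376432534231234643201) 5 [8,5,4,3,2,1,0,5,4,3,2]))
 (.one (.stab 0 [])))))))
 (.fork (.fork (.fork (.fork (.fork (.one (.edge 5 (wOf 24 0x102132104753423123466430) 4 [1,0,3,6,4,3,2,1,0,7,6]))
 (.one (.edge 10 (wOf 25 0x1321754321634573234643123) 5 (wOf 13 0x8234534012301))))
 (.fork (.one (.edge 5 (wOf 25 0x3214323214543234612323457) 5 (wOf 17 0x2453123458432340)))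
 (.one (.stab 0 []))))
 (.fork (.fork (.one (.edge 5 (wOf 27 0x23215432103754534323123430) 7 [2,3,5,4,3,2,1,0,3,5,7,5]))
 (.one (.stab 0 [])))
 (.fork (.one (.edge 5 (wOf 26 0x54321321054583454231234531) 5 (wOf 17 0x21834623453123450)))
 (.one (.stab 0 [])))))
 (.fork (.fork (.fork (.one (.edge 5 (wOf 21 0x210354323464123234673) 6 [1,0,3,2,7,5]))
 (.one (.stab 0 [])))
 (.fork (.one (.edge 5 (wOf 25 0x1213436432634661234512320) 5 (wOf 16 0x234646123468323)))
 (.one (.stab 0 []))))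
 (.fork (.fork (.one (.edge 5 (wOf 23 0x1213214573462346123467) 6 [2,1,3,2,6]))
 (.one (.stab 0 [])))
 (.fork (.one (.edge 5 (wOf 21 0x214364532345723432310) 5 (wOf 14 0x86312346343230)))
 (.one (.stab 0 []))))))
 (.fork (.fork (.fork (.fork (.one (.edge 5 (wOf 22 0x3643213764542323123453) 7 [4,5,4,3,2,1,0,3,2,5]))
 (.one (.stab 0 [])))
 (.fork (.one (.edge 5 (wOf 24 0x236432132584312346123463) 5 (wOf 15 0x750123461234670)))
 (.one (.stab 0 []))))
 (.fork (.fork (.one (.edge 6 (wOf 24 0x210485432646345123467201) 5 (wOf 14 0x23466012345232)))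
 (.one (.stab 0 [])))
 (.fork (.one (.edge 5 (wOf 25 0x554323643542312345712342) 5 (wOf 16 0x234551234583231)))
 (.one (.stab 0 [])))))
 (.fork (.fork (.fork (.one (.edge 5 (wOf 20 0x3485432312345301232) 8 [0,3,6,4,6]))
 (.one (.stab 0 [])))
 (.fork (.one (.edge 5 (wOf 25 0x2104354321546346723123412) 5 (wOf 17 0x2453123454523423)))
 (.one (.stab 0 []))))
 (.fork (.fork (.one (.edge 5 (wOf 23 0x10432106746342312346731) 5 (wOf 14 0x67234501232346)))
 (.one (.stab 0 [])))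
 (.fork (.one (.edge 9 (wOf 27 0x102343213543645234512345521) 9 [3,4,3,2,1,0,3,2,7,6]))
 (.one (.stab 0 []))))))))

/-- a part of the facts -/
noncomputable def twFactsT45 : BT Fact := (.fork (.fork (.fork (.fork (.fork (.fork (.one (.stab 2 [0,7,6,4,3,2,3,4,5,8]))
 (.one (.edge 9 (wOf 26 0x13285432132432345346431210) 9 [0,1,0,2,7,5])))
 (.fork (.one (.edge 5 (wOf 25 0x1021664321346234646234232) 5 (wOf 16 0x684231234634320)))
 (.one (.stab 0 []))))
 (.fork (.fork (.one (.edge 6 (wOf 18 0x24753452346234321) 6 [1,0,5,4,3,6,4,3,2]))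
 (.one (.stab 0 [])))
 (.fork (.one (.edge 5 (wOf 26 0x1643213543646823452312343) 5 [4,3,2,6,4,3,2,1,0,3,2,4]))
 (.one (.stab 0 [])))))
 (.fork (.fork (.fork (.one (.edge 7 (wOf 22 0x3276432643234634312010) 7 [0,4,6,6,4,3,2,5,4]))
 (.one (.stab 0 [])))
 (.fork (.one (.edge 5 (wOf 25 0x2104354321546346723423123) 5 (wOf 14 0x72345012346120)))
 (.one (.stab 0 []))))
 (.fork (.fork (.one (.edge 5 (wOf 21 0x154323554534231234310) 6 [3,2,1,3,6,4,3,7,6]))
 (.one (.stab 0 [])))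
 (.fork (.one (.edge 5 (wOf 27 0x323275432154323452346123012) 5 [3,2,1,0,4,6,4,6,4,3,2]))
 (.one (.stab 0 []))))))
 (.fork (.fork (.fork (.fork (.one (.edge 5 (wOf 15 0x663452345323463) 4 [0,6,6,4,3,2,5,4,8]))
 (.one (.stab 0 [])))
 (.fork (.one (.edge 5 (wOf 21 0x285432534585323451232) 5 (wOf 17 0x1234512345734523)))
 (.one (.stab 0 []))))
 (.fork (.fork (.one (.edge 5 (wOf 27 0x102132326432643123463123450) 8 [0,5,5,4,3,2,1,0,3,2,6,7]))
 (.one (.stab 0 [])))
 (.fork (.one (.edge 5 (wOf 24 0x12543210546634642312340) 5 (wOf 15 0x846234501234680)))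
 (.one (.stab 0 [])))))
 (.fork (.fork (.fork (.one (.edge 6 (wOf 20 0x32432573461234601232) 8 [0,4,3,2,1,3,5,8,5,4,3,2]))
 (.one (.stab 0 [])))
 (.fork (.one (.edge 5 (wOf 22 0x3854321645345234623412) 5 (wOf 17 0x1634682346123460)))
 (.one (.stab 0 []))))
 (.fork (.fork (.one (.edge 5 (wOf 24 0x364321323454572312346301) 5 (wOf 16 0x754512312346631)))
 (.one (.stab 0 [])))
 (.fork (.one (.edge 9 (wOf 19 0x4643523412301234664) 5 (wOf 14 0x58231234634230)))
 (.one (.stab 0 [])))))))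
 (.fork (.fork (.fork (.fork (.fork (.one (.edge 4 [4,5,4,3,6,4,6] 7 (wOf 24 0x106432154632345541231234)))
 (.one (.edge 9 (wOf 20 0x1435545323423123450) 5 (wOf 13 0x5723460123430))))
 (.fork (.one (.edge 5 (wOf 24 0x12343543234551234123123) 5 (wOf 14 0x76230123453460)))
 (.one (.stab 0 []))))
 (.fork (.fork (.one (.edge 5 (wOf 23 0x23435432643123123467310) 5 (wOf 13 0x6012345234672)))
 (.one (.stab 0 [])))
 (.fork (.one (.edge 5 (wOf 25 0x1254321355463234571234123) 5 (wOf 13 0x6623460123452)))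
 (.one (.stab 0 [])))))
 (.fork (.fork (.fork (.one (.edge 5 (wOf 27 0x14321364321534532346731231) 7 [0,2,1,0,5,4,3,5,5,7]))
 (.one (.stab 0 [])))
 (.fork (.one (.edge 5 (wOf 26 0x1432103243854672312346121) 5 (wOf 19 0x121345452345012340)))
 (.one (.stab 0 []))))
 (.fork (.fork (.one (.edge 5 (wOf 22 0x1032107645323463234643) 5 [1,0,3,2,1,0,5,4,3,2,7,6]))
 (.one (.stab 0 [])))
 (.fork (.one (.edge 5 (wOf 27 0x213243210321663453423123451) 5 (wOf 18 0x21645345232345310)))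
 (.one (.stab 0 []))))))
 (.fork (.fork (.fork (.fork (.one (.edge 5 (wOf 25 0x232143554323451234523462) 3 [0,3,2,1,0,4,3,6,6,4]))
 (.one (.stab 0 [])))
 (.fork (.one (.edge 5 (wOf 25 0x123234321634323123455342) 5 (wOf 18 0x323754523451234582)))
 (.one (.stab 0 []))))
 (.fork (.fork (.one (.edge 5 (wOf 25 0x3264321054323464123234123) 8 [0,4,6,6,4,3,2,1,0,3,2,4]))
 (.one (.stab 0 [])))
 (.fork (.one (.edge 5 (wOf 26 0x1324321325453452345234210) 5 (wOf 13 0x4230123467323)))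
 (.one (.stab 0 [])))))
 (.fork (.fork (.fork (.one (.edge 6 (wOf 25 0x1324643254853452312345120) 5 (wOf 17 0x2646831234632340)))
 (.one (.stab 0 [])))
 (.fork (.one (.edge 5 (wOf 22 0x102145453462342312343) 5 (wOf 18 0x13752346234523120)))
 (.one (.stab 0 []))))
 (.fork (.fork (.one (.edge 5 (wOf 24 0x12435432634571234612343) 5 [3,2,1,0,6,6,4,3,2,5,8]))
 (.one (.stab 0 [])))
 (.fork (.one (.edge 9 (wOf 24 0x32134643523458231234512) 5 (wOf 16 0x231234663453230)))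
 (.one (.stab 0 []))))))))

/-- a part of the facts -/
noncomputable def twFactsT46 : BT Fact := (.fork (.fork (.fork (.fork (.fork (.fork (.one (.edge 3 [3,2,1,0,3,2,1,3,7,6] 3 (wOf 20 0x5454832346123231234)))
 (.one (.edge 9 (wOf 22 0x864321346230123458532) 5 [0,3,2,1,0,4,3,6,4])))
 (.fork (.one (.edge 5 (wOf 26 0x3214543216845345232343120) 5 (wOf 16 0x2674631234623423)))
 (.one (.stab 0 []))))
 (.fork (.fork (.one (.edge 5 (wOf 24 0x34321032346843123452310) 8 [0,1,0,4,6,6,4,3,2,5,4]))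
 (.one (.stab 0 [])))
 (.fork (.one (.edge 5 (wOf 24 0x217643213462341231234581) 5 (wOf 15 0x530123453463232)))
 (.one (.stab 0 [])))))
 (.fork (.fork (.fork (.one (.edge 5 (wOf 27 0x32343213754632345231231201) 7 [2,5,4,3]))
 (.one (.stab 0 [])))
 (.fork (.one (.edge 5 (wOf 21 0x16432634123234585312) 5 (wOf 15 0x623452346012320)))
 (.one (.stab 0 []))))
 (.fork (.fork (.one (.edge 5 (wOf 23 0x3543213684532345423121) 8 [2,3,2,1,4,3,2,1,0,7]))
 (.one (.stab 0 [])))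
 (.fork (.one (.edge 5 (wOf 24 0x32364323546323451234543) 5 (wOf 13 0x5345512345823)))
 (.one (.stab 0 []))))))
 (.fork (.fork (.fork (.fork (.one (.edge 6 (wOf 24 0x10232107645346723451201) 7 [3,6,4,3,2,1,3,2,1,0,5,8]))
 (.one (.stab 0 [])))
 (.fork (.one (.edge 5 (wOf 20 0x1554632341232345734) 5 (wOf 17 0x2631234663452340)))
 (.one (.stab 0 []))))
 (.fork (.fork (.one (.edge 5 (wOf 24 0x186432154634623455523120) 6 [0,5,4,3,2,1,0,3,2]))
 (.one (.stab 0 [])))
 (.fork (.one (.edge 5 (wOf 25 0x121034543646234512345231) 5 (wOf 13 0x6234612345430)))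
 (.one (.stab 0 [])))))
 (.fork (.fork (.fork (.one (.edge 5 (wOf 23 0x12464321864323464231230) 6 [0,2,1,0,4,6,4,6,4,3,2]))
 (.one (.stab 0 [])))
 (.fork (.one (.edge 5 (wOf 23 0x3217543523463123461234) 5 [3,2,1,4,7,6,4,3,2,6]))
 (.one (.stab 0 []))))
 (.fork (.fork (.one (.edge 5 (wOf 25 0x3243213243545723451231210) 6 [2,1,0,3,2,5,5,7]))
 (.one (.stab 0 [])))
 (.fork (.one (.edge 9 (wOf 25 0x1067643213646723462312343) 5 (wOf 13 0x6623012346234)))
 (.one (.stab 0 [])))))))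
 (.fork (.fork (.fork (.fork (.fork (.one (.edge 6 (wOf 20 0x10213546723462346234) 7 [1,0,3,2,1,6,4,3,2,1,6]))
 (.one (.edge 5 (wOf 24 0x323255432634612346723452) 9 [0,4,3])))
 (.fork (.one (.edge 5 (wOf 27 0x123254323864532312346823461) 5 (wOf 15 0x523460123466230)))
 (.one (.stab 0 []))))
 (.fork (.fork (.one (.edge 5 (wOf 22 0x2176432631234634232345) 6 [1,3,2,1,0,4,7,5,4,3,2,6]))
 (.one (.stab 0 [])))
 (.fork (.one (.edge 5 (wOf 24 0x325432132553453423123468) 5 (wOf 14 0x64523012345530)))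
 (.one (.stab 0 [])))))
 (.fork (.fork (.fork (.one (.edge 5 (wOf 26 0x10343218643546232346341230) 5 (wOf 17 0x2755312345323010)))
 (.one (.stab 0 [])))
 (.fork (.one (.edge 5 (wOf 25 0x1021325432754543123453120) 5 (wOf 20 0x1210634523123467232)))
 (.one (.stab 0 []))))
 (.fork (.fork (.one (.edge 5 (wOf 24 0x13243215453458523423120) 6 [0,3,2,1,0,4,5,4,3,2]))
 (.one (.stab 0 [])))
 (.fork (.one (.edge 5 (wOf 16 0x812345012340123) 5 (wOf 14 0x23012345341230)))
 (.one (.stab 0 []))))))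
 (.fork (.fork (.fork (.fork (.one (.edge 7 (wOf 24 0x132103243645234623458123) 6 (wOf 14 0x45012323457343)))
 (.one (.stab 0 [])))
 (.fork (.one (.edge 5 (wOf 24 0x21436432534531234301230) 5 [7,6,4,3,2,1,0,5,4,3,2,5]))
 (.one (.stab 0 []))))
 (.fork (.fork (.one (.edge 5 (wOf 25 0x354321643646823452312312) 5 (wOf 16 0x575312345323121)))
 (.one (.stab 0 [])))
 (.fork (.one (.edge 5 (wOf 23 0x12643236745346232345123) 5 (wOf 16 0x623412323466453)))
 (.one (.stab 0 [])))))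
 (.fork (.fork (.fork (.one (.edge 5 (wOf 25 0x3213438543231234581232310) 8 (wOf 15 0x760123463123430)))
 (.one (.stab 0 [])))
 (.fork (.one (.edge 5 (wOf 20 0x32105754323123463420) 5 (wOf 18 0x21645323468345232)))
 (.one (.stab 0 []))))
 (.fork (.fork (.one (.edge 5 (wOf 26 0x1323216432583452323453120) 5 (wOf 19 0x2134632346734612320)))
 (.one (.stab 0 [])))
 (.fork (.one (.edge 5 (wOf 25 0x1346432321646323454232312) 9 [1,0,3,2,5,8]))
 (.one (.stab 0 []))))))))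

/-- a part of the facts -/
noncomputable def twFactsT47 : BT Fact := (.fork (.fork (.fork (.fork (.fork (.fork (.one (.stab 3 [7,6,4,5,8]))
 (.one (.edge 5 (wOf 26 0x1285432643623453123461231) 9 [2,1,4,3,2,1,0,3,5,5,7])))
 (.fork (.one (.edge 5 (wOf 25 0x1354325432573123452323453) 5 [0,2,3,2,1,0,5,4,3,2,6]))
 (.one (.stab 0 []))))
 (.fork (.fork (.one (.edge 5 (wOf 26 0x1543213643523467231234301) 7 (wOf 13 0x4662312346232)))
 (.one (.stab 0 [])))
 (.fork (.one (.edge 5 (wOf 21 0x13210346732345123463) 5 (wOf 17 0x1672346123454230)))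
 (.one (.stab 0 [])))))
 (.fork (.fork (.fork (.one (.edge 5 (wOf 26 0x10213436643234612345823120) 4 [0,4,8,6,4,3,2,1,3,2,4,6]))
 (.one (.stab 0 [])))
 (.fork (.one (.edge 5 (wOf 25 0x2132326432574634612323451) 5 [0,2,1,0,5,5,4,3,6,6,4]))
 (.one (.stab 0 []))))
 (.fork (.fork (.one (.edge 5 (wOf 18 0x14753467234123210) 6 (wOf 14 0x45234660123463)))
 (.one (.stab 0 [])))
 (.fork (.one (.edge 5 (wOf 22 0x1021324645323457123452) 5 [0,3,2,4,3,7,5,4,3,2,1,3]))
 (.one (.stab 0 []))))))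
 (.fork (.fork (.fork (.fork (.one (.edge 6 (wOf 18 0x643852346341230120) 5 (wOf 14 0x46623450123012)))
 (.one (.stab 0 [])))
 (.fork (.one (.edge 5 (wOf 21 0x13643523461230123453) 5 (wOf 15 0x552301234543230)))
 (.one (.stab 0 []))))
 (.fork (.fork (.one (.edge 5 (wOf 20 0x10643623458531234232) 5 (wOf 13 0x4230123458342)))
 (.one (.stab 0 [])))
 (.fork (.one (.edge 5 (wOf 27 0x10664321643523461232345731) 5 (wOf 13 0x2345501234320)))
 (.one (.stab 0 [])))))
 (.fork (.fork (.fork (.one (.edge 5 (wOf 26 0x1232134321546345423123123) 5 (wOf 13 0x7230123455301)))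
 (.one (.stab 0 [])))
 (.fork (.one (.edge 5 (wOf 22 0x2354323646323463412301) 5 (wOf 14 0x64623457012301)))
 (.one (.stab 0 []))))
 (.fork (.fork (.one (.edge 5 (wOf 24 0x124543216453467234642312) 5 (wOf 15 0x234230123455430)))
 (.one (.stab 0 [])))
 (.fork (.one (.edge 9 (wOf 22 0x1236432345231234674231) 7 [0,2,3,6,4,3,2,1,0,3,2]))
 (.one (.stab 0 [])))))))
 (.fork (.fork (.fork (.fork (.fork (.one (.edge 1 [0,1,3,7,5,4,3,2,1,3,2,6] 4 (wOf 16 0x571234512345320)))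
 (.one (.edge 9 (wOf 25 0x1213643254634523457123454) 9 [0,3,2,1,0,7,6,4,3,2])))
 (.fork (.one (.edge 5 (wOf 23 0x5454321346234523453231) 5 (wOf 13 0x8452312345340)))
 (.one (.stab 0 []))))
 (.fork (.fork (.one (.edge 5 (wOf 27 0x103214326432554632312346320) 6 [0,2,3,2,1,4,3,2,6]))
 (.one (.stab 0 [])))
 (.fork (.one (.edge 5 (wOf 25 0x132643213466234632346321) 5 (wOf 13 0x7231234646301)))
 (.one (.stab 0 [])))))
 (.fork (.fork (.fork (.one (.edge 5 (wOf 22 0x2136432634531231234585) 8 [0,3,5,5,4,3,2,7]))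
 (.one (.stab 0 [])))
 (.fork (.one (.edge 5 (wOf 23 0x2134764532345312345232) 5 (wOf 13 0x7545234512340)))
 (.one (.stab 0 []))))
 (.fork (.fork (.one (.edge 5 (wOf 26 0x1264321323574534523461201) 6 [5,4,3,2,1,5,4,3,2,7]))
 (.one (.stab 0 [])))
 (.fork (.one (.edge 5 (wOf 22 0x1214321634553234512346) 5 (wOf 14 0x53457012345231)))
 (.one (.stab 0 []))))))
 (.fork (.fork (.fork (.fork (.one (.edge 5 (wOf 14 0x12323461234680) 8 [0,2,1,0,6,4,3,2,1,0,6]))
 (.one (.stab 0 [])))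
 (.fork (.one (.edge 5 (wOf 20 0x1343572346312343120) 5 (wOf 14 0x23450123463420)))
 (.one (.stab 0 []))))
 (.fork (.fork (.one (.edge 5 (wOf 26 0x4321854321323463423123412) 3 [0,3,2,1,0,3,2,7,6]))
 (.one (.stab 0 [])))
 (.fork (.one (.edge 5 (wOf 21 0x12103464623432312346) 5 (wOf 15 0x862301234643231)))
 (.one (.stab 0 [])))))
 (.fork (.fork (.fork (.one (.edge 5 (wOf 28 0x1032345432135843231234534323) 6 [0,2,1,5,4,3,2,7,6]))
 (.one (.stab 0 [])))
 (.fork (.one (.edge 5 (wOf 24 0x234321346453234583123450) 5 [1,0,2,6,4,3,5,4,3,2]))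
 (.one (.stab 0 []))))
 (.fork (.fork (.one (.edge 5 (wOf 21 0x43210323464612323461) 5 (wOf 20 0x2134632346734612301)))
 (.one (.stab 0 [])))
 (.fork (.one (.edge 9 (wOf 25 0x2103213664534623461234610) 6 (wOf 13 0x6746230123455)))
 (.one (.stab 0 []))))))))

/-- a part of the facts -/
noncomputable def twFactsT48 : BT Fact := (.fork (.fork (.fork (.fork (.fork (.fork (.one (.edge 3 [1,3,2,7,6] 5 (wOf 21 0x34664323412301234553)))
 (.one (.edge 9 (wOf 22 0x543213545323423123452) 5 (wOf 13 0x6430123463232))))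
 (.fork (.one (.edge 5 (wOf 25 0x1243213235453452345234585) 5 (wOf 14 0x62301234554312)))
 (.one (.stab 0 []))))
 (.fork (.fork (.one (.edge 5 (wOf 24 0x321323276463234663123451) 5 (wOf 17 0x2645312345843012)))
 (.one (.stab 0 [])))
 (.fork (.one (.edge 5 (wOf 22 0x108643646234612301201) 5 (wOf 15 0x230123466453012)))
 (.one (.stab 0 [])))))
 (.fork (.fork (.fork (.one (.edge 8 [0,1,2,1,6,6,4,6] 8 [0,2,1,0,5,5,4,7]))
 (.one (.stab 0 [])))
 (.fork (.one (.edge 5 (wOf 25 0x215432132846346412323461) 5 (wOf 14 0x85234601234682)))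
 (.one (.stab 0 []))))
 (.fork (.fork (.one (.edge 5 (wOf 27 0x134321364321546346234532321) 5 (wOf 16 0x463451234673230)))
 (.one (.stab 0 [])))
 (.fork (.one (.edge 5 (wOf 22 0x2132343852345312301201) 5 [3,2,1,3,2,1,0]))
 (.one (.stab 0 []))))))
 (.fork (.fork (.fork (.fork (.one (.edge 5 (wOf 21 0x102106463452341230120) 6 [0,1,0,5,5,4,3,2,1,0,6]))
 (.one (.stab 0 [])))
 (.fork (.one (.edge 5 (wOf 25 0x5432643210763452346323412) 5 (wOf 19 0x214674534623466231)))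
 (.one (.stab 0 []))))
 (.fork (.fork (.one (.edge 5 (wOf 25 0x3264323554634231234523466) 6 (wOf 13 0x3234612345512)))
 (.one (.stab 0 [])))
 (.fork (.one (.edge 5 (wOf 26 0x32643210321463463234584123) 5 (wOf 18 0x12468346123453231)))
 (.one (.stab 0 [])))))
 (.fork (.fork (.fork (.one (.edge 5 (wOf 20 0x21323645732346341230) 8 [0,4,3,6,4,3,2,1,0,3,2]))
 (.one (.stab 0 [])))
 (.fork (.one (.edge 5 (wOf 21 0x214543234545346234210) 5 (wOf 16 0x523467123464230)))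
 (.one (.stab 0 []))))
 (.fork (.fork (.one (.edge 5 (wOf 23 0x13285432543123457123431) 5 [2,3,2,1,0,6,6,4,3,6]))
 (.one (.stab 0 [])))
 (.fork (.one (.edge 9 (wOf 20 0x21354534523451231234) 5 (wOf 16 0x2345346123462323)))
 (.one (.stab 0 [])))))))
 (.fork (.fork (.fork (.fork (.fork (.one (.edge 5 (wOf 22 0x2436432546341230123463) 6 [0,5,4,3,2,5]))
 (.one (.edge 9 (wOf 26 0x10210754321546345234312321) 10 (wOf 13 0x2346123234310))))
 (.fork (.one (.edge 5 (wOf 25 0x1032864321545323123467310) 5 (wOf 15 0x660123461230121)))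
 (.one (.stab 0 []))))
 (.fork (.fork (.one (.edge 5 (wOf 23 0x1216432346843123412323) 8 [0,2,3,2,1,0,8,6,4,3,2,5]))
 (.one (.stab 0 [])))
 (.fork (.one (.edge 5 (wOf 19 0x1032645843123431230) 5 (wOf 13 0x7462346012346)))
 (.one (.stab 0 [])))))
 (.fork (.fork (.fork (.one (.edge 5 (wOf 26 0x1085432132346634523123121) 6 [5,4,3,2,1,3,2,1,0,6,7]))
 (.one (.stab 0 [])))
 (.fork (.one (.edge 5 (wOf 26 0x2103213234753462312346834) 5 [0,3,6,4,3,2,1,5,4,3,6,6]))
 (.one (.stab 0 []))))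
 (.fork (.fork (.one (.edge 5 (wOf 25 0x1021321543574623123463231) 6 [0,3,2,1,3,2,7,5]))
 (.one (.stab 0 [])))
 (.fork (.one (.edge 5 (wOf 21 0x104364585323412323461) 5 [0,3,2,1,0,4,3,2,6,6,6]))
 (.one (.stab 0 []))))))
 (.fork (.fork (.fork (.fork (.one (.edge 5 (wOf 15 0x646834623462343) 8 (wOf 15 0x723463012345532)))
 (.one (.stab 0 [])))
 (.fork (.one (.edge 5 (wOf 24 0x32643276453452312312346) 5 (wOf 14 0x42301234573012)))
 (.one (.stab 0 []))))
 (.fork (.fork (.one (.edge 5 (wOf 25 0x1215432103554534523467210) 5 (wOf 13 0x2301234673423)))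
 (.one (.stab 0 [])))
 (.fork (.one (.edge 5 (wOf 23 0x1217543646234642312301) 5 (wOf 17 0x32534585231234523)))
 (.one (.stab 0 [])))))
 (.fork (.fork (.fork (.one (.edge 5 (wOf 28 0x2135432543213234523462346421) 4 [1,0,2,5,4,3,2,6]))
 (.one (.stab 0 [])))
 (.fork (.one (.edge 5 (wOf 26 0x36432132354534232346741230) 5 (wOf 13 0x2346834012320)))
 (.one (.stab 0 []))))
 (.fork (.fork (.one (.edge 5 (wOf 25 0x6432132143546234571234550) 5 (wOf 16 0x623458123452340)))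
 (.one (.stab 0 [])))
 (.fork (.one (.edge 5 (wOf 23 0x34321321634683234632340) 9 [3,4,3,2,1,0,3,2,6,6]))
 (.one (.stab 0 []))))))))

/-- a part of the facts -/
noncomputable def twFactsT49 : BT Fact := (.fork (.fork (.fork (.fork (.fork (.fork (.one (.stab 0 [7]))
 (.one (.edge 5 (wOf 26 0x1243213254632345531234553) 9 [2,1,0,4,3,2,1,0,6,6,6])))
 (.fork (.one (.edge 5 (wOf 21 0x102135463234631234643) 5 (wOf 14 0x23460123455532)))
 (.one (.stab 0 []))))
 (.fork (.fork (.one (.edge 7 (wOf 21 0x132432346123468230120) 5 (wOf 14 0x23464601234532)))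
 (.one (.stab 0 [])))
 (.fork (.one (.edge 5 (wOf 22 0x132132534571234523467) 5 (wOf 18 0x12663451234682323)))
 (.one (.stab 0 [])))))
 (.fork (.fork (.fork (.one (.edge 6 (wOf 15 0x301234630123454) 5 [2,1,0,6,4,3,2,6]))
 (.one (.stab 0 [])))
 (.fork (.one (.edge 5 (wOf 24 0x210321454534523234583123) 5 (wOf 15 0x234545012345820)))
 (.one (.stab 0 []))))
 (.fork (.fork (.one (.edge 5 (wOf 24 0x14325436463231234012321) 6 [5,4,3,2,1,5,4,3,2,6,6]))
 (.one (.stab 0 [])))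
 (.fork (.one (.edge 5 (wOf 23 0x10234543231234554231201) 5 [0,3,6,4,3,2,1,3,6,6,4,6]))
 (.one (.stab 0 []))))))
 (.fork (.fork (.fork (.fork (.one (.edge 8 (wOf 19 0x343584231234541210) 8 (wOf 13 0x6723012346342)))
 (.one (.edge 10 [1,3,2,1,5,4,3,2] 10 (wOf 20 0x43213745423123123455))))
 (.fork (.one (.edge 5 (wOf 27 0x68643210321467346234612320) 5 (wOf 14 0x23401232345453)))
 (.one (.stab 0 []))))
 (.fork (.fork (.one (.edge 5 (wOf 22 0x432175463462345823120) 8 [0,1,4,3,8,5,4,3,2]))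
 (.one (.stab 0 [])))
 (.fork (.one (.edge 5 (wOf 27 0x432108643213452345231234310) 5 (wOf 16 0x623457123462342)))
 (.one (.stab 0 [])))))
 (.fork (.fork (.fork (.one (.edge 5 (wOf 19 0x214323457461234010) 7 (wOf 14 0x81231234545342)))
 (.one (.stab 0 [])))
 (.fork (.one (.edge 5 (wOf 22 0x854323545323123455012) 5 [0,1,3,2,3,2,5]))
 (.one (.stab 0 []))))
 (.fork (.fork (.one (.edge 5 (wOf 24 0x32143286453234312312343) 8 [0,2,3,2,1,5,5,4,3,2,6,6]))
 (.one (.stab 0 [])))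
 (.fork (.one (.edge 9 (wOf 25 0x134321543523461232346342) 5 (wOf 15 0x623467012346231)))
 (.one (.stab 0 [])))))))
 (.fork (.fork (.fork (.fork (.fork (.one (.edge 7 (wOf 16 0x1832343231234323) 4 [3,2]))
 (.one (.edge 9 (wOf 24 0x554323214543234551232346) 5 (wOf 16 0x646231234523423))))
 (.fork (.one (.edge 5 (wOf 25 0x2137543254573462342312341) 5 (wOf 19 0x214634572345512320)))
 (.one (.stab 0 []))))
 (.fork (.fork (.one (.edge 5 (wOf 26 0x1210454321684534623451234) 5 [0,1,3,2,1,0,6,6,6]))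
 (.one (.stab 0 [])))
 (.fork (.one (.edge 5 (wOf 26 0x23243213464532346812342321) 5 (wOf 16 0x234581234531232)))
 (.one (.stab 0 [])))))
 (.fork (.fork (.fork (.one (.edge 5 (wOf 18 0x432585453451234580) 6 (wOf 14 0x85012345012010)))
 (.one (.stab 0 [])))
 (.fork (.one (.edge 5 (wOf 17 0x14663464323412321) 5 (wOf 15 0x230123466123432)))
 (.one (.stab 0 []))))
 (.fork (.fork (.one (.edge 5 (wOf 25 0x2136643232645346123451232) 5 [0,4,3,2,1,0,5,4,3,2,6,6]))
 (.one (.stab 0 [])))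
 (.fork (.one (.edge 5 (wOf 22 0x186432534523234661232) 5 (wOf 16 0x234531234523231)))
 (.one (.stab 0 []))))))
 (.fork (.fork (.fork (.fork (.one (.edge 6 (wOf 19 0x1432631234573231201) 7 [2,5,4,3,2,1,0,3,2,6]))
 (.one (.stab 0 [])))
 (.fork (.one (.edge 5 (wOf 19 0x464534231234683423) 5 (wOf 14 0x85346012346620)))
 (.one (.stab 0 []))))
 (.fork (.fork (.one (.edge 5 (wOf 24 0x12432764632346312346801) 7 (wOf 13 0x4623460123453)))
 (.one (.stab 0 [])))
 (.fork (.one (.edge 5 (wOf 21 0x324326684534623123467) 5 (wOf 16 0x682312345432301)))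
 (.one (.stab 0 [])))))
 (.fork (.fork (.fork (.one (.edge 5 (wOf 24 0x235432167643234523412301) 3 [0,3,2,5,4,3,2,1,0,6,7]))
 (.one (.stab 0 [])))
 (.fork (.one (.edge 5 (wOf 24 0x32432166466346234582341) 5 [3,4,3,2,1,0,5,4,3,2,6]))
 (.one (.stab 0 []))))
 (.fork (.fork (.one (.edge 5 (wOf 25 0x1218543213452345234623410) 5 (wOf 16 0x862312346343012)))
 (.one (.stab 0 [])))
 (.fork (.one (.edge 9 (wOf 25 0x143254321545734623452321) 5 (wOf 16 0x646634612346720)))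
 (.one (.stab 0 []))))))))

/-- a part of the facts -/
noncomputable def twFactsT50 : BT Fact := (.fork (.fork (.fork (.fork (.fork (.fork (.one (.edge 1 [1,8,5] 3 (wOf 29 0x4321032132643623454123231234)))
 (.one (.edge 9 (wOf 21 0x21324634231234545423) 5 [5,8,5,4,3,2,1,0,5,4,3,6])))
 (.fork (.one (.edge 5 (wOf 20 0x12103746234534231230) 5 (wOf 17 0x21463234553123430)))
 (.one (.stab 0 []))))
 (.fork (.fork (.one (.edge 5 (wOf 20 0x12321432346341232341) 7 (wOf 14 0x46123464612346)))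
 (.one (.stab 0 [])))
 (.fork (.one (.edge 5 (wOf 21 0x323864534523462312312) 5 (wOf 13 0x2345012345340)))
 (.one (.stab 0 [])))))
 (.fork (.fork (.fork (.one (.edge 6 (wOf 22 0x1285432531234623234571) 5 (wOf 14 0x23123466453420)))
 (.one (.stab 0 [])))
 (.fork (.one (.edge 5 (wOf 20 0x10232854534512323120) 5 (wOf 18 0x21345723463230120)))
 (.one (.stab 0 []))))
 (.fork (.fork (.one (.edge 5 (wOf 23 0x12343216466342312345831) 7 (wOf 13 0x5230123457432)))
 (.one (.stab 0 [])))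
 (.fork (.one (.edge 5 (wOf 21 0x324328543231234634542) 5 (wOf 13 0x2346012345712)))
 (.one (.stab 0 []))))))
 (.fork (.fork (.fork (.fork (.one (.edge 5 (wOf 25 0x132176432531234532346732) 3 [2,3,2,1,0,5,4,3,2,6,6]))
 (.one (.stab 0 [])))
 (.fork (.one (.edge 5 (wOf 25 0x121543235545346231234673) 5 [6,4,3,5,4,3,2,1,0,3,2,6]))
 (.one (.stab 0 []))))
 (.fork (.fork (.one (.edge 5 (wOf 25 0x106432164573452345234521) 6 [1,2,1,0,4,3,8,5,4,3,2]))
 (.one (.stab 0 [])))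
 (.fork (.one (.edge 5 (wOf 13 0x3451234674323) 5 (wOf 15 0x762301234673234)))
 (.one (.stab 0 [])))))
 (.fork (.fork (.fork (.one (.edge 5 (wOf 22 0x5432321764632342312345) 6 [1,0,5,4,3,2,7,6]))
 (.one (.stab 0 [])))
 (.fork (.one (.edge 5 (wOf 23 0x32104323646732345312345) 5 (wOf 15 0x623460123466323)))
 (.one (.stab 0 []))))
 (.fork (.fork (.one (.edge 6 (wOf 24 0x14321367645323463234610) 5 (wOf 16 0x2634512345523455)))
 (.one (.stab 0 [])))
 (.fork (.one (.edge 5 (wOf 26 0x32324376432631234523461231) 9 [0,1,0,2,1,0,7,6,4,3,2,6]))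
 (.one (.stab 0 [])))))))
 (.fork (.fork (.fork (.fork (.fork (.one (.edge 4 [5,4,3,6,6] 8 (wOf 24 0x121864326453452323412301)))
 (.one (.edge 5 (wOf 20 0x1323645323457323453) 9 [0,1,3,2,1,3,2,5,7,5])))
 (.fork (.one (.edge 5 (wOf 22 0x213243754523412312312) 5 (wOf 15 0x623012345234232)))
 (.one (.stab 0 []))))
 (.fork (.fork (.one (.edge 5 (wOf 28 0x1024354323854532312346623451) 6 [0,2,1,0,5,5,4,3,2,6,6]))
 (.one (.stab 0 [])))
 (.fork (.one (.edge 5 (wOf 21 0x106432545734512341231) 5 (wOf 18 0x21646323463412320)))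
 (.one (.stab 0 [])))))
 (.fork (.fork (.fork (.one (.edge 5 (wOf 22 0x3213213453234682312342) 8 [0,5,4,3,2,1,3,2,6]))
 (.one (.stab 0 [])))
 (.fork (.one (.edge 5 (wOf 23 0x21328643523463423123454) 5 (wOf 14 0x85234501234542)))
 (.one (.stab 0 []))))
 (.fork (.fork (.one (.edge 5 (wOf 17 0x21632312346431234) 6 [4,7,6,4,3,2,1,0,3,5]))
 (.one (.stab 0 [])))
 (.fork (.one (.edge 5 (wOf 22 0x186432634512346812320) 5 (wOf 16 0x623453123453462)))
 (.one (.stab 0 []))))))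
 (.fork (.fork (.fork (.fork (.one (.edge 5 (wOf 23 0x1323214584323423123421) 3 [0,2,3,2,1,4,3,2,5,8]))
 (.one (.stab 0 [])))
 (.fork (.one (.edge 5 (wOf 24 0x124643213462345234582343) 5 (wOf 13 0x7012346234634)))
 (.one (.stab 0 []))))
 (.fork (.fork (.one (.edge 5 (wOf 24 0x435432354534232312345532) 5 (wOf 16 0x123454571234620)))
 (.one (.stab 0 [])))
 (.fork (.one (.edge 5 (wOf 22 0x1213214753463234542310) 5 (wOf 17 0x1646623461234010)))
 (.one (.stab 0 [])))))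
 (.fork (.fork (.fork (.one (.edge 5 (wOf 22 0x475432341232345712321) 7 (wOf 13 0x2301234634520)))
 (.one (.stab 0 [])))
 (.fork (.one (.edge 5 (wOf 20 0x8543546231234543234) 5 [5,4,3,2,1,0,5,4,3,6,7]))
 (.one (.stab 0 []))))
 (.fork (.fork (.one (.edge 5 (wOf 23 0x34321324684323461234323) 5 (wOf 16 0x823123461234323)))
 (.one (.stab 0 [])))
 (.fork (.one (.edge 9 (wOf 20 0x10321734232345312301) 7 [0,2,1,0,4,6,6,4,3,2,5]))
 (.one (.stab 0 []))))))))

/-- a part of the facts -/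
noncomputable def twFactsT51 : BT Fact := (.fork (.fork (.fork (.fork (.fork (.fork (.one (.edge 1 (wOf 17 0x10323123432301201) 2 [0,3,2,4]))
 (.one (.edge 5 (wOf 23 0x26432543674523461234673) 9 [1,2,3,2,3,6,6,4])))
 (.fork (.one (.edge 5 (wOf 22 0x2132132545342312346663) 5 (wOf 14 0x85230123467323)))
 (.one (.stab 0 []))))
 (.fork (.fork (.one (.edge 5 (wOf 26 0x1021643264683234534123121) 6 [5,4,3,2,1,0,3,2]))
 (.one (.stab 0 [])))
 (.fork (.one (.edge 5 (wOf 21 0x232343545323452346410) 5 (wOf 18 0x21673234512346432)))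
 (.one (.stab 0 [])))))
 (.fork (.fork (.fork (.one (.edge 8 (wOf 19 0x6432645345232345834) 8 [0,5,4,5,4,3]))
 (.one (.stab 0 [])))
 (.fork (.one (.edge 5 (wOf 24 0x754321064632346312346630) 5 [3,6,4,3,2,1,0,3,2,7,6]))
 (.one (.stab 0 []))))
 (.fork (.fork (.one (.edge 5 (wOf 24 0x32103554532312345346232) 6 [1,0,3,2,5,5,7]))
 (.one (.stab 0 [])))
 (.fork (.one (.edge 5 (wOf 27 0x123254321366466323451234230) 5 (wOf 17 0x1823461234632301)))
 (.one (.stab 0 []))))))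
 (.fork (.fork (.fork (.fork (.one (.edge 4 (wOf 20 0x21032463467123463232) 7 (wOf 16 0x585231234531230)))
 (.one (.stab 0 [])))
 (.fork (.one (.edge 5 (wOf 18 0x143623452346323123) 5 (wOf 16 0x623123466312343)))
 (.one (.stab 0 []))))
 (.fork (.fork (.one (.edge 5 (wOf 27 0x164321032143545234512323410) 5 (wOf 14 0x85234501234623)))
 (.one (.stab 0 [])))
 (.fork (.one (.edge 5 (wOf 18 0x106643234571232312) 5 (wOf 17 0x2312346642312345)))
 (.one (.stab 0 [])))))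
 (.fork (.fork (.fork (.one (.edge 5 (wOf 25 0x5432154321584634582340120) 8 [0,3,2,1,6,6,6]))
 (.one (.stab 0 [])))
 (.fork (.one (.edge 5 (wOf 25 0x4364321032634512323454123) 5 (wOf 14 0x67123123463423)))
 (.one (.stab 0 []))))
 (.fork (.fork (.one (.edge 5 (wOf 19 0x6432546342312346861) 5 (wOf 13 0x6234674012320)))
 (.one (.stab 0 [])))
 (.fork (.one (.edge 9 (wOf 27 0x103432364321323452346323412) 6 [0,2,3,2,1,0,4,7,6,4,3,6]))
 (.one (.stab 0 [])))))))
 (.fork (.fork (.fork (.fork (.fork (.one (.edge 7 [6,4] 8 [0,2,8,5,4]))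
 (.one (.edge 9 (wOf 24 0x432321466453234581234232) 5 [2,5,5,4,3,2,1,5,5,4,3,2])))
 (.fork (.one (.edge 5 (wOf 23 0x13210321453462346830121) 5 (wOf 14 0x23012345342320)))
 (.one (.stab 0 []))))
 (.fork (.fork (.one (.edge 5 (wOf 25 0x2132132466432345412323412) 6 (wOf 13 0x6234570123463)))
 (.one (.stab 0 [])))
 (.fork (.one (.edge 5 (wOf 22 0x321432763466323453421) 5 (wOf 15 0x663460123462340)))
 (.one (.stab 0 [])))))
 (.fork (.fork (.fork (.one (.edge 6 (wOf 22 0x2436432543234634571230) 8 [0,3,2,1,0,3,6]))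
 (.one (.stab 0 [])))
 (.fork (.one (.edge 5 (wOf 23 0x10213214534642323463120) 5 (wOf 14 0x62301234532345)))
 (.one (.stab 0 []))))
 (.fork (.fork (.one (.edge 5 (wOf 25 0x2327543210646346234542312) 5 (wOf 17 0x1734646234642320)))
 (.one (.stab 0 [])))
 (.fork (.one (.edge 5 (wOf 22 0x1343238645323461234643) 5 (wOf 13 0x2346701234623)))
 (.one (.stab 0 []))))))
 (.fork (.fork (.fork (.fork (.one (.edge 5 (wOf 21 0x647643231234623123453) 6 [0,1,0,2,6,7]))
 (.one (.stab 0 [])))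
 (.fork (.one (.edge 5 (wOf 27 0x21354364321342312345834232) 5 (wOf 14 0x53012345834301)))
 (.one (.stab 0 []))))
 (.fork (.fork (.one (.edge 5 (wOf 20 0x34643234582345123450) 8 (wOf 14 0x64670123451232)))
 (.one (.stab 0 [])))
 (.fork (.one (.edge 5 (wOf 26 0x12323438543231234612345421) 5 (wOf 16 0x642312346863401)))
 (.one (.stab 0 [])))))
 (.fork (.fork (.fork (.one (.edge 5 (wOf 23 0x64323210466432312346345) 6 [1,0,6,4,3,2,5,8]))
 (.one (.stab 0 [])))
 (.fork (.one (.edge 5 (wOf 23 0x13246432553412323454310) 5 (wOf 15 0x234523455123462)))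
 (.one (.stab 0 []))))
 (.fork (.fork (.one (.edge 5 (wOf 23 0x1432132467346312346731) 5 (wOf 14 0x1232345834232)))
 (.one (.stab 0 [])))
 (.fork (.one (.edge 9 (wOf 25 0x321364323546823461234232) 5 [0,1,5,4,3,7,5,4,3,2,1,6]))
 (.one (.stab 0 []))))))))

/-- a part of the facts -/
noncomputable def twFactsT52 : BT Fact := (.fork (.fork (.fork (.fork (.fork (.fork (.one (.edge 3 (wOf 19 0x3234863234123231234) 3 [2,3,2,1,0,3,2,1,3,2,6,7]))
 (.one (.edge 9 (wOf 16 0x1452312346323455) 5 (wOf 17 0x2674631234552323))))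
 (.fork (.one (.edge 5 (wOf 18 0x123554623451234584) 5 (wOf 14 0x23464601234630)))
 (.one (.stab 0 []))))
 (.fork (.fork (.one (.edge 5 (wOf 24 0x10321064634623457234121) 8 [0,2,1,3,2,1,0,5,4,3,2]))
 (.one (.stab 0 [])))
 (.fork (.one (.edge 5 (wOf 25 0x1021321643584623453123210) 5 [0,1,2,3,2,1,0,5,5,4,3,2]))
 (.one (.stab 0 [])))))
 (.fork (.fork (.fork (.one (.edge 5 (wOf 26 0x2103243554323123467234312) 8 [3,2,1,0,5,4,3,2,6,6]))
 (.one (.stab 0 [])))
 (.fork (.one (.edge 5 (wOf 24 0x214323214534532346623210) 5 (wOf 16 0x123234534632342)))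
 (.one (.stab 0 []))))
 (.fork (.fork (.one (.edge 5 (wOf 26 0x2643218543646234671234523) 4 [0,6,6,4,3,2,1,3]))
 (.one (.stab 0 [])))
 (.fork (.one (.edge 5 (wOf 25 0x2854325432545531234641232) 5 (wOf 16 0x231234663431232)))
 (.one (.stab 0 []))))))
 (.fork (.fork (.fork (.fork (.one (.edge 6 (wOf 14 0x86345323468320) 8 [1,0,3,2,1,0,3,2,1,6]))
 (.one (.stab 0 [])))
 (.fork (.one (.edge 5 (wOf 24 0x321343213674532345231234) 5 (wOf 16 0x2463123455345232)))
 (.one (.stab 0 []))))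
 (.fork (.fork (.one (.edge 5 (wOf 25 0x103464321734523432312343) 6 (wOf 13 0x2345740123201)))
 (.one (.stab 0 [])))
 (.fork (.one (.edge 5 (wOf 20 0x1236645834231234321) 5 (wOf 14 0x72301234523231)))
 (.one (.stab 0 [])))))
 (.fork (.fork (.fork (.one (.edge 5 (wOf 26 0x21032436432645312312346310) 7 (wOf 13 0x6301234634120)))
 (.one (.stab 0 [])))
 (.fork (.one (.edge 5 (wOf 23 0x23543210634623458234521) 5 (wOf 14 0x52346601234530)))
 (.one (.stab 0 []))))
 (.fork (.fork (.one (.edge 5 (wOf 23 0x1543213854623234683123) 6 [3,2,1,0,3,2,5,8,5]))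
 (.one (.stab 0 [])))
 (.fork (.one (.edge 9 (wOf 23 0x54328543646232312346234) 5 (wOf 13 0x3012345234673)))
 (.one (.stab 0 [])))))))
 (.fork (.fork (.fork (.fork (.fork (.one (.edge 5 (wOf 14 0x53462345234550) 8 (wOf 15 0x623455301234542)))
 (.one (.edge 10 (wOf 19 0x1043552341232346634) 5 (wOf 16 0x862312346234323))))
 (.fork (.one (.edge 5 (wOf 20 0x23213623466231234532) 3 (wOf 13 0x3401232345532)))
 (.one (.stab 0 []))))
 (.fork (.fork (.one (.edge 5 (wOf 21 0x103210345231231234584) 7 (wOf 14 0x23467450123460)))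
 (.one (.stab 0 [])))
 (.fork (.one (.edge 5 (wOf 24 0x213232148545323468312310) 5 (wOf 15 0x234630123463230)))
 (.one (.stab 0 [])))))
 (.fork (.fork (.fork (.one (.edge 5 (wOf 23 0x12132154323451234643234) 5 (wOf 14 0x66231234534230)))
 (.one (.stab 0 [])))
 (.fork (.one (.edge 5 (wOf 22 0x132754323461232346712) 5 (wOf 14 0x76234501234543)))
 (.one (.stab 0 []))))
 (.fork (.fork (.one (.edge 5 (wOf 23 0x43254321546345234582321) 6 [0,2,6,4,3,2,1,0,5,4,8]))
 (.one (.stab 0 [])))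
 (.fork (.one (.edge 5 (wOf 24 0x102464321543231234634523) 5 (wOf 14 0x46723461234540)))
 (.one (.stab 0 []))))))
 (.fork (.fork (.fork (.fork (.one (.edge 6 (wOf 24 0x343232154732345512343201) 7 (wOf 16 0x581234612345012)))
 (.one (.stab 0 [])))
 (.fork (.one (.edge 5 (wOf 28 0x102103255432646345123452310) 5 (wOf 15 0x462301234632340)))
 (.one (.stab 0 []))))
 (.fork (.fork (.one (.edge 5 (wOf 25 0x1217643236745342312341232) 5 [3,2,7,6,4,3,2,1,3,2,5]))
 (.one (.stab 0 [])))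
 (.fork (.one (.edge 5 (wOf 25 0x3213285432574312345301230) 5 (wOf 15 0x662312345312321)))
 (.one (.stab 0 [])))))
 (.fork (.fork (.fork (.one (.edge 5 (wOf 25 0x323432376453231234662312) 8 [0,6,4,3,2,1,0,3,2]))
 (.one (.stab 0 [])))
 (.fork (.one (.edge 5 (wOf 23 0x12136432853423123123467) 5 [1,2,3,2,1,6,4,3,2,1,0]))
 (.one (.stab 0 []))))
 (.fork (.fork (.one (.edge 5 (wOf 25 0x321064321545346823423123) 5 (wOf 16 0x231234664532343)))
 (.one (.stab 0 [])))
 (.fork (.one (.edge 9 (wOf 23 0x1234664532345323461230) 9 [3,4,3,2,1,0,3,6]))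
 (.one (.stab 0 []))))))))

/-- a part of the facts -/
noncomputable def twFactsT53 : BT Fact := (.fork (.fork (.fork (.fork (.fork (.fork (.one (.stab 2 (wOf 19 0x102312343231230123)))
 (.one (.edge 5 (wOf 22 0x1326664323123453234671) 9 [1,0,3,2,6,6,6])))
 (.fork (.one (.edge 5 (wOf 25 0x1043236432573453123461230) 5 (wOf 15 0x231234545431230)))
 (.one (.stab 0 []))))
 (.fork (.fork (.one (.edge 5 (wOf 23 0x1432134664532341232310) 6 [1,7,6,4,3,2,1,0]))
 (.one (.stab 0 [])))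
 (.fork (.one (.edge 5 (wOf 25 0x1432132132585453234531230) 5 (wOf 13 0x3455012345340)))
 (.one (.stab 0 [])))))
 (.fork (.fork (.fork (.one (.edge 5 (wOf 24 0x12321032834543234531230) 6 [0,3,2,1,0,3,2,5,8]))
 (.one (.stab 0 [])))
 (.fork (.one (.edge 5 (wOf 25 0x1217543264673423123451210) 5 (wOf 14 0x62345701234523)))
 (.one (.stab 0 []))))
 (.fork (.fork (.one (.edge 5 (wOf 24 0x232164764323451234523451) 6 [0,1,0,2,5,4,3,2,7,6]))
 (.one (.stab 0 [])))
 (.fork (.one (.edge 5 (wOf 26 0x2132132166455323463123401) 5 (wOf 17 0x2646312345543012)))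
 (.one (.stab 0 []))))))
 (.fork (.fork (.fork (.fork (.one (.edge 5 (wOf 19 0x2454532345346234632) 8 (wOf 16 0x572345123463412)))
 (.one (.stab 0 [])))
 (.fork (.one (.edge 5 (wOf 27 0x15432327643523451234672342) 5 (wOf 15 0x466230123455301)))
 (.one (.stab 0 []))))
 (.fork (.fork (.one (.edge 5 (wOf 24 0x454321864532346234623123) 8 (wOf 13 0x5723455012320)))
 (.one (.stab 0 [])))
 (.fork (.one (.edge 5 (wOf 24 0x485432154632346312345210) 5 (wOf 15 0x12345523463232)))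
 (.one (.stab 0 [])))))
 (.fork (.fork (.fork (.one (.edge 5 (wOf 18 0x32531234583012343) 8 [0,1,2,5,8]))
 (.one (.stab 0 [])))
 (.fork (.one (.edge 5 (wOf 23 0x10213476432312345312345) 5 (wOf 14 0x64672312345430)))
 (.one (.stab 0 []))))
 (.fork (.fork (.one (.edge 5 (wOf 22 0x321432545345312345310) 5 (wOf 17 0x2731234554312340)))
 (.one (.stab 0 [])))
 (.fork (.one (.edge 9 (wOf 26 0x54321543264534623463123461) 5 (wOf 18 0x213545234551234550)))
 (.one (.stab 0 [])))))))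
 (.fork (.fork (.fork (.fork (.fork (.one (.edge 7 [0,1,5,4,3,2,1,3,2,5,8] 6 (wOf 26 0x2366432132545342323123210)))
 (.one (.edge 9 (wOf 17 0x12764323123466301) 5 (wOf 15 0x723012345432310))))
 (.fork (.one (.edge 5 (wOf 25 0x143217543523466123234312) 5 (wOf 15 0x623012346834523)))
 (.one (.stab 0 []))))
 (.fork (.fork (.one (.edge 8 (wOf 16 0x3458323123401232) 5 (wOf 18 0x321345523123464312)))
 (.one (.stab 0 [])))
 (.fork (.one (.edge 5 (wOf 27 0x643213243254634672345123412) 5 [3,4,3,2,3,6,4,3,2,1,3,6]))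
 (.one (.stab 0 [])))))
 (.fork (.fork (.fork (.one (.edge 5 (wOf 20 0x12355463423234531230) 7 [0,1,0,4,6,6,4,3,2,1,0]))
 (.one (.stab 0 [])))
 (.fork (.one (.edge 5 (wOf 21 0x23643664523123451231) 5 [4,6,4,3,2,1,0,6,4,3,2]))
 (.one (.stab 0 []))))
 (.fork (.fork (.one (.edge 5 (wOf 23 0x32132664663462345123450) 5 [4,5,4,3,2,1,5,4,3,2,6]))
 (.one (.stab 0 [])))
 (.fork (.one (.edge 5 (wOf 22 0x1032103674523462346120) 5 [0,6,4,3,2,1,0,5,4,3,7,6]))
 (.one (.stab 0 []))))))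
 (.fork (.fork (.fork (.fork (.one (.edge 6 (wOf 22 0x1213243854632312343010) 8 [4,5,4,3,2,5]))
 (.one (.stab 0 [])))
 (.fork (.one (.edge 5 (wOf 20 0x23234534532345551230) 5 (wOf 16 0x612345312346830)))
 (.one (.stab 0 []))))
 (.fork (.fork (.one (.edge 5 (wOf 24 0x105432164532346462312343) 8 [0,2,3,2,1,0,5,4,3,2,6,6]))
 (.one (.stab 0 [])))
 (.fork (.one (.edge 5 (wOf 23 0x13864323468231234623461) 5 (wOf 15 0x764523012345734)))
 (.one (.stab 0 [])))))
 (.fork (.fork (.fork (.one (.edge 8 (wOf 21 0x10343672345312341231) 5 (wOf 15 0x234601234573010)))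
 (.one (.stab 0 [])))
 (.fork (.one (.edge 5 (wOf 23 0x13646432346123234123201) 5 [0,2,1,3,2,1,0,7,6,4,3,6]))
 (.one (.stab 0 []))))
 (.fork (.fork (.one (.edge 5 (wOf 24 0x34321036746323463412010) 5 (wOf 13 0x8523466012320)))
 (.one (.stab 0 [])))
 (.fork (.one (.edge 9 (wOf 24 0x106435432531234523234632) 5 (wOf 14 0x64523012346730)))
 (.one (.stab 0 []))))))))

/-- a part of the facts -/
noncomputable def twFactsT54 : BT Fact := (.fork (.fork (.fork (.fork (.fork (.fork (.one (.edge 3 [3,2,1,0,3,2,1,3,6,6,6] 3 (wOf 18 0x54553234512323123)))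
 (.one (.edge 9 (wOf 24 0x324326432664312346631232) 5 (wOf 16 0x845231234583423))))
 (.fork (.one (.edge 5 (wOf 22 0x103243546623461234582) 5 (wOf 15 0x232345312345740)))
 (.one (.stab 0 []))))
 (.fork (.fork (.one (.edge 5 (wOf 25 0x6432321432545346323461210) 8 [0,2,1,3,2,1,0,5,4,3,5]))
 (.one (.stab 0 [])))
 (.fork (.one (.edge 5 (wOf 26 0x12343232166457323463123450) 5 (wOf 14 0x23450123468631)))
 (.one (.stab 0 [])))))
 (.fork (.fork (.fork (.one (.edge 8 (wOf 24 0x32132543574623423123464) 6 [0,1,3,2,1,6,6,4,3,2,6]))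
 (.one (.stab 0 [])))
 (.fork (.one (.edge 5 (wOf 20 0x10232845312346723234) 5 (wOf 14 0x34550123455120)))
 (.one (.stab 0 []))))
 (.fork (.fork (.one (.edge 5 (wOf 26 0x2135543216432346843123460) 8 [2,5,4,3,6,4,3,2,1,0,3,2]))
 (.one (.stab 0 [])))
 (.fork (.one (.edge 5 (wOf 27 0x432132324321543234555231201) 5 (wOf 15 0x763012345432343)))
 (.one (.stab 0 []))))))
 (.fork (.fork (.fork (.fork (.one (.edge 8 (wOf 26 0x23218543264634231234501230) 6 (wOf 13 0x6012346412320)))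
 (.one (.stab 0 [])))
 (.fork (.one (.edge 5 (wOf 25 0x132643213574632345234523) 5 (wOf 15 0x852346012346423)))
 (.one (.stab 0 []))))
 (.fork (.fork (.one (.edge 5 (wOf 24 0x103276432646346612323410) 6 [2,1,3,7,6]))
 (.one (.stab 0 [])))
 (.fork (.one (.edge 5 (wOf 22 0x2643264832345123462346) 5 (wOf 16 0x661234512345820)))
 (.one (.stab 0 [])))))
 (.fork (.fork (.fork (.one (.edge 6 (wOf 22 0x1216432546312345312310) 6 [0,2,3,2,1,0,4,3,2,5,7,5]))
 (.one (.stab 0 [])))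
 (.fork (.one (.edge 5 (wOf 24 0x13243213746234623231234) 5 [0,3,2,1,3,2,6]))
 (.one (.stab 0 []))))
 (.fork (.fork (.one (.edge 5 (wOf 23 0x1432643234581234534201) 5 [3,6,4,3,2,1,0,3,2,5,8]))
 (.one (.stab 0 [])))
 (.fork (.one (.edge 9 (wOf 27 0x323764321364753234231234542) 5 (wOf 13 0x4523450123462)))
 (.one (.stab 0 [])))))))
 (.fork (.fork (.fork (.fork (.fork (.one (.edge 6 (wOf 23 0x1232146463234683234532) 6 [0,1,0,5,4,3,2,1,0]))
 (.one (.edge 5 (wOf 17 0x6745345323123455) 9 [0,3,2,1,0,4,8,5,4,3,2])))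
 (.fork (.one (.edge 5 (wOf 26 0x1346432132634581232346312) 5 [0,1,2,5,4,5,4,3,2]))
 (.one (.stab 0 []))))
 (.fork (.fork (.one (.edge 5 (wOf 21 0x643235745323461230121) 6 [0,1,0,3,6,6]))
 (.one (.stab 0 [])))
 (.fork (.one (.edge 5 (wOf 27 0x232146432321464323461234521) 5 (wOf 15 0x752301234662341)))
 (.one (.stab 0 [])))))
 (.fork (.fork (.fork (.one (.edge 5 (wOf 24 0x102135432634585232341232) 4 (wOf 13 0x6345701234620)))
 (.one (.stab 0 [])))
 (.fork (.one (.edge 5 (wOf 21 0x10321534523234583431) 5 (wOf 15 0x623468012345234)))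
 (.one (.stab 0 []))))
 (.fork (.fork (.one (.edge 5 (wOf 24 0x123257543623463423123210) 6 [2,6,6,4,3,2,1,3,2,4,6]))
 (.one (.stab 0 [])))
 (.fork (.one (.edge 5 (wOf 24 0x32464325463423123466012) 5 (wOf 18 0x21323123463453231)))
 (.one (.stab 0 []))))))
 (.fork (.fork (.fork (.fork (.one (.edge 6 (wOf 25 0x102132145746323453234573) 6 [1,0,2,6,6,6]))
 (.one (.stab 0 [])))
 (.fork (.one (.edge 5 (wOf 22 0x2135432534682312312345) 5 (wOf 14 0x60123123457341)))
 (.one (.stab 0 []))))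
 (.fork (.fork (.one (.edge 5 (wOf 26 0x32132134354323123453123457) 5 (wOf 13 0x8452301234630)))
 (.one (.stab 0 [])))
 (.fork (.one (.edge 5 (wOf 25 0x210321032453453423123123) 5 (wOf 17 0x2863123462346610)))
 (.one (.stab 0 [])))))
 (.fork (.fork (.fork (.one (.edge 5 (wOf 23 0x1343213646234682312343) 7 (wOf 14 0x70123455123453)))
 (.one (.stab 0 [])))
 (.fork (.one (.edge 5 (wOf 24 0x232132543646232312345521) 5 [3,2,3,2,1,0,6,4,3,2]))
 (.one (.stab 0 []))))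
 (.fork (.fork (.one (.edge 5 (wOf 23 0x2643754532346712346234) 5 (wOf 14 0x23012345323453)))
 (.one (.stab 0 [])))
 (.fork (.one (.edge 9 (wOf 20 0x25432646345723462342) 9 [0,4,5,4,3,2,7,5,4,6]))
 (.one (.stab 0 []))))))))

/-- a part of the facts -/
noncomputable def twFactsT55 : BT Fact := (.fork (.fork (.fork (.fork (.fork (.fork (.one (.stab 3 [0,1,0,2,1,0,6,4,5]))
 (.one (.edge 5 (wOf 26 0x13643213245463423123466345) 9 [0,1,3,2,1,0,3,2,1,0])))
 (.fork (.one (.edge 5 (wOf 25 0x2164321054863458234523123) 5 (wOf 15 0x601234612345732)))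
 (.one (.stab 0 []))))
 (.fork (.fork (.one (.edge 5 (wOf 24 0x21043238645342312346234) 7 (wOf 15 0x645852301234532)))
 (.one (.stab 0 [])))
 (.fork (.one (.edge 5 (wOf 26 0x21323432135453234612345412) 5 (wOf 15 0x763123454323121)))
 (.one (.stab 0 [])))))
 (.fork (.fork (.fork (.one (.edge 5 (wOf 20 0x1321453234531231210) 3 [1,0,3,2,1,0,5,4,3,2,6]))
 (.one (.stab 0 [])))
 (.fork (.one (.edge 5 (wOf 24 0x12343232454312345512312) 5 (wOf 15 0x601234512346230)))
 (.one (.stab 0 []))))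
 (.fork (.fork (.one (.edge 5 (wOf 27 0x12132432136746342323451232) 6 [5,4,3,2,1,0,3,2,6,4,6]))
 (.one (.stab 0 [])))
 (.fork (.one (.edge 5 (wOf 22 0x104321545346323463010) 5 (wOf 16 0x3523452312345532)))
 (.one (.stab 0 []))))))
 (.fork (.fork (.fork (.fork (.one (.edge 5 (wOf 16 0x3684634623123012) 4 [0,6,6,4,3,2]))
 (.one (.stab 0 [])))
 (.fork (.one (.edge 5 (wOf 25 0x1243236432634573123412312) 5 (wOf 15 0x523012345432312)))
 (.one (.stab 0 []))))
 (.fork (.fork (.one (.edge 5 (wOf 25 0x1323664321646323461234542) 5 [4,3,7,6,4,3,2,1,0,3,2,6]))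
 (.one (.stab 0 [])))
 (.fork (.one (.edge 5 (wOf 28 0x464323643213545732346123452) 5 (wOf 16 0x753123454312343)))
 (.one (.stab 0 [])))))
 (.fork (.fork (.fork (.one (.edge 5 (wOf 24 0x121343213582345342312342) 5 (wOf 14 0x23460123458234)))
 (.one (.stab 0 [])))
 (.fork (.one (.edge 5 (wOf 23 0x23214326463423123457343) 5 (wOf 16 0x2634512346623412)))
 (.one (.stab 0 []))))
 (.fork (.fork (.one (.edge 5 (wOf 21 0x245543234671232341230) 5 (wOf 16 0x823461234583123)))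
 (.one (.stab 0 [])))
 (.fork (.one (.edge 9 (wOf 22 0x102134546632341232010) 7 [1,4,5,4,3,2,1,0,3,2,7,6]))
 (.one (.stab 0 [])))))))
 (.fork (.fork (.fork (.fork (.fork (.one (.edge 8 (wOf 23 0x10686432312346323432321) 7 [1,3,2,1,4,7,5,4,3]))
 (.one (.edge 5 (wOf 26 0x13285432132643234512342323) 9 [3,4,3,2,1,0,3,2,5,8])))
 (.fork (.one (.edge 5 (wOf 25 0x1064321035745323461232345) 5 [2,3,2,1,4,3,2,1,6,4,7,6]))
 (.one (.stab 0 []))))
 (.fork (.fork (.one (.edge 5 (wOf 24 0x10321554634232346431232) 6 [0,2,1,0,5,4,3,2]))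
 (.one (.stab 0 [])))
 (.fork (.one (.edge 5 (wOf 26 0x3664321324663452346123430) 5 (wOf 16 0x672312345342323)))
 (.one (.stab 0 [])))))
 (.fork (.fork (.fork (.one (.edge 5 (wOf 21 0x343210573463234512323) 8 [0,8,6,4,3,2,5]))
 (.one (.stab 0 [])))
 (.fork (.one (.edge 5 (wOf 26 0x10214325432634512323453431) 5 (wOf 15 0x463466012345230)))
 (.one (.stab 0 []))))
 (.fork (.fork (.one (.edge 5 (wOf 25 0x102321066463234531234631) 6 [2,1,0,3,2,5,8]))
 (.one (.stab 0 [])))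
 (.fork (.one (.edge 5 (wOf 24 0x213264321632346632345323) 5 (wOf 14 0x46623123463012)))
 (.one (.stab 0 []))))))
 (.fork (.fork (.fork (.fork (.one (.edge 5 (wOf 23 0x10454321323464632346732) 7 [0,1,3,2,1,0,6,4,3,7,6]))
 (.one (.stab 0 [])))
 (.fork (.one (.edge 5 (wOf 22 0x4643232754531231234641) 5 (wOf 13 0x6623460123450)))
 (.one (.stab 0 []))))
 (.fork (.fork (.one (.edge 5 (wOf 23 0x43232864534623123463123) 3 (wOf 13 0x7550123451230)))
 (.one (.stab 0 [])))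
 (.fork (.one (.edge 5 (wOf 25 0x123432132543123457431201) 5 (wOf 19 0x210854532346632343)))
 (.one (.stab 0 [])))))
 (.fork (.fork (.fork (.one (.edge 5 (wOf 26 0x1323243543234581234542321) 6 [1,2,1,6,4,3,2]))
 (.one (.stab 0 [])))
 (.fork (.one (.edge 5 (wOf 25 0x185432154673462323467120) 5 (wOf 13 0x2345012346620)))
 (.one (.stab 0 []))))
 (.fork (.fork (.one (.edge 5 (wOf 26 0x1432328643546234612343123) 6 [3,2,1,0,4,6,6,4,3,5]))
 (.one (.stab 0 [])))
 (.fork (.one (.edge 9 (wOf 22 0x3215543523457234123010) 6 [0,1,2,1,0,6,4,3,2,7,5,4]))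
 (.one (.stab 0 []))))))))

/-- a part of the facts -/
noncomputable def twFactsT56 : BT Fact := (.fork (.fork (.fork (.fork (.fork (.fork (.one (.edge 6 [0,8,5] 4 [0,6]))
 (.one (.edge 9 (wOf 24 0x14325432645345123451201) 5 [0,1,0,3,2,1,5,4,5,4,3])))
 (.fork (.one (.edge 5 (wOf 22 0x1543210863423123464612) 5 (wOf 14 0x85234601234660)))
 (.one (.stab 0 []))))
 (.fork (.fork (.one (.edge 5 (wOf 27 0x143264323643642312346412320) 3 (wOf 13 0x4301234573423)))
 (.one (.stab 0 [])))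
 (.fork (.one (.edge 5 (wOf 25 0x1232132432854312345753120) 5 (wOf 18 0x210467432345543234)))
 (.one (.stab 0 [])))))
 (.fork (.fork (.fork (.one (.edge 5 (wOf 21 0x13234632345412301234) 8 [0,1,5,4,3,2,1,0,5,8]))
 (.one (.stab 0 [])))
 (.fork (.one (.edge 5 (wOf 26 0x1032132454323468123234610) 5 (wOf 14 0x67301234634232)))
 (.one (.stab 0 []))))
 (.fork (.fork (.one (.edge 5 (wOf 22 0x132343523468323123012) 5 (wOf 18 0x12673461232346343)))
 (.one (.stab 0 [])))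
 (.fork (.one (.edge 5 (wOf 25 0x216432321746342323412301) 5 [1,6,4,6,4,3,2,1,0,6]))
 (.one (.stab 0 []))))))
 (.fork (.fork (.fork (.fork (.one (.edge 5 (wOf 20 0x2324634582346234542) 6 [4,8,5,4,3,2]))
 (.one (.stab 0 [])))
 (.fork (.one (.edge 5 (wOf 23 0x76432103234631234553210) 5 (wOf 15 0x823460123458310)))
 (.one (.stab 0 []))))
 (.fork (.fork (.one (.edge 5 (wOf 21 0x32154532345832341230) 6 [0,2,1,0,3,2,6,6,6]))
 (.one (.stab 0 [])))
 (.fork (.one (.edge 5 (wOf 24 0x32154321346234323123457) 5 [0,8,6,4,3,2,1,0,3,6,4,3]))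
 (.one (.stab 0 [])))))
 (.fork (.fork (.fork (.one (.edge 5 (wOf 25 0x1021435432634584123123120) 8 [1,5,8,5,4,3,2,6]))
 (.one (.stab 0 [])))
 (.fork (.one (.edge 5 (wOf 25 0x1210432164534523123431231) 5 [0,5,5,4,3,2,1,0,3,2,6]))
 (.one (.stab 0 []))))
 (.fork (.fork (.one (.edge 5 (wOf 27 0x854321364323467423123464010) 5 (wOf 15 0x623460123458234)))
 (.one (.stab 0 [])))
 (.fork (.one (.edge 9 (wOf 21 0x85432634612346231234) 5 (wOf 15 0x230123458453410)))
 (.one (.stab 0 [])))))))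
 (.fork (.fork (.fork (.fork (.fork (.one (.edge 8 (wOf 26 0x32164321064634231234672346) 8 (wOf 14 0x23457012346342)))
 (.one (.edge 10 (wOf 25 0x254321754323466123412321) 9 (wOf 15 0x123454571232010))))
 (.fork (.one (.edge 5 (wOf 26 0x13234543238543231234623120) 5 [0,1,0,6,4,3,2,5,7]))
 (.one (.stab 0 []))))
 (.fork (.fork (.one (.edge 5 (wOf 24 0x21366432534631234523451) 8 [1,4,3,2,1,0,8,6,4,3,2,6]))
 (.one (.stab 0 [])))
 (.fork (.one (.edge 5 (wOf 25 0x2543264326645342312346861) 5 (wOf 15 0x673401232346463)))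
 (.one (.stab 0 [])))))
 (.fork (.fork (.fork (.one (.edge 5 (wOf 19 0x1067646346623123453) 6 [0,4,3,2,5,5,7]))
 (.one (.stab 0 [])))
 (.fork (.one (.edge 5 (wOf 26 0x16643213218545346823461231) 5 (wOf 19 0x213545346234623432)))
 (.one (.stab 0 []))))
 (.fork (.fork (.one (.edge 5 (wOf 26 0x10213643232646312312345553) 6 [0,1,0,6,4,6,4,3,6]))
 (.one (.stab 0 [])))
 (.fork (.one (.edge 9 [] 4 [1,0,4,6,6,4,3,2,5]))
 (.one (.stab 0 []))))))
 (.fork (.fork (.fork (.fork (.one (.edge 5 (wOf 22 0x3554321546634523450120) 8 [0,2,3,2]))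
 (.one (.stab 0 [])))
 (.fork (.one (.edge 5 (wOf 24 0x21432132634631234523458) 5 (wOf 16 0x523123466341232)))
 (.one (.stab 0 []))))
 (.fork (.fork (.one (.edge 5 (wOf 26 0x23235432132745345523452345) 5 [0,4,8,5,4,3,2,1,0,3,5,4]))
 (.one (.stab 0 [])))
 (.fork (.one (.edge 5 (wOf 23 0x47643264534523123462342) 5 (wOf 13 0x6452346123121)))
 (.one (.stab 0 [])))))
 (.fork (.fork (.fork (.one (.edge 5 (wOf 23 0x16643264634523123423121) 3 [0,3,2,1,0,3,2,8,5]))
 (.one (.stab 0 [])))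
 (.fork (.one (.edge 5 (wOf 27 0x323432132354634542323123460) 5 (wOf 15 0x674623123453463)))
 (.one (.stab 0 []))))
 (.fork (.fork (.one (.edge 5 (wOf 26 0x1364323543862346123234310) 5 [0,1,0,2,7,6,4,3,2]))
 (.one (.stab 0 [])))
 (.fork (.one (.edge 5 (wOf 27 0x18643213243545234612345831) 9 [0,1,3,2,7,5]))
 (.one (.stab 0 []))))))))

/-- a part of the facts -/
noncomputable def twFactsT57 : BT Fact := (.fork (.fork (.fork (.fork (.fork (.fork (.one (.stab 1 [4,6,4,5]))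
 (.one (.edge 5 (wOf 25 0x121032432584631234663201) 9 (wOf 13 0x3234662341230))))
 (.fork (.one (.edge 5 (wOf 26 0x23754321354532346412323461) 5 (wOf 13 0x2301234573123)))
 (.one (.stab 0 []))))
 (.fork (.fork (.one (.edge 5 (wOf 23 0x18543216453462346323412) 6 [1,2,1,0,5,4,3,2,5,5,7]))
 (.one (.stab 0 [])))
 (.fork (.one (.edge 5 (wOf 22 0x2676432546345123452323) 5 [0,6,4,3,2,1,5,4,3,2]))
 (.one (.stab 0 [])))))
 (.fork (.fork (.fork (.one (.edge 7 (wOf 24 0x210324321545843234512321) 6 (wOf 13 0x6746012341232)))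
 (.one (.stab 0 [])))
 (.fork (.one (.edge 5 (wOf 23 0x1432132864534512342301) 5 (wOf 16 0x852346123452301)))
 (.one (.stab 0 []))))
 (.fork (.fork (.one (.edge 5 (wOf 23 0x13643254634523123453430) 6 [3,2,3,2,1,0,5,4,3,2,6]))
 (.one (.stab 0 [])))
 (.fork (.one (.edge 5 (wOf 24 0x21054321645345232346710) 5 (wOf 15 0x572301234643231)))
 (.one (.stab 0 []))))))
 (.fork (.fork (.fork (.fork (.one (.edge 8 (wOf 25 0x123643264673462312312346) 6 [0,3,4,3,2,1,0,6,4,3,2,6]))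
 (.one (.stab 0 [])))
 (.fork (.one (.edge 5 (wOf 26 0x1023454321834623453423210) 5 (wOf 16 0x623461234532342)))
 (.one (.stab 0 []))))
 (.fork (.fork (.one (.edge 5 (wOf 26 0x1045454321342323466431232) 8 [1,0,3,6,4,3,6,7]))
 (.one (.stab 0 [])))
 (.fork (.one (.edge 5 (wOf 25 0x1321643213854532345823123) 5 (wOf 15 0x632346623123455)))
 (.one (.stab 0 [])))))
 (.fork (.fork (.fork (.one (.edge 5 (wOf 21 0x121364683234323123401) 7 (wOf 15 0x234623458123462)))
 (.one (.stab 0 [])))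
 (.fork (.one (.edge 5 (wOf 24 0x132754323546346231234552) 5 (wOf 17 0x12346812346432301)))
 (.one (.stab 0 []))))
 (.fork (.fork (.one (.edge 5 (wOf 23 0x46432154832345431234570) 4 [0,4,5,4,3,2,1,0,3,2,5,5]))
 (.one (.stab 0 [])))
 (.fork (.one (.edge 9 (wOf 27 0x124764321643623453123457301) 5 (wOf 15 0x662346012346620)))
 (.one (.stab 0 [])))))))
 (.fork (.fork (.fork (.fork (.fork (.one (.edge 4 [5,4,3,5,4,6] 6 (wOf 21 0x43235463234683123421)))
 (.one (.edge 9 (wOf 26 0x1232132364532346431234641) 5 (wOf 15 0x662345012345820))))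
 (.fork (.one (.edge 5 (wOf 27 0x13864321354632345312343120) 5 [0,3,2,1,6,4,3,2]))
 (.one (.stab 0 []))))
 (.fork (.fork (.one (.edge 5 (wOf 24 0x23214854632346432343123) 5 (wOf 13 0x6466346012310)))
 (.one (.stab 0 [])))
 (.fork (.one (.edge 5 (wOf 27 0x132132432134645346234661210) 5 (wOf 17 0x21634534623462340)))
 (.one (.stab 0 [])))))
 (.fork (.fork (.fork (.one (.edge 5 (wOf 26 0x21326643213452346423123464) 6 [0,1,0,2,5,5,4,3,2,5,5]))
 (.one (.stab 0 [])))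
 (.fork (.one (.edge 5 (wOf 23 0x12543213546323455431210) 5 (wOf 13 0x5230123462346)))
 (.one (.stab 0 []))))
 (.fork (.fork (.one (.edge 5 (wOf 27 0x34321366432346123423231201) 5 (wOf 13 0x3460123452323)))
 (.one (.stab 0 [])))
 (.fork (.one (.edge 5 (wOf 24 0x210323643523453123463421) 5 [0,2,3,2,1,0,5,5,4,3,6]))
 (.one (.stab 0 []))))))
 (.fork (.fork (.fork (.fork (.one (.edge 6 (wOf 18 0x432646346823234632) 7 [0,3,2,1,0,6,4,3,2,6]))
 (.one (.stab 0 [])))
 (.fork (.one (.edge 5 (wOf 19 0x5432631234583234531) 5 [0,2,1,3,2,1,0,5,5,7]))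
 (.one (.stab 0 []))))
 (.fork (.fork (.one (.edge 5 (wOf 26 0x1213432321645323466342010) 7 [0,2,1,0,3,2,7,6,4,6]))
 (.one (.stab 0 [])))
 (.fork (.one (.edge 5 (wOf 22 0x1343213645323468323123) 5 (wOf 13 0x4523012345450)))
 (.one (.stab 0 [])))))
 (.fork (.fork (.fork (.one (.edge 5 (wOf 26 0x13266432132664634623454231) 4 [0,1,3,2,1,0,6]))
 (.one (.stab 0 [])))
 (.fork (.one (.edge 5 (wOf 20 0x34321534663234530120) 5 [2,1,5,4,3,2,1,0,6,4,3]))
 (.one (.stab 0 []))))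
 (.fork (.fork (.one (.edge 5 (wOf 20 0x14321854323461234574) 5 (wOf 17 0x2731234646123012)))
 (.one (.stab 0 [])))
 (.fork (.one (.edge 9 (wOf 26 0x1343218543646234623468120) 5 (wOf 14 0x83012345453231)))
 (.one (.stab 0 []))))))))

/-- a part of the facts -/
noncomputable def twFactsT58 : BT Fact := (.fork (.fork (.fork (.fork (.fork (.fork (.one (.edge 3 (wOf 23 0x25432103546432312345721) 3 [2,3,2,1,0,3,2,1,3,2]))
 (.one (.edge 9 (wOf 27 0x285432164321546345552342310) 5 (wOf 16 0x523123457432343))))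
 (.fork (.one (.edge 5 (wOf 22 0x2132454532346631234623) 5 (wOf 18 0x21674534523457123)))
 (.one (.stab 0 []))))
 (.fork (.fork (.one (.edge 6 (wOf 23 0x14321354532346432346432) 8 (wOf 14 0x62346630123120)))
 (.one (.stab 0 [])))
 (.fork (.one (.edge 5 (wOf 25 0x143264321534623457323423) 5 (wOf 14 0x23401232345532)))
 (.one (.stab 0 [])))))
 (.fork (.fork (.fork (.one (.edge 8 (wOf 24 0x106432364663423123468340) 6 [4,3,2,1,0,8,6,4,3,2]))
 (.one (.stab 0 [])))
 (.fork (.one (.edge 5 (wOf 21 0x321343623412323457432) 5 [3,5,4,3,2,1,7,5,4,3]))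
 (.one (.stab 0 []))))
 (.fork (.fork (.one (.edge 5 (wOf 18 0x232454312346640120) 8 [6,4,3,2,6,4,7,6]))
 (.one (.stab 0 [])))
 (.fork (.one (.edge 5 (wOf 25 0x1021432854534523464123120) 5 (wOf 14 0x23454501234543)))
 (.one (.stab 0 []))))))
 (.fork (.fork (.fork (.fork (.one (.edge 6 (wOf 25 0x321325432754631234123120) 3 [0,3,2,1,0,3,2,4,6]))
 (.one (.stab 0 [])))
 (.fork (.one (.edge 5 (wOf 23 0x12375432534553123452323) 5 (wOf 17 0x1674623466234520)))
 (.one (.stab 0 []))))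
 (.fork (.fork (.one (.edge 5 (wOf 20 0x1321454323453123466) 6 (wOf 16 0x646823123463420)))
 (.one (.stab 0 [])))
 (.fork (.one (.edge 5 (wOf 23 0x10216643234646231234010) 5 [3,2,1,0,4,6,4,3,7,5]))
 (.one (.stab 0 [])))))
 (.fork (.fork (.fork (.one (.edge 5 (wOf 23 0x10321754634523462346610) 6 (wOf 13 0x6012345123430)))
 (.one (.stab 0 [])))
 (.fork (.one (.edge 5 (wOf 24 0x12103854634231234623457) 5 [5,5,4,3,2,1,0,3,2,6]))
 (.one (.stab 0 []))))
 (.fork (.fork (.one (.edge 5 (wOf 22 0x1321375463234523467120) 5 (wOf 16 0x623461234572346)))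
 (.one (.stab 0 [])))
 (.fork (.one (.edge 9 (wOf 22 0x4385432534612301234680) 3 [0,3,2,1,0,4,3,2,5,5,7]))
 (.one (.stab 0 [])))))))
 (.fork (.fork (.fork (.fork (.fork (.one (.edge 5 (wOf 22 0x3864323645523234123012) 3 [0,3,2,5,5,7]))
 (.one (.edge 9 (wOf 19 0x102663123453234643) 9 [1,0,3,2,1,0,6,4,6])))
 (.fork (.one (.edge 5 (wOf 27 0x248543254325463462312346234) 5 (wOf 14 0x23012345323430)))
 (.one (.stab 0 []))))
 (.fork (.fork (.one (.edge 5 (wOf 25 0x2354321321466342301234550) 6 (wOf 13 0x7450123454010)))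
 (.one (.stab 0 [])))
 (.fork (.one (.edge 5 (wOf 25 0x132664321643231234573410) 5 (wOf 14 0x76012312345432)))
 (.one (.stab 0 [])))))
 (.fork (.fork (.fork (.one (.edge 5 (wOf 24 0x134643232645312346634120) 3 (wOf 13 0x2345740123010)))
 (.one (.stab 0 [])))
 (.fork (.one (.edge 5 (wOf 25 0x164321354534231234534623) 5 (wOf 13 0x2345123455310)))
 (.one (.stab 0 []))))
 (.fork (.fork (.one (.edge 5 (wOf 25 0x543216643645234512346412) 6 (wOf 13 0x6723012346340)))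
 (.one (.stab 0 [])))
 (.fork (.one (.edge 5 (wOf 23 0x1326432531234532346320) 5 (wOf 15 0x523012346463401)))
 (.one (.stab 0 []))))))
 (.fork (.fork (.fork (.fork (.one (.edge 5 (wOf 25 0x8543213210346342312346340) 4 (wOf 13 0x7646230123450)))
 (.one (.stab 0 [])))
 (.fork (.one (.edge 5 (wOf 18 0x13457234512346321) 5 (wOf 16 0x231234664312301)))
 (.one (.stab 0 []))))
 (.fork (.fork (.one (.edge 5 (wOf 23 0x6432166453234312312010) 5 [3,2,1,0,6,6,4,3,2,6]))
 (.one (.stab 0 [])))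
 (.fork (.one (.edge 5 (wOf 26 0x1032134326643234612346012) 5 (wOf 17 0x2674534612345320)))
 (.one (.stab 0 [])))))
 (.fork (.fork (.fork (.one (.edge 5 (wOf 22 0x1036432346123423123464) 7 [0,3,2,3,5,4,3,2,1,0,3,2]))
 (.one (.stab 0 [])))
 (.fork (.one (.edge 5 (wOf 19 0x4323645734231234543) 5 (wOf 18 0x21845323458345232)))
 (.one (.stab 0 []))))
 (.fork (.fork (.one (.edge 5 (wOf 26 0x21032135432643123463431230) 5 (wOf 20 0x2103546834523462321)))
 (.one (.stab 0 [])))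
 (.fork (.one (.edge 9 (wOf 22 0x1027643545234682312301) 8 [0,2,3,2,1,0,4,3,2,6,4]))
 (.one (.stab 0 []))))))))

/-- a part of the facts -/
noncomputable def twFactsT59 : BT Fact := (.fork (.fork (.fork (.fork (.fork (.fork (.one (.edge 2 (wOf 21 0x23248545346234623423) 2 [4,3,2,6,4]))
 (.one (.edge 5 (wOf 23 0x12132176453234512346201) 9 [0,2,3,2,1,0,4,3,2,6,7])))
 (.fork (.one (.edge 5 (wOf 24 0x321324321546834623458232) 5 (wOf 15 0x623460123467323)))
 (.one (.stab 0 []))))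
 (.fork (.fork (.one (.edge 5 (wOf 27 0x12432135432645323458312010) 6 [5,5,4,3,2,1,0,3,2,4,7,6]))
 (.one (.stab 0 [])))
 (.fork (.one (.edge 5 (wOf 25 0x323543213546832345123120) 5 (wOf 16 0x662312345323430)))
 (.one (.stab 0 [])))))
 (.fork (.fork (.fork (.one (.edge 5 (wOf 26 0x64321032143864623451230120) 8 [6,4,3,2,3,2,1,0,6,6,4,6]))
 (.one (.stab 0 [])))
 (.fork (.one (.edge 5 (wOf 22 0x3432132346231234623231) 5 (wOf 16 0x754512312345343)))
 (.one (.stab 0 []))))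
 (.fork (.fork (.one (.edge 5 (wOf 28 0x1321055432154632346731234532) 6 [5,4,3,2,1,0,3,2,7,5]))
 (.one (.stab 0 [])))
 (.fork (.one (.edge 5 (wOf 25 0x132554323646342312346701) 5 (wOf 18 0x12646312345543231)))
 (.one (.stab 0 []))))))
 (.fork (.fork (.fork (.fork (.one (.edge 5 (wOf 22 0x4643210573234531234530) 8 [2,7,6]))
 (.one (.stab 0 [])))
 (.fork (.one (.edge 5 (wOf 22 0x4643232646831234123120) 5 [2,4,3,6,4,3,2,1,0,3,6]))
 (.one (.stab 0 []))))
 (.fork (.fork (.one (.edge 5 (wOf 21 0x232145463234631234312) 5 [3,2,1,0,4,8,6,4,3,2]))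
 (.one (.stab 0 [])))
 (.fork (.one (.edge 5 (wOf 23 0x2132103645234512312346) 5 (wOf 15 0x674634501234520)))
 (.one (.stab 0 [])))))
 (.fork (.fork (.fork (.one (.edge 5 (wOf 21 0x232132634632345312346) 3 [0,2,3,2,1,4,3,2,6,4,7,6]))
 (.one (.stab 0 [])))
 (.fork (.one (.edge 5 (wOf 24 0x18643213545723234612346) 5 (wOf 15 0x234501234683232)))
 (.one (.stab 0 []))))
 (.fork (.fork (.one (.edge 5 (wOf 22 0x2132132574632346323464) 5 [3,2,1,0,3,5,4,3,2,7,6,4]))
 (.one (.stab 0 [])))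
 (.fork (.one (.edge 9 (wOf 27 0x102154321364532346431234323) 6 [3,2,1,0,3,2,6,6,6]))
 (.one (.stab 0 [])))))))
 (.fork (.fork (.fork (.fork (.fork (.one (.edge 5 (wOf 27 0x346432132432854534323123463) 4 [5,4,3,2,1,0,3,2,6,6]))
 (.one (.edge 9 (wOf 26 0x10216432321543234646231210) 5 (wOf 15 0x230123458345230))))
 (.fork (.one (.edge 5 (wOf 24 0x121032154323464323464312) 5 (wOf 13 0x2301234583420)))
 (.one (.stab 0 []))))
 (.fork (.fork (.one (.edge 5 (wOf 23 0x32366432312346823432312) 6 [2,1,3,6,4,3,2,5,4,6]))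
 (.one (.stab 0 [])))
 (.fork (.one (.edge 5 (wOf 25 0x1213214328643231234683423) 5 [0,5,4,3,2,1,0,3,2,6,6]))
 (.one (.stab 0 [])))))
 (.fork (.fork (.fork (.one (.edge 5 (wOf 24 0x343276432345512342312010) 8 [1,0,2,5,4,3,2,7]))
 (.one (.stab 0 [])))
 (.fork (.one (.edge 5 (wOf 24 0x15543254853462346312312) 5 (wOf 14 0x72312346343232)))
 (.one (.stab 0 []))))
 (.fork (.fork (.one (.edge 5 (wOf 27 0x32143285432543123123468345) 5 (wOf 14 0x30123468123420)))
 (.one (.stab 0 [])))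
 (.fork (.one (.edge 5 (wOf 26 0x2154321354532345346234120) 5 (wOf 17 0x2453123466342320)))
 (.one (.stab 0 []))))))
 (.fork (.fork (.fork (.fork (.one (.edge 5 (wOf 26 0x1321436432643234531234572) 7 (wOf 13 0x5823012345232)))
 (.one (.stab 0 [])))
 (.fork (.one (.edge 5 (wOf 22 0x2321032466345231234681) 5 [0,5,4,3,2,1,5,4,3,7,6]))
 (.one (.stab 0 []))))
 (.fork (.fork (.one (.edge 5 (wOf 21 0x132321864534231234641) 8 [3,4,3,2,1,0,3,8,6,4,3,2]))
 (.one (.stab 0 [])))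
 (.fork (.one (.edge 5 (wOf 23 0x32164321574634623412320) 5 (wOf 14 0x62346123468323)))
 (.one (.stab 0 [])))))
 (.fork (.fork (.fork (.one (.edge 5 (wOf 22 0x103210346823452312010) 6 [0,6,6,4,3,2,1,0,3,2]))
 (.one (.stab 0 [])))
 (.fork (.one (.edge 5 (wOf 21 0x143232646312345342323) 5 (wOf 14 0x57230123463231)))
 (.one (.stab 0 []))))
 (.fork (.fork (.one (.edge 5 (wOf 23 0x2354323684532345123450) 5 (wOf 16 0x852312346345120)))
 (.one (.stab 0 [])))
 (.fork (.one (.edge 9 (wOf 20 0x36432534572312346320) 5 (wOf 15 0x623012346863231)))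
 (.one (.stab 0 []))))))))

/-- a part of the facts -/
noncomputable def twFactsT60 : BT Fact := (.fork (.fork (.fork (.fork (.fork (.fork (.one (.stab 5 (wOf 16 0x323123401232343)))
 (.one (.edge 9 (wOf 25 0x432354321583453234612346) 5 [0,3,4,5,4,3,2,1,0,3,2,5])))
 (.fork (.one (.edge 5 (wOf 24 0x176432164634523451234554) 5 (wOf 19 0x216463234523467231)))
 (.one (.stab 0 []))))
 (.fork (.fork (.one (.edge 5 (wOf 19 0x6432345231234572312) 8 [0,1,2,3,2,1,0,3,2,6,6,6]))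
 (.one (.stab 0 [])))
 (.fork (.one (.edge 5 (wOf 25 0x1254321055463452312346410) 5 (wOf 13 0x5346601234630)))
 (.one (.stab 0 [])))))
 (.fork (.fork (.fork (.one (.edge 6 (wOf 15 0x645512345234520) 8 [3,2,1,0,3,2,6,6,6]))
 (.one (.stab 0 [])))
 (.fork (.one (.edge 5 (wOf 24 0x10432164634582345123231) 5 (wOf 14 0x1231234553423)))
 (.one (.stab 0 []))))
 (.fork (.fork (.one (.edge 5 (wOf 24 0x17543215463462341232312) 5 (wOf 16 0x762312345343230)))
 (.one (.stab 0 [])))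
 (.fork (.one (.edge 5 (wOf 24 0x13643232664312345512340) 5 (wOf 17 0x21764532345346423)))
 (.one (.stab 0 []))))))
 (.fork (.fork (.fork (.fork (.one (.edge 3 (wOf 24 0x13754323545231230123468) 5 [0,1,5,4,3,5,8]))
 (.one (.stab 0 [])))
 (.fork (.one (.edge 5 (wOf 22 0x3243210663423123457432) 5 [0,1,0,3,2,1,5,5,4,3,6]))
 (.one (.stab 0 []))))
 (.fork (.fork (.one (.edge 5 (wOf 25 0x176432543234612346234123) 6 (wOf 14 0x23468345012340)))
 (.one (.stab 0 [])))
 (.fork (.one (.edge 5 (wOf 26 0x2432105543546234512312312) 5 (wOf 18 0x21645345723455230)))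
 (.one (.stab 0 [])))))
 (.fork (.fork (.fork (.one (.edge 5 (wOf 26 0x32375432135466323451232010) 7 [0,1,3,6,4,3,2,1,0,3,2,6]))
 (.one (.stab 0 [])))
 (.fork (.one (.edge 5 (wOf 22 0x123243854582342312345) 5 (wOf 13 0x6012323463423)))
 (.one (.stab 0 []))))
 (.fork (.fork (.one (.edge 5 (wOf 25 0x2543264321634623467301210) 3 [3,2,1,0,5,4,3,7,6]))
 (.one (.stab 0 [])))
 (.fork (.one (.edge 9 (wOf 20 0x2134663423234531234) 5 [2,3,2,1,0,4,5,5,4,3,2,5]))
 (.one (.stab 0 [])))))))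
 (.fork (.fork (.fork (.fork (.fork (.one (.edge 5 (wOf 27 0x34664321324853463231234663) 3 [0,1,0,3,2,1,6,4,3,6]))
 (.one (.edge 10 (wOf 25 0x1243764321532346123468234) 9 [0,2,1,0,3,4,3,5,4,3,7,5])))
 (.fork (.one (.edge 5 (wOf 26 0x21543232145463452346612345) 5 [7,6,4,3,2,1,3,5,4,3,2,6]))
 (.one (.stab 0 []))))
 (.fork (.fork (.one (.edge 5 (wOf 21 0x12132854312345543120) 8 [1,0,6,4,3,2,5,8,5,4,6]))
 (.one (.stab 0 [])))
 (.fork (.one (.edge 5 (wOf 24 0x275432132453467232345532) 5 (wOf 17 0x32834623123464310)))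
 (.one (.stab 0 [])))))
 (.fork (.fork (.fork (.one (.edge 8 (wOf 21 0x454321853452346801232) 6 [0,1,6,4,3,2,1,3,2,3]))
 (.one (.stab 0 [])))
 (.fork (.one (.edge 5 (wOf 26 0x12104321643852345123464231) 5 [1,4,8,5,4,3,2,1,0,5,4,6]))
 (.one (.stab 0 []))))
 (.fork (.fork (.one (.edge 5 (wOf 26 0x10324325432646731234552321) 6 (wOf 14 0x64623450123468)))
 (.one (.stab 0 [])))
 (.fork (.one (.edge 5 (wOf 25 0x3254321032746345231230123) 5 (wOf 17 0x1645732346432301)))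
 (.one (.stab 0 []))))))
 (.fork (.fork (.fork (.fork (.one (.edge 5 (wOf 24 0x123213232463423123458530) 8 [3,2,1,0,5,4,3,6]))
 (.one (.stab 0 [])))
 (.fork (.one (.edge 5 (wOf 25 0x4664323214864323462312301) 5 (wOf 15 0x662346012345851)))
 (.one (.stab 0 []))))
 (.fork (.fork (.one (.edge 5 (wOf 20 0x25432546346823462342) 5 (wOf 13 0x5234540123012)))
 (.one (.stab 0 [])))
 (.fork (.one (.edge 5 (wOf 26 0x13213432643764623451234201) 5 (wOf 15 0x234570123461232)))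
 (.one (.stab 0 [])))))
 (.fork (.fork (.fork (.one (.edge 5 (wOf 21 0x103213845232346731232) 8 [3,2,1,3,2,5,4,3,2,3,6]))
 (.one (.stab 0 [])))
 (.fork (.one (.edge 5 (wOf 24 0x10214854634523466123401) 5 [3,4,3,6,6,4,3,2,1,0,3,2]))
 (.one (.stab 0 []))))
 (.fork (.fork (.one (.edge 5 (wOf 25 0x185432136453462346423121) 5 (wOf 14 0x85012312346312)))
 (.one (.stab 0 [])))
 (.fork (.one (.edge 5 (wOf 24 0x14321643545234532343121) 9 [0,6,6,4,3,2,5,4,6]))
 (.one (.stab 0 []))))))))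

/-- a part of the facts -/
noncomputable def twFactsT61 : BT Fact := (.fork (.fork (.fork (.fork (.fork (.fork (.one (.edge 1 [2,1,0,3,2,1,3,2] 2 [1,0,2,1,0,3,2]))
 (.one (.edge 3 (wOf 25 0x132543213862346723423120) 9 (wOf 16 0x234571234553230))))
 (.fork (.one (.edge 5 (wOf 25 0x132454321683463234512310) 5 (wOf 15 0x12345812346323)))
 (.one (.stab 0 []))))
 (.fork (.fork (.one (.edge 5 (wOf 28 0x121321325432764534623123210) 6 (wOf 15 0x601234531234553)))
 (.one (.stab 0 [])))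
 (.fork (.one (.edge 5 (wOf 25 0x132154321645534230123410) 5 (wOf 14 0x23467012346230)))
 (.one (.stab 0 [])))))
 (.fork (.fork (.fork (.one (.edge 8 (wOf 14 0x46632345323461) 7 [0,1,0,3,2,1,6,7]))
 (.one (.stab 0 [])))
 (.fork (.one (.edge 5 (wOf 25 0x321854326463462346123412) 5 (wOf 15 0x642301234575301)))
 (.one (.stab 0 []))))
 (.fork (.fork (.one (.edge 5 (wOf 21 0x376432663453123412321) 6 (wOf 14 0x64672345012320)))
 (.one (.stab 0 [])))
 (.fork (.one (.edge 5 (wOf 24 0x102143275453234534231230) 5 (wOf 18 0x323645234581234523)))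
 (.one (.stab 0 []))))))
 (.fork (.fork (.fork (.fork (.one (.edge 4 (wOf 20 0x34323645345234662342) 4 [0,3,6]))
 (.one (.stab 0 [])))
 (.fork (.one (.edge 5 (wOf 24 0x21323215463423234512346) 5 (wOf 16 0x582312345312312)))
 (.one (.stab 0 []))))
 (.fork (.fork (.one (.edge 5 (wOf 27 0x213210321543645234512345010) 4 [0,6,6,4,3,2,1,0,3,6]))
 (.one (.stab 0 [])))
 (.fork (.one (.edge 5 (wOf 26 0x1215432175453462346123462) 5 (wOf 13 0x6723012346340)))
 (.one (.stab 0 [])))))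
 (.fork (.fork (.fork (.one (.edge 5 (wOf 23 0x32432103643234671234320) 8 [0,6,6,4,3,2,5]))
 (.one (.stab 0 [])))
 (.fork (.one (.edge 5 (wOf 23 0x1054325545346423123430) 5 (wOf 17 0x2573454312345342)))
 (.one (.stab 0 []))))
 (.fork (.fork (.one (.edge 5 (wOf 22 0x104321753453234581234) 5 (wOf 14 0x23458501234620)))
 (.one (.stab 0 [])))
 (.fork (.one (.edge 9 (wOf 25 0x323432132763452323454312) 5 (wOf 14 0x23461234572346)))
 (.one (.stab 0 [])))))))
 (.fork (.fork (.fork (.fork (.fork (.one (.stab 8 [1,0,2,1,4]))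
 (.one (.edge 9 (wOf 21 0x66643234123012346410) 5 (wOf 14 0x52345012345810))))
 (.fork (.one (.edge 5 (wOf 26 0x23276432154532345342323461) 5 (wOf 15 0x464623012345320)))
 (.one (.stab 0 []))))
 (.fork (.fork (.one (.edge 5 (wOf 13 0x4575340123012) 5 (wOf 15 0x745523450123012)))
 (.one (.stab 0 [])))
 (.fork (.one (.edge 5 (wOf 20 0x34323542323123455423) 5 (wOf 13 0x2346460123453)))
 (.one (.stab 0 [])))))
 (.fork (.fork (.fork (.one (.edge 6 (wOf 18 0x232534553234312321) 7 [5,4,3,2,1,3,2,4,5,5,4,6]))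
 (.one (.stab 0 [])))
 (.fork (.one (.edge 5 (wOf 27 0x10232143854632346723461201) 5 (wOf 14 0x72345123454323)))
 (.one (.stab 0 []))))
 (.fork (.fork (.one (.edge 5 (wOf 27 0x106432135432634512323457412) 5 (wOf 18 0x21634623463234312)))
 (.one (.stab 0 [])))
 (.fork (.one (.edge 5 (wOf 25 0x2132764321346723462301231) 5 (wOf 15 0x601234671234531)))
 (.one (.stab 0 []))))))
 (.fork (.fork (.fork (.fork (.one (.edge 5 (wOf 13 0x5452345234585) 4 [0,5,4,3,2,5,4,7,6]))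
 (.one (.stab 0 [])))
 (.fork (.one (.edge 5 (wOf 22 0x1232432854532346123450) 5 (wOf 14 0x66301234632301)))
 (.one (.stab 0 []))))
 (.fork (.fork (.one (.edge 5 (wOf 25 0x1210321432545323453234123) 8 [0,5,4,3,2,1,3,2,5,8]))
 (.one (.stab 0 [])))
 (.fork (.one (.edge 5 (wOf 25 0x210321043545823454123010) 5 (wOf 18 0x432734623123454323)))
 (.one (.stab 0 [])))))
 (.fork (.fork (.fork (.one (.edge 5 (wOf 23 0x15432325463234512346201) 5 (wOf 13 0x5231234534323)))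
 (.one (.stab 0 [])))
 (.fork (.one (.edge 5 (wOf 27 0x46432103214634662342312345) 5 (wOf 14 0x67312345323453)))
 (.one (.stab 0 []))))
 (.fork (.fork (.one (.edge 5 (wOf 22 0x3214321545453423012345) 5 (wOf 17 0x2634612346323431)))
 (.one (.stab 0 [])))
 (.fork (.one (.edge 9 (wOf 24 0x543213454323455123234512) 5 (wOf 14 0x84523455123401)))
 (.one (.stab 0 []))))))))

/-- a part of the facts -/
noncomputable def twFactsT62 : BT Fact := (.fork (.fork (.fork (.fork (.fork (.fork (.one (.edge 3 (wOf 16 0x3745523412301231) 2 (wOf 22 0x3246432634543234631201)))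
 (.one (.edge 9 (wOf 26 0x36643213266463462345823123) 5 (wOf 13 0x6601234623420))))
 (.fork (.one (.edge 5 (wOf 23 0x2143643234681234534010) 5 (wOf 17 0x1853234623458232)))
 (.one (.stab 0 []))))
 (.fork (.fork (.one (.edge 5 (wOf 24 0x102343213674634232343120) 8 [3,4,3,2,3,2,1,5,5,7]))
 (.one (.stab 0 [])))
 (.fork (.one (.edge 5 (wOf 24 0x13215432545346234512010) 5 (wOf 14 0x55230123463430)))
 (.one (.stab 0 [])))))
 (.fork (.fork (.fork (.one (.edge 5 (wOf 27 0x213432103643523453423123412) 7 (wOf 14 0x23450123458320)))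
 (.one (.stab 0 [])))
 (.fork (.one (.edge 5 (wOf 27 0x10554321032463458123454123) 5 [2,1,3,7,6,4,3,2,1,3,4,6]))
 (.one (.stab 0 []))))
 (.fork (.fork (.one (.edge 5 (wOf 25 0x1213643213545234662312312) 8 [1,0,3,2,5,5,7]))
 (.one (.stab 0 [])))
 (.fork (.one (.edge 5 (wOf 23 0x10321036643234674323461) 5 [0,3,2,1,0,4,3,5,4]))
 (.one (.stab 0 []))))))
 (.fork (.fork (.fork (.fork (.one (.edge 5 (wOf 22 0x103234584323123423123) 7 (wOf 14 0x72301234523452)))
 (.one (.stab 0 [])))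
 (.fork (.one (.edge 5 (wOf 26 0x21364321366466323461234201) 5 (wOf 15 0x642301234632310)))
 (.one (.stab 0 []))))
 (.fork (.fork (.one (.edge 5 (wOf 24 0x12164326846345231234570) 6 [4,5,4,3,2,1,0,3,2,5]))
 (.one (.stab 0 [])))
 (.fork (.one (.edge 5 (wOf 25 0x123264386453234612345232) 5 (wOf 16 0x452346812346432)))
 (.one (.stab 0 [])))))
 (.fork (.fork (.fork (.one (.edge 5 (wOf 20 0x1321534523452345423) 7 [1,0,3,6,4,3,2,1,0,3,2,7]))
 (.one (.stab 0 [])))
 (.fork (.one (.edge 5 (wOf 24 0x213213216745342312346741) 5 [0,3,2,1,0,4,7,6,4,3,5]))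
 (.one (.stab 0 []))))
 (.fork (.fork (.one (.edge 5 (wOf 27 0x13454321323463454231230120) 6 [3,2,1,0,4,7,5,4,3,2]))
 (.one (.stab 0 [])))
 (.fork (.one (.edge 9 (wOf 27 0x10232643215453234512346610) 5 (wOf 16 0x231234573453234)))
 (.one (.stab 0 [])))))))
 (.fork (.fork (.fork (.fork (.fork (.one (.edge 6 (wOf 21 0x232432645734231234321) 7 [3,2,1,0,6,4,3,2,5]))
 (.one (.edge 5 (wOf 22 0x1232432753455312345120) 9 [6,6,4,3,2,1,0,3,2,6])))
 (.fork (.one (.edge 5 (wOf 23 0x13245432753454323431210) 5 (wOf 15 0x623461234534230)))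
 (.one (.stab 0 []))))
 (.fork (.fork (.one (.edge 5 (wOf 27 0x13543213213746232346431210) 7 [0,4,8,6,4,3,2,1,0,3,2,4]))
 (.one (.stab 0 [])))
 (.fork (.one (.edge 5 (wOf 22 0x102864634523462346712) 5 (wOf 16 0x346461234683230)))
 (.one (.stab 0 [])))))
 (.fork (.fork (.fork (.one (.edge 5 (wOf 21 0x210464634231234552345) 5 (wOf 13 0x6723012346301)))
 (.one (.stab 0 [])))
 (.fork (.one (.edge 5 (wOf 25 0x103213436453452345712342) 5 (wOf 15 0x646123451232010)))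
 (.one (.stab 0 []))))
 (.fork (.fork (.one (.edge 5 (wOf 28 0x2454321643215546346232343120) 6 [1,4,6,6,4,3,2,1,0,5]))
 (.one (.stab 0 [])))
 (.fork (.one (.edge 5 (wOf 18 0x103852312345423234) 5 [3,6,4,3,2,3,2,6]))
 (.one (.stab 0 []))))))
 (.fork (.fork (.fork (.fork (.one (.edge 6 (wOf 19 0x3245463452346823452) 6 [0,6,6,4,3,2,5,4,8]))
 (.one (.stab 0 [])))
 (.fork (.one (.edge 5 (wOf 24 0x235432132545323455123231) 5 (wOf 13 0x2301234532301)))
 (.one (.stab 0 []))))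
 (.fork (.fork (.one (.edge 5 (wOf 25 0x121554325453234661234620) 5 (wOf 13 0x8230123464323)))
 (.one (.stab 0 [])))
 (.fork (.one (.edge 5 (wOf 26 0x1210454364323123464634232) 5 (wOf 13 0x5012345712342)))
 (.one (.stab 0 [])))))
 (.fork (.fork (.fork (.one (.edge 5 (wOf 27 0x13214376432534512346823123) 8 [2,1,0,6,4,3,2,5]))
 (.one (.stab 0 [])))
 (.fork (.one (.edge 5 (wOf 21 0x21032683461234532010) 5 (wOf 14 0x62345812346123)))
 (.one (.stab 0 []))))
 (.fork (.fork (.one (.edge 5 (wOf 23 0x10435432863467123401231) 5 (wOf 13 0x6234012323454)))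
 (.one (.stab 0 [])))
 (.fork (.one (.edge 9 (wOf 25 0x2354325432854583123463234) 9 [4,3,2,1,0,3,2,5,8,5,4,6]))
 (.one (.stab 0 []))))))))

/-- a part of the facts -/
noncomputable def twFactsT63 : BT Fact := (.fork (.fork (.fork (.fork (.fork (.fork (.one (.edge 4 [] 1 [1,0,3,2]))
 (.one (.edge 5 (wOf 24 0x554321325468346234123234) 9 [0,2,1,0,7,6,4,3,2])))
 (.fork (.one (.edge 5 (wOf 26 0x24325432764534552312345234) 5 (wOf 15 0x623461234552323)))
 (.one (.stab 0 []))))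
 (.fork (.fork (.one (.edge 5 (wOf 25 0x1032103235453423123467340) 7 [1,4,5,4,3,2,1,0,3,2,8]))
 (.one (.stab 0 [])))
 (.fork (.one (.edge 5 (wOf 28 0x1243286432164534623462312342) 5 (wOf 13 0x4523450123463)))
 (.one (.stab 0 [])))))
 (.fork (.fork (.fork (.one (.edge 6 (wOf 26 0x12104643254853462312345823) 5 [4,3,2,1,0,5,4,3,2,6]))
 (.one (.stab 0 [])))
 (.fork (.one (.edge 5 (wOf 18 0x103642312345734010) 5 (wOf 15 0x234501234682323)))
 (.one (.stab 0 []))))
 (.fork (.fork (.one (.edge 5 (wOf 23 0x1326432645534532312321) 7 (wOf 13 0x5823123462345)))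
 (.one (.stab 0 [])))
 (.fork (.one (.edge 5 (wOf 24 0x10321354634623467234510) 5 [3,7,5,4,3,2,1,0,3,4]))
 (.one (.stab 0 []))))))
 (.fork (.fork (.fork (.fork (.one (.edge 5 (wOf 23 0x25432103864534231234663) 6 [0,4,3,2,7,5]))
 (.one (.stab 0 [])))
 (.fork (.one (.edge 5 (wOf 25 0x2764321036746323461234601) 5 (wOf 15 0x346012346341232)))
 (.one (.stab 0 []))))
 (.fork (.fork (.one (.edge 5 (wOf 18 0x10754323123463432) 5 (wOf 14 0x23468012345234)))
 (.one (.stab 0 [])))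
 (.fork (.one (.edge 5 (wOf 24 0x12466432346123452346301) 5 (wOf 14 0x62345801234612)))
 (.one (.stab 0 [])))))
 (.fork (.fork (.fork (.one (.edge 5 (wOf 27 0x13254321854532345123460123) 5 (wOf 14 0x23012345734010)))
 (.one (.stab 0 [])))
 (.fork (.one (.edge 5 (wOf 21 0x385432534123234512301) 5 (wOf 17 0x2754531234673412)))
 (.one (.stab 0 []))))
 (.fork (.fork (.one (.edge 5 (wOf 22 0x1864323546234523123462) 5 (wOf 14 0x23457012345231)))
 (.one (.stab 0 [])))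
 (.fork (.one (.edge 9 (wOf 25 0x1323554321323463457231234) 7 (wOf 13 0x6623123463010)))
 (.one (.stab 0 [])))))))
 (.fork (.fork (.fork (.fork (.fork (.one (.edge 8 (wOf 26 0x10213232464634623123463230) 6 (wOf 13 0x7623450123231)))
 (.one (.edge 9 (wOf 24 0x464321032453461234580120) 9 [3,2,4,3,2,1,0,8,5,4,3])))
 (.fork (.one (.edge 5 (wOf 24 0x132432105846346234623412) 5 (wOf 13 0x6230123467342)))
 (.one (.stab 0 []))))
 (.fork (.fork (.one (.edge 5 (wOf 26 0x32343236432546631234623120) 6 (wOf 14 0x62301234623410)))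
 (.one (.stab 0 [])))
 (.fork (.one (.edge 5 (wOf 21 0x210643646234512346301) 5 (wOf 13 0x7230123463232)))
 (.one (.stab 0 [])))))
 (.fork (.fork (.fork (.one (.edge 5 (wOf 24 0x364321375463234523123121) 8 [0,1,0,3,6,4,3,2,7]))
 (.one (.stab 0 [])))
 (.fork (.one (.edge 5 (wOf 25 0x132343217543231234663123) 5 [5,4,3,2,1,0,8,5,4,3,2]))
 (.one (.stab 0 []))))
 (.fork (.fork (.one (.edge 5 (wOf 24 0x102321554632345534523123) 6 [0,1,0,2,5,4,3,8,5,4,3,6]))
 (.one (.stab 0 [])))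
 (.fork (.one (.edge 5 (wOf 24 0x254321064853234631234541) 5 (wOf 17 0x2763463123467430)))
 (.one (.stab 0 []))))))
 (.fork (.fork (.fork (.fork (.one (.edge 6 (wOf 22 0x2132354534231234641231) 8 [0,2,3,2,1,0,6,6,4]))
 (.one (.stab 0 [])))
 (.fork (.one (.edge 5 (wOf 19 0x3854632346312346310) 5 [2,3,5,4,3,2,1,0,3,2,6,6]))
 (.one (.stab 0 []))))
 (.fork (.fork (.one (.edge 5 (wOf 22 0x103432345412301234553) 4 (wOf 15 0x554623012345410)))
 (.one (.stab 0 [])))
 (.fork (.one (.edge 5 (wOf 22 0x1232103234643234643120) 5 (wOf 14 0x62346801234640)))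
 (.one (.stab 0 [])))))
 (.fork (.fork (.fork (.one (.edge 5 (wOf 26 0x12385432154532346123412320) 6 [0,3,2,1,0,4,3,7,6,4,6]))
 (.one (.stab 0 [])))
 (.fork (.one (.edge 5 (wOf 27 0x121325432175463234631234643) 5 (wOf 17 0x21646634623462340)))
 (.one (.stab 0 []))))
 (.fork (.fork (.one (.edge 5 (wOf 22 0x2343664323461234523463) 5 (wOf 13 0x6234530123462)))
 (.one (.stab 0 [])))
 (.fork (.one (.edge 9 (wOf 24 0x21043215745323412323457) 6 [0,2,4,3,6,4,3,2,1,0,3,2]))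
 (.one (.stab 0 []))))))))

/-- a part of the facts -/
noncomputable def twFactsT64 : BT Fact := (.fork (.fork (.fork (.fork (.fork (.fork (.one (.edge 4 [5,4,3,2,1,3,6] 5 (wOf 13 0x3123412312343)))
 (.one (.edge 9 (wOf 24 0x102143754323454123234632) 5 (wOf 13 0x2345012345532))))
 (.fork (.one (.edge 5 (wOf 25 0x2323643213854583234612312) 5 (wOf 14 0x23123453123012)))
 (.one (.stab 0 []))))
 (.fork (.fork (.one (.edge 5 (wOf 20 0x1323645432312342310) 5 (wOf 14 0x46012346312345)))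
 (.one (.stab 0 [])))
 (.fork (.one (.edge 5 (wOf 25 0x3213236432683453123423123) 5 (wOf 15 0x662345123455232)))
 (.one (.stab 0 [])))))
 (.fork (.fork (.fork (.one (.edge 8 (wOf 13 0x6234683452321) 5 [3,2,1,0,7,5,4,3,2]))
 (.one (.stab 0 [])))
 (.fork (.one (.edge 5 (wOf 25 0x2132324543672346123234532) 5 (wOf 14 0x64523466012320)))
 (.one (.stab 0 []))))
 (.fork (.fork (.one (.edge 5 (wOf 24 0x103210864634662345123460) 5 (wOf 18 0x21554323453463230)))
 (.one (.stab 0 [])))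
 (.fork (.one (.edge 5 (wOf 17 0x21532345012345721) 5 (wOf 14 0x62301234623452)))
 (.one (.stab 0 []))))))
 (.fork (.fork (.fork (.fork (.one (.edge 7 (wOf 20 0x21032754531234584323) 6 [1,0,7,6,4,3,2,5,4,5,7]))
 (.one (.stab 0 [])))
 (.fork (.one (.edge 5 (wOf 27 0x10643236432646734523123210) 5 (wOf 18 0x21534634232345732)))
 (.one (.stab 0 []))))
 (.fork (.fork (.one (.edge 5 (wOf 22 0x1214364534231234123201) 6 [0,3,2,1,3,6,4,3,2,1,0]))
 (.one (.stab 0 [])))
 (.fork (.one (.edge 5 (wOf 25 0x121343864323464312341232) 5 (wOf 13 0x5230123457432)))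
 (.one (.stab 0 [])))))
 (.fork (.fork (.fork (.one (.edge 5 (wOf 26 0x13232432135453234663123412) 8 [0,2,3,2,1,0,4,7,6,4,3,6]))
 (.one (.stab 0 [])))
 (.fork (.one (.edge 5 (wOf 23 0x12164323584634232312343) 5 (wOf 13 0x5234660123450)))
 (.one (.stab 0 []))))
 (.fork (.fork (.one (.edge 5 (wOf 26 0x1232134364532345123453234) 5 (wOf 13 0x6623450123460)))
 (.one (.stab 0 [])))
 (.fork (.one (.edge 9 (wOf 22 0x1021043646234312312010) 5 [1,0,3,2,4,7,6,4]))
 (.one (.stab 0 [])))))))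
 (.fork (.fork (.fork (.fork (.fork (.one (.edge 7 (wOf 24 0x34321323542312346841232) 7 (wOf 15 0x467234501234542)))
 (.one (.edge 5 (wOf 26 0x3432132764632346123467230) 10 [0,1,2,5,8,5,4,3,6])))
 (.fork (.one (.edge 5 (wOf 25 0x1243664321345234663123450) 5 [5,5,4,3,2,1,0,3,2,5]))
 (.one (.stab 0 []))))
 (.fork (.fork (.one (.edge 5 (wOf 26 0x21326432176463423123455321) 8 [0,2,3,2,1,5,5,4,3,2,5,8]))
 (.one (.stab 0 [])))
 (.fork (.one (.edge 5 (wOf 24 0x364323214864323468123234) 5 [3,2,1,0,7,6,4,3,2,6]))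
 (.one (.stab 0 [])))))
 (.fork (.fork (.fork (.one (.edge 5 (wOf 20 0x12132346464312341231) 7 [0,2,1,0,5,4,3,2,6,4,6]))
 (.one (.stab 0 [])))
 (.fork (.one (.edge 5 (wOf 24 0x13213236458323453123121) 5 (wOf 16 0x231234673123432)))
 (.one (.stab 0 []))))
 (.fork (.fork (.one (.edge 5 (wOf 23 0x21324321546345723452312) 7 [2,1,5,4,3,2,1,6,4,3,2]))
 (.one (.stab 0 [])))
 (.fork (.one (.edge 9 (wOf 17 0x3664632312345721) 8 [2,3,2,1,4,5,4,3,2,1,0,5]))
 (.one (.stab 0 []))))))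
 (.fork (.fork (.fork (.fork (.one (.edge 5 (wOf 20 0x54323546345234632342) 3 [1,0,3,2,4,6]))
 (.one (.stab 0 [])))
 (.fork (.one (.edge 5 (wOf 24 0x232343254532345831234510) 5 (wOf 16 0x3523466234512340)))
 (.one (.stab 0 []))))
 (.fork (.fork (.one (.edge 5 (wOf 27 0x10764323643764231234623457) 6 [0,2,3,2,1,0,5,4,3,2,5,8]))
 (.one (.stab 0 [])))
 (.fork (.one (.edge 5 (wOf 23 0x1021347645323461234681) 5 (wOf 18 0x23584523461234523)))
 (.one (.stab 0 [])))))
 (.fork (.fork (.fork (.one (.edge 5 (wOf 20 0x37643623462323463423) 5 (wOf 17 0x2734552345123012)))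
 (.one (.stab 0 [])))
 (.fork (.one (.edge 5 (wOf 22 0x321366646323461234612) 5 (wOf 15 0x623457012346320)))
 (.one (.stab 0 []))))
 (.fork (.fork (.one (.edge 5 (wOf 24 0x54321643623463123468632) 5 [8,6,4,3,2,1,6,4,3,2,5,8]))
 (.one (.stab 0 [])))
 (.fork (.one (.edge 9 (wOf 16 0x3745542323123210) 9 (wOf 14 0x52345840123210)))
 (.one (.stab 0 []))))))))

/-- a part of the facts -/
noncomputable def twFactsT65 : BT Fact := (.fork (.fork (.fork (.fork (.fork (.fork (.one (.stab 0 [1]))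
 (.one (.edge 9 [1,0,4,3,2,1,5,5,7] 5 (wOf 26 0x43213754321545346623451234))))
 (.fork (.one (.edge 6 [0,3,2,1,4,3,2,6,6,6,4,3] 5 (wOf 26 0x21043643213664323123454321)))
 (.one (.stab 0 []))))
 (.fork (.fork (.one (.edge 5 [6,8,6,4,3,2,1,3,6] 6 (wOf 21 0x346432834512342301232)))
 (.one (.stab 0 [])))
 (.fork (.one (.edge 5 (wOf 16 0x2645312346323430) 5 (wOf 24 0x366432321464323463123450)))
 (.one (.stab 0 [])))))
 (.fork (.fork (.fork (.one (.edge 4 [0,3,5,4,3,2,1,3,5,4,3] 5 (wOf 22 0x3432354323123468234120)))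
 (.one (.stab 0 [])))
 (.fork (.one (.edge 5 [1,3,2,3,5,4,3,2,1,3,5,8] 5 (wOf 26 0x10210321643645823461234601)))
 (.one (.stab 0 []))))
 (.fork (.fork (.one (.edge 6 [0,1,3,5,8] 5 (wOf 20 0x12454323451234552312)))
 (.one (.stab 0 [])))
 (.fork (.one (.edge 5 [3,4,6,4,3,2,1,3,2,6,8] 5 (wOf 24 0x43215543542312346463120)))
 (.one (.stab 0 []))))))
 (.fork (.fork (.fork (.fork (.one (.edge 8 [4,5,4,3,2,3,2,1,8,6] 5 (wOf 23 0x1021554323458123423120)))
 (.one (.edge 10 [0,1,2,3,2,1,5,5,4,3,2,6] 9 (wOf 25 0x1232432132645346823464120))))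
 (.fork (.one (.edge 5 [1,0,3,4,3,8,5,4,3,2,1,3] 5 (wOf 24 0x121364323764542312346310)))
 (.one (.stab 0 []))))
 (.fork (.fork (.one (.edge 8 [2,3,2,1,5,4,3,2,1,8,5] 5 (wOf 27 0x286432154321346234541232010)))
 (.one (.stab 0 [])))
 (.fork (.one (.edge 5 [1,2,3,2,3,7,6,4,3,2,1,3] 5 (wOf 24 0x324355432634681234623463)))
 (.one (.stab 0 [])))))
 (.fork (.fork (.fork (.one (.edge 7 [1,6,4,7,5,4,3,2,1,3] 5 (wOf 26 0x5432354321683463234612320)))
 (.one (.stab 0 [])))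
 (.fork (.one (.edge 5 (wOf 13 0x7552345123451) 5 (wOf 23 0x3214386453234543123012)))
 (.one (.stab 0 []))))
 (.fork (.fork (.one (.edge 8 [4,3,6,4,3,2,3,2,1,6] 5 (wOf 26 0x12106432854534623451234231)))
 (.one (.stab 0 [])))
 (.fork (.one (.edge 5 (wOf 14 0x1234532345532) 9 (wOf 25 0x123643232646341232346310)))
 (.one (.stab 0 [])))))))
 (.fork (.fork (.fork (.fork (.fork (.one (.edge 6 (wOf 23 0x10213213854623234123210) 3 [2,3,5,8,5]))
 (.one (.edge 5 (wOf 13 0x6723451234620) 9 (wOf 25 0x103214864323451234523451))))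
 (.fork (.one (.edge 5 [3,2,1,6,4,3,2,7] 5 (wOf 23 0x3454321753452323458342)))
 (.one (.stab 0 []))))
 (.fork (.fork (.one (.edge 5 [2,6,4,3,2,1,6,6,4,3,5,8] 6 (wOf 24 0x121464321584534623468210)))
 (.one (.stab 0 [])))
 (.fork (.one (.edge 5 (wOf 13 0x3451234673423) 5 (wOf 23 0x1354543234523123466321)))
 (.one (.stab 0 [])))))
 (.fork (.fork (.fork (.one (.edge 5 [1,0,4,3,6,4,3,2,1,3,7] 5 (wOf 22 0x1232643585423123461201)))
 (.one (.stab 0 [])))
 (.fork (.one (.edge 5 (wOf 14 0x63461234573231) 5 (wOf 23 0x1023214534634231234543)))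
 (.one (.stab 0 []))))
 (.fork (.fork (.one (.edge 5 (wOf 15 0x234684501234512) 5 (wOf 15 0x843123463012342)))
 (.one (.stab 0 [])))
 (.fork (.one (.edge 5 (wOf 15 0x646012345234623) 5 (wOf 23 0x14543216746346234572346)))
 (.one (.stab 0 []))))))
 (.fork (.fork (.fork (.fork (.one (.edge 6 [1,5,4,3,6,4,6] 5 (wOf 20 0x64325458345231234501)))
 (.one (.stab 0 [])))
 (.fork (.one (.edge 5 (wOf 16 0x1746323454323010) 5 (wOf 16 0x123458234530123)))
 (.one (.stab 0 []))))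
 (.fork (.fork (.one (.edge 7 [0,1,2,1,3,6,4,3] 5 (wOf 25 0x643216432585453423123123)))
 (.one (.stab 0 [])))
 (.fork (.one (.edge 5 (wOf 14 0x51234664232010) 5 (wOf 26 0x23264321032463462345732346)))
 (.one (.stab 0 [])))))
 (.fork (.fork (.fork (.one (.edge 8 [0,5,4,3,2,1,3,5,4,6] 6 (wOf 22 0x2543254583452346623121)))
 (.one (.stab 0 [])))
 (.fork (.one (.edge 5 (wOf 13 0x3451234534610) 5 (wOf 24 0x266432166453234583123450)))
 (.one (.stab 0 []))))
 (.fork (.fork (.one (.edge 5 (wOf 17 0x2645312346834523) 5 (wOf 26 0x34321328543234681234623210)))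
 (.one (.stab 0 [])))
 (.fork (.one (.edge 5 (wOf 13 0x8453451234582) 9 (wOf 24 0x215543213462345123466010)))
 (.one (.stab 0 []))))))))

/-- a part of the facts -/
noncomputable def twFactsT66 : BT Fact := (.fork (.fork (.fork (.fork (.fork (.fork (.one (.stab 4 (wOf 17 0x3723123401232343)))
 (.one (.edge 9 [0,1,6,4] 5 (wOf 23 0x23432164634623454123121))))
 (.fork (.one (.edge 5 (wOf 15 0x234580123452320) 5 (wOf 20 0x3216463423234646123)))
 (.one (.stab 0 []))))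
 (.fork (.fork (.one (.edge 7 [2,3,5,4,5,4,3,2,1,3,5] 5 (wOf 24 0x243213764323467423123421)))
 (.one (.stab 0 [])))
 (.fork (.one (.edge 5 [4,5,4,3,2,1,3,5,5] 5 (wOf 28 0x213554321354634623464123012)))
 (.one (.stab 0 [])))))
 (.fork (.fork (.fork (.one (.edge 5 (wOf 15 0x863460123468120) 6 (wOf 21 0x232105468323451234521)))
 (.one (.stab 0 [])))
 (.fork (.one (.edge 5 (wOf 15 0x585453461234530) 5 (wOf 25 0x2136432321764643234123201)))
 (.one (.stab 0 []))))
 (.fork (.fork (.one (.edge 7 (wOf 15 0x674534612345320) 5 (wOf 26 0x24543210321546634623412320)))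
 (.one (.stab 0 [])))
 (.fork (.one (.edge 5 [2,4,3,7,5,4,3,2,1,3,4,6] 5 (wOf 22 0x1213210468346323453210)))
 (.one (.stab 0 []))))))
 (.fork (.fork (.fork (.fork (.one (.edge 8 (wOf 14 0x66123462345420) 5 (wOf 17 0x12463466312312343)))
 (.one (.stab 0 [])))
 (.fork (.one (.edge 5 (wOf 13 0x6301234573423) 5 (wOf 25 0x327543216453467234623462)))
 (.one (.stab 0 []))))
 (.fork (.fork (.one (.edge 5 [2,5,4,3,2,1,3,8,5,4,3] 5 (wOf 24 0x185432321645342301234612)))
 (.one (.stab 0 [])))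
 (.fork (.one (.edge 5 (wOf 16 0x1646834623453232) 5 (wOf 25 0x1023218643546823462345412)))
 (.one (.stab 0 [])))))
 (.fork (.fork (.fork (.one (.edge 6 [0,3,2,6,4,3,2,1] 5 (wOf 26 0x12543276432646312345712312)))
 (.one (.stab 0 [])))
 (.fork (.one (.edge 5 (wOf 14 0x83461234631232) 5 (wOf 25 0x132104643546234542312345)))
 (.one (.stab 0 []))))
 (.fork (.fork (.one (.edge 5 (wOf 13 0x3123458323430) 5 (wOf 22 0x2327543234512346323121)))
 (.one (.stab 0 [])))
 (.fork (.one (.edge 8 (wOf 13 0x7601234662340) 9 (wOf 22 0x1045432634531231234551)))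
 (.one (.stab 0 [])))))))
 (.fork (.fork (.fork (.fork (.fork (.one (.edge 8 (wOf 25 0x1466432132466312345323467) 3 [0,3,2,5,4,6]))
 (.one (.edge 9 [3,2,3,2,1,6,4,3,5,4,6] 9 (wOf 24 0x103464321543234631234310))))
 (.fork (.one (.edge 5 (wOf 14 0x85234660123010) 5 (wOf 20 0x1032543123455432343)))
 (.one (.stab 0 []))))
 (.fork (.fork (.one (.edge 6 [0,1,0,4,7,5,4,3] 5 (wOf 26 0x34323216432634531234534120)))
 (.one (.stab 0 [])))
 (.fork (.one (.edge 5 (wOf 15 0x634531234530121) 5 (wOf 24 0x254321754534523461234523)))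
 (.one (.stab 0 [])))))
 (.fork (.fork (.fork (.one (.edge 8 [2,5,4,5,4,3,6] 6 (wOf 26 0x1064321324645323454312010)))
 (.one (.stab 0 [])))
 (.fork (.one (.edge 5 (wOf 14 0x61234631234660) 5 (wOf 22 0x354321674323453462310)))
 (.one (.stab 0 []))))
 (.fork (.fork (.one (.edge 6 [0,1,0,3,2,5,4,3,2,1,0] 5 (wOf 22 0x376432646346123412010)))
 (.one (.stab 0 [])))
 (.fork (.one (.edge 5 (wOf 16 0x234512346742320) 5 (wOf 25 0x102146432546345123462320)))
 (.one (.stab 0 []))))))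
 (.fork (.fork (.fork (.fork (.one (.edge 8 [2,8,6,4,3,2,1,5,4,3] 5 (wOf 23 0x25432107546342312345723)))
 (.one (.stab 0 [])))
 (.fork (.one (.edge 5 (wOf 13 0x2346123234663) 5 (wOf 24 0x234321032584631234512323)))
 (.one (.stab 0 []))))
 (.fork (.fork (.one (.edge 5 (wOf 16 0x1646323458532340) 5 (wOf 26 0x2132132145453452323468120)))
 (.one (.stab 0 [])))
 (.fork (.one (.edge 5 [2,1,5,5,4,3,2,1,3] 5 (wOf 26 0x13217543264632345312345343)))
 (.one (.stab 0 [])))))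
 (.fork (.fork (.fork (.one (.edge 7 [0,2,3,5,4,3,2,1,6,4,3,6] 5 (wOf 26 0x1432643210573453234534232)))
 (.one (.stab 0 [])))
 (.fork (.one (.edge 5 [0,3,4,5,5,4,3,2,1,3,6] 5 (wOf 26 0x14354321321458346234231201)))
 (.one (.stab 0 []))))
 (.fork (.fork (.one (.edge 5 [3,2,3,5,5,4,3,2,1,3,7,6] 5 (wOf 24 0x21036643623461234523012)))
 (.one (.stab 0 [])))
 (.fork (.one (.edge 6 [2,4,8,6,4,3,2,1,3,4,5,5] 9 (wOf 27 0x232143213264683462312312310)))
 (.one (.stab 0 []))))))))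

/-- a part of the facts -/
noncomputable def twFactsT67 : BT Fact := (.fork (.fork (.fork (.fork (.fork (.fork (.one (.edge 2 [4,5,4,3] 2 (wOf 20 0x3543684523452345232)))
 (.one (.edge 9 [0,2,1,0,7,6,4,3,2,6] 5 (wOf 23 0x3213276463423123458432))))
 (.fork (.one (.edge 5 (wOf 13 0x3461234632343) 5 (wOf 25 0x2175432136463234553123462)))
 (.one (.stab 0 []))))
 (.fork (.fork (.one (.edge 6 [2,3,2,1,7,5,4,3] 5 (wOf 24 0x34325432643123462345432)))
 (.one (.stab 0 [])))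
 (.fork (.one (.edge 5 (wOf 17 0x10734646234623432) 5 (wOf 27 0x21321324321346432345812321)))
 (.one (.stab 0 [])))))
 (.fork (.fork (.fork (.one (.edge 8 [2,1,6,4,3,6,4,7,6] 5 (wOf 24 0x64321032645346712341230)))
 (.one (.stab 0 [])))
 (.fork (.one (.edge 5 [3,2,4,3,6,4,3,2,1,5,4,3] 5 (wOf 22 0x5543254634523123423121)))
 (.one (.stab 0 []))))
 (.fork (.fork (.one (.edge 6 [0,1,5,5,4,3,7,5,4] 5 (wOf 23 0x12432386463234673123423)))
 (.one (.stab 0 [])))
 (.fork (.one (.edge 5 [2,3,2,1,7,5,4,3,6] 5 (wOf 23 0x6432136466323123464312)))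
 (.one (.stab 0 []))))))
 (.fork (.fork (.fork (.fork (.one (.edge 6 [2,1,5,4,3,2,1,5,5,7] 8 (wOf 23 0x25432132545323464631231)))
 (.one (.stab 0 [])))
 (.fork (.one (.edge 5 [0,3,2,1,0,3,4,3,6,4,3,5] 5 (wOf 20 0x2324646734523451234)))
 (.one (.stab 0 []))))
 (.fork (.fork (.one (.edge 5 (wOf 13 0x8345123464320) 6 (wOf 26 0x1324325432546341232345843)))
 (.one (.stab 0 [])))
 (.fork (.one (.edge 5 (wOf 16 0x553123464312301) 5 (wOf 25 0x210364323543231234682341)))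
 (.one (.stab 0 [])))))
 (.fork (.fork (.fork (.one (.edge 8 [0,2,3,2,1,4,5,4,3,6,7] 5 (wOf 25 0x2343234643523123462323453)))
 (.one (.stab 0 [])))
 (.fork (.one (.edge 5 (wOf 14 0x52345123466320) 5 (wOf 21 0x210357545323463123464)))
 (.one (.stab 0 []))))
 (.fork (.fork (.one (.edge 5 (wOf 16 0x1863464323463232) 5 (wOf 24 0x143255432534583123453232)))
 (.one (.stab 0 [])))
 (.fork (.one (.edge 5 (wOf 13 0x6731234531231) 9 (wOf 25 0x5432643235457323123453421)))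
 (.one (.stab 0 [])))))))
 (.fork (.fork (.fork (.fork (.fork (.one (.edge 6 [2,1,0,3,2,1,4,6,4,3,2,6] 1 (wOf 20 0x86432645834523452341)))
 (.one (.edge 5 (wOf 19 0x232457345512345232) 9 (wOf 27 0x123464354321345234571234210))))
 (.fork (.one (.edge 5 [0,1,2,3,5,5,7] 5 (wOf 25 0x121464325432312346743230)))
 (.one (.stab 0 []))))
 (.fork (.fork (.one (.edge 5 [0,3,6,4,3,2,1,5,4,3] 7 (wOf 20 0x10364854323451230123)))
 (.one (.stab 0 [])))
 (.fork (.one (.edge 5 [4,3,2,6,4,7,5,4,3,2,1,3] 5 (wOf 24 0x343210326453455234512320)))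
 (.one (.stab 0 [])))))
 (.fork (.fork (.fork (.one (.edge 7 [0,1,5,4,3,2,1,0,3,2,7,6] 5 (wOf 27 0x46432132543546723423231234)))
 (.one (.stab 0 [])))
 (.fork (.one (.edge 5 (wOf 14 0x46012346462340) 5 (wOf 21 0x21032534632345346210)))
 (.one (.stab 0 []))))
 (.fork (.fork (.one (.edge 5 (wOf 14 0x64631234553423) 5 (wOf 23 0x43232643646234631234523)))
 (.one (.stab 0 [])))
 (.fork (.one (.edge 5 [1,2,6,4,3,5,8,5] 5 (wOf 23 0x1032132745343231234663)))
 (.one (.stab 0 []))))))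
 (.fork (.fork (.fork (.fork (.one (.edge 5 [0,1,0,3,2,6,4,3,2,1,6] 6 (wOf 25 0x8543213215457323463412310)))
 (.one (.stab 0 [])))
 (.fork (.one (.edge 5 (wOf 17 0x1554323468343012) 5 (wOf 29 0x2143232154321345423123466123)))
 (.one (.stab 0 []))))
 (.fork (.fork (.one (.edge 8 [0,5,5,4,3,2,1,0,3,6,6,4] 5 (wOf 28 0x1021321343254534582323123452)))
 (.one (.stab 0 [])))
 (.fork (.one (.edge 5 (wOf 14 0x34612345341230) 5 (wOf 21 0x214321646345732301230)))
 (.one (.stab 0 [])))))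
 (.fork (.fork (.fork (.one (.edge 6 [2,6,4,3,2,1,7,6] 5 (wOf 25 0x4854321543642323464123231)))
 (.one (.stab 0 [])))
 (.fork (.one (.edge 5 (wOf 15 0x523123457432340) 5 (wOf 25 0x213214543674623461234230)))
 (.one (.stab 0 []))))
 (.fork (.fork (.one (.edge 5 (wOf 13 0x3461234555323) 5 (wOf 23 0x2325432646312346431230)))
 (.one (.stab 0 [])))
 (.fork (.one (.edge 5 (wOf 13 0x5312345834310) 9 (wOf 26 0x26432364321634583234512341)))
 (.one (.stab 0 []))))))))

/-- a part of the facts -/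
noncomputable def twFactsT68 : BT Fact := (.fork (.fork (.fork (.fork (.fork (.fork (.one (.edge 3 (wOf 17 0x43234543123012346) 3 [3,2,1,3,2,1,3,2,1,0,6,6]))
 (.one (.edge 5 (wOf 17 0x14673453234543120) 9 (wOf 25 0x1324325754534523123457234))))
 (.fork (.one (.edge 5 [2,6,6,4,3,2,1,5,4,3] 5 (wOf 19 0x2321734523450123121)))
 (.one (.stab 0 []))))
 (.fork (.fork (.one (.edge 8 [0,2,3,2,1,4,6,4,3,7,5,4] 5 (wOf 23 0x21324321646323458312310)))
 (.one (.stab 0 [])))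
 (.fork (.one (.edge 5 [1,3,4,3,6,4,3,2,1,3,6,8] 5 (wOf 27 0x32164326464323451234640123)))
 (.one (.stab 0 [])))))
 (.fork (.fork (.fork (.one (.edge 7 [0,2,3,6,4,3,2,1,3,5,8] 5 (wOf 27 0x21321554321346723453231210)))
 (.one (.stab 0 [])))
 (.fork (.one (.edge 5 (wOf 15 0x345346012346820) 5 (wOf 19 0x4385463231234682345)))
 (.one (.stab 0 []))))
 (.fork (.fork (.one (.edge 8 (wOf 13 0x7546123234543) 5 (wOf 26 0x13213234354863231234634230)))
 (.one (.stab 0 [])))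
 (.fork (.one (.edge 5 [1,3,2,5,5,4,3,2,1,5,8] 5 (wOf 19 0x121466346423123432)))
 (.one (.stab 0 []))))))
 (.fork (.fork (.fork (.fork (.one (.edge 8 [0,1,0,2,5,4,3,5,8] 4 (wOf 16 0x731234630123454)))
 (.one (.stab 0 [])))
 (.fork (.one (.edge 5 (wOf 14 0x84631234634301) 5 (wOf 21 0x126643623463123457010)))
 (.one (.stab 0 []))))
 (.fork (.fork (.one (.edge 6 [2,4,7,5,4,3,2,1] 5 (wOf 26 0x12543216643623453412323120)))
 (.one (.stab 0 [])))
 (.fork (.one (.edge 5 [0,2,1,5,4,3,2,5,8] 5 (wOf 15 0x753234601232345)))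
 (.one (.stab 0 [])))))
 (.fork (.fork (.fork (.one (.edge 7 [2,3,2,3,6,6,4,3,2,1,3] 5 (wOf 23 0x24376432534523453231232)))
 (.one (.stab 0 [])))
 (.fork (.one (.edge 5 [3,6,8,6,4,3,2,1,3,2,4,6] 5 (wOf 27 0x321321543236845323412323464)))
 (.one (.stab 0 []))))
 (.fork (.fork (.one (.edge 6 [2,3,2,5,5,4,3,2,1,5,4,6] 5 (wOf 26 0x1232164321345234543234583)))
 (.one (.stab 0 [])))
 (.fork (.one (.edge 5 [2,4,3,2,1,6,4,3] 9 (wOf 26 0x54321032164534523451234542)))
 (.one (.stab 0 [])))))))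
 (.fork (.fork (.fork (.fork (.fork (.one (.edge 5 [1,0,3,2,1,8,6,4,3,2,6] 3 (wOf 26 0x1214328543523463123462310)))
 (.one (.stab 10 (wOf 21 0x32432646345234523457))))
 (.fork (.one (.edge 5 [4,6,4,3,2,1,3,2,4,3,6] 5 (wOf 26 0x10210354321583453234123012)))
 (.one (.stab 0 []))))
 (.fork (.fork (.one (.edge 7 (wOf 14 0x50123462346820) 5 (wOf 26 0x1210326764634523123467234)))
 (.one (.stab 0 [])))
 (.fork (.one (.edge 5 (wOf 17 0x1683453234534230) 5 (wOf 20 0x13432534553234312321)))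
 (.one (.stab 0 [])))))
 (.fork (.fork (.fork (.one (.edge 5 [4,3,5,7,5,4] 5 (wOf 14 0x54582345234620)))
 (.one (.stab 0 [])))
 (.fork (.one (.edge 5 [0,3,2,1,0,3,4,6,4,3,8,6] 5 (wOf 28 0x5432543215432754634231234671)))
 (.one (.stab 0 []))))
 (.fork (.fork (.one (.edge 6 [0,3,2,1,5,5,4,3,6,6,4] 5 (wOf 25 0x1023214543234623451234543)))
 (.one (.stab 0 [])))
 (.fork (.one (.edge 5 [1,0,3,2,1,4,3,6,4,3,2] 5 (wOf 22 0x2104321545323458323463)))
 (.one (.stab 0 []))))))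
 (.fork (.fork (.fork (.fork (.one (.edge 7 [4,5,4,3,2,1,3,8,6] 5 (wOf 26 0x14323264321574632345346121)))
 (.one (.stab 0 [])))
 (.fork (.one (.edge 5 (wOf 13 0x8531234583450) 5 (wOf 24 0x102135432854312346342321)))
 (.one (.stab 0 []))))
 (.fork (.fork (.one (.edge 5 (wOf 13 0x5812323463412) 5 (wOf 23 0x23234321543234570123423)))
 (.one (.stab 0 [])))
 (.fork (.one (.edge 5 (wOf 16 0x1834643234623432) 5 (wOf 22 0x102103546834523451234)))
 (.one (.stab 0 [])))))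
 (.fork (.fork (.fork (.one (.edge 8 [5,4,6,6,4,3,2,3,2,1] 5 (wOf 27 0x21323217643523467123123453)))
 (.one (.stab 0 [])))
 (.fork (.one (.edge 5 [1,0,3,2,1,3,6,4,3,2,6] 5 (wOf 22 0x210454663462312345532)))
 (.one (.stab 0 []))))
 (.fork (.fork (.one (.edge 5 (wOf 14 0x71234612346623) 5 (wOf 21 0x554321346723463230120)))
 (.one (.stab 0 [])))
 (.fork (.one (.edge 9 [0,2,1,4,6] 9 (wOf 15 0x432345453231230)))
 (.one (.stab 0 []))))))))

/-- a part of the facts -/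
noncomputable def twFactsT69 : BT Fact := (.fork (.fork (.fork (.fork (.fork (.fork (.one (.edge 1 [1,0,2,1,0,5,4] 1 [1,0,2,1,0,6]))
 (.one (.edge 9 [0,1,3,5,5,7] 5 (wOf 24 0x106432175463234662312310))))
 (.fork (.one (.edge 5 [2,6,4,3,2,1,3,7,5,4,3] 5 (wOf 20 0x1232543234664531230)))
 (.one (.stab 0 []))))
 (.fork (.fork (.one (.edge 6 [5,5,4,3,2,1,3,4] 5 (wOf 25 0x4321032375453423123401201)))
 (.one (.stab 0 [])))
 (.fork (.one (.edge 5 (wOf 13 0x5723123464301) 5 (wOf 24 0x664321321854632345123423)))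
 (.one (.stab 0 [])))))
 (.fork (.fork (.fork (.one (.edge 6 [0,3,2,1,4,7,6,4,3,6] 7 (wOf 22 0x3432346432312346231232)))
 (.one (.stab 0 [])))
 (.fork (.one (.edge 5 [0,2,3,5,4,3,2,1,3,6,7] 5 (wOf 23 0x3243216467346234531230)))
 (.one (.stab 0 []))))
 (.fork (.fork (.one (.edge 6 [5,4,3,2,1,0,3,4,7,6] 5 (wOf 24 0x215432132864632346343123)))
 (.one (.stab 0 [])))
 (.fork (.one (.edge 5 (wOf 14 0x63453123458320) 5 (wOf 25 0x2345432132845346423234641)))
 (.one (.stab 0 []))))))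
 (.fork (.fork (.fork (.fork (.one (.edge 7 [0,1,2,1,0,5,4,3,2,5,8] 6 (wOf 17 0x10834623464123234)))
 (.one (.stab 0 [])))
 (.fork (.one (.edge 5 (wOf 13 0x5234612345323) 5 (wOf 24 0x23216432646341230123468)))
 (.one (.stab 0 []))))
 (.fork (.fork (.one (.edge 8 [0,1,7,6,4,3] 5 (wOf 26 0x21324325436463231234534123)))
 (.one (.stab 0 [])))
 (.fork (.one (.edge 5 (wOf 14 0x67346123452340) 5 (wOf 23 0x21043215745342312345321)))
 (.one (.stab 0 [])))))
 (.fork (.fork (.fork (.one (.edge 8 [1,2,1,0,3] 5 (wOf 17 0x23462323123464012)))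
 (.one (.stab 0 [])))
 (.fork (.one (.edge 5 (wOf 15 0x731234646323432) 5 (wOf 25 0x1232143643546234512345320)))
 (.one (.stab 0 []))))
 (.fork (.fork (.one (.edge 5 [2,1,0,4,3,6,4,3,2,1,3,2] 5 (wOf 24 0x12643215463234641231231)))
 (.one (.stab 0 [])))
 (.fork (.one (.edge 5 (wOf 14 0x34501234673232) 9 (wOf 20 0x46432831230123464323)))
 (.one (.stab 0 [])))))))
 (.fork (.fork (.fork (.fork (.fork (.one (.edge 7 (wOf 25 0x210664321684323464312340) 3 [1,0,3,2,6,6,6]))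
 (.one (.edge 5 [1,0,3,5,4,3,2,1,3,4,6] 9 (wOf 25 0x1043216643234581234534210))))
 (.fork (.one (.edge 5 (wOf 14 0x52312345453230) 5 (wOf 24 0x217543213523453412301230)))
 (.one (.stab 0 []))))
 (.fork (.fork (.one (.edge 5 [2,3,4,6,6,4,3,2,3,2,1] 8 (wOf 24 0x754321643646623455123012)))
 (.one (.stab 0 [])))
 (.fork (.one (.edge 5 (wOf 14 0x63450123466234) 5 (wOf 25 0x4864321032453468234612346)))
 (.one (.stab 0 [])))))
 (.fork (.fork (.fork (.one (.edge 6 [1,5,8,5,4,3,6] 5 (wOf 24 0x264326432674312345501234)))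
 (.one (.stab 0 [])))
 (.fork (.one (.edge 5 [3,6,4,3,5,4,3,2,1,3,7,6] 5 (wOf 20 0x43213234643234686120)))
 (.one (.stab 0 []))))
 (.fork (.fork (.one (.edge 5 (wOf 14 0x63012345532343) 6 (wOf 15 0x543234646312310)))
 (.one (.stab 0 [])))
 (.fork (.one (.edge 5 [3,4,3,2,1,5,4,3] 5 (wOf 23 0x10321032554634523455120)))
 (.one (.stab 0 []))))))
 (.fork (.fork (.fork (.fork (.one (.edge 7 [0,6,4,7,6] 5 (wOf 20 0x43210763234531234523)))
 (.one (.stab 0 [])))
 (.fork (.one (.edge 5 [0,2,3,4,5,4,3,2,1,3,4,8] 5 (wOf 23 0x12432107646734623461230)))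
 (.one (.stab 0 []))))
 (.fork (.fork (.one (.edge 7 (wOf 16 0x2634523455123452) 5 (wOf 26 0x1327543216453234552345121)))
 (.one (.stab 0 [])))
 (.fork (.one (.edge 5 [2,3,5,5,4,3,2,1,3,4,7,6] 5 (wOf 24 0x385432132345342312346663)))
 (.one (.stab 0 [])))))
 (.fork (.fork (.fork (.one (.edge 5 (wOf 14 0x58123451234662) 5 (wOf 26 0x15432643285463452312345234)))
 (.one (.stab 0 [])))
 (.fork (.one (.edge 5 (wOf 16 0x731234543123010) 5 (wOf 27 0x24321643232584531234531234)))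
 (.one (.stab 0 []))))
 (.fork (.fork (.one (.edge 5 [3,2,1,4,6,4,3,5,7] 5 (wOf 25 0x143543232645346612341230)))
 (.one (.stab 0 [])))
 (.fork (.one (.edge 5 (wOf 13 0x6466346123454) 9 (wOf 26 0x32554321354632346632345512)))
 (.one (.stab 0 []))))))))

/-- a part of the facts -/
noncomputable def twFactsT70 : BT Fact := (.fork (.fork (.fork (.fork (.fork (.fork (.one (.edge 3 (wOf 16 0x1645234671231231) 3 (wOf 21 0x464321346230123457323)))
 (.one (.edge 5 [0,6,6,4,3,2,5,4,3,2,1,5] 9 (wOf 25 0x1236432135458432345231201))))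
 (.fork (.one (.edge 5 [3,2,1,0,5,4,3,2,6] 5 (wOf 27 0x21321454321546346234581234)))
 (.one (.stab 0 []))))
 (.fork (.fork (.one (.edge 8 [0,3,2,1,3,5,5,7] 5 (wOf 26 0x23754323210453466234623120)))
 (.one (.stab 0 [])))
 (.fork (.one (.edge 5 (wOf 15 0x673012345234232) 5 (wOf 26 0x2106643213574632346231231)))
 (.one (.stab 0 [])))))
 (.fork (.fork (.fork (.one (.edge 6 [0,1,0,2,5,4,3,6,4,3] 5 (wOf 25 0x2143215432631234573234532)))
 (.one (.stab 0 [])))
 (.fork (.one (.edge 5 (wOf 13 0x123234664531) 5 (wOf 23 0x1243664323458423123464)))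
 (.one (.stab 0 []))))
 (.fork (.fork (.one (.edge 8 (wOf 14 0x75452345712340) 5 (wOf 26 0x3210543213846234231234581)))
 (.one (.stab 0 [])))
 (.fork (.one (.edge 5 [0,5,5,4,3,2,1,3,7,6] 5 (wOf 24 0x121034543823123453401210)))
 (.one (.stab 0 []))))))
 (.fork (.fork (.fork (.fork (.one (.edge 4 [6,6,4,3,6,7] 5 (wOf 20 0x55432634312301234543)))
 (.one (.stab 0 [])))
 (.fork (.one (.edge 5 (wOf 13 0x3461234555320) 5 (wOf 18 0x54583231234534320)))
 (.one (.stab 0 []))))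
 (.fork (.fork (.one (.edge 6 [0,3,2,1,3,6,6] 5 (wOf 18 0x36455323453412312)))
 (.one (.stab 0 [])))
 (.fork (.one (.edge 5 [0,1,2,3,2,1,5,4,5,4,3] 5 (wOf 20 0x1021534664323423123)))
 (.one (.stab 0 [])))))
 (.fork (.fork (.fork (.one (.edge 6 [4,3,2,1,6,6,4,3,6,4,6] 5 (wOf 21 0x210343545234512346232)))
 (.one (.stab 0 [])))
 (.fork (.one (.edge 5 (wOf 13 0x3468123463420) 5 (wOf 20 0x5432312346823234631)))
 (.one (.stab 0 []))))
 (.fork (.fork (.one (.edge 5 [2,1,0,3,2,1,5,5,4,3,2] 5 (wOf 21 0x34323864323123012343)))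
 (.one (.stab 0 [])))
 (.fork (.one (.edge 5 [0,4,3,8,5,4,3,2,1,3,5,8] 9 (wOf 18 0x323846234612301234)))
 (.one (.stab 0 [])))))))
 (.fork (.fork (.fork (.fork (.fork (.one (.edge 6 [5,4,3,7,6] 8 (wOf 23 0x35432106463432312346721)))
 (.one (.edge 9 [0,1,3,2,1,4,3,2,5,8] 9 (wOf 21 0x243254634672346231230))))
 (.fork (.one (.edge 5 (wOf 13 0x6312345734012) 5 (wOf 24 0x143213214532346631234321)))
 (.one (.stab 0 []))))
 (.fork (.fork (.one (.edge 6 [1,3,7,6] 5 (wOf 21 0x147643623454323123462)))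
 (.one (.stab 0 [])))
 (.fork (.one (.edge 5 (wOf 15 0x453450123455401) 5 (wOf 21 0x102136746323453231232)))
 (.one (.stab 0 [])))))
 (.fork (.fork (.fork (.one (.edge 3 [0,3,2,1,3,6,6,4,6] 5 (wOf 22 0x186432634523123468012)))
 (.one (.stab 0 [])))
 (.fork (.one (.edge 5 (wOf 13 0x6346123455320) 5 (wOf 21 0x321543523463234634210)))
 (.one (.stab 0 []))))
 (.fork (.fork (.one (.edge 6 (wOf 14 0x84523450123451) 5 (wOf 26 0x12321864325466323453123462)))
 (.one (.stab 0 [])))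
 (.fork (.one (.edge 5 [5,4,3,2,1,3,2,8] 5 (wOf 24 0x243235432345453231234623)))
 (.one (.stab 0 []))))))
 (.fork (.fork (.fork (.fork (.one (.edge 5 [1,0,5,4,3,2,1,6,4,7,6] 8 (wOf 17 0x32663123012346323)))
 (.one (.stab 0 [])))
 (.fork (.one (.edge 5 [3,4,5,4,3,2,1,3,8,6] 5 (wOf 25 0x1285432164634523467234120)))
 (.one (.stab 0 []))))
 (.fork (.fork (.one (.edge 5 (wOf 13 0x8534512345420) 5 (wOf 25 0x2166643213462345812342010)))
 (.one (.stab 0 [])))
 (.fork (.one (.edge 5 (wOf 13 0x6123234583423) 5 (wOf 24 0x10213217545346234512320)))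
 (.one (.stab 0 [])))))
 (.fork (.fork (.fork (.one (.edge 7 (wOf 14 0x67123453234542) 5 (wOf 22 0x1664323452346123464201)))
 (.one (.stab 0 [])))
 (.fork (.one (.edge 5 (wOf 19 0x2321845346234682323) 5 (wOf 23 0x21435432645342312301230)))
 (.one (.stab 0 []))))
 (.fork (.fork (.one (.edge 5 (wOf 15 0x734501234623430) 5 (wOf 24 0x854321643584623451234320)))
 (.one (.stab 0 [])))
 (.fork (.one (.edge 9 [1,2,5,7,5,4,3,2,1] 5 (wOf 24 0x121321432543231234534301)))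
 (.one (.stab 0 []))))))))

/-- a part of the facts -/
noncomputable def twFactsT71 : BT Fact := (.fork (.fork (.fork (.fork (.fork (.fork (.one (.stab 2 [0,2,3,2,5,4,3,6,6,4,6,8]))
 (.one (.edge 9 [6,6,4,3,2,1,3] 5 (wOf 18 0x354584323123452323))))
 (.fork (.one (.edge 5 (wOf 14 0x34570123455320) 5 (wOf 27 0x12143643232646731234612010)))
 (.one (.stab 0 []))))
 (.fork (.fork (.one (.edge 7 [5,4,3,2,1,0,3,6,6] 5 (wOf 22 0x213664323461234534320)))
 (.one (.stab 0 [])))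
 (.fork (.one (.edge 5 [0,4,3,2,3,6,4,3,2,1,3] 5 (wOf 25 0x3436432132466345232346123)))
 (.one (.stab 0 [])))))
 (.fork (.fork (.fork (.one (.edge 3 [1,0,3,2,1,4,3,5,5,5,4] 5 (wOf 28 0x123454323864643231234523451)))
 (.one (.stab 0 [])))
 (.fork (.one (.edge 5 (wOf 18 0x32545734512346423) 5 (wOf 19 0x5432584531234671230)))
 (.one (.stab 0 []))))
 (.fork (.fork (.one (.edge 6 [6,4,3,2,1,5,8,5,4] 5 (wOf 25 0x213235432545323461234673)))
 (.one (.stab 0 [])))
 (.fork (.one (.edge 5 [2,3,4,5,4,3,2,1,6,4,3] 5 (wOf 25 0x1213285432683463123430123)))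
 (.one (.stab 0 []))))))
 (.fork (.fork (.fork (.fork (.one (.edge 8 [6,4,3,2,3,2,1,6,4] 8 (wOf 25 0x121034321534532345812310)))
 (.one (.stab 0 [])))
 (.fork (.one (.edge 5 (wOf 16 0x1453234634571231) 5 (wOf 21 0x13664323468123123432)))
 (.one (.stab 0 []))))
 (.fork (.fork (.one (.edge 5 (wOf 14 0x75531234534012) 5 (wOf 25 0x2132103214864323466341231)))
 (.one (.stab 0 [])))
 (.fork (.one (.edge 5 [2,4,3,8,6,4,3,2,3,2,1,6] 5 (wOf 25 0x2134754323466231234523231)))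
 (.one (.stab 0 [])))))
 (.fork (.fork (.fork (.one (.edge 3 (wOf 14 0x83234534012301) 5 (wOf 21 0x854321634632345312312)))
 (.one (.stab 0 [])))
 (.fork (.one (.edge 5 [0,5,4,3,2,1,5,5,4,3,5,8] 5 (wOf 24 0x43213236745345234523123)))
 (.one (.stab 0 []))))
 (.fork (.fork (.one (.edge 5 (wOf 13 0x6345712346232) 5 (wOf 23 0x12132354546342312345512)))
 (.one (.stab 0 [])))
 (.fork (.one (.edge 7 [5,4,3,6,4,3,2,1,3] 9 (wOf 21 0x324545432312345231234)))
 (.one (.stab 0 [])))))))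
 (.fork (.fork (.fork (.fork (.fork (.one (.edge 3 [1,0,3,2,1,6,6,4,6] 8 (wOf 22 0x1216432764534612341201)))
 (.one (.edge 6 [0,2,3,2,1,6,4,3] 9 (wOf 16 0x4583234642323410))))
 (.fork (.one (.edge 5 (wOf 17 0x2573461234532301) 5 (wOf 19 0x135432312346342321)))
 (.one (.stab 0 []))))
 (.fork (.fork (.one (.edge 6 [0,2,3,2,1,4,3,2,7,6] 5 (wOf 18 0x454673234534123123)))
 (.one (.stab 0 [])))
 (.fork (.one (.edge 5 [1,7] 5 (wOf 19 0x1323754532346323464)))
 (.one (.stab 0 [])))))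
 (.fork (.fork (.fork (.one (.edge 8 [1,2,1,4,7,5,4,3,2,6] 5 (wOf 20 0x23213464632345312312)))
 (.one (.stab 0 [])))
 (.fork (.one (.edge 5 [0,3,7,5,4,3,2,1,6,4,3,6] 5 (wOf 26 0x64321064323545346723123410)))
 (.one (.stab 0 []))))
 (.fork (.fork (.one (.edge 6 (wOf 14 0x83123123464312) 5 (wOf 27 0x143255432345432312345234631)))
 (.one (.stab 0 [])))
 (.fork (.one (.edge 5 (wOf 14 0x63452312345530) 5 (wOf 26 0x3213254326463234581234632)))
 (.one (.stab 0 []))))))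
 (.fork (.fork (.fork (.fork (.one (.edge 7 [0,3,2,1,6,4,3,2,7,5] 5 (wOf 19 0x3243646632345823423)))
 (.one (.stab 0 [])))
 (.fork (.one (.edge 5 [2,4,3,2,6,4,3,2,1,5,8] 5 (wOf 18 0x12664553123412320)))
 (.one (.stab 0 []))))
 (.fork (.fork (.one (.edge 3 [1,3,2,1,5,4,3] 5 (wOf 22 0x1355432545345123423121)))
 (.one (.stab 0 [])))
 (.fork (.one (.edge 5 (wOf 13 0x6745231234543) 5 (wOf 20 0x32143231234661234532)))
 (.one (.stab 0 [])))))
 (.fork (.fork (.fork (.one (.edge 6 [3,2,1,3,4,6,7] 5 (wOf 25 0x2132432176432345123468310)))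
 (.one (.stab 0 [])))
 (.fork (.one (.edge 5 (wOf 13 0x5123452345320) 5 (wOf 26 0x12326432132845346234623468)))
 (.one (.stab 0 []))))
 (.fork (.fork (.one (.edge 6 (wOf 15 0x646123457234010) 5 (wOf 23 0x10213245453234631234540)))
 (.one (.stab 0 [])))
 (.fork (.one (.edge 5 (wOf 14 0x64663461234582) 9 (wOf 27 0x213210354325846345234612301)))
 (.one (.stab 0 []))))))))

/-- a part of the facts -/
noncomputable def twFactsT72 : BT Fact := (.fork (.fork (.fork (.fork (.fork (.fork (.one (.stab 6 (wOf 19 0x102312343231230123)))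
 (.one (.edge 5 (wOf 13 0x5734612345423) 9 (wOf 24 0x13254321673453234231232))))
 (.fork (.one (.edge 5 [0,3,2,5,4,3,2,1,8,5,4,3] 5 (wOf 25 0x4321354323546231234572310)))
 (.one (.stab 0 []))))
 (.fork (.fork (.one (.edge 3 (wOf 13 0x6312345723423) 5 (wOf 25 0x2321324386463234523123423)))
 (.one (.stab 0 [])))
 (.fork (.one (.edge 5 (wOf 14 0x57312312346343) 5 (wOf 25 0x235432132673452345234512)))
 (.one (.stab 0 [])))))
 (.fork (.fork (.fork (.one (.edge 8 [0,1,2,5,5,4,3,2,1,0,3,2] 5 (wOf 28 0x213210343254534623123458323)))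
 (.one (.stab 0 [])))
 (.fork (.one (.edge 5 (wOf 15 0x755312345323453) 5 (wOf 24 0x13210343852345312312343)))
 (.one (.stab 0 []))))
 (.fork (.fork (.one (.edge 5 [1,0,2,3,2,5,4,3,2,1,7,6] 5 (wOf 24 0x213213218646346234662312)))
 (.one (.stab 0 [])))
 (.fork (.one (.edge 5 [2,1,5,4,3,2,1,5,4,3,8,5] 5 (wOf 25 0x3246432154532345312343230)))
 (.one (.stab 0 []))))))
 (.fork (.fork (.fork (.fork (.one (.edge 5 [5,4,3,5,8] 8 (wOf 20 0x4323546632341230123)))
 (.one (.stab 0 [])))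
 (.fork (.one (.edge 5 (wOf 15 0x645345123458323) 5 (wOf 25 0x3254321323645346232343121)))
 (.one (.stab 0 []))))
 (.fork (.fork (.one (.edge 6 [0,4,5,4,3,2,1,0,3,5,4,7] 5 (wOf 27 0x21464321321845346632345121)))
 (.one (.stab 0 [])))
 (.fork (.one (.edge 5 (wOf 17 0x2634661234623467) 5 (wOf 26 0x1216432154763452346612320)))
 (.one (.stab 0 [])))))
 (.fork (.fork (.fork (.one (.edge 8 [6,4,3,2,6,6] 5 (wOf 22 0x3432108543231234663452)))
 (.one (.stab 0 [])))
 (.fork (.one (.edge 5 (wOf 16 0x1672346234623450) 5 (wOf 23 0x2136432346123466323421)))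
 (.one (.stab 0 []))))
 (.fork (.fork (.one (.edge 5 (wOf 13 0x4634671234632) 5 (wOf 25 0x1326432132674534532341210)))
 (.one (.stab 0 [])))
 (.fork (.one (.edge 5 [3,5,8,5,4,3,2,1,3,6] 9 (wOf 23 0x64323264863423123457210)))
 (.one (.stab 0 [])))))))
 (.fork (.fork (.fork (.fork (.fork (.one (.edge 7 [3,2,1,0,6,4,3,7,6,4] 5 (wOf 23 0x23264321346643230123453)))
 (.one (.edge 9 (wOf 14 0x63451234672010) 10 (wOf 20 0x64323452312301234664))))
 (.fork (.one (.edge 5 (wOf 16 0x464631234632343) 5 (wOf 23 0x14321324753462323454120)))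
 (.one (.stab 0 []))))
 (.fork (.fork (.one (.edge 8 [0,1,5,8,5,4,3,6] 5 (wOf 27 0x12324326432345123234574312)))
 (.one (.stab 0 [])))
 (.fork (.one (.edge 5 [6,4,3,2,5,4,3,2,1,6] 5 (wOf 25 0x3285432354853423123462341)))
 (.one (.stab 0 [])))))
 (.fork (.fork (.fork (.one (.edge 6 [2,3,2,1,5,4,7,6,4,3] 5 (wOf 22 0x323643572345512323412)))
 (.one (.stab 0 [])))
 (.fork (.one (.edge 5 (wOf 13 0x3451234686320) 5 (wOf 22 0x143213574623453123463)))
 (.one (.stab 0 []))))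
 (.fork (.fork (.one (.edge 6 (wOf 15 0x463453123455320) 5 (wOf 25 0x136432321543234623457312)))
 (.one (.stab 0 [])))
 (.fork (.one (.edge 5 (wOf 15 0x745531234523461) 5 (wOf 25 0x435432132645345234673120)))
 (.one (.stab 0 []))))))
 (.fork (.fork (.fork (.fork (.one (.edge 8 (wOf 14 0x83234530123460) 5 (wOf 17 0x32345232312345401)))
 (.one (.stab 0 [])))
 (.fork (.one (.edge 5 (wOf 13 0x3468612345123) 5 (wOf 21 0x432132754532345843120)))
 (.one (.stab 0 []))))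
 (.fork (.fork (.one (.edge 5 [0,3,2,1,5,4,3,6,7] 5 (wOf 27 0x21032166643234543123454232)))
 (.one (.stab 0 [])))
 (.fork (.one (.edge 5 [2,1,0,3,2,1,5,4,5,4,3,2] 5 (wOf 18 0x232463453234552345)))
 (.one (.stab 0 [])))))
 (.fork (.fork (.fork (.one (.edge 8 [1,6,4,3,5,4,3,2,3,5,7] 5 (wOf 19 0x1232734553231234523)))
 (.one (.stab 0 [])))
 (.fork (.one (.edge 5 (wOf 17 0x13453462345812310) 5 (wOf 26 0x10321324364673234512345201)))
 (.one (.stab 0 []))))
 (.fork (.fork (.one (.edge 5 [3,2,5,8,5,4,3,2,1,5,4,3] 5 (wOf 23 0x13213435453234583234610)))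
 (.one (.stab 0 [])))
 (.fork (.one (.edge 9 (wOf 13 0x2312345742323) 5 (wOf 22 0x1064321764634523458120)))
 (.one (.stab 0 []))))))))

/-- a part of the facts -/
noncomputable def twFactsT73 : BT Fact := (.fork (.fork (.fork (.fork (.fork (.fork (.one (.stab 1 [0]))
 (.one (.edge 9 [6,6,4,3,6] 5 (wOf 28 0x323435432132845346231231231))))
 (.fork (.one (.edge 5 (wOf 14 0x62301234673410) 5 (wOf 25 0x1854323215453234646312310)))
 (.one (.stab 0 []))))
 (.fork (.fork (.one (.edge 5 (wOf 16 0x2643123467312301) 5 (wOf 23 0x34543210734552312343123)))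
 (.one (.stab 0 [])))
 (.fork (.one (.edge 5 (wOf 14 0x74553123453123) 5 (wOf 24 0x102143213845432345231230)))
 (.one (.stab 0 [])))))
 (.fork (.fork (.fork (.one (.edge 6 [0,1,8,5,4,3,2,6] 5 (wOf 25 0x1376432321645734231234554)))
 (.one (.stab 0 [])))
 (.fork (.one (.edge 5 (wOf 14 0x46345123457230) 5 (wOf 26 0x10213432185453466234512321)))
 (.one (.stab 0 []))))
 (.fork (.fork (.one (.edge 6 [2,5,4,3,2,1,5,5,4,5,5] 5 (wOf 20 0x3234645323453123401)))
 (.one (.stab 0 [])))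
 (.fork (.one (.edge 5 (wOf 15 0x463123453231210) 5 (wOf 22 0x1264327546345234571232)))
 (.one (.stab 0 []))))))
 (.fork (.fork (.fork (.fork (.one (.edge 3 [0,2,3,2,1,4,3,6] 6 (wOf 21 0x235543523461234582321)))
 (.one (.stab 0 [])))
 (.fork (.one (.edge 5 (wOf 14 0x63461232346631) 5 (wOf 27 0x32143285432643123463457234)))
 (.one (.stab 0 []))))
 (.fork (.fork (.one (.edge 8 [1,0,7,6,4,3,5,4,6] 5 (wOf 24 0x21323210432346464123231)))
 (.one (.stab 0 [])))
 (.fork (.one (.edge 5 (wOf 14 0x83461234583232) 5 (wOf 25 0x2321032134545345234512345)))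
 (.one (.stab 0 [])))))
 (.fork (.fork (.fork (.one (.edge 7 (wOf 13 0x5301234574301) 5 (wOf 25 0x1324325432546346123453120)))
 (.one (.stab 0 [])))
 (.fork (.one (.edge 5 [3,2,3,6,6,4,3,2,1,3,6] 5 (wOf 20 0x43213854232345553120)))
 (.one (.stab 0 []))))
 (.fork (.fork (.one (.edge 8 [3,2,1,4,6,6,4,3,5] 5 (wOf 26 0x23216643213462323468341231)))
 (.one (.stab 0 [])))
 (.fork (.one (.edge 5 (wOf 13 0x4231234573432) 9 (wOf 21 0x246432534612301234554)))
 (.one (.stab 0 [])))))))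
 (.fork (.fork (.fork (.fork (.fork (.one (.stab 7 (wOf 16 0x3843231234231232)))
 (.one (.edge 5 (wOf 14 0x57312346234323) 9 (wOf 25 0x1213643213642323458453410))))
 (.fork (.one (.edge 5 [5,8,5,4,3,6,4] 5 (wOf 16 0x5846432343123012)))
 (.one (.stab 0 []))))
 (.fork (.fork (.one (.edge 5 (wOf 13 0x8523123467301) 5 (wOf 23 0x12132454634523123458410)))
 (.one (.stab 0 [])))
 (.fork (.one (.edge 5 (wOf 16 0x1346462346312301) 5 (wOf 25 0x213210666463462345123012)))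
 (.one (.stab 0 [])))))
 (.fork (.fork (.fork (.one (.edge 6 [4,6,6,4,3,5] 5 (wOf 24 0x35454321543230123457323)))
 (.one (.stab 0 [])))
 (.fork (.one (.edge 5 [3,5,4,3,2,1,3,6,4,7] 5 (wOf 25 0x108543213543234664512312)))
 (.one (.stab 0 []))))
 (.fork (.fork (.one (.edge 5 [2,1,3,2,1,5,4,3,5,8] 5 (wOf 23 0x12432132463464323463412)))
 (.one (.stab 0 [])))
 (.fork (.one (.edge 5 [1,3,2,3,4,6,4,3,2,1,3,7] 5 (wOf 23 0x1021432534631234531231)))
 (.one (.stab 0 []))))))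
 (.fork (.fork (.fork (.fork (.one (.edge 7 [5,4,3,2,1,3,2,5,5,7] 8 (wOf 27 0x323432543213764523467234232)))
 (.one (.stab 0 [])))
 (.fork (.one (.edge 5 (wOf 13 0x6234512346232) 5 (wOf 23 0x1213643752341230123010)))
 (.one (.stab 0 []))))
 (.fork (.fork (.one (.edge 7 [0,2,1,0,5,4,3,2,6] 5 (wOf 24 0x13214321554534523468231)))
 (.one (.stab 0 [])))
 (.fork (.one (.edge 5 [3,4,3,6,4,3,2,1,3,5,5] 5 (wOf 24 0x664321324634532346723120)))
 (.one (.stab 0 [])))))
 (.fork (.fork (.fork (.one (.edge 3 [2,1,3,2,1,4,6,6,4,3,5] 5 (wOf 20 0x12143854523461234663)))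
 (.one (.stab 0 [])))
 (.fork (.one (.edge 5 (wOf 15 0x553123463432310) 5 (wOf 25 0x3664321321546346632341231)))
 (.one (.stab 0 []))))
 (.fork (.fork (.one (.edge 5 (wOf 15 0x345523123453432) 5 (wOf 20 0x1032453457345234231)))
 (.one (.stab 0 [])))
 (.fork (.one (.edge 5 (wOf 14 0x34581234532343) 9 (wOf 20 0x34323745231234012323)))
 (.one (.stab 0 []))))))))

/-- a part of the facts -/
noncomputable def twFactsT74 : BT Fact := (.fork (.fork (.fork (.fork (.fork (.fork (.one (.edge 3 [1,0,2,1,6,6] 3 [0,1,0,2,1,0,5,4,8]))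
 (.one (.edge 5 (wOf 20 0x32132674634623452310) 9 (wOf 21 0x102321455342323464312))))
 (.fork (.one (.edge 5 (wOf 14 0x55012312346432) 5 (wOf 25 0x2132543217646346723451230)))
 (.one (.stab 0 []))))
 (.fork (.fork (.one (.edge 8 [0,4,3,2,1,7,5,4,3,6] 5 (wOf 27 0x10485432103462346231234623)))
 (.one (.stab 0 [])))
 (.fork (.one (.edge 5 (wOf 15 0x671234612346234) 5 (wOf 24 0x321323214534523467423120)))
 (.one (.stab 0 [])))))
 (.fork (.fork (.fork (.one (.edge 6 [4,3,6,6,4,5,7] 5 (wOf 19 0x3864534623463234232)))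
 (.one (.stab 0 [])))
 (.fork (.one (.edge 5 [4,3,2,5,4,5,4,3,2,1,3,5] 5 (wOf 22 0x2143213455231234643121)))
 (.one (.stab 0 []))))
 (.fork (.fork (.one (.edge 8 [0,3,2,5,4,3,2,1,6,4,7,6] 5 (wOf 19 0x3243234661234543012)))
 (.one (.stab 0 [])))
 (.fork (.one (.edge 5 [1,0,3,4,6,6,4,3,2,1,3] 5 (wOf 14 0x34583432312310)))
 (.one (.stab 0 []))))))
 (.fork (.fork (.fork (.fork (.one (.edge 3 [1,0,3,2,1,5,4,3,5,5,7] 3 (wOf 25 0x214386432534512346312010)))
 (.one (.stab 0 [])))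
 (.fork (.one (.edge 5 (wOf 17 0x2663123462312340) 5 (wOf 23 0x23543213546432346341201)))
 (.one (.stab 0 []))))
 (.fork (.fork (.one (.edge 6 [3,4,3,2,1,0,5,4,3,6,6] 5 (wOf 27 0x103210323432554312346234510)))
 (.one (.stab 0 [])))
 (.fork (.one (.edge 5 (wOf 14 0x64531234683423) 5 (wOf 25 0x132764321645346234231210)))
 (.one (.stab 0 [])))))
 (.fork (.fork (.fork (.one (.edge 6 [1,0,2,3,2,1,6,4,3] 5 (wOf 26 0x1232476432645312346123121)))
 (.one (.stab 0 [])))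
 (.fork (.one (.edge 5 [1,2,5,8] 5 (wOf 21 0x213232664532345832345)))
 (.one (.stab 0 []))))
 (.fork (.fork (.one (.edge 5 (wOf 15 0x572346123463423) 5 (wOf 27 0x14326432155432346743123012)))
 (.one (.stab 0 [])))
 (.fork (.one (.edge 3 (wOf 13 0x8631234634323) 9 (wOf 26 0x2143643213645842323453210)))
 (.one (.stab 0 [])))))))
 (.fork (.fork (.fork (.fork (.fork (.one (.edge 8 (wOf 23 0x43264321546734623454210) 5 (wOf 13 0x2345845123012)))
 (.one (.edge 9 [0,3,2,5,4,3,2,1,0,5,7,5] 9 (wOf 24 0x32132321463234231234666))))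
 (.fork (.one (.edge 5 [2,7,6,4,3,2,1,5,4,3,6] 5 (wOf 20 0x32143623458512342301)))
 (.one (.stab 0 []))))
 (.fork (.fork (.one (.edge 6 [0,1,7,6,4,3,6,4] 5 (wOf 23 0x12132543523453463123010)))
 (.one (.stab 0 [])))
 (.fork (.one (.edge 5 [2,5,4,3,2,1,3,6,4,3,7,6] 5 (wOf 23 0x10343216468323423123451)))
 (.one (.stab 0 [])))))
 (.fork (.fork (.fork (.one (.edge 8 (wOf 13 0x6723451234542) 5 (wOf 18 0x10455342312346843)))
 (.one (.stab 0 [])))
 (.fork (.one (.edge 5 (wOf 14 0x68312345343230) 5 (wOf 22 0x1543236463457231234531)))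
 (.one (.stab 0 []))))
 (.fork (.fork (.one (.edge 6 [0,2,3,2,1,5,4,3,5,5,7] 5 (wOf 26 0x3213764321534682346423123)))
 (.one (.stab 0 [])))
 (.fork (.one (.edge 5 (wOf 16 0x2345451234523012) 5 (wOf 25 0x3264326435432312346461232)))
 (.one (.stab 0 []))))))
 (.fork (.fork (.fork (.fork (.one (.edge 3 [1,0,3,2,1,4,3,6] 6 (wOf 24 0x234321032834612346432321)))
 (.one (.stab 0 [])))
 (.fork (.one (.edge 5 (wOf 13 0x2312345346310) 5 (wOf 24 0x123213254634523457123420)))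
 (.one (.stab 0 []))))
 (.fork (.fork (.one (.edge 5 (wOf 16 0x1853234534612323) 5 (wOf 24 0x264321864634623461234230)))
 (.one (.stab 0 [])))
 (.fork (.one (.edge 5 [8,5,4,3,2,1,0,6,4,3,6,6] 5 (wOf 23 0x2324326453423123455123)))
 (.one (.stab 0 [])))))
 (.fork (.fork (.fork (.one (.edge 7 [2,3,2,6,4,3,2,1,3,6] 5 (wOf 23 0x23864321634623234512301)))
 (.one (.stab 0 [])))
 (.fork (.one (.edge 5 [2,5,4,3,8,6,4,3,2,1,3,6] 5 (wOf 16 0x1323457412301234)))
 (.one (.stab 0 []))))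
 (.fork (.fork (.one (.edge 5 (wOf 13 0x5834512346230) 5 (wOf 25 0x3543232176463234531234301)))
 (.one (.stab 0 [])))
 (.fork (.one (.edge 8 [0,6,4,3,2,1,0,7,6,4,3,2] 9 (wOf 20 0x43210646634231234671)))
 (.one (.stab 0 []))))))))

/-- a part of the facts -/
noncomputable def twFactsT75 : BT Fact := (.fork (.fork (.fork (.fork (.fork (.fork (.one (.edge 2 [4,5,4,3,6,7] 1 (wOf 14 0x23453463234572)))
 (.one (.edge 9 (wOf 14 0x64523455012320) 5 (wOf 25 0x1043213664532346231234301))))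
 (.fork (.one (.edge 5 (wOf 13 0x4553123463432) 5 (wOf 20 0x13243864523451234660)))
 (.one (.stab 0 []))))
 (.fork (.fork (.one (.edge 6 [0,2,1,0,5,5,4,3,5,4,6,7] 5 (wOf 23 0x16435432346231234542310)))
 (.one (.stab 0 [])))
 (.fork (.one (.edge 5 (wOf 14 0x63453123453231) 5 (wOf 21 0x343232546431234553010)))
 (.one (.stab 0 [])))))
 (.fork (.fork (.fork (.one (.edge 8 [0,1,0,4,8,5,4,3] 6 (wOf 27 0x213254321643684523123463423)))
 (.one (.stab 0 [])))
 (.fork (.one (.edge 5 [4,3,5,4,3,2,1,7,5,4,3,2] 5 (wOf 25 0x2435432328546342312345723)))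
 (.one (.stab 0 []))))
 (.fork (.fork (.one (.edge 6 (wOf 14 0x74630123463420) 5 (wOf 23 0x32136432534631234512310)))
 (.one (.stab 0 [])))
 (.fork (.one (.edge 5 (wOf 13 0x7646345123467) 5 (wOf 25 0x1345432154673234553123401)))
 (.one (.stab 0 []))))))
 (.fork (.fork (.fork (.fork (.one (.edge 7 [0,3,2,1,3,5,5,7] 4 (wOf 19 0x4323645323453423234)))
 (.one (.stab 0 [])))
 (.fork (.one (.edge 5 (wOf 17 0x2763123454232312) 5 (wOf 23 0x12543254573234512345421)))
 (.one (.stab 0 []))))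
 (.fork (.fork (.one (.edge 5 [1,2,3,6] 5 (wOf 23 0x1213210646346234662312)))
 (.one (.stab 0 [])))
 (.fork (.one (.edge 5 (wOf 14 0x84545231234640) 5 (wOf 23 0x10210321834545323464120)))
 (.one (.stab 0 [])))))
 (.fork (.fork (.fork (.one (.edge 8 (wOf 13 0x5234664012320) 5 (wOf 26 0x23248643213645234523468232)))
 (.one (.stab 0 [])))
 (.fork (.one (.edge 5 (wOf 14 0x67463123463231) 5 (wOf 17 0x3854532312346423)))
 (.one (.stab 0 []))))
 (.fork (.fork (.one (.edge 5 [2,3,2,1,4,7,5,4,3] 5 (wOf 27 0x103214321324545346234573120)))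
 (.one (.stab 0 [])))
 (.fork (.one (.edge 6 (wOf 16 0x572312312346432) 9 (wOf 26 0x12324854321345234532346301)))
 (.one (.stab 0 [])))))))
 (.fork (.fork (.fork (.fork (.fork (.one (.edge 8 (wOf 20 0x2103234631234501201) 4 [0,5,4,3,5]))
 (.one (.edge 5 [7,6,4,3,2,1,3,6,4,7,6] 9 (wOf 26 0x34321323216746432343123012))))
 (.fork (.one (.edge 5 (wOf 15 0x453461234673120) 5 (wOf 22 0x1023264853432312346423)))
 (.one (.stab 0 []))))
 (.fork (.fork (.one (.edge 6 [2,1,3,2,1,7,6,4,3,6] 5 (wOf 25 0x210854326453452345812346)))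
 (.one (.stab 0 [])))
 (.fork (.one (.edge 5 [0,1,4,3,7,6,4,3,2,1] 5 (wOf 21 0x243643852312345340123)))
 (.one (.stab 0 [])))))
 (.fork (.fork (.fork (.one (.edge 8 [0,5,4,3,2,1,0,3,5,7,5] 5 (wOf 21 0x13210346323451232010)))
 (.one (.stab 0 [])))
 (.fork (.one (.edge 5 (wOf 14 0x63412312345753) 5 (wOf 19 0x4543234672346123450)))
 (.one (.stab 0 []))))
 (.fork (.fork (.one (.edge 5 (wOf 14 0x51234554323432) 5 (wOf 24 0x12324326643231234572342)))
 (.one (.stab 0 [])))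
 (.fork (.one (.edge 5 [2,1,0,3,8,5,4,3,2,1,3,5] 5 (wOf 26 0x2132432132458346234623412)))
 (.one (.stab 0 []))))))
 (.fork (.fork (.fork (.fork (.one (.edge 7 [3,6,4,3,2,3,2,1,7,6] 5 (wOf 22 0x3246432831234501234232)))
 (.one (.stab 0 [])))
 (.fork (.one (.edge 5 [6,4,3,2,1,5,4,3,8,5] 5 (wOf 25 0x5432132436745323423123461)))
 (.one (.stab 0 []))))
 (.fork (.fork (.one (.edge 8 [0,3,2,1,3,5,8] 5 (wOf 22 0x3234325746345234231232)))
 (.one (.stab 0 [])))
 (.fork (.one (.edge 5 (wOf 14 0x73123455431234) 5 (wOf 26 0x1215432132345534523123423)))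
 (.one (.stab 0 [])))))
 (.fork (.fork (.fork (.one (.edge 6 [5,4,3,2,1,3,6] 8 (wOf 24 0x13214321345423234663432)))
 (.one (.stab 0 [])))
 (.fork (.one (.edge 5 (wOf 19 0x3213672345123462343) 5 (wOf 26 0x12103243216645323458342312)))
 (.one (.stab 0 []))))
 (.fork (.fork (.one (.edge 5 (wOf 15 0x763453460123012) 5 (wOf 16 0x3545432345523452)))
 (.one (.stab 0 [])))
 (.fork (.one (.edge 5 [0,7,6,4,3,2,1,3,5,4,3] 9 (wOf 27 0x18643232154632345234681234)))
 (.one (.stab 0 []))))))))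

/-- a part of the facts -/
noncomputable def twFactsT76 : BT Fact := (.fork (.fork (.fork (.fork (.fork (.fork (.one (.edge 3 (wOf 15 0x645340123012310) 3 (wOf 22 0x2321034634534231234670)))
 (.one (.edge 5 (wOf 14 0x42312345734231) 9 (wOf 20 0x32345467323123423231))))
 (.fork (.one (.edge 5 [6,4,3,2,1,5,4,3,5,8] 5 (wOf 24 0x12676432345412323453421)))
 (.one (.stab 0 []))))
 (.fork (.fork (.one (.edge 8 [3,2,1,6,4,3,2,6] 5 (wOf 27 0x266432154325463467232341230)))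
 (.one (.stab 0 [])))
 (.fork (.one (.edge 5 [3,2,6,4,3,2,1,7,5,4,3,6] 5 (wOf 28 0x321676432321545342312346610)))
 (.one (.stab 0 [])))))
 (.fork (.fork (.fork (.one (.edge 8 [1,5,4,3,5,5,7] 6 (wOf 23 0x3432103823461234623458)))
 (.one (.stab 0 [])))
 (.fork (.one (.edge 5 (wOf 15 0x451234552345234) 5 (wOf 23 0x12464321323454232346123)))
 (.one (.stab 0 []))))
 (.fork (.fork (.one (.edge 4 [5,4,3,2,3,2,1,0,6,6,4,6] 5 (wOf 27 0x325432132643623468341232010)))
 (.one (.stab 0 [])))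
 (.fork (.one (.edge 5 (wOf 13 0x8012323453432) 5 (wOf 23 0x66432135463234661234620)))
 (.one (.stab 0 []))))))
 (.fork (.fork (.fork (.fork (.one (.edge 4 [1,5,4,3,5,8] 8 (wOf 22 0x5543264553455234523421)))
 (.one (.stab 0 [])))
 (.fork (.one (.edge 5 [0,2,3,5,4,3,2,1,7,5,4,3] 5 (wOf 24 0x21646432543123451234523)))
 (.one (.stab 0 []))))
 (.fork (.fork (.one (.edge 6 [0,3,2,1,4,3,5,8,5] 5 (wOf 27 0x210436432164732345123467234)))
 (.one (.stab 0 [])))
 (.fork (.one (.edge 5 (wOf 14 0x46234612346720) 5 (wOf 26 0x13213643213646346234623423)))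
 (.one (.stab 0 [])))))
 (.fork (.fork (.fork (.one (.edge 7 [0,5,4,3,2,1,3,5,5] 5 (wOf 24 0x346432326432312346842312)))
 (.one (.stab 0 [])))
 (.fork (.one (.edge 5 (wOf 13 0x5230123454323) 5 (wOf 24 0x121454321645346230123453)))
 (.one (.stab 0 []))))
 (.fork (.fork (.one (.edge 6 [0,3,2,1,4,6,4,6,4,3] 5 (wOf 27 0x10543235432554312345346412)))
 (.one (.stab 0 [])))
 (.fork (.one (.edge 5 [8,5,4,3,2,1,5,4,3] 9 (wOf 25 0x124376432534231234643201)))
 (.one (.stab 0 [])))))))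
 (.fork (.fork (.fork (.fork (.fork (.one (.edge 4 [0,1,0,3,6,4,3,2,1,7,6] 5 (wOf 24 0x102132104753423123466430)))
 (.one (.edge 5 [1,0,3,2,1,4,3,5,4,3,8] 10 (wOf 25 0x1321754321634573234643123))))
 (.fork (.one (.edge 5 (wOf 15 0x453123458432340) 5 (wOf 25 0x3214323214543234612323457)))
 (.one (.stab 0 []))))
 (.fork (.fork (.one (.edge 7 [2,3,5,4,3,2,1,3,2,5,7,5] 5 (wOf 27 0x23215432103754534323123430)))
 (.one (.stab 0 [])))
 (.fork (.one (.edge 5 (wOf 17 0x1834623453123450) 5 (wOf 26 0x54321321054583454231234531)))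
 (.one (.stab 0 [])))))
 (.fork (.fork (.fork (.one (.edge 6 [1,3,7,5] 5 (wOf 21 0x210354323464123234673)))
 (.one (.stab 0 [])))
 (.fork (.one (.edge 5 (wOf 14 0x34646123468323) 5 (wOf 25 0x1213436432634661234512320)))
 (.one (.stab 0 []))))
 (.fork (.fork (.one (.edge 6 [2,1,0,3,6] 5 (wOf 23 0x1213214573462346123467)))
 (.one (.stab 0 [])))
 (.fork (.one (.edge 5 (wOf 16 0x862312346343230) 5 (wOf 21 0x214364532345723432310)))
 (.one (.stab 0 []))))))
 (.fork (.fork (.fork (.fork (.one (.edge 7 [4,5,4,3,2,1,3,5] 5 (wOf 22 0x3643213764542323123453)))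
 (.one (.stab 0 [])))
 (.fork (.one (.edge 5 (wOf 13 0x7512346234670) 5 (wOf 24 0x236432132584312346123463)))
 (.one (.stab 0 []))))
 (.fork (.fork (.one (.edge 5 [2,3,2,5,4,3,2,1,6,6,4,3] 6 (wOf 24 0x210485432646345123467201)))
 (.one (.stab 0 [])))
 (.fork (.one (.edge 5 (wOf 14 0x34551234583231) 5 (wOf 25 0x554323643542312345712342)))
 (.one (.stab 0 [])))))
 (.fork (.fork (.fork (.one (.edge 8 [3,2,6,4,6] 5 (wOf 20 0x3485432312345301232)))
 (.one (.stab 0 [])))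
 (.fork (.one (.edge 5 (wOf 15 0x453123454523423) 5 (wOf 25 0x2104354321546346723123412)))
 (.one (.stab 0 []))))
 (.fork (.fork (.one (.edge 5 [6,4,3,2,3,2,1,5,4,3,7,6] 5 (wOf 23 0x10432106746342312346731)))
 (.one (.stab 0 [])))
 (.fork (.one (.edge 9 [3,4,3,2,1,3,7,6] 9 (wOf 27 0x102343213543645234512345521)))
 (.one (.stab 0 []))))))))

/-- a part of the facts -/
noncomputable def twFactsT77 : BT Fact := (.fork (.fork (.fork (.fork (.fork (.fork (.one (.stab 2 (wOf 16 0x2543234643234323)))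
 (.one (.edge 9 [0,1,7,5] 9 (wOf 26 0x13285432132432345346431210))))
 (.fork (.one (.edge 5 (wOf 14 0x68431234634320) 5 (wOf 25 0x1021664321346234646234232)))
 (.one (.stab 0 []))))
 (.fork (.fork (.one (.edge 6 [1,5,4,3,6,4,3] 6 (wOf 18 0x24753452346234321)))
 (.one (.stab 0 [])))
 (.fork (.one (.edge 5 [4,3,2,6,4,3,2,1,3,4] 5 (wOf 26 0x1643213543646823452312343)))
 (.one (.stab 0 [])))))
 (.fork (.fork (.fork (.one (.edge 7 [4,6,6,4,3,5,4] 7 (wOf 22 0x3276432643234634312010)))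
 (.one (.stab 0 [])))
 (.fork (.one (.edge 5 [0,2,1,6,4,3,2,1,5,4,3,7] 5 (wOf 25 0x2104354321546346723423123)))
 (.one (.stab 0 []))))
 (.fork (.fork (.one (.edge 6 [3,2,1,0,3,6,4,3,2,7,6] 5 (wOf 21 0x154323554534231234310)))
 (.one (.stab 0 [])))
 (.fork (.one (.edge 5 [3,2,1,4,6,4,6,4,3] 5 (wOf 27 0x323275432154323452346123012)))
 (.one (.stab 0 []))))))
 (.fork (.fork (.fork (.fork (.one (.edge 4 [6,6,4,3,5,4,8] 5 (wOf 15 0x663452345323463)))
 (.one (.stab 0 [])))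
 (.fork (.one (.edge 5 (wOf 15 0x123452345734523) 5 (wOf 21 0x285432534585323451232)))
 (.one (.stab 0 []))))
 (.fork (.fork (.one (.edge 8 [0,5,5,4,3,2,1,3,6,7] 5 (wOf 27 0x102132326432643123463123450)))
 (.one (.stab 0 [])))
 (.fork (.one (.edge 5 (wOf 13 0x8463451234680) 5 (wOf 24 0x12543210546634642312340)))
 (.one (.stab 0 [])))))
 (.fork (.fork (.fork (.one (.edge 8 [0,4,3,2,1,0,3,5,8,5,4,3] 6 (wOf 20 0x32432573461234601232)))
 (.one (.stab 0 [])))
 (.fork (.one (.edge 5 (wOf 17 0x21634682346123460) 5 (wOf 22 0x3854321645345234623412)))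
 (.one (.stab 0 []))))
 (.fork (.fork (.one (.edge 5 (wOf 14 0x75451232346631) 5 (wOf 24 0x364321323454572312346301)))
 (.one (.stab 0 [])))
 (.fork (.one (.edge 5 (wOf 14 0x58301234634230) 9 (wOf 19 0x4643523412301234664)))
 (.one (.stab 0 [])))))))
 (.fork (.fork (.fork (.fork (.fork (.one (.edge 6 [6,4] 5 [0,2,8,5,4]))
 (.one (.edge 5 [0,3,4,3,2,1,6,4,3,7,5] 9 (wOf 20 0x1435545323423123450))))
 (.fork (.one (.edge 5 [0,6,4,3,5,4,3,2,1,3,6,7] 5 (wOf 24 0x12343543234551234123123)))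
 (.one (.stab 0 []))))
 (.fork (.fork (.one (.edge 5 (wOf 13 0x6123451234672) 5 (wOf 23 0x23435432643123123467310)))
 (.one (.stab 0 [])))
 (.fork (.one (.edge 5 [2,5,4,3,2,1,6,4,3,6,6] 5 (wOf 25 0x1254321355463234571234123)))
 (.one (.stab 0 [])))))
 (.fork (.fork (.fork (.one (.edge 7 [0,2,1,5,4,3,2,5,5,7] 5 (wOf 27 0x14321364321534532346731231)))
 (.one (.stab 0 [])))
 (.fork (.one (.edge 5 (wOf 17 0x10234545234512340) 5 (wOf 26 0x1432103243854672312346121)))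
 (.one (.stab 0 []))))
 (.fork (.fork (.one (.edge 5 [1,0,3,2,1,5,4,3,7,6] 5 (wOf 22 0x1032107645323463234643)))
 (.one (.stab 0 [])))
 (.fork (.one (.edge 5 (wOf 16 0x1645345232345310) 5 (wOf 27 0x213243210321663453423123451)))
 (.one (.stab 0 []))))))
 (.fork (.fork (.fork (.fork (.one (.edge 3 [0,3,2,1,4,3,2,6,6,4] 5 (wOf 25 0x232143554323451234523462)))
 (.one (.stab 0 [])))
 (.fork (.one (.edge 5 (wOf 17 0x32764534512346832) 5 (wOf 25 0x123234321634323123455342)))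
 (.one (.stab 0 []))))
 (.fork (.fork (.one (.edge 8 [0,4,6,6,4,3,2,1,3,4] 5 (wOf 25 0x3264321054323464123234123)))
 (.one (.stab 0 [])))
 (.fork (.one (.edge 5 [3,2,3,7,6,4,3,2,1,3,4] 5 (wOf 26 0x1324321325453452345234210)))
 (.one (.stab 0 [])))))
 (.fork (.fork (.fork (.one (.edge 5 (wOf 15 0x646831234632340) 6 (wOf 25 0x1324643254853452312345120)))
 (.one (.stab 0 [])))
 (.fork (.one (.edge 5 (wOf 18 0x213752346234523120) 5 (wOf 22 0x102145453462342312343)))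
 (.one (.stab 0 []))))
 (.fork (.fork (.one (.edge 5 [3,2,1,6,6,4,3,5,8] 5 (wOf 24 0x12435432634571234612343)))
 (.one (.stab 0 [])))
 (.fork (.one (.edge 5 (wOf 14 0x31234663453230) 9 (wOf 24 0x32134643523458231234512)))
 (.one (.stab 0 []))))))))

/-- a part of the facts -/
noncomputable def twFactsT78 : BT Fact := (.fork (.fork (.fork (.fork (.fork (.fork (.one (.edge 3 (wOf 20 0x23485432346612301230) 3 [3,2,1,0,3,2,1,0,6,4,3,2]))
 (.one (.edge 5 [0,3,2,1,4,3,2,6,4] 9 (wOf 22 0x864321346230123458532))))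
 (.fork (.one (.edge 5 (wOf 16 0x674631234623423) 5 (wOf 26 0x3214543216845345232343120)))
 (.one (.stab 0 []))))
 (.fork (.fork (.one (.edge 8 [0,1,4,6,6,4,3,5,4] 5 (wOf 24 0x34321032346843123452310)))
 (.one (.stab 0 [])))
 (.fork (.one (.edge 5 (wOf 15 0x523123453463232) 5 (wOf 24 0x217643213462341231234581)))
 (.one (.stab 0 [])))))
 (.fork (.fork (.fork (.one (.edge 7 [0,2,5,4,3,2] 5 (wOf 27 0x32343213754632345231231201)))
 (.one (.stab 0 [])))
 (.fork (.one (.edge 5 (wOf 13 0x6345234612320) 5 (wOf 21 0x16432634123234585312)))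
 (.one (.stab 0 []))))
 (.fork (.fork (.one (.edge 8 [2,3,2,4,3,2,1,7] 5 (wOf 23 0x3543213684532345423121)))
 (.one (.stab 0 [])))
 (.fork (.one (.edge 5 (wOf 15 0x523455012345823) 5 (wOf 24 0x32364323546323451234543)))
 (.one (.stab 0 []))))))
 (.fork (.fork (.fork (.fork (.one (.edge 7 [3,6,4,3,2,3,2,1,5,8] 6 (wOf 24 0x10232107645346723451201)))
 (.one (.stab 0 [])))
 (.fork (.one (.edge 5 (wOf 15 0x631234663452340) 5 (wOf 20 0x1554632341232345734)))
 (.one (.stab 0 []))))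
 (.fork (.fork (.one (.edge 6 [0,5,4,3,2,1,3] 5 (wOf 24 0x186432154634623455523120)))
 (.one (.stab 0 [])))
 (.fork (.one (.edge 5 (wOf 13 0x6346012345430) 5 (wOf 25 0x121034543646234512345231)))
 (.one (.stab 0 [])))))
 (.fork (.fork (.fork (.one (.edge 6 [0,2,1,4,6,4,6,4,3] 5 (wOf 23 0x12464321864323464231230)))
 (.one (.stab 0 [])))
 (.fork (.one (.edge 5 [3,2,1,0,4,7,6,4,3,6] 5 (wOf 23 0x3217543523463123461234)))
 (.one (.stab 0 []))))
 (.fork (.fork (.one (.edge 6 [2,1,3,5,5,7] 5 (wOf 25 0x3243213243545723451231210)))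
 (.one (.stab 0 [])))
 (.fork (.one (.edge 5 [4,3,2,6,4,3,2,1,3,6,6] 9 (wOf 25 0x1067643213646723462312343)))
 (.one (.stab 0 [])))))))
 (.fork (.fork (.fork (.fork (.fork (.one (.edge 7 [1,0,3,2,6,4,3,2,1,0,6] 6 (wOf 20 0x10213546723462346234)))
 (.one (.edge 9 [4,3,2] 5 (wOf 24 0x323255432634612346723452))))
 (.fork (.one (.edge 5 (wOf 13 0x5346123466230) 5 (wOf 27 0x123254323864532312346823461)))
 (.one (.stab 0 []))))
 (.fork (.fork (.one (.edge 6 [1,3,2,1,4,7,5,4,3,6] 5 (wOf 22 0x2176432631234634232345)))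
 (.one (.stab 0 [])))
 (.fork (.one (.edge 5 [0,3,5,5,4,3,2,1,3,5,4,6] 5 (wOf 24 0x325432132553453423123468)))
 (.one (.stab 0 [])))))
 (.fork (.fork (.fork (.one (.edge 5 (wOf 15 0x755312345323010) 5 (wOf 26 0x10343218643546232346341230)))
 (.one (.stab 0 [])))
 (.fork (.one (.edge 5 (wOf 18 0x102634523123467232) 5 (wOf 25 0x1021325432754543123453120)))
 (.one (.stab 0 []))))
 (.fork (.fork (.one (.edge 6 [0,3,2,1,4,5,4,3] 5 (wOf 24 0x13243215453458523423120)))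
 (.one (.stab 0 [])))
 (.fork (.one (.edge 5 [0,3,2,1,4,3,5,4,3,2,1,3] 5 (wOf 16 0x812345012340123)))
 (.one (.stab 0 []))))))
 (.fork (.fork (.fork (.fork (.one (.edge 6 (wOf 14 0x45123123457343) 7 (wOf 24 0x132103243645234623458123)))
 (.one (.stab 0 [])))
 (.fork (.one (.edge 5 [7,6,4,3,2,1,5,4,3,5] 5 (wOf 24 0x21436432534531234301230)))
 (.one (.stab 0 []))))
 (.fork (.fork (.one (.edge 5 (wOf 16 0x1575231234532312) 5 (wOf 25 0x354321643646823452312312)))
 (.one (.stab 0 [])))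
 (.fork (.one (.edge 5 (wOf 14 0x63412323466453) 5 (wOf 23 0x12643236745346232345123)))
 (.one (.stab 0 [])))))
 (.fork (.fork (.fork (.one (.edge 8 (wOf 13 0x7612346323430) 5 (wOf 25 0x3213438543231234581232310)))
 (.one (.stab 0 [])))
 (.fork (.one (.edge 5 (wOf 16 0x1645323468345232) 5 (wOf 20 0x32105754323123463420)))
 (.one (.stab 0 []))))
 (.fork (.fork (.one (.edge 5 (wOf 19 0x134632346734612320) 5 (wOf 26 0x1323216432583452323453120)))
 (.one (.stab 0 [])))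
 (.fork (.one (.edge 9 [1,3,5,8] 5 (wOf 25 0x1346432321646323454232312)))
 (.one (.stab 0 []))))))))

/-- a part of the facts -/
noncomputable def twFactsT79 : BT Fact := (.fork (.fork (.fork (.fork (.fork (.fork (.one (.stab 3 [0,1,0,2,1,0,4]))
 (.one (.edge 9 [2,1,4,3,2,1,3,2,5,5,7] 5 (wOf 26 0x1285432643623453123461231))))
 (.fork (.one (.edge 5 [0,2,3,2,1,5,4,3,6] 5 (wOf 25 0x1354325432573123452323453)))
 (.one (.stab 0 []))))
 (.fork (.fork (.one (.edge 7 (wOf 13 0x4663012346232) 5 (wOf 26 0x1543213643523467231234301)))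
 (.one (.stab 0 [])))
 (.fork (.one (.edge 5 (wOf 15 0x671234623454230) 5 (wOf 21 0x13210346732345123463)))
 (.one (.stab 0 [])))))
 (.fork (.fork (.fork (.one (.edge 4 [0,4,8,6,4,3,2,1,0,3,4,6] 5 (wOf 26 0x10213436643234612345823120)))
 (.one (.stab 0 [])))
 (.fork (.one (.edge 5 [0,2,1,5,5,4,3,2,6,6,4] 5 (wOf 25 0x2132326432574634612323451)))
 (.one (.stab 0 []))))
 (.fork (.fork (.one (.edge 6 [3,6,4,3,2,1,6,6,4,3,5,4] 5 (wOf 18 0x14753467234123210)))
 (.one (.stab 0 [])))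
 (.fork (.one (.edge 5 (wOf 14 0x23012345734230) 5 (wOf 22 0x1021324645323457123452)))
 (.one (.stab 0 []))))))
 (.fork (.fork (.fork (.fork (.one (.edge 5 [2,1,0,3,2,1,5,4,3,6,6,4] 6 (wOf 18 0x643852346341230120)))
 (.one (.stab 0 [])))
 (.fork (.one (.edge 5 (wOf 13 0x5531234543230) 5 (wOf 21 0x13643523461230123453)))
 (.one (.stab 0 []))))
 (.fork (.fork (.one (.edge 5 [2,4,3,8,5,4,3,2,1,3,4] 5 (wOf 20 0x10643623458531234232)))
 (.one (.stab 0 [])))
 (.fork (.one (.edge 5 [0,2,3,4,3,2,1,5,5,4,3] 5 (wOf 27 0x10664321643523461232345731)))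
 (.one (.stab 0 [])))))
 (.fork (.fork (.fork (.one (.edge 5 [1,0,3,5,5,4,3,2,1,3,7] 5 (wOf 26 0x1232134321546345423123123)))
 (.one (.stab 0 [])))
 (.fork (.one (.edge 5 [1,0,3,2,1,7,5,4,3,6,4,6] 5 (wOf 22 0x2354323646323463412301)))
 (.one (.stab 0 []))))
 (.fork (.fork (.one (.edge 5 (wOf 13 0x3423123455430) 5 (wOf 24 0x124543216453467234642312)))
 (.one (.stab 0 [])))
 (.fork (.one (.edge 7 [0,2,3,6,4,3,2,1,3] 9 (wOf 22 0x1236432345231234674231)))
 (.one (.stab 0 [])))))))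
 (.fork (.fork (.fork (.fork (.fork (.one (.edge 4 (wOf 14 0x57123452345320) 1 [0,1,3,7,5,4,3,2,1,3,2,6]))
 (.one (.edge 9 [0,3,2,1,7,6,4,3] 9 (wOf 25 0x1213643254634523457123454))))
 (.fork (.one (.edge 5 (wOf 13 0x8453012345340) 5 (wOf 23 0x5454321346234523453231)))
 (.one (.stab 0 []))))
 (.fork (.fork (.one (.edge 6 [0,2,3,2,1,0,4,3,6] 5 (wOf 27 0x103214326432554632312346320)))
 (.one (.stab 0 [])))
 (.fork (.one (.edge 5 (wOf 13 0x7301234646301) 5 (wOf 25 0x132643213466234632346321)))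
 (.one (.stab 0 [])))))
 (.fork (.fork (.fork (.one (.edge 8 [3,5,5,4,3,7] 5 (wOf 22 0x2136432634531231234585)))
 (.one (.stab 0 [])))
 (.fork (.one (.edge 5 (wOf 13 0x7545345012340) 5 (wOf 23 0x2134764532345312345232)))
 (.one (.stab 0 []))))
 (.fork (.fork (.one (.edge 6 [5,4,3,2,1,0,5,4,3,7] 5 (wOf 26 0x1264321323574534523461201)))
 (.one (.stab 0 [])))
 (.fork (.one (.edge 5 (wOf 14 0x52345712345231) 5 (wOf 22 0x1214321634553234512346)))
 (.one (.stab 0 []))))))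
 (.fork (.fork (.fork (.fork (.one (.edge 8 [2,1,0,6,4,3,2,1,6] 5 (wOf 14 0x12323461234680)))
 (.one (.stab 0 [])))
 (.fork (.one (.edge 5 [0,2,4,3,6,4,3,2,1,5,4,3] 5 (wOf 20 0x1343572346312343120)))
 (.one (.stab 0 []))))
 (.fork (.fork (.one (.edge 3 [0,3,2,1,3,7,6] 5 (wOf 26 0x4321854321323463423123412)))
 (.one (.stab 0 [])))
 (.fork (.one (.edge 5 (wOf 13 0x8631234643231) 5 (wOf 21 0x12103464623432312346)))
 (.one (.stab 0 [])))))
 (.fork (.fork (.fork (.one (.edge 6 [0,2,1,0,5,4,3,7,6] 5 (wOf 28 0x1032345432135843231234534323)))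
 (.one (.stab 0 [])))
 (.fork (.one (.edge 5 [1,2,6,4,3,5,4,3] 5 (wOf 24 0x234321346453234583123450)))
 (.one (.stab 0 []))))
 (.fork (.fork (.one (.edge 5 (wOf 18 0x134632346734612301) 5 (wOf 21 0x43210323464612323461)))
 (.one (.stab 0 [])))
 (.fork (.one (.edge 6 [5,5,4,3,2,1,3,6,4,7,6] 9 (wOf 25 0x2103213664534623461234610)))
 (.one (.stab 0 []))))))))

/-- a part of the facts -/
noncomputable def twFactsT80 : BT Fact := (.fork (.fork (.fork (.fork (.fork (.fork (.one (.stab 7 [1,0,2,1,4,8]))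
 (.one (.edge 5 (wOf 13 0x6423123463232) 9 (wOf 22 0x543213545323423123452))))
 (.fork (.one (.edge 5 [2,1,3,4,5,5,4,3,2,1,3,6] 5 (wOf 25 0x1243213235453452345234585)))
 (.one (.stab 0 []))))
 (.fork (.fork (.one (.edge 5 (wOf 15 0x645312345843012) 5 (wOf 24 0x321323276463234663123451)))
 (.one (.stab 0 [])))
 (.fork (.one (.edge 5 (wOf 13 0x3123466453012) 5 (wOf 22 0x108643646234612301201)))
 (.one (.stab 0 [])))))
 (.fork (.fork (.fork (.one (.edge 8 [0,1,2,1,5,5,4,7] 8 [0,1,2,1,6,6,4,6]))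
 (.one (.stab 0 [])))
 (.fork (.one (.edge 5 [2,8,6,4,3,2,1,6,4,3,5,8] 5 (wOf 25 0x215432132846346412323461)))
 (.one (.stab 0 []))))
 (.fork (.fork (.one (.edge 5 (wOf 16 0x2463451234673230) 5 (wOf 27 0x134321364321546346234532321)))
 (.one (.stab 0 [])))
 (.fork (.one (.edge 5 [3,2,3,2,1] 5 (wOf 22 0x2132343852345312301201)))
 (.one (.stab 0 []))))))
 (.fork (.fork (.fork (.fork (.one (.edge 6 [1,0,5,5,4,3,2,1,6] 5 (wOf 21 0x102106463452341230120)))
 (.one (.stab 0 [])))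
 (.fork (.one (.edge 5 (wOf 17 0x14674534623466231) 5 (wOf 25 0x5432643210763452346323412)))
 (.one (.stab 0 []))))
 (.fork (.fork (.one (.edge 6 [2,5,5,4,3,2,1,6,4,3,2,3] 5 (wOf 25 0x3264323554634231234523466)))
 (.one (.stab 0 [])))
 (.fork (.one (.edge 5 (wOf 16 0x1468234623453231) 5 (wOf 26 0x32643210321463463234584123)))
 (.one (.stab 0 [])))))
 (.fork (.fork (.fork (.one (.edge 8 [0,4,3,6,4,3,2,1,3] 5 (wOf 20 0x21323645732346341230)))
 (.one (.stab 0 [])))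
 (.fork (.one (.edge 5 (wOf 14 0x53467123464230) 5 (wOf 21 0x214543234545346234210)))
 (.one (.stab 0 []))))
 (.fork (.fork (.one (.edge 5 [2,3,2,1,6,6,4,3,2,6] 5 (wOf 23 0x13285432543123457123431)))
 (.one (.stab 0 [])))
 (.fork (.one (.edge 5 (wOf 16 0x345346123462323) 9 (wOf 20 0x21354534523451231234)))
 (.one (.stab 0 [])))))))
 (.fork (.fork (.fork (.fork (.fork (.one (.edge 6 [5,4,3,5] 5 (wOf 22 0x2436432546341230123463)))
 (.one (.edge 10 (wOf 13 0x3460123234310) 9 (wOf 26 0x10210754321546345234312321))))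
 (.fork (.one (.edge 5 (wOf 13 0x6612346230121) 5 (wOf 25 0x1032864321545323123467310)))
 (.one (.stab 0 []))))
 (.fork (.fork (.one (.edge 8 [0,2,3,2,1,8,6,4,3,5] 5 (wOf 23 0x1216432346843123412323)))
 (.one (.stab 0 [])))
 (.fork (.one (.edge 5 [6,4,3,2,1,6,4,3,6,4,7] 5 (wOf 19 0x1032645843123431230)))
 (.one (.stab 0 [])))))
 (.fork (.fork (.fork (.one (.edge 6 [5,4,3,2,3,2,1,6,7] 5 (wOf 26 0x1085432132346634523123121)))
 (.one (.stab 0 [])))
 (.fork (.one (.edge 5 (wOf 14 0x66234501234630) 5 (wOf 26 0x2103213234753462312346834)))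
 (.one (.stab 0 []))))
 (.fork (.fork (.one (.edge 6 [0,3,2,1,0,3,7,5] 5 (wOf 25 0x1021321543574623123463231)))
 (.one (.stab 0 [])))
 (.fork (.one (.edge 5 [0,3,2,1,4,3,6,6,6] 5 (wOf 21 0x104364585323412323461)))
 (.one (.stab 0 []))))))
 (.fork (.fork (.fork (.fork (.one (.edge 8 (wOf 13 0x7346312345532) 5 (wOf 15 0x646834623462343)))
 (.one (.stab 0 [])))
 (.fork (.one (.edge 5 [2,1,0,3,7,5,4,3,2,1,3,4] 5 (wOf 24 0x32643276453452312312346)))
 (.one (.stab 0 []))))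
 (.fork (.fork (.one (.edge 5 [3,2,4,3,7,6,4,3,2,1,3] 5 (wOf 25 0x1215432103554534523467210)))
 (.one (.stab 0 [])))
 (.fork (.one (.edge 5 (wOf 16 0x3523458531234523) 5 (wOf 23 0x1217543646234642312301)))
 (.one (.stab 0 [])))))
 (.fork (.fork (.fork (.one (.edge 4 [1,2,5,4,3,6] 5 (wOf 28 0x2135432543213234523462346421)))
 (.one (.stab 0 [])))
 (.fork (.one (.edge 5 [0,2,3,2,1,4,3,8,6,4,3] 5 (wOf 26 0x36432132354534232346741230)))
 (.one (.stab 0 []))))
 (.fork (.fork (.one (.edge 5 (wOf 14 0x63458123452340) 5 (wOf 25 0x6432132143546234571234550)))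
 (.one (.stab 0 [])))
 (.fork (.one (.edge 9 [3,4,3,2,1,3,6,6] 5 (wOf 23 0x34321321634683234632340)))
 (.one (.stab 0 []))))))))

/-- a part of the facts -/
noncomputable def twFactsT81 : BT Fact := (.fork (.fork (.fork (.fork (.fork (.fork (.one (.stab 0 [5]))
 (.one (.edge 9 [0,2,1,0,4,3,2,1,6,6,6] 5 (wOf 26 0x1243213254632345531234553))))
 (.fork (.one (.edge 5 [2,3,5,5,5,4,3,2,1,6,4,3] 5 (wOf 21 0x102135463234631234643)))
 (.one (.stab 0 []))))
 (.fork (.fork (.one (.edge 5 [2,3,5,4,3,2,1,6,4,6,4,3] 7 (wOf 21 0x132432346123468230120)))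
 (.one (.stab 0 [])))
 (.fork (.one (.edge 5 (wOf 16 0x1323468452345232) 5 (wOf 22 0x132132534571234523467)))
 (.one (.stab 0 [])))))
 (.fork (.fork (.fork (.one (.edge 5 [2,1,6,4,3,6] 6 (wOf 15 0x301234630123454)))
 (.one (.stab 0 [])))
 (.fork (.one (.edge 5 (wOf 13 0x3454512345820) 5 (wOf 24 0x210321454534523234583123)))
 (.one (.stab 0 []))))
 (.fork (.fork (.one (.edge 6 [5,4,3,2,1,0,5,4,3,6,6] 5 (wOf 24 0x14325436463231234012321)))
 (.one (.stab 0 [])))
 (.fork (.one (.edge 5 (wOf 14 0x64662301234630) 5 (wOf 23 0x10234543231234554231201)))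
 (.one (.stab 0 []))))))
 (.fork (.fork (.fork (.fork (.one (.edge 8 [2,4,3,6,4,3,2,1,3,7,6] 8 (wOf 19 0x343584231234541210)))
 (.one (.edge 10 (wOf 20 0x12321468453234532345) 5 (wOf 20 0x2164853234612343232))))
 (.fork (.one (.edge 5 [3,5,4,5,4,3,2,3,2,1,4,3] 5 (wOf 27 0x68643210321467346234612320)))
 (.one (.stab 0 []))))
 (.fork (.fork (.one (.edge 8 [0,1,0,4,3,8,5,4,3] 5 (wOf 22 0x432175463462345823120)))
 (.one (.stab 0 [])))
 (.fork (.one (.edge 5 (wOf 14 0x63457123462342) 5 (wOf 27 0x432108643213452345231234310)))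
 (.one (.stab 0 [])))))
 (.fork (.fork (.fork (.one (.edge 7 (wOf 14 0x80123234545342) 5 (wOf 19 0x214323457461234010)))
 (.one (.stab 0 [])))
 (.fork (.one (.edge 5 [0,1,0,3,2,3,5] 5 (wOf 22 0x854323545323123455012)))
 (.one (.stab 0 []))))
 (.fork (.fork (.one (.edge 8 [0,2,3,2,1,0,5,5,4,3,6,6] 5 (wOf 24 0x32143286453234312312343)))
 (.one (.stab 0 [])))
 (.fork (.one (.edge 5 (wOf 13 0x6346712346231) 9 (wOf 25 0x134321543523461232346342)))
 (.one (.stab 0 [])))))))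
 (.fork (.fork (.fork (.fork (.fork (.one (.edge 4 [0,3] 7 (wOf 16 0x1832343231234323)))
 (.one (.edge 5 (wOf 14 0x64631234523423) 9 (wOf 24 0x554323214543234551232346))))
 (.fork (.one (.edge 5 (wOf 17 0x14634572345512320) 5 (wOf 25 0x2137543254573462342312341)))
 (.one (.stab 0 []))))
 (.fork (.fork (.one (.edge 5 [0,3,2,1,6,6,6] 5 (wOf 26 0x1210454321684534623451234)))
 (.one (.stab 0 [])))
 (.fork (.one (.edge 5 (wOf 14 0x34581234531232) 5 (wOf 26 0x23243213464532346812342321)))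
 (.one (.stab 0 [])))))
 (.fork (.fork (.fork (.one (.edge 6 [0,1,2,1,0,5,4,3,2,1,5,8] 5 (wOf 18 0x432585453451234580)))
 (.one (.stab 0 [])))
 (.fork (.one (.edge 5 (wOf 13 0x3123466123432) 5 (wOf 17 0x14663464323412321)))
 (.one (.stab 0 []))))
 (.fork (.fork (.one (.edge 5 [0,4,3,2,1,5,4,3,6,6] 5 (wOf 25 0x2136643232645346123451232)))
 (.one (.stab 0 [])))
 (.fork (.one (.edge 5 (wOf 14 0x34531234523231) 5 (wOf 22 0x186432534523234661232)))
 (.one (.stab 0 []))))))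
 (.fork (.fork (.fork (.fork (.one (.edge 7 [2,5,4,3,2,1,3,6] 6 (wOf 19 0x1432631234573231201)))
 (.one (.stab 0 [])))
 (.fork (.one (.edge 5 (wOf 14 0x85234612346620) 5 (wOf 19 0x464534231234683423)))
 (.one (.stab 0 []))))
 (.fork (.fork (.one (.edge 7 [3,5,4,3,2,1,6,4,3,6,4] 5 (wOf 24 0x12432764632346312346801)))
 (.one (.stab 0 [])))
 (.fork (.one (.edge 5 (wOf 14 0x68312345432301) 5 (wOf 21 0x324326684534623123467)))
 (.one (.stab 0 [])))))
 (.fork (.fork (.fork (.one (.edge 3 [0,3,2,1,5,4,3,2,1,6,7] 5 (wOf 24 0x235432167643234523412301)))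
 (.one (.stab 0 [])))
 (.fork (.one (.edge 5 [3,4,3,2,1,5,4,3,6] 5 (wOf 24 0x32432166466346234582341)))
 (.one (.stab 0 []))))
 (.fork (.fork (.one (.edge 5 (wOf 14 0x86312346343012) 5 (wOf 25 0x1218543213452345234623410)))
 (.one (.stab 0 [])))
 (.fork (.one (.edge 5 (wOf 16 0x2646634612346720) 9 (wOf 25 0x143254321545734623452321)))
 (.one (.stab 0 []))))))))

/-- a part of the facts -/
noncomputable def twFactsT82 : BT Fact := (.fork (.fork (.fork (.fork (.fork (.fork (.one (.edge 3 (wOf 18 0x432543234661230123) 3 [3,2,1,0,3,2,1,0,3,2,5,8]))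
 (.one (.edge 5 [5,8,5,4,3,2,1,5,4,3,2,6] 9 (wOf 21 0x21324634231234545423))))
 (.fork (.one (.edge 5 (wOf 17 0x1463234553123430) 5 (wOf 20 0x12103746234534231230)))
 (.one (.stab 0 []))))
 (.fork (.fork (.one (.edge 7 (wOf 14 0x46012346462346) 5 (wOf 20 0x12321432346341232341)))
 (.one (.stab 0 [])))
 (.fork (.one (.edge 5 [0,4,3,5,4,3,2,1,5,4,3] 5 (wOf 21 0x323864534523462312312)))
 (.one (.stab 0 [])))))
 (.fork (.fork (.fork (.one (.edge 5 (wOf 14 0x30123466453420) 6 (wOf 22 0x1285432531234623234571)))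
 (.one (.stab 0 [])))
 (.fork (.one (.edge 5 (wOf 16 0x1345723463230120) 5 (wOf 20 0x10232854534512323120)))
 (.one (.stab 0 []))))
 (.fork (.fork (.one (.edge 7 [2,3,4,7,5,4,3,2,1,3,5] 5 (wOf 23 0x12343216466342312345831)))
 (.one (.stab 0 [])))
 (.fork (.one (.edge 5 [2,1,7,5,4,3,2,1,6,4,3] 5 (wOf 21 0x324328543231234634542)))
 (.one (.stab 0 []))))))
 (.fork (.fork (.fork (.fork (.one (.edge 3 [2,3,2,1,5,4,3,6,6] 5 (wOf 25 0x132176432531234532346732)))
 (.one (.stab 0 [])))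
 (.fork (.one (.edge 5 [6,4,3,5,4,3,2,1,3,6] 5 (wOf 25 0x121543235545346231234673)))
 (.one (.stab 0 []))))
 (.fork (.fork (.one (.edge 6 [1,2,1,4,3,8,5,4,3] 5 (wOf 25 0x106432164573452345234521)))
 (.one (.stab 0 [])))
 (.fork (.one (.edge 5 (wOf 13 0x7631234673234) 5 (wOf 13 0x3451234674323)))
 (.one (.stab 0 [])))))
 (.fork (.fork (.fork (.one (.edge 6 [1,5,4,3,7,6] 5 (wOf 22 0x5432321764632342312345)))
 (.one (.stab 0 [])))
 (.fork (.one (.edge 5 (wOf 13 0x6346123466323) 5 (wOf 23 0x32104323646732345312345)))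
 (.one (.stab 0 []))))
 (.fork (.fork (.one (.edge 5 (wOf 16 0x634512345523455) 6 (wOf 24 0x14321367645323463234610)))
 (.one (.stab 0 [])))
 (.fork (.one (.edge 9 [0,1,0,2,1,7,6,4,3,6] 5 (wOf 26 0x32324376432631234523461231)))
 (.one (.stab 0 [])))))))
 (.fork (.fork (.fork (.fork (.fork (.one (.edge 5 (wOf 21 0x432643542312301234673) 4 [2,5,4,3,8,5]))
 (.one (.edge 9 [0,1,3,2,1,0,3,5,7,5] 5 (wOf 20 0x1323645323457323453))))
 (.fork (.one (.edge 5 (wOf 13 0x6312345234232) 5 (wOf 22 0x213243754523412312312)))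
 (.one (.stab 0 []))))
 (.fork (.fork (.one (.edge 6 [0,2,1,5,5,4,3,6,6] 5 (wOf 28 0x1024354323854532312346623451)))
 (.one (.stab 0 [])))
 (.fork (.one (.edge 5 (wOf 16 0x1646323463412320) 5 (wOf 21 0x106432545734512341231)))
 (.one (.stab 0 [])))))
 (.fork (.fork (.fork (.one (.edge 8 [0,5,4,3,2,1,0,3,6] 5 (wOf 22 0x3213213453234682312342)))
 (.one (.stab 0 [])))
 (.fork (.one (.edge 5 [2,4,5,4,3,2,1,5,4,3,5,8] 5 (wOf 23 0x21328643523463423123454)))
 (.one (.stab 0 []))))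
 (.fork (.fork (.one (.edge 6 [4,7,6,4,3,2,1,3,2,5] 5 (wOf 17 0x21632312346431234)))
 (.one (.stab 0 [])))
 (.fork (.one (.edge 5 (wOf 14 0x63453123453462) 5 (wOf 22 0x186432634512346812320)))
 (.one (.stab 0 []))))))
 (.fork (.fork (.fork (.fork (.one (.edge 3 [0,2,3,2,1,0,4,3,5,8] 5 (wOf 23 0x1323214584323423123421)))
 (.one (.stab 0 [])))
 (.fork (.one (.edge 5 (wOf 13 0x7123461234634) 5 (wOf 24 0x124643213462345234582343)))
 (.one (.stab 0 []))))
 (.fork (.fork (.one (.edge 5 (wOf 14 0x12345457234620) 5 (wOf 24 0x435432354534232312345532)))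
 (.one (.stab 0 [])))
 (.fork (.one (.edge 5 (wOf 15 0x646612346234010) 5 (wOf 22 0x1213214753463234542310)))
 (.one (.stab 0 [])))))
 (.fork (.fork (.fork (.one (.edge 7 [0,2,5,4,3,6,4,3,2,1,3] 5 (wOf 22 0x475432341232345712321)))
 (.one (.stab 0 [])))
 (.fork (.one (.edge 5 [5,4,3,2,1,5,4,3,2,6,7] 5 (wOf 20 0x8543546231234543234)))
 (.one (.stab 0 []))))
 (.fork (.fork (.one (.edge 5 (wOf 14 0x83123461234323) 5 (wOf 23 0x34321324684323461234323)))
 (.one (.stab 0 [])))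
 (.fork (.one (.edge 7 [0,2,1,4,6,6,4,3,5] 9 (wOf 20 0x10321734232345312301)))
 (.one (.stab 0 []))))))))

/-- a part of the facts -/
noncomputable def twFactsT83 : BT Fact := (.fork (.fork (.fork (.fork (.fork (.fork (.one (.edge 2 [3,4] 1 (wOf 17 0x10323123432301201)))
 (.one (.edge 9 [1,3,2,3,6,6,4] 5 (wOf 23 0x26432543674523461234673))))
 (.fork (.one (.edge 5 [3,2,3,7,6,4,3,2,1,3,5,8] 5 (wOf 22 0x2132132545342312346663)))
 (.one (.stab 0 []))))
 (.fork (.fork (.one (.edge 6 [5,4,3,2,1,3] 5 (wOf 26 0x1021643264683234534123121)))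
 (.one (.stab 0 [])))
 (.fork (.one (.edge 5 (wOf 16 0x1673234512346432) 5 (wOf 21 0x232343545323452346410)))
 (.one (.stab 0 [])))))
 (.fork (.fork (.fork (.one (.edge 8 [5,4,5,4,3,2] 8 (wOf 19 0x6432645345232345834)))
 (.one (.stab 0 [])))
 (.fork (.one (.edge 5 [3,6,4,3,2,1,3,7,6] 5 (wOf 24 0x754321064632346312346630)))
 (.one (.stab 0 []))))
 (.fork (.fork (.one (.edge 6 [1,3,5,5,7] 5 (wOf 24 0x32103554532312345346232)))
 (.one (.stab 0 [])))
 (.fork (.one (.edge 5 (wOf 15 0x812346234632301) 5 (wOf 27 0x123254321366466323451234230)))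
 (.one (.stab 0 []))))))
 (.fork (.fork (.fork (.fork (.one (.edge 7 (wOf 14 0x58531234531230) 4 (wOf 20 0x21032463467123463232)))
 (.one (.stab 0 [])))
 (.fork (.one (.edge 5 (wOf 14 0x63123466312343) 5 (wOf 18 0x143623452346323123)))
 (.one (.stab 0 []))))
 (.fork (.fork (.one (.edge 5 [3,2,6,4,3,2,1,5,4,3,5,8] 5 (wOf 27 0x164321032143545234512323410)))
 (.one (.stab 0 [])))
 (.fork (.one (.edge 5 (wOf 15 0x312346642312345) 5 (wOf 18 0x106643234571232312)))
 (.one (.stab 0 [])))))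
 (.fork (.fork (.fork (.one (.edge 8 [0,1,3,2,1,0,6,6,6] 5 (wOf 25 0x5432154321584634582340120)))
 (.one (.stab 0 [])))
 (.fork (.one (.edge 5 (wOf 14 0x67012323463423) 5 (wOf 25 0x4364321032634512323454123)))
 (.one (.stab 0 []))))
 (.fork (.fork (.one (.edge 5 [0,2,3,2,1,4,7,6,4,3,6] 5 (wOf 19 0x6432546342312346861)))
 (.one (.stab 0 [])))
 (.fork (.one (.edge 6 [0,2,3,2,1,4,7,6,4,3,2,6] 9 (wOf 27 0x103432364321323452346323412)))
 (.one (.stab 0 [])))))))
 (.fork (.fork (.fork (.fork (.fork (.one (.edge 5 [5,8,5] 6 [0,2,5,8]))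
 (.one (.edge 5 [2,5,5,4,3,2,1,0,5,5,4,3] 9 (wOf 24 0x432321466453234581234232))))
 (.fork (.one (.edge 5 [0,2,3,2,4,3,5,4,3,2,1,3] 5 (wOf 23 0x13210321453462346830121)))
 (.one (.stab 0 []))))
 (.fork (.fork (.one (.edge 6 [3,6,4,3,2,1,7,5,4,3,6] 5 (wOf 25 0x2132132466432345412323412)))
 (.one (.stab 0 [])))
 (.fork (.one (.edge 5 (wOf 15 0x662346123462340) 5 (wOf 22 0x321432763466323453421)))
 (.one (.stab 0 [])))))
 (.fork (.fork (.fork (.one (.edge 8 [0,3,2,1,3,2,6] 6 (wOf 22 0x2436432543234634571230)))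
 (.one (.stab 0 [])))
 (.fork (.one (.edge 5 [5,4,3,2,3,5,4,3,2,1,3,6] 5 (wOf 23 0x10213214534642323463120)))
 (.one (.stab 0 []))))
 (.fork (.fork (.one (.edge 5 (wOf 17 0x21734646234642320) 5 (wOf 25 0x2327543210646346234542312)))
 (.one (.stab 0 [])))
 (.fork (.one (.edge 5 [3,2,6,4,3,2,1,7,6,4,3] 5 (wOf 22 0x1343238645323461234643)))
 (.one (.stab 0 []))))))
 (.fork (.fork (.fork (.fork (.one (.edge 6 [0,1,6,7] 5 (wOf 21 0x647643231234623123453)))
 (.one (.stab 0 [])))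
 (.fork (.one (.edge 5 (wOf 14 0x52312345834301) 5 (wOf 27 0x21354364321342312345834232)))
 (.one (.stab 0 []))))
 (.fork (.fork (.one (.edge 8 [2,3,2,5,4,3,2,1,7,6,4,6] 5 (wOf 20 0x34643234582345123450)))
 (.one (.stab 0 [])))
 (.fork (.one (.edge 5 (wOf 14 0x64312346863401) 5 (wOf 26 0x12323438543231234612345421)))
 (.one (.stab 0 [])))))
 (.fork (.fork (.fork (.one (.edge 6 [1,6,4,3,5,8] 5 (wOf 23 0x64323210466432312346345)))
 (.one (.stab 0 [])))
 (.fork (.one (.edge 5 (wOf 15 0x345234550123462) 5 (wOf 23 0x13246432553412323454310)))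
 (.one (.stab 0 []))))
 (.fork (.fork (.one (.edge 5 (wOf 14 0x12312345834232) 5 (wOf 23 0x1432132467346312346731)))
 (.one (.stab 0 [])))
 (.fork (.one (.edge 5 [0,5,4,3,7,5,4,3,2,1,0,6] 9 (wOf 25 0x321364323546823461234232)))
 (.one (.stab 0 []))))))))

/-- a part of the facts -/
noncomputable def twFactsT84 : BT Fact := (.fork (.fork (.fork (.fork (.fork (.fork (.one (.edge 3 [0,3,2,1,0,3,2,1,3,6,7] 3 (wOf 19 0x3234863234123231234)))
 (.one (.edge 5 (wOf 15 0x674631234552323) 9 (wOf 16 0x1452312346323455))))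
 (.fork (.one (.edge 5 [0,3,6,4,3,2,1,6,4,6,4,3] 5 (wOf 18 0x123554623451234584)))
 (.one (.stab 0 []))))
 (.fork (.fork (.one (.edge 8 [0,2,1,3,2,1,5,4,3] 5 (wOf 24 0x10321064634623457234121)))
 (.one (.stab 0 [])))
 (.fork (.one (.edge 5 [0,1,2,3,2,1,5,5,4,3] 5 (wOf 25 0x1021321643584623453123210)))
 (.one (.stab 0 [])))))
 (.fork (.fork (.fork (.one (.edge 8 [3,2,1,5,4,3,6,6] 5 (wOf 26 0x2103243554323123467234312)))
 (.one (.stab 0 [])))
 (.fork (.one (.edge 5 (wOf 16 0x1231234534632342) 5 (wOf 24 0x214323214534532346623210)))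
 (.one (.stab 0 []))))
 (.fork (.fork (.one (.edge 4 [0,6,6,4,3,2,1,0,3,2] 5 (wOf 26 0x2643218543646234671234523)))
 (.one (.stab 0 [])))
 (.fork (.one (.edge 5 (wOf 14 0x31234663431232) 5 (wOf 25 0x2854325432545531234641232)))
 (.one (.stab 0 []))))))
 (.fork (.fork (.fork (.fork (.one (.edge 8 [1,3,2,1,0,3,2,1,0,6] 6 (wOf 14 0x86345323468320)))
 (.one (.stab 0 [])))
 (.fork (.one (.edge 5 (wOf 16 0x463123455345232) 5 (wOf 24 0x321343213674532345231234)))
 (.one (.stab 0 []))))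
 (.fork (.fork (.one (.edge 6 [1,0,2,3,2,1,4,7,5,4,3] 5 (wOf 25 0x103464321734523432312343)))
 (.one (.stab 0 [])))
 (.fork (.one (.edge 5 [1,3,2,3,2,5,4,3,2,1,3,7] 5 (wOf 20 0x1236645834231234321)))
 (.one (.stab 0 [])))))
 (.fork (.fork (.fork (.one (.edge 7 (wOf 13 0x6231234634120) 5 (wOf 26 0x21032436432645312312346310)))
 (.one (.stab 0 [])))
 (.fork (.one (.edge 5 [0,3,5,4,3,2,1,6,6,4,3,5] 5 (wOf 23 0x23543210634623458234521)))
 (.one (.stab 0 []))))
 (.fork (.fork (.one (.edge 6 [3,2,1,3,5,8,5] 5 (wOf 23 0x1543213854623234683123)))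
 (.one (.stab 0 [])))
 (.fork (.one (.edge 5 (wOf 13 0x2312345234673) 9 (wOf 23 0x54328543646232312346234)))
 (.one (.stab 0 [])))))))
 (.fork (.fork (.fork (.fork (.fork (.one (.edge 8 (wOf 13 0x6345531234542) 5 (wOf 14 0x53462345234550)))
 (.one (.edge 5 (wOf 14 0x86312346234323) 10 (wOf 19 0x1043552341232346634))))
 (.fork (.one (.edge 3 (wOf 13 0x2341232345532) 5 (wOf 20 0x23213623466231234532)))
 (.one (.stab 0 []))))
 (.fork (.fork (.one (.edge 7 [0,6,4,3,2,1,5,4,7,6,4,3] 5 (wOf 21 0x103210345231231234584)))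
 (.one (.stab 0 [])))
 (.fork (.one (.edge 5 (wOf 13 0x3463123463230) 5 (wOf 24 0x213232148545323468312310)))
 (.one (.stab 0 [])))))
 (.fork (.fork (.fork (.one (.edge 5 (wOf 14 0x66301234534230) 5 (wOf 23 0x12132154323451234643234)))
 (.one (.stab 0 [])))
 (.fork (.one (.edge 5 [3,4,5,4,3,2,1,5,4,3,6,7] 5 (wOf 22 0x132754323461232346712)))
 (.one (.stab 0 []))))
 (.fork (.fork (.one (.edge 6 [0,2,1,6,4,3,2,1,5,4,8] 5 (wOf 23 0x43254321546345234582321)))
 (.one (.stab 0 [])))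
 (.fork (.one (.edge 5 (wOf 14 0x46734601234540) 5 (wOf 24 0x102464321543231234634523)))
 (.one (.stab 0 []))))))
 (.fork (.fork (.fork (.fork (.one (.edge 7 (wOf 14 0x58123462345012) 6 (wOf 24 0x343232154732345512343201)))
 (.one (.stab 0 [])))
 (.fork (.one (.edge 5 (wOf 13 0x4631234632340) 5 (wOf 28 0x102103255432646345123452310)))
 (.one (.stab 0 []))))
 (.fork (.fork (.one (.edge 5 [3,2,7,6,4,3,2,1,0,3,5] 5 (wOf 25 0x1217643236745342312341232)))
 (.one (.stab 0 [])))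
 (.fork (.one (.edge 5 (wOf 15 0x663012345312321) 5 (wOf 25 0x3213285432574312345301230)))
 (.one (.stab 0 [])))))
 (.fork (.fork (.fork (.one (.edge 8 [0,6,4,3,2,1,3] 5 (wOf 25 0x323432376453231234662312)))
 (.one (.stab 0 [])))
 (.fork (.one (.edge 5 [1,2,3,2,6,4,3,2,1] 5 (wOf 23 0x12136432853423123123467)))
 (.one (.stab 0 []))))
 (.fork (.fork (.one (.edge 5 (wOf 14 0x31234664532343) 5 (wOf 25 0x321064321545346823423123)))
 (.one (.stab 0 [])))
 (.fork (.one (.edge 9 [3,4,3,2,1,3,2,6] 9 (wOf 23 0x1234664532345323461230)))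
 (.one (.stab 0 []))))))))

/-- a part of the facts -/
noncomputable def twFactsT85 : BT Fact := (.fork (.fork (.fork (.fork (.fork (.fork (.one (.stab 2 (wOf 16 0x2432346432345323)))
 (.one (.edge 9 [1,3,6,6,6] 5 (wOf 22 0x1326664323123453234671))))
 (.fork (.one (.edge 5 (wOf 15 0x301234545431230) 5 (wOf 25 0x1043236432573453123461230)))
 (.one (.stab 0 []))))
 (.fork (.fork (.one (.edge 6 [7,6,4,3,2,1] 5 (wOf 23 0x1432134664532341232310)))
 (.one (.stab 0 [])))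
 (.fork (.one (.edge 5 (wOf 13 0x2345512345340) 5 (wOf 25 0x1432132132585453234531230)))
 (.one (.stab 0 [])))))
 (.fork (.fork (.fork (.one (.edge 6 [0,3,2,1,3,5,8] 5 (wOf 24 0x12321032834543234531230)))
 (.one (.stab 0 [])))
 (.fork (.one (.edge 5 [3,2,5,4,3,2,1,7,5,4,3,6] 5 (wOf 25 0x1217543264673423123451210)))
 (.one (.stab 0 []))))
 (.fork (.fork (.one (.edge 6 [0,1,2,5,4,3,7,6] 5 (wOf 24 0x232164764323451234523451)))
 (.one (.stab 0 [])))
 (.fork (.one (.edge 5 (wOf 15 0x646312345543012) 5 (wOf 26 0x2132132166455323463123401)))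
 (.one (.stab 0 []))))))
 (.fork (.fork (.fork (.fork (.one (.edge 8 (wOf 14 0x57345123463412) 5 (wOf 19 0x2454532345346234632)))
 (.one (.stab 0 [])))
 (.fork (.one (.edge 5 (wOf 13 0x4663123455301) 5 (wOf 27 0x15432327643523451234672342)))
 (.one (.stab 0 []))))
 (.fork (.fork (.one (.edge 8 [0,2,3,2,1,5,5,4,3,7,5] 5 (wOf 24 0x454321864532346234623123)))
 (.one (.stab 0 [])))
 (.fork (.one (.edge 5 (wOf 15 0x123455123463232) 5 (wOf 24 0x485432154632346312345210)))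
 (.one (.stab 0 [])))))
 (.fork (.fork (.fork (.one (.edge 8 [0,1,0,5,8] 5 (wOf 18 0x32531234583012343)))
 (.one (.stab 0 [])))
 (.fork (.one (.edge 5 (wOf 14 0x64673012345430) 5 (wOf 23 0x10213476432312345312345)))
 (.one (.stab 0 []))))
 (.fork (.fork (.one (.edge 5 (wOf 15 0x731234554312340) 5 (wOf 22 0x321432545345312345310)))
 (.one (.stab 0 [])))
 (.fork (.one (.edge 5 (wOf 18 0x13545234551234550) 9 (wOf 26 0x54321543264534623463123461)))
 (.one (.stab 0 [])))))))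
 (.fork (.fork (.fork (.fork (.fork (.one (.edge 6 (wOf 17 0x1323412323123210) 7 [4,5,4,3,2,1,0,3,2,6,7]))
 (.one (.edge 5 (wOf 13 0x7312345432310) 9 (wOf 17 0x12764323123466301))))
 (.fork (.one (.edge 5 (wOf 13 0x6312346834523) 5 (wOf 25 0x143217543523466123234312)))
 (.one (.stab 0 []))))
 (.fork (.fork (.one (.edge 5 (wOf 17 0x32345512323464312) 8 (wOf 16 0x3458323123401232)))
 (.one (.stab 0 [])))
 (.fork (.one (.edge 5 (wOf 14 0x62301234632343) 5 (wOf 27 0x643213243254634672345123412)))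
 (.one (.stab 0 [])))))
 (.fork (.fork (.fork (.one (.edge 7 [1,0,4,6,6,4,3,2,1] 5 (wOf 20 0x12355463423234531230)))
 (.one (.stab 0 [])))
 (.fork (.one (.edge 5 [4,6,4,3,2,1,6,4,3] 5 (wOf 21 0x23643664523123451231)))
 (.one (.stab 0 []))))
 (.fork (.fork (.one (.edge 5 [4,5,4,3,2,1,0,5,4,3,6] 5 (wOf 23 0x32132664663462345123450)))
 (.one (.stab 0 [])))
 (.fork (.one (.edge 5 [0,6,4,3,2,1,5,4,3,2,7,6] 5 (wOf 22 0x1032103674523462346120)))
 (.one (.stab 0 []))))))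
 (.fork (.fork (.fork (.fork (.one (.edge 8 [0,4,5,4,3,5] 6 (wOf 22 0x1213243854632312343010)))
 (.one (.stab 0 [])))
 (.fork (.one (.edge 5 (wOf 14 0x61234532346830) 5 (wOf 20 0x23234534532345551230)))
 (.one (.stab 0 []))))
 (.fork (.fork (.one (.edge 8 [0,2,3,2,1,5,4,3,6,6] 5 (wOf 24 0x105432164532346462312343)))
 (.one (.stab 0 [])))
 (.fork (.one (.edge 5 (wOf 13 0x7645312345734) 5 (wOf 23 0x13864323468231234623461)))
 (.one (.stab 0 [])))))
 (.fork (.fork (.fork (.one (.edge 5 (wOf 13 0x3461234573010) 8 (wOf 21 0x10343672345312341231)))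
 (.one (.stab 0 [])))
 (.fork (.one (.edge 5 [0,2,1,3,2,1,7,6,4,3,2,6] 5 (wOf 23 0x13646432346123234123201)))
 (.one (.stab 0 []))))
 (.fork (.fork (.one (.edge 5 [0,2,3,2,1,6,6,4,3,5,8] 5 (wOf 24 0x34321036746323463412010)))
 (.one (.stab 0 [])))
 (.fork (.one (.edge 5 [0,3,7,6,4,3,2,1,3,5,4,6] 9 (wOf 24 0x106435432531234523234632)))
 (.one (.stab 0 []))))))))

/-- a part of the facts -/
noncomputable def twFactsT86 : BT Fact := (.fork (.fork (.fork (.fork (.fork (.fork (.one (.edge 3 (wOf 20 0x3213453452323123468) 3 [3,2,1,0,3,2,1,0,5,4,3,2]))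
 (.one (.edge 5 (wOf 14 0x84531234583423) 9 (wOf 24 0x324326432664312346631232))))
 (.fork (.one (.edge 5 (wOf 15 0x323453012345740) 5 (wOf 22 0x103243546623461234582)))
 (.one (.stab 0 []))))
 (.fork (.fork (.one (.edge 8 [0,2,1,3,2,1,5,4,3,2,5] 5 (wOf 25 0x6432321432545346323461210)))
 (.one (.stab 0 [])))
 (.fork (.one (.edge 5 [1,3,6,8,6,4,3,2,1,5,4,3] 5 (wOf 26 0x12343232166457323463123450)))
 (.one (.stab 0 [])))))
 (.fork (.fork (.fork (.one (.edge 6 [0,1,3,2,1,0,6,6,4,3,6] 8 (wOf 24 0x32132543574623423123464)))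
 (.one (.stab 0 [])))
 (.fork (.one (.edge 5 (wOf 14 0x23455123455120) 5 (wOf 20 0x10232845312346723234)))
 (.one (.stab 0 []))))
 (.fork (.fork (.one (.edge 8 [2,5,4,3,6,4,3,2,1,3] 5 (wOf 26 0x2135543216432346843123460)))
 (.one (.stab 0 [])))
 (.fork (.one (.edge 5 (wOf 15 0x762312345432343) 5 (wOf 27 0x432132324321543234555231201)))
 (.one (.stab 0 []))))))
 (.fork (.fork (.fork (.fork (.one (.edge 6 [0,2,3,2,4,6,4,3,2,1,6] 8 (wOf 26 0x23218543264634231234501230)))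
 (.one (.stab 0 [])))
 (.fork (.one (.edge 5 (wOf 13 0x8534612346423) 5 (wOf 25 0x132643213574632345234523)))
 (.one (.stab 0 []))))
 (.fork (.fork (.one (.edge 6 [2,1,0,3,2,7,6] 5 (wOf 24 0x103276432646346612323410)))
 (.one (.stab 0 [])))
 (.fork (.one (.edge 5 (wOf 14 0x66123452345820) 5 (wOf 22 0x2643264832345123462346)))
 (.one (.stab 0 [])))))
 (.fork (.fork (.fork (.one (.edge 6 [0,2,3,2,1,4,3,5,7,5] 6 (wOf 22 0x1216432546312345312310)))
 (.one (.stab 0 [])))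
 (.fork (.one (.edge 5 [0,3,2,1,0,3,6] 5 (wOf 24 0x13243213746234623231234)))
 (.one (.stab 0 []))))
 (.fork (.fork (.one (.edge 5 [3,6,4,3,2,1,3,5,8] 5 (wOf 23 0x1432643234581234534201)))
 (.one (.stab 0 [])))
 (.fork (.one (.edge 5 [2,6,4,3,2,1,5,4,3,5,4] 9 (wOf 27 0x323764321364753234231234542)))
 (.one (.stab 0 [])))))))
 (.fork (.fork (.fork (.fork (.fork (.one (.edge 6 [1,0,5,4,3,2,1] 6 (wOf 23 0x1232146463234683234532)))
 (.one (.edge 9 [0,3,2,1,4,8,5,4,3] 5 (wOf 17 0x6745345323123455))))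
 (.fork (.one (.edge 5 [0,1,0,2,5,4,5,4,3] 5 (wOf 26 0x1346432132634581232346312)))
 (.one (.stab 0 []))))
 (.fork (.fork (.one (.edge 6 [0,1,3,2,6,6] 5 (wOf 21 0x643235745323461230121)))
 (.one (.stab 0 [])))
 (.fork (.one (.edge 5 (wOf 13 0x7531234662341) 5 (wOf 27 0x232146432321464323461234521)))
 (.one (.stab 0 [])))))
 (.fork (.fork (.fork (.one (.edge 4 (wOf 13 0x6234571234620) 5 (wOf 24 0x102135432634585232341232)))
 (.one (.stab 0 [])))
 (.fork (.one (.edge 5 (wOf 13 0x6346812345234) 5 (wOf 21 0x10321534523234583431)))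
 (.one (.stab 0 []))))
 (.fork (.fork (.one (.edge 6 [2,6,6,4,3,2,1,0,3,4,6] 5 (wOf 24 0x123257543623463423123210)))
 (.one (.stab 0 [])))
 (.fork (.one (.edge 5 (wOf 16 0x1323123463453231) 5 (wOf 24 0x32464325463423123466012)))
 (.one (.stab 0 []))))))
 (.fork (.fork (.fork (.fork (.one (.edge 6 [1,6,6,6] 6 (wOf 25 0x102132145746323453234573)))
 (.one (.stab 0 [])))
 (.fork (.one (.edge 5 [1,4,3,7,5,4,3,2,3,2,1,6] 5 (wOf 22 0x2135432534682312312345)))
 (.one (.stab 0 []))))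
 (.fork (.fork (.one (.edge 5 [0,3,6,4,3,2,1,3,5,4,8] 5 (wOf 26 0x32132134354323123453123457)))
 (.one (.stab 0 [])))
 (.fork (.one (.edge 5 (wOf 15 0x863123462346610) 5 (wOf 25 0x210321032453453423123123)))
 (.one (.stab 0 [])))))
 (.fork (.fork (.fork (.one (.edge 7 [3,5,4,3,2,5,5,4,3,2,1,7] 5 (wOf 23 0x1343213646234682312343)))
 (.one (.stab 0 [])))
 (.fork (.one (.edge 5 [3,2,3,2,1,6,4,3] 5 (wOf 24 0x232132543646232312345521)))
 (.one (.stab 0 []))))
 (.fork (.fork (.one (.edge 5 [3,5,4,3,2,3,5,4,3,2,1,3] 5 (wOf 23 0x2643754532346712346234)))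
 (.one (.stab 0 [])))
 (.fork (.one (.edge 9 [4,5,4,3,7,5,4,6] 9 (wOf 20 0x25432646345723462342)))
 (.one (.stab 0 []))))))))

/-- a part of the facts -/
noncomputable def twFactsT87 : BT Fact := (.fork (.fork (.fork (.fork (.fork (.fork (.one (.edge 3 [] 1 [1,0,2,6]))
 (.one (.edge 9 [0,1,0,3,2,1,0,3,2,1] 5 (wOf 26 0x13643213245463423123466345))))
 (.fork (.one (.edge 5 (wOf 13 0x6123462345732) 5 (wOf 25 0x2164321054863458234523123)))
 (.one (.stab 0 []))))
 (.fork (.fork (.one (.edge 7 (wOf 13 0x6458531234532) 5 (wOf 24 0x21043238645342312346234)))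
 (.one (.stab 0 [])))
 (.fork (.one (.edge 5 (wOf 17 0x1762312345432312) 5 (wOf 26 0x21323432135453234612345412)))
 (.one (.stab 0 [])))))
 (.fork (.fork (.fork (.one (.edge 3 [1,0,3,2,1,5,4,3,6] 5 (wOf 20 0x1321453234531231210)))
 (.one (.stab 0 [])))
 (.fork (.one (.edge 5 (wOf 13 0x6123452346230) 5 (wOf 24 0x12343232454312345512312)))
 (.one (.stab 0 []))))
 (.fork (.fork (.one (.edge 6 [5,4,3,2,1,3,6,4,6] 5 (wOf 27 0x12132432136746342323451232)))
 (.one (.stab 0 [])))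
 (.fork (.one (.edge 5 (wOf 15 0x632345312345532) 5 (wOf 22 0x104321545346323463010)))
 (.one (.stab 0 []))))))
 (.fork (.fork (.fork (.fork (.one (.edge 4 [6,6,4,3] 5 (wOf 16 0x3684634623123012)))
 (.one (.stab 0 [])))
 (.fork (.one (.edge 5 (wOf 13 0x5312345432312) 5 (wOf 25 0x1243236432634573123412312)))
 (.one (.stab 0 []))))
 (.fork (.fork (.one (.edge 5 [4,3,7,6,4,3,2,1,3,6] 5 (wOf 25 0x1323664321646323461234542)))
 (.one (.stab 0 [])))
 (.fork (.one (.edge 5 (wOf 16 0x2753123454312343) 5 (wOf 28 0x464323643213545732346123452)))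
 (.one (.stab 0 [])))))
 (.fork (.fork (.fork (.one (.edge 5 [4,3,2,8,5,4,3,2,1,6,4,3] 5 (wOf 24 0x121343213582345342312342)))
 (.one (.stab 0 [])))
 (.fork (.one (.edge 5 (wOf 16 0x634512346623412) 5 (wOf 23 0x23214326463423123457343)))
 (.one (.stab 0 []))))
 (.fork (.fork (.one (.edge 5 (wOf 14 0x83461234583123) 5 (wOf 21 0x245543234671232341230)))
 (.one (.stab 0 [])))
 (.fork (.one (.edge 7 [1,4,5,4,3,2,1,3,7,6] 9 (wOf 22 0x102134546632341232010)))
 (.one (.stab 0 [])))))))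
 (.fork (.fork (.fork (.fork (.fork (.one (.edge 7 [1,3,2,1,0,4,7,5,4,3,2] 8 (wOf 23 0x10686432312346323432321)))
 (.one (.edge 9 [3,4,3,2,1,3,5,8] 5 (wOf 26 0x13285432132643234512342323))))
 (.fork (.one (.edge 5 [2,3,2,4,3,2,1,0,6,4,7,6] 5 (wOf 25 0x1064321035745323461232345)))
 (.one (.stab 0 []))))
 (.fork (.fork (.one (.edge 6 [0,2,1,5,4,3] 5 (wOf 24 0x10321554634232346431232)))
 (.one (.stab 0 [])))
 (.fork (.one (.edge 5 (wOf 14 0x67312345342323) 5 (wOf 26 0x3664321324663452346123430)))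
 (.one (.stab 0 [])))))
 (.fork (.fork (.fork (.one (.edge 8 [8,6,4,3,5] 5 (wOf 21 0x343210573463234512323)))
 (.one (.stab 0 [])))
 (.fork (.one (.edge 5 (wOf 15 0x462346612345230) 5 (wOf 26 0x10214325432634512323453431)))
 (.one (.stab 0 []))))
 (.fork (.fork (.one (.edge 6 [2,1,3,5,8] 5 (wOf 25 0x102321066463234531234631)))
 (.one (.stab 0 [])))
 (.fork (.one (.edge 5 (wOf 14 0x46630123463012) 5 (wOf 24 0x213264321632346632345323)))
 (.one (.stab 0 []))))))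
 (.fork (.fork (.fork (.fork (.one (.edge 7 [0,1,3,2,1,6,4,3,2,7,6] 5 (wOf 23 0x10454321323464632346732)))
 (.one (.stab 0 [])))
 (.fork (.one (.edge 5 [0,5,4,3,2,1,6,4,3,6,6] 5 (wOf 22 0x4643232754531231234641)))
 (.one (.stab 0 []))))
 (.fork (.fork (.one (.edge 3 [0,3,2,5,4,3,2,1,5,5,7] 5 (wOf 23 0x43232864534623123463123)))
 (.one (.stab 0 [])))
 (.fork (.one (.edge 5 (wOf 17 0x10854532346632343) 5 (wOf 25 0x123432132543123457431201)))
 (.one (.stab 0 [])))))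
 (.fork (.fork (.fork (.one (.edge 6 [1,2,1,0,6,4,3] 5 (wOf 26 0x1323243543234581234542321)))
 (.one (.stab 0 [])))
 (.fork (.one (.edge 5 [0,2,6,6,4,3,2,1,5,4,3] 5 (wOf 25 0x185432154673462323467120)))
 (.one (.stab 0 []))))
 (.fork (.fork (.one (.edge 6 [3,2,1,4,6,6,4,3,2,5] 5 (wOf 26 0x1432328643546234612343123)))
 (.one (.stab 0 [])))
 (.fork (.one (.edge 6 [0,1,2,1,6,4,3,7,5,4] 9 (wOf 22 0x3215543523457234123010)))
 (.one (.stab 0 []))))))))

/-- a part of the facts -/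
noncomputable def twFactsT88 : BT Fact := (.fork (.fork (.fork (.fork (.fork (.fork (.one (.edge 4 [2,6] 6 [0,8,5]))
 (.one (.edge 5 (wOf 13 0x2345450123010) 9 (wOf 24 0x14325432645345123451201))))
 (.fork (.one (.edge 5 [0,6,6,4,3,2,1,6,4,3,5,8] 5 (wOf 22 0x1543210863423123464612)))
 (.one (.stab 0 []))))
 (.fork (.fork (.one (.edge 3 (wOf 13 0x4231234573423) 5 (wOf 27 0x143264323643642312346412320)))
 (.one (.stab 0 [])))
 (.fork (.one (.edge 5 (wOf 18 0x10467432345543234) 5 (wOf 25 0x1232132432854312345753120)))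
 (.one (.stab 0 [])))))
 (.fork (.fork (.fork (.one (.edge 8 [0,5,4,3,2,1,5,8] 5 (wOf 21 0x13234632345412301234)))
 (.one (.stab 0 [])))
 (.fork (.one (.edge 5 (wOf 14 0x67231234634232) 5 (wOf 26 0x1032132454323468123234610)))
 (.one (.stab 0 []))))
 (.fork (.fork (.one (.edge 5 (wOf 16 0x1672346232346343) 5 (wOf 22 0x132343523468323123012)))
 (.one (.stab 0 [])))
 (.fork (.one (.edge 5 [6,4,6,4,3,2,1,6] 5 (wOf 25 0x216432321746342323412301)))
 (.one (.stab 0 []))))))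
 (.fork (.fork (.fork (.fork (.one (.edge 6 [0,4,8,5,4,3] 5 (wOf 20 0x2324634582346234542)))
 (.one (.stab 0 [])))
 (.fork (.one (.edge 5 (wOf 13 0x8346123458310) 5 (wOf 23 0x76432103234631234553210)))
 (.one (.stab 0 []))))
 (.fork (.fork (.one (.edge 6 [0,2,1,3,6,6,6] 5 (wOf 21 0x32154532345832341230)))
 (.one (.stab 0 [])))
 (.fork (.one (.edge 5 [0,8,6,4,3,2,1,3,6,4,3,2] 5 (wOf 24 0x32154321346234323123457)))
 (.one (.stab 0 [])))))
 (.fork (.fork (.fork (.one (.edge 8 [1,0,5,8,5,4,3,6] 5 (wOf 25 0x1021435432634584123123120)))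
 (.one (.stab 0 [])))
 (.fork (.one (.edge 5 [0,5,5,4,3,2,1,3,6] 5 (wOf 25 0x1210432164534523123431231)))
 (.one (.stab 0 []))))
 (.fork (.fork (.one (.edge 5 (wOf 13 0x6346123458234) 5 (wOf 27 0x854321364323467423123464010)))
 (.one (.stab 0 [])))
 (.fork (.one (.edge 5 (wOf 13 0x3123458453410) 9 (wOf 21 0x85432634612346231234)))
 (.one (.stab 0 [])))))))
 (.fork (.fork (.fork (.fork (.fork (.one (.edge 8 [2,4,3,6,4,3,2,1,7,5,4,3] 8 (wOf 26 0x32164321064634231234672346)))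
 (.one (.edge 9 (wOf 15 0x12345457232010) 10 (wOf 25 0x254321754323466123412321))))
 (.fork (.one (.edge 5 [0,1,6,4,3,5,7] 5 (wOf 26 0x13234543238543231234623120)))
 (.one (.stab 0 []))))
 (.fork (.fork (.one (.edge 8 [1,4,3,2,1,8,6,4,3,6] 5 (wOf 24 0x21366432534631234523451)))
 (.one (.stab 0 [])))
 (.fork (.one (.edge 5 (wOf 15 0x672341232346463) 5 (wOf 25 0x2543264326645342312346861)))
 (.one (.stab 0 [])))))
 (.fork (.fork (.fork (.one (.edge 6 [4,3,5,5,7] 5 (wOf 19 0x1067646346623123453)))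
 (.one (.stab 0 [])))
 (.fork (.one (.edge 5 (wOf 17 0x13545346234623432) 5 (wOf 26 0x16643213218545346823461231)))
 (.one (.stab 0 []))))
 (.fork (.fork (.one (.edge 6 [0,1,6,4,6,4,3,2,6] 5 (wOf 26 0x10213643232646312312345553)))
 (.one (.stab 0 [])))
 (.fork (.one (.edge 4 [1,4,6,6,4,3,5] 9 []))
 (.one (.stab 0 []))))))
 (.fork (.fork (.fork (.fork (.one (.edge 8 [2,3] 5 (wOf 22 0x3554321546634523450120)))
 (.one (.stab 0 [])))
 (.fork (.one (.edge 5 (wOf 14 0x53123466341232) 5 (wOf 24 0x21432132634631234523458)))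
 (.one (.stab 0 []))))
 (.fork (.fork (.one (.edge 5 [0,4,8,5,4,3,2,1,3,2,5,4] 5 (wOf 26 0x23235432132745345523452345)))
 (.one (.stab 0 [])))
 (.fork (.one (.edge 5 (wOf 13 0x6453460123121) 5 (wOf 23 0x47643264534523123462342)))
 (.one (.stab 0 [])))))
 (.fork (.fork (.fork (.one (.edge 3 [0,3,2,1,3,8,5] 5 (wOf 23 0x16643264634523123423121)))
 (.one (.stab 0 [])))
 (.fork (.one (.edge 5 (wOf 15 0x674630123453463) 5 (wOf 27 0x323432132354634542323123460)))
 (.one (.stab 0 []))))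
 (.fork (.fork (.one (.edge 5 [0,1,2,7,6,4,3] 5 (wOf 26 0x1364323543862346123234310)))
 (.one (.stab 0 [])))
 (.fork (.one (.edge 9 [0,1,0,3,7,5] 5 (wOf 27 0x18643213243545234612345831)))
 (.one (.stab 0 []))))))))

/-- a part of the facts -/
noncomputable def twFactsT89 : BT Fact := (.fork (.fork (.fork (.fork (.fork (.fork (.one (.stab 1 (wOf 18 0x102312343231230123)))
 (.one (.edge 9 [0,3,2,1,4,3,6,6,4,3,2,3] 5 (wOf 25 0x121032432584631234663201))))
 (.fork (.one (.edge 5 [3,2,1,3,7,5,4,3,2,1,3] 5 (wOf 26 0x23754321354532346412323461)))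
 (.one (.stab 0 []))))
 (.fork (.fork (.one (.edge 6 [1,2,1,5,4,3,5,5,7] 5 (wOf 23 0x18543216453462346323412)))
 (.one (.stab 0 [])))
 (.fork (.one (.edge 5 [0,6,4,3,2,1,0,5,4,3] 5 (wOf 22 0x2676432546345123452323)))
 (.one (.stab 0 [])))))
 (.fork (.fork (.fork (.one (.edge 6 [2,3,2,4,3,2,1,6,4,7,6] 7 (wOf 24 0x210324321545843234512321)))
 (.one (.stab 0 [])))
 (.fork (.one (.edge 5 (wOf 14 0x85346123452301) 5 (wOf 23 0x1432132864534512342301)))
 (.one (.stab 0 []))))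
 (.fork (.fork (.one (.edge 6 [3,2,3,2,1,5,4,3,6] 5 (wOf 23 0x13643254634523123453430)))
 (.one (.stab 0 [])))
 (.fork (.one (.edge 5 (wOf 13 0x5731234643231) 5 (wOf 24 0x21054321645345232346710)))
 (.one (.stab 0 []))))))
 (.fork (.fork (.fork (.fork (.one (.edge 6 [0,3,4,3,2,1,6,4,3,6] 8 (wOf 25 0x123643264673462312312346)))
 (.one (.stab 0 [])))
 (.fork (.one (.edge 5 (wOf 14 0x63461234532342) 5 (wOf 26 0x1023454321834623453423210)))
 (.one (.stab 0 []))))
 (.fork (.fork (.one (.edge 8 [1,3,6,4,3,2,6,7] 5 (wOf 26 0x1045454321342323466431232)))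
 (.one (.stab 0 [])))
 (.fork (.one (.edge 5 (wOf 14 0x63234663123455) 5 (wOf 25 0x1321643213854532345823123)))
 (.one (.stab 0 [])))))
 (.fork (.fork (.fork (.one (.edge 7 (wOf 15 0x346234580123462) 5 (wOf 21 0x121364683234323123401)))
 (.one (.stab 0 [])))
 (.fork (.one (.edge 5 (wOf 17 0x1234682346432301) 5 (wOf 24 0x132754323546346231234552)))
 (.one (.stab 0 []))))
 (.fork (.fork (.one (.edge 4 [0,4,5,4,3,2,1,3,5,5] 5 (wOf 23 0x46432154832345431234570)))
 (.one (.stab 0 [])))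
 (.fork (.one (.edge 5 (wOf 13 0x6634612346620) 9 (wOf 27 0x124764321643623453123457301)))
 (.one (.stab 0 [])))))))
 (.fork (.fork (.fork (.fork (.fork (.one (.edge 3 (wOf 22 0x213255463452312346801) 4 [3,6,4,3,6]))
 (.one (.edge 5 (wOf 13 0x6634512345820) 9 (wOf 26 0x1232132364532346431234641))))
 (.fork (.one (.edge 5 [0,3,2,1,0,6,4,3] 5 (wOf 27 0x13864321354632345312343120)))
 (.one (.stab 0 []))))
 (.fork (.fork (.one (.edge 5 (wOf 13 0x6466234612310) 5 (wOf 24 0x23214854632346432343123)))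
 (.one (.stab 0 [])))
 (.fork (.one (.edge 5 (wOf 17 0x1634534623462340) 5 (wOf 27 0x132132432134645346234661210)))
 (.one (.stab 0 [])))))
 (.fork (.fork (.fork (.one (.edge 6 [0,1,2,5,5,4,3,5,5] 5 (wOf 26 0x21326643213452346423123464)))
 (.one (.stab 0 [])))
 (.fork (.one (.edge 5 [6,4,3,2,6,4,3,2,1,3,5] 5 (wOf 23 0x12543213546323455431210)))
 (.one (.stab 0 []))))
 (.fork (.fork (.one (.edge 5 (wOf 13 0x2346123452323) 5 (wOf 27 0x34321366432346123423231201)))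
 (.one (.stab 0 [])))
 (.fork (.one (.edge 5 [0,2,3,2,1,5,5,4,3,2,6] 5 (wOf 24 0x210323643523453123463421)))
 (.one (.stab 0 []))))))
 (.fork (.fork (.fork (.fork (.one (.edge 7 [0,3,2,1,6,4,3,6] 6 (wOf 18 0x432646346823234632)))
 (.one (.stab 0 [])))
 (.fork (.one (.edge 5 [0,2,3,2,1,5,5,7] 5 (wOf 19 0x5432631234583234531)))
 (.one (.stab 0 []))))
 (.fork (.fork (.one (.edge 7 [0,2,1,3,7,6,4,6] 5 (wOf 26 0x1213432321645323466342010)))
 (.one (.stab 0 [])))
 (.fork (.one (.edge 5 [0,5,4,5,4,3,2,1,3,5,4] 5 (wOf 22 0x1343213645323468323123)))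
 (.one (.stab 0 [])))))
 (.fork (.fork (.fork (.one (.edge 4 [0,3,2,1,6] 5 (wOf 26 0x13266432132664634623454231)))
 (.one (.stab 0 [])))
 (.fork (.one (.edge 5 [2,1,5,4,3,2,1,6,4,3,2] 5 (wOf 20 0x34321534663234530120)))
 (.one (.stab 0 []))))
 (.fork (.fork (.one (.edge 5 (wOf 15 0x731234646123012) 5 (wOf 20 0x14321854323461234574)))
 (.one (.stab 0 [])))
 (.fork (.one (.edge 5 (wOf 14 0x82312345453231) 9 (wOf 26 0x1343218543646234623468120)))
 (.one (.stab 0 []))))))))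

/-- a part of the facts -/
noncomputable def twFactsT90 : BT Fact := (.fork (.fork (.fork (.fork (.fork (.fork (.one (.edge 3 [0,3,2,1,0,3,2,1,3] 3 (wOf 23 0x25432103546432312345721)))
 (.one (.edge 5 (wOf 14 0x53123457432343) 9 (wOf 27 0x285432164321546345552342310))))
 (.fork (.one (.edge 5 (wOf 16 0x1674534523457123) 5 (wOf 22 0x2132454532346631234623)))
 (.one (.stab 0 []))))
 (.fork (.fork (.one (.edge 8 [0,2,1,3,2,1,3,6,6,4,3,6] 6 (wOf 23 0x14321354532346432346432)))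
 (.one (.stab 0 [])))
 (.fork (.one (.edge 5 [2,3,5,5,4,3,2,3,2,1,4,3] 5 (wOf 25 0x143264321534623457323423)))
 (.one (.stab 0 [])))))
 (.fork (.fork (.fork (.one (.edge 6 [4,3,2,1,8,6,4,3] 8 (wOf 24 0x106432364663423123468340)))
 (.one (.stab 0 [])))
 (.fork (.one (.edge 5 [3,5,4,3,2,1,0,7,5,4,3,2] 5 (wOf 21 0x321343623412323457432)))
 (.one (.stab 0 []))))
 (.fork (.fork (.one (.edge 8 [0,6,4,3,6,4,7,6] 5 (wOf 18 0x232454312346640120)))
 (.one (.stab 0 [])))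
 (.fork (.one (.edge 5 [3,4,5,4,3,2,1,5,4,5,4,3] 5 (wOf 25 0x1021432854534523464123120)))
 (.one (.stab 0 []))))))
 (.fork (.fork (.fork (.fork (.one (.edge 3 [0,3,2,1,3,4,6] 6 (wOf 25 0x321325432754631234123120)))
 (.one (.stab 0 [])))
 (.fork (.one (.edge 5 (wOf 17 0x12674634661234520) 5 (wOf 23 0x12375432534553123452323)))
 (.one (.stab 0 []))))
 (.fork (.fork (.one (.edge 6 (wOf 14 0x64683123463420) 5 (wOf 20 0x1321454323453123466)))
 (.one (.stab 0 [])))
 (.fork (.one (.edge 5 [3,2,1,4,6,4,3,2,7,5] 5 (wOf 23 0x10216643234646231234010)))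
 (.one (.stab 0 [])))))
 (.fork (.fork (.fork (.one (.edge 6 [0,3,4,3,2,5,4,3,2,1,6] 5 (wOf 23 0x10321754634523462346610)))
 (.one (.stab 0 [])))
 (.fork (.one (.edge 5 [5,5,4,3,2,1,3,6] 5 (wOf 24 0x12103854634231234623457)))
 (.one (.stab 0 []))))
 (.fork (.fork (.one (.edge 5 (wOf 14 0x63461234572346) 5 (wOf 22 0x1321375463234523467120)))
 (.one (.stab 0 [])))
 (.fork (.one (.edge 3 [0,3,2,1,4,3,5,5,7] 9 (wOf 22 0x4385432534612301234680)))
 (.one (.stab 0 [])))))))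
 (.fork (.fork (.fork (.fork (.fork (.one (.edge 3 [3,5,5,7] 5 (wOf 22 0x3864323645523234123012)))
 (.one (.edge 9 [0,1,0,3,2,1,6,4,6] 9 (wOf 19 0x102663123453234643))))
 (.fork (.one (.edge 5 [0,3,4,3,2,3,5,4,3,2,1,3] 5 (wOf 27 0x248543254325463462312346234)))
 (.one (.stab 0 []))))
 (.fork (.fork (.one (.edge 6 [1,0,4,5,4,3,2,1,5,4,7] 5 (wOf 25 0x2354321321466342301234550)))
 (.one (.stab 0 [])))
 (.fork (.one (.edge 5 [2,3,4,5,4,3,2,3,2,1,6,7] 5 (wOf 25 0x132664321643231234573410)))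
 (.one (.stab 0 [])))))
 (.fork (.fork (.fork (.one (.edge 3 [0,1,0,3,2,1,4,7,5,4,3] 5 (wOf 24 0x134643232645312346634120)))
 (.one (.stab 0 [])))
 (.fork (.one (.edge 5 (wOf 13 0x3450123455310) 5 (wOf 25 0x164321354534231234534623)))
 (.one (.stab 0 []))))
 (.fork (.fork (.one (.edge 6 [0,4,3,6,4,3,2,1,3,7,6] 5 (wOf 25 0x543216643645234512346412)))
 (.one (.stab 0 [])))
 (.fork (.one (.edge 5 (wOf 13 0x5312346463401) 5 (wOf 23 0x1326432531234532346320)))
 (.one (.stab 0 []))))))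
 (.fork (.fork (.fork (.fork (.one (.edge 4 [0,5,4,3,2,1,3,6,4,6,7] 5 (wOf 25 0x8543213210346342312346340)))
 (.one (.stab 0 [])))
 (.fork (.one (.edge 5 (wOf 14 0x31234664312301) 5 (wOf 18 0x13457234512346321)))
 (.one (.stab 0 []))))
 (.fork (.fork (.one (.edge 5 [3,2,1,6,6,4,3,6] 5 (wOf 23 0x6432166453234312312010)))
 (.one (.stab 0 [])))
 (.fork (.one (.edge 5 (wOf 15 0x674534612345320) 5 (wOf 26 0x1032134326643234612346012)))
 (.one (.stab 0 [])))))
 (.fork (.fork (.fork (.one (.edge 7 [0,3,2,3,5,4,3,2,1,3] 5 (wOf 22 0x1036432346123423123464)))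
 (.one (.stab 0 [])))
 (.fork (.one (.edge 5 (wOf 16 0x1845323458345232) 5 (wOf 19 0x4323645734231234543)))
 (.one (.stab 0 []))))
 (.fork (.fork (.one (.edge 5 (wOf 18 0x103546834523462321) 5 (wOf 26 0x21032135432643123463431230)))
 (.one (.stab 0 [])))
 (.fork (.one (.edge 8 [0,2,3,2,1,4,3,6,4] 9 (wOf 22 0x1027643545234682312301)))
 (.one (.stab 0 []))))))))

/-- a part of the facts -/
noncomputable def twFactsT91 : BT Fact := (.fork (.fork (.fork (.fork (.fork (.fork (.one (.edge 2 [0,4,3,6,4] 2 (wOf 21 0x23248545346234623423)))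
 (.one (.edge 9 [0,2,3,2,1,4,3,6,7] 5 (wOf 23 0x12132176453234512346201))))
 (.fork (.one (.edge 5 (wOf 13 0x6346123467323) 5 (wOf 24 0x321324321546834623458232)))
 (.one (.stab 0 []))))
 (.fork (.fork (.one (.edge 6 [5,5,4,3,2,1,3,4,7,6] 5 (wOf 27 0x12432135432645323458312010)))
 (.one (.stab 0 [])))
 (.fork (.one (.edge 5 (wOf 14 0x66312345323430) 5 (wOf 25 0x323543213546832345123120)))
 (.one (.stab 0 [])))))
 (.fork (.fork (.fork (.one (.edge 8 [6,4,3,2,1,3,2,1,6,6,4,6] 5 (wOf 26 0x64321032143864623451230120)))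
 (.one (.stab 0 [])))
 (.fork (.one (.edge 5 (wOf 14 0x75451232345343) 5 (wOf 22 0x3432132346231234623231)))
 (.one (.stab 0 []))))
 (.fork (.fork (.one (.edge 6 [5,4,3,2,1,3,7,5] 5 (wOf 28 0x1321055432154632346731234532)))
 (.one (.stab 0 [])))
 (.fork (.one (.edge 5 (wOf 16 0x1646323455432321) 5 (wOf 25 0x132554323646342312346701)))
 (.one (.stab 0 []))))))
 (.fork (.fork (.fork (.fork (.one (.edge 8 [0,7,6] 5 (wOf 22 0x4643210573234531234530)))
 (.one (.stab 0 [])))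
 (.fork (.one (.edge 5 [2,4,3,6,4,3,2,1,3,2,6] 5 (wOf 22 0x4643232646831234123120)))
 (.one (.stab 0 []))))
 (.fork (.fork (.one (.edge 5 [3,2,1,4,8,6,4,3] 5 (wOf 21 0x232145463234631234312)))
 (.one (.stab 0 [])))
 (.fork (.one (.edge 5 (wOf 15 0x674623451234520) 5 (wOf 23 0x2132103645234512312346)))
 (.one (.stab 0 [])))))
 (.fork (.fork (.fork (.one (.edge 3 [0,2,3,2,1,0,4,3,6,4,7,6] 5 (wOf 21 0x232132634632345312346)))
 (.one (.stab 0 [])))
 (.fork (.one (.edge 5 (wOf 13 0x3451234683232) 5 (wOf 24 0x18643213545723234612346)))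
 (.one (.stab 0 []))))
 (.fork (.fork (.one (.edge 5 [3,2,1,3,5,4,3,7,6,4] 5 (wOf 22 0x2132132574632346323464)))
 (.one (.stab 0 [])))
 (.fork (.one (.edge 6 [3,2,1,3,6,6,6] 9 (wOf 27 0x102154321364532346431234323)))
 (.one (.stab 0 [])))))))
 (.fork (.fork (.fork (.fork (.fork (.one (.edge 4 [5,4,3,2,1,3,6,6] 5 (wOf 27 0x346432132432854534323123463)))
 (.one (.edge 5 (wOf 13 0x3123458345230) 9 (wOf 26 0x10216432321543234646231210))))
 (.fork (.one (.edge 5 [0,2,4,3,8,5,4,3,2,1,3] 5 (wOf 24 0x121032154323464323464312)))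
 (.one (.stab 0 []))))
 (.fork (.fork (.one (.edge 6 [2,1,0,3,6,4,3,5,4,6] 5 (wOf 23 0x32366432312346823432312)))
 (.one (.stab 0 [])))
 (.fork (.one (.edge 5 [0,5,4,3,2,1,3,6,6] 5 (wOf 25 0x1213214328643231234683423)))
 (.one (.stab 0 [])))))
 (.fork (.fork (.fork (.one (.edge 8 [1,2,5,4,3,7] 5 (wOf 24 0x343276432345512342312010)))
 (.one (.stab 0 [])))
 (.fork (.one (.edge 5 (wOf 14 0x73012346343232) 5 (wOf 24 0x15543254853462346312312)))
 (.one (.stab 0 []))))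
 (.fork (.fork (.one (.edge 5 (wOf 14 0x23123468123420) 5 (wOf 27 0x32143285432543123123468345)))
 (.one (.stab 0 [])))
 (.fork (.one (.edge 5 (wOf 15 0x453123466342320) 5 (wOf 26 0x2154321354532345346234120)))
 (.one (.stab 0 []))))))
 (.fork (.fork (.fork (.fork (.one (.edge 7 [2,3,2,5,4,3,2,1,3,8,5] 5 (wOf 26 0x1321436432643234531234572)))
 (.one (.stab 0 [])))
 (.fork (.one (.edge 5 (wOf 13 0x6723450123450) 5 (wOf 22 0x2321032466345231234681)))
 (.one (.stab 0 []))))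
 (.fork (.fork (.one (.edge 8 [3,4,3,2,1,3,8,6,4,3] 5 (wOf 21 0x132321864534231234641)))
 (.one (.stab 0 [])))
 (.fork (.one (.edge 5 (wOf 14 0x63460123468323) 5 (wOf 23 0x32164321574634623412320)))
 (.one (.stab 0 [])))))
 (.fork (.fork (.fork (.one (.edge 6 [0,6,6,4,3,2,1,3] 5 (wOf 22 0x103210346823452312010)))
 (.one (.stab 0 [])))
 (.fork (.one (.edge 5 [1,3,2,3,6,4,3,2,1,3,7,5] 5 (wOf 21 0x143232646312345342323)))
 (.one (.stab 0 []))))
 (.fork (.fork (.one (.edge 5 (wOf 14 0x85312346345120) 5 (wOf 23 0x2354323684532345123450)))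
 (.one (.stab 0 [])))
 (.fork (.one (.edge 5 (wOf 13 0x6312346863231) 9 (wOf 20 0x36432534572312346320)))
 (.one (.stab 0 []))))))))

/-- a part of the facts -/
noncomputable def twFactsT92 : BT Fact := (.fork (.fork (.fork (.fork (.fork (.fork (.one (.stab 5 (wOf 19 0x102312343231230123)))
 (.one (.edge 5 [0,3,4,5,4,3,2,1,3,5] 9 (wOf 25 0x432354321583453234612346))))
 (.fork (.one (.edge 5 (wOf 17 0x16463234523467231) 5 (wOf 24 0x176432164634523451234554)))
 (.one (.stab 0 []))))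
 (.fork (.fork (.one (.edge 8 [0,1,2,3,2,1,3,6,6,6] 5 (wOf 19 0x6432345231234572312)))
 (.one (.stab 0 [])))
 (.fork (.one (.edge 5 (wOf 13 0x5234661234630) 5 (wOf 25 0x1254321055463452312346410)))
 (.one (.stab 0 [])))))
 (.fork (.fork (.fork (.one (.edge 8 [3,2,1,3,6,6,6] 6 (wOf 15 0x645512345234520)))
 (.one (.stab 0 [])))
 (.fork (.one (.edge 5 [3,2,4,3,5,5,4,3,2,3,2,1] 5 (wOf 24 0x10432164634582345123231)))
 (.one (.stab 0 []))))
 (.fork (.fork (.one (.edge 5 (wOf 14 0x76312345343230) 5 (wOf 24 0x17543215463462341232312)))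
 (.one (.stab 0 [])))
 (.fork (.one (.edge 5 (wOf 17 0x1764532345346423) 5 (wOf 24 0x13643232664312345512340)))
 (.one (.stab 0 []))))))
 (.fork (.fork (.fork (.fork (.one (.edge 5 [0,1,0,5,4,3,2,5,8] 3 (wOf 24 0x13754323545231230123468)))
 (.one (.stab 0 [])))
 (.fork (.one (.edge 5 (wOf 13 0x6234550123010) 5 (wOf 22 0x3243210663423123457432)))
 (.one (.stab 0 []))))
 (.fork (.fork (.one (.edge 6 [0,4,3,2,1,5,4,3,8,6,4,3] 5 (wOf 25 0x176432543234612346234123)))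
 (.one (.stab 0 [])))
 (.fork (.one (.edge 5 (wOf 16 0x1645345723455230) 5 (wOf 26 0x2432105543546234512312312)))
 (.one (.stab 0 [])))))
 (.fork (.fork (.fork (.one (.edge 7 [0,1,3,6,4,3,2,1,3,6] 5 (wOf 26 0x32375432135466323451232010)))
 (.one (.stab 0 [])))
 (.fork (.one (.edge 5 (wOf 13 0x6123123463423) 5 (wOf 22 0x123243854582342312345)))
 (.one (.stab 0 []))))
 (.fork (.fork (.one (.edge 3 [3,2,1,5,4,3,2,7,6] 5 (wOf 25 0x2543264321634623467301210)))
 (.one (.stab 0 [])))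
 (.fork (.one (.edge 5 [2,3,2,1,4,5,5,4,3,5] 9 (wOf 20 0x2134663423234531234)))
 (.one (.stab 0 [])))))))
 (.fork (.fork (.fork (.fork (.fork (.one (.edge 3 [0,1,0,3,2,1,0,6,4,3,2,6] 5 (wOf 27 0x34664321324853463231234663)))
 (.one (.edge 9 [0,2,1,3,4,3,5,4,3,2,7,5] 10 (wOf 25 0x1243764321532346123468234))))
 (.fork (.one (.edge 5 [7,6,4,3,2,1,0,3,5,4,3,6] 5 (wOf 26 0x21543232145463452346612345)))
 (.one (.stab 0 []))))
 (.fork (.fork (.one (.edge 8 [1,6,4,3,5,8,5,4,6] 5 (wOf 21 0x12132854312345543120)))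
 (.one (.stab 0 [])))
 (.fork (.one (.edge 5 (wOf 16 0x3823463123464310) 5 (wOf 24 0x275432132453467232345532)))
 (.one (.stab 0 [])))))
 (.fork (.fork (.fork (.one (.edge 6 [0,6,4,3,2,1,3,2,3] 8 (wOf 21 0x454321853452346801232)))
 (.one (.stab 0 [])))
 (.fork (.one (.edge 5 [4,8,5,4,3,2,1,5,4,6] 5 (wOf 26 0x12104321643852345123464231)))
 (.one (.stab 0 []))))
 (.fork (.fork (.one (.edge 6 [8,6,4,3,2,1,5,4,3,6,4,6] 5 (wOf 26 0x10324325432646731234552321)))
 (.one (.stab 0 [])))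
 (.fork (.one (.edge 5 (wOf 17 0x21645732346432301) 5 (wOf 25 0x3254321032746345231230123)))
 (.one (.stab 0 []))))))
 (.fork (.fork (.fork (.fork (.one (.edge 8 [3,2,1,5,4,3,2,6] 5 (wOf 24 0x123213232463423123458530)))
 (.one (.stab 0 [])))
 (.fork (.one (.edge 5 (wOf 13 0x6634612345851) 5 (wOf 25 0x4664323214864323462312301)))
 (.one (.stab 0 []))))
 (.fork (.fork (.one (.edge 5 [2,1,0,3,2,1,4,5,4,3,5] 5 (wOf 20 0x25432546346823462342)))
 (.one (.stab 0 [])))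
 (.fork (.one (.edge 5 (wOf 13 0x3457123461232) 5 (wOf 26 0x13213432643764623451234201)))
 (.one (.stab 0 [])))))
 (.fork (.fork (.fork (.one (.edge 8 [3,2,1,3,5,4,3,2,3,6] 5 (wOf 21 0x103213845232346731232)))
 (.one (.stab 0 [])))
 (.fork (.one (.edge 5 [3,4,3,6,6,4,3,2,1,3] 5 (wOf 24 0x10214854634523466123401)))
 (.one (.stab 0 []))))
 (.fork (.fork (.one (.edge 5 [2,1,3,6,4,3,2,3,2,1,5,8] 5 (wOf 25 0x185432136453462346423121)))
 (.one (.stab 0 [])))
 (.fork (.one (.edge 9 [6,6,4,3,5,4,6] 5 (wOf 24 0x14321643545234532343121)))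
 (.one (.stab 0 []))))))))

/-- a part of the facts -/
noncomputable def twFactsT93 : BT Fact := (.fork (.fork (.fork (.fork (.fork (.fork (.one (.edge 2 [1,0,2,1,3] 1 [2,1,0,3,2,1,3,2]))
 (.one (.edge 9 (wOf 14 0x34571234553230) 3 (wOf 25 0x132543213862346723423120))))
 (.fork (.one (.edge 5 (wOf 13 0x1234582346323) 5 (wOf 25 0x132454321683463234512310)))
 (.one (.stab 0 []))))
 (.fork (.fork (.one (.edge 6 (wOf 13 0x6123453234553) 5 (wOf 28 0x121321325432764534623123210)))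
 (.one (.stab 0 [])))
 (.fork (.one (.edge 5 [0,3,2,6,4,3,2,1,7,6,4,3] 5 (wOf 25 0x132154321645534230123410)))
 (.one (.stab 0 [])))))
 (.fork (.fork (.fork (.one (.edge 7 [1,0,3,2,1,0,6,7] 8 (wOf 14 0x46632345323461)))
 (.one (.stab 0 [])))
 (.fork (.one (.edge 5 (wOf 13 0x6431234575301) 5 (wOf 25 0x321854326463462346123412)))
 (.one (.stab 0 []))))
 (.fork (.fork (.one (.edge 6 [0,2,3,2,1,5,4,3,7,6,4,6] 5 (wOf 21 0x376432663453123412321)))
 (.one (.stab 0 [])))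
 (.fork (.one (.edge 5 (wOf 17 0x32545345812346323) 5 (wOf 24 0x102143275453234534231230)))
 (.one (.stab 0 []))))))
 (.fork (.fork (.fork (.fork (.one (.edge 4 [3,2,6] 4 (wOf 20 0x34323645345234662342)))
 (.one (.stab 0 [])))
 (.fork (.one (.edge 5 (wOf 14 0x58312345312312) 5 (wOf 24 0x21323215463423234512346)))
 (.one (.stab 0 []))))
 (.fork (.fork (.one (.edge 4 [0,6,6,4,3,2,1,3,2,6] 5 (wOf 27 0x213210321543645234512345010)))
 (.one (.stab 0 [])))
 (.fork (.one (.edge 5 [0,4,3,6,4,3,2,1,3,7,6] 5 (wOf 26 0x1215432175453462346123462)))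
 (.one (.stab 0 [])))))
 (.fork (.fork (.fork (.one (.edge 8 [6,6,4,3,5] 5 (wOf 23 0x32432103643234671234320)))
 (.one (.stab 0 [])))
 (.fork (.one (.edge 5 (wOf 15 0x573454312345342) 5 (wOf 23 0x1054325545346423123430)))
 (.one (.stab 0 []))))
 (.fork (.fork (.one (.edge 5 [0,2,6,4,3,2,1,5,8,5,4,3] 5 (wOf 22 0x104321753453234581234)))
 (.one (.stab 0 [])))
 (.fork (.one (.edge 5 (wOf 14 0x34601234572346) 9 (wOf 25 0x323432132763452323454312)))
 (.one (.stab 0 [])))))))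
 (.fork (.fork (.fork (.fork (.fork (.one (.edge 8 [] 2 [1,0,2,5,5,7]))
 (.one (.edge 5 [0,1,8,5,4,3,2,1,5,4,3,5] 9 (wOf 21 0x66643234123012346410))))
 (.fork (.one (.edge 5 (wOf 13 0x4646312345320) 5 (wOf 26 0x23276432154532345342323461)))
 (.one (.stab 0 []))))
 (.fork (.fork (.one (.edge 5 (wOf 13 0x7455345123012) 5 (wOf 13 0x4575340123012)))
 (.one (.stab 0 [])))
 (.fork (.one (.edge 5 [3,5,4,3,2,1,6,4,6,4,3] 5 (wOf 20 0x34323542323123455423)))
 (.one (.stab 0 [])))))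
 (.fork (.fork (.fork (.one (.edge 7 [5,4,3,2,1,0,3,4,5,5,4,6] 6 (wOf 18 0x232534553234312321)))
 (.one (.stab 0 [])))
 (.fork (.one (.edge 5 (wOf 14 0x73450123454323) 5 (wOf 27 0x10232143854632346723461201)))
 (.one (.stab 0 []))))
 (.fork (.fork (.one (.edge 5 (wOf 16 0x1634623463234312) 5 (wOf 27 0x106432135432634512323457412)))
 (.one (.stab 0 [])))
 (.fork (.one (.edge 5 (wOf 13 0x6123467234531) 5 (wOf 25 0x2132764321346723462301231)))
 (.one (.stab 0 []))))))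
 (.fork (.fork (.fork (.fork (.one (.edge 4 [5,4,3,5,4,7,6] 5 (wOf 13 0x5452345234585)))
 (.one (.stab 0 [])))
 (.fork (.one (.edge 5 (wOf 14 0x66231234632301) 5 (wOf 22 0x1232432854532346123450)))
 (.one (.stab 0 []))))
 (.fork (.fork (.one (.edge 8 [0,5,4,3,2,1,0,3,5,8] 5 (wOf 25 0x1210321432545323453234123)))
 (.one (.stab 0 [])))
 (.fork (.one (.edge 5 (wOf 17 0x34732345123454323) 5 (wOf 25 0x210321043545823454123010)))
 (.one (.stab 0 [])))))
 (.fork (.fork (.fork (.one (.edge 5 (wOf 13 0x5301234534323) 5 (wOf 23 0x15432325463234512346201)))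
 (.one (.stab 0 [])))
 (.fork (.one (.edge 5 (wOf 16 0x672312345323453) 5 (wOf 27 0x46432103214634662342312345)))
 (.one (.stab 0 []))))
 (.fork (.fork (.one (.edge 5 (wOf 15 0x634612346323431) 5 (wOf 22 0x3214321545453423012345)))
 (.one (.stab 0 [])))
 (.fork (.one (.edge 5 (wOf 14 0x84534550123401) 9 (wOf 24 0x543213454323455123234512)))
 (.one (.stab 0 []))))))))

/-- a part of the facts -/
noncomputable def twFactsT94 : BT Fact := (.fork (.fork (.fork (.fork (.fork (.fork (.one (.edge 3 (wOf 16 0x453234581230123) 3 (wOf 13 0x6734501230123)))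
 (.one (.edge 5 (wOf 13 0x6612346123420) 9 (wOf 26 0x36643213266463462345823123))))
 (.fork (.one (.edge 5 (wOf 17 0x21853234623458232) 5 (wOf 23 0x2143643234681234534010)))
 (.one (.stab 0 []))))
 (.fork (.fork (.one (.edge 8 [3,4,3,2,1,3,2,1,0,5,5,7] 5 (wOf 24 0x102343213674634232343120)))
 (.one (.stab 0 [])))
 (.fork (.one (.edge 5 [0,3,4,3,6,4,3,2,1,3,5,5] 5 (wOf 24 0x13215432545346234512010)))
 (.one (.stab 0 [])))))
 (.fork (.fork (.fork (.one (.edge 7 [0,2,3,8,5,4,3,2,1,5,4,3] 5 (wOf 27 0x213432103643523453423123412)))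
 (.one (.stab 0 [])))
 (.fork (.one (.edge 5 (wOf 14 0x64230123467312) 5 (wOf 27 0x10554321032463458123454123)))
 (.one (.stab 0 []))))
 (.fork (.fork (.one (.edge 8 [1,3,5,5,7] 5 (wOf 25 0x1213643213545234662312312)))
 (.one (.stab 0 [])))
 (.fork (.one (.edge 5 [0,3,2,1,4,3,2,5,4] 5 (wOf 23 0x10321036643234674323461)))
 (.one (.stab 0 []))))))
 (.fork (.fork (.fork (.fork (.one (.edge 7 [2,5,4,3,2,5,4,3,2,1,3,7] 5 (wOf 22 0x103234584323123423123)))
 (.one (.stab 0 [])))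
 (.fork (.one (.edge 5 (wOf 13 0x6431234632310) 5 (wOf 26 0x21364321366466323461234201)))
 (.one (.stab 0 []))))
 (.fork (.fork (.one (.edge 6 [4,5,4,3,2,1,3,5] 5 (wOf 24 0x12164326846345231234570)))
 (.one (.stab 0 [])))
 (.fork (.one (.edge 5 (wOf 14 0x45346812346432) 5 (wOf 25 0x123264386453234612345232)))
 (.one (.stab 0 [])))))
 (.fork (.fork (.fork (.one (.edge 7 [1,0,3,6,4,3,2,1,3,7] 5 (wOf 20 0x1321534523452345423)))
 (.one (.stab 0 [])))
 (.fork (.one (.edge 5 [0,3,2,1,4,7,6,4,3,2,5] 5 (wOf 24 0x213213216745342312346741)))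
 (.one (.stab 0 []))))
 (.fork (.fork (.one (.edge 6 [3,2,1,4,7,5,4,3] 5 (wOf 27 0x13454321323463454231230120)))
 (.one (.stab 0 [])))
 (.fork (.one (.edge 5 (wOf 14 0x31234573453234) 9 (wOf 27 0x10232643215453234512346610)))
 (.one (.stab 0 [])))))))
 (.fork (.fork (.fork (.fork (.fork (.one (.edge 7 [3,2,1,6,4,3,5] 6 (wOf 21 0x232432645734231234321)))
 (.one (.edge 9 [6,6,4,3,2,1,3,6] 5 (wOf 22 0x1232432753455312345120))))
 (.fork (.one (.edge 5 (wOf 15 0x634601234534230) 5 (wOf 23 0x13245432753454323431210)))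
 (.one (.stab 0 []))))
 (.fork (.fork (.one (.edge 7 [0,4,8,6,4,3,2,1,3,4] 5 (wOf 27 0x13543213213746232346431210)))
 (.one (.stab 0 [])))
 (.fork (.one (.edge 5 (wOf 16 0x2346461234683230) 5 (wOf 22 0x102864634523462346712)))
 (.one (.stab 0 [])))))
 (.fork (.fork (.fork (.one (.edge 5 [1,0,3,6,4,3,2,1,3,7,6] 5 (wOf 21 0x210464634231234552345)))
 (.one (.stab 0 [])))
 (.fork (.one (.edge 5 (wOf 15 0x646012345232010) 5 (wOf 25 0x103213436453452345712342)))
 (.one (.stab 0 []))))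
 (.fork (.fork (.one (.edge 6 [4,6,6,4,3,2,1,5] 5 (wOf 28 0x2454321643215546346232343120)))
 (.one (.stab 0 [])))
 (.fork (.one (.edge 5 [0,3,6,4,3,2,3,6] 5 (wOf 18 0x103852312345423234)))
 (.one (.stab 0 []))))))
 (.fork (.fork (.fork (.fork (.one (.edge 6 [6,6,4,3,5,4,8] 6 (wOf 19 0x3245463452346823452)))
 (.one (.stab 0 [])))
 (.fork (.one (.edge 5 [1,0,3,2,3,5,4,3,2,1,3] 5 (wOf 24 0x235432132545323455123231)))
 (.one (.stab 0 []))))
 (.fork (.fork (.one (.edge 5 [3,2,3,4,6,4,3,2,1,3,8] 5 (wOf 25 0x121554325453234661234620)))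
 (.one (.stab 0 [])))
 (.fork (.one (.edge 5 [2,4,3,2,7,5,4,3,2,1,5] 5 (wOf 26 0x1210454364323123464634232)))
 (.one (.stab 0 [])))))
 (.fork (.fork (.fork (.one (.edge 8 [2,1,6,4,3,5] 5 (wOf 27 0x13214376432534512346823123)))
 (.one (.stab 0 [])))
 (.fork (.one (.edge 5 (wOf 14 0x63458012346123) 5 (wOf 21 0x21032683461234532010)))
 (.one (.stab 0 []))))
 (.fork (.fork (.one (.edge 5 [4,5,4,3,2,3,2,1,4,3,6] 5 (wOf 23 0x10435432863467123401231)))
 (.one (.stab 0 [])))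
 (.fork (.one (.edge 9 [4,3,2,1,3,5,8,5,4,6] 9 (wOf 25 0x2354325432854583123463234)))
 (.one (.stab 0 []))))))))

/-- a part of the facts -/
noncomputable def twFactsT95 : BT Fact := (.fork (.fork (.fork (.fork (.fork (.fork (.one (.edge 1 [1,3] 4 []))
 (.one (.edge 9 [0,2,1,7,6,4,3] 5 (wOf 24 0x554321325468346234123234))))
 (.fork (.one (.edge 5 (wOf 15 0x634601234552323) 5 (wOf 26 0x24325432764534552312345234)))
 (.one (.stab 0 []))))
 (.fork (.fork (.one (.edge 7 [1,4,5,4,3,2,1,3,8] 5 (wOf 25 0x1032103235453423123467340)))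
 (.one (.stab 0 [])))
 (.fork (.one (.edge 5 [3,6,4,3,2,1,5,4,3,5,4] 5 (wOf 28 0x1243286432164534623462312342)))
 (.one (.stab 0 [])))))
 (.fork (.fork (.fork (.one (.edge 5 [4,3,2,1,5,4,3,6] 6 (wOf 26 0x12104643254853462312345823)))
 (.one (.stab 0 [])))
 (.fork (.one (.edge 5 (wOf 13 0x3451234682323) 5 (wOf 18 0x103642312345734010)))
 (.one (.stab 0 []))))
 (.fork (.fork (.one (.edge 7 (wOf 13 0x5830123462345) 5 (wOf 23 0x1326432645534532312321)))
 (.one (.stab 0 [])))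
 (.fork (.one (.edge 5 [3,7,5,4,3,2,1,3,2,4] 5 (wOf 24 0x10321354634623467234510)))
 (.one (.stab 0 []))))))
 (.fork (.fork (.fork (.fork (.one (.edge 6 [4,3,7,5] 5 (wOf 23 0x25432103864534231234663)))
 (.one (.stab 0 [])))
 (.fork (.one (.edge 5 (wOf 15 0x234612346341232) 5 (wOf 25 0x2764321036746323461234601)))
 (.one (.stab 0 []))))
 (.fork (.fork (.one (.edge 5 [4,3,2,5,4,3,2,1,8,6,4,3] 5 (wOf 18 0x10754323123463432)))
 (.one (.stab 0 [])))
 (.fork (.one (.edge 5 [2,1,6,4,3,2,1,8,5,4,3,6] 5 (wOf 24 0x12466432346123452346301)))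
 (.one (.stab 0 [])))))
 (.fork (.fork (.fork (.one (.edge 5 [0,1,0,4,3,7,5,4,3,2,1,3] 5 (wOf 27 0x13254321854532345123460123)))
 (.one (.stab 0 [])))
 (.fork (.one (.edge 5 (wOf 15 0x754531234673412) 5 (wOf 21 0x385432534123234512301)))
 (.one (.stab 0 []))))
 (.fork (.fork (.one (.edge 5 [1,3,2,5,4,3,2,1,7,5,4,3] 5 (wOf 22 0x1864323546234523123462)))
 (.one (.stab 0 [])))
 (.fork (.one (.edge 7 (wOf 13 0x6630123463010) 9 (wOf 25 0x1323554321323463457231234)))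
 (.one (.stab 0 [])))))))
 (.fork (.fork (.fork (.fork (.fork (.one (.edge 6 [1,3,2,3,2,1,5,4,3,6,7] 8 (wOf 26 0x10213232464634623123463230)))
 (.one (.edge 9 [3,2,4,3,2,1,8,5,4,3,2] 9 (wOf 24 0x464321032453461234580120))))
 (.fork (.one (.edge 5 [2,4,3,7,6,4,3,2,1,3,6] 5 (wOf 24 0x132432105846346234623412)))
 (.one (.stab 0 []))))
 (.fork (.fork (.one (.edge 6 [0,1,4,3,2,6,4,3,2,1,3,6] 5 (wOf 26 0x32343236432546631234623120)))
 (.one (.stab 0 [])))
 (.fork (.one (.edge 5 [2,3,2,3,6,4,3,2,1,3,7] 5 (wOf 21 0x210643646234512346301)))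
 (.one (.stab 0 [])))))
 (.fork (.fork (.fork (.one (.edge 8 [0,1,3,6,4,3,7] 5 (wOf 24 0x364321375463234523123121)))
 (.one (.stab 0 [])))
 (.fork (.one (.edge 5 [5,4,3,2,1,8,5,4,3] 5 (wOf 25 0x132343217543231234663123)))
 (.one (.stab 0 []))))
 (.fork (.fork (.one (.edge 6 [0,1,2,5,4,3,8,5,4,3,2,6] 5 (wOf 24 0x102321554632345534523123)))
 (.one (.stab 0 [])))
 (.fork (.one (.edge 5 (wOf 15 0x763463123467430) 5 (wOf 24 0x254321064853234631234541)))
 (.one (.stab 0 []))))))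
 (.fork (.fork (.fork (.fork (.one (.edge 8 [0,2,1,3,2,1,6,6,4] 6 (wOf 22 0x2132354534231234641231)))
 (.one (.stab 0 [])))
 (.fork (.one (.edge 5 [2,3,5,4,3,2,1,3,6,6] 5 (wOf 19 0x3854632346312346310)))
 (.one (.stab 0 []))))
 (.fork (.fork (.one (.edge 4 (wOf 13 0x5546312345410) 5 (wOf 22 0x103432345412301234553)))
 (.one (.stab 0 [])))
 (.fork (.one (.edge 5 [0,4,6,4,3,2,1,8,6,4,3,6] 5 (wOf 22 0x1232103234643234643120)))
 (.one (.stab 0 [])))))
 (.fork (.fork (.fork (.one (.edge 6 [0,3,2,1,4,3,2,7,6,4,6] 5 (wOf 26 0x12385432154532346123412320)))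
 (.one (.stab 0 [])))
 (.fork (.one (.edge 5 (wOf 17 0x1646634623462340) 5 (wOf 27 0x121325432175463234631234643)))
 (.one (.stab 0 []))))
 (.fork (.fork (.one (.edge 5 [2,6,4,3,2,1,3,5,4,3,6] 5 (wOf 22 0x2343664323461234523463)))
 (.one (.stab 0 [])))
 (.fork (.one (.edge 6 [0,2,4,3,6,4,3,2,1,3] 9 (wOf 24 0x21043215745323412323457)))
 (.one (.stab 0 []))))))))

/-- a part of the facts -/
noncomputable def twFactsT96 : BT Fact := (.fork (.fork (.fork (.fork (.fork (.fork (.one (.edge 6 (wOf 20 0x34664323412301234553) 3 [1,0,3,5,8]))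
 (.one (.edge 5 [2,3,5,5,4,3,2,1,5,4,3] 9 (wOf 24 0x102143754323454123234632))))
 (.fork (.one (.edge 5 (wOf 14 0x30123453123012) 5 (wOf 25 0x2323643213854583234612312)))
 (.one (.stab 0 []))))
 (.fork (.fork (.one (.edge 5 [5,4,3,2,3,6,4,3,2,1,6,4] 5 (wOf 20 0x1323645432312342310)))
 (.one (.stab 0 [])))
 (.fork (.one (.edge 5 (wOf 15 0x663450123455232) 5 (wOf 25 0x3213236432683453123423123)))
 (.one (.stab 0 [])))))
 (.fork (.fork (.fork (.one (.edge 5 [3,2,1,7,5,4,3] 8 (wOf 13 0x6234683452321)))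
 (.one (.stab 0 [])))
 (.fork (.one (.edge 5 [0,2,3,2,1,6,6,4,3,5,4,6] 5 (wOf 25 0x2132324543672346123234532)))
 (.one (.stab 0 []))))
 (.fork (.fork (.one (.edge 5 (wOf 16 0x1554323453463230) 5 (wOf 24 0x103210864634662345123460)))
 (.one (.stab 0 [])))
 (.fork (.one (.edge 5 [2,5,4,3,2,6,4,3,2,1,3,6] 5 (wOf 17 0x21532345012345721)))
 (.one (.stab 0 []))))))
 (.fork (.fork (.fork (.fork (.one (.edge 6 [1,7,6,4,3,5,4,5,7] 7 (wOf 20 0x21032754531234584323)))
 (.one (.stab 0 [])))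
 (.fork (.one (.edge 5 (wOf 16 0x1534634232345732) 5 (wOf 27 0x10643236432646734523123210)))
 (.one (.stab 0 []))))
 (.fork (.fork (.one (.edge 6 [0,3,2,3,6,4,3,2,1] 5 (wOf 22 0x1214364534231234123201)))
 (.one (.stab 0 [])))
 (.fork (.one (.edge 5 [2,3,4,7,5,4,3,2,1,3,5] 5 (wOf 25 0x121343864323464312341232)))
 (.one (.stab 0 [])))))
 (.fork (.fork (.fork (.one (.edge 8 [0,2,3,2,1,4,7,6,4,3,2,6] 5 (wOf 26 0x13232432135453234663123412)))
 (.one (.stab 0 [])))
 (.fork (.one (.edge 5 [0,5,4,3,2,1,6,6,4,3,5] 5 (wOf 23 0x12164323584634232312343)))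
 (.one (.stab 0 []))))
 (.fork (.fork (.one (.edge 5 [0,6,4,3,2,1,5,4,3,6,6] 5 (wOf 26 0x1232134364532345123453234)))
 (.one (.stab 0 [])))
 (.fork (.one (.edge 5 [1,3,4,7,6,4] 9 (wOf 22 0x1021043646234312312010)))
 (.one (.stab 0 [])))))))
 (.fork (.fork (.fork (.fork (.fork (.one (.edge 7 (wOf 13 0x4673451234542) 7 (wOf 24 0x34321323542312346841232)))
 (.one (.edge 10 [0,1,0,2,5,8,5,4,3,2,6] 5 (wOf 26 0x3432132764632346123467230))))
 (.fork (.one (.edge 5 [5,5,4,3,2,1,3,5] 5 (wOf 25 0x1243664321345234663123450)))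
 (.one (.stab 0 []))))
 (.fork (.fork (.one (.edge 8 [0,2,3,2,1,0,5,5,4,3,5,8] 5 (wOf 26 0x21326432176463423123455321)))
 (.one (.stab 0 [])))
 (.fork (.one (.edge 5 [3,2,1,7,6,4,3,6] 5 (wOf 24 0x364323214864323468123234)))
 (.one (.stab 0 [])))))
 (.fork (.fork (.fork (.one (.edge 7 [0,2,1,5,4,3,6,4,6] 5 (wOf 20 0x12132346464312341231)))
 (.one (.stab 0 [])))
 (.fork (.one (.edge 5 (wOf 14 0x31234673123432) 5 (wOf 24 0x13213236458323453123121)))
 (.one (.stab 0 []))))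
 (.fork (.fork (.one (.edge 7 [2,1,5,4,3,2,1,0,6,4,3] 5 (wOf 23 0x21324321546345723452312)))
 (.one (.stab 0 [])))
 (.fork (.one (.edge 8 [2,3,2,4,5,4,3,2,1,5] 9 (wOf 17 0x3664632312345721)))
 (.one (.stab 0 []))))))
 (.fork (.fork (.fork (.fork (.one (.edge 3 [1,3,4,6] 5 (wOf 20 0x54323546345234632342)))
 (.one (.stab 0 [])))
 (.fork (.one (.edge 5 (wOf 15 0x632346634512340) 5 (wOf 24 0x232343254532345831234510)))
 (.one (.stab 0 []))))
 (.fork (.fork (.one (.edge 6 [0,2,3,2,1,5,4,3,5,8] 5 (wOf 27 0x10764323643764231234623457)))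
 (.one (.stab 0 [])))
 (.fork (.one (.edge 5 (wOf 16 0x3584523461234523) 5 (wOf 23 0x1021347645323461234681)))
 (.one (.stab 0 [])))))
 (.fork (.fork (.fork (.one (.edge 5 (wOf 15 0x734552345123012) 5 (wOf 20 0x37643623462323463423)))
 (.one (.stab 0 [])))
 (.fork (.one (.edge 5 (wOf 13 0x6345712346320) 5 (wOf 22 0x321366646323461234612)))
 (.one (.stab 0 []))))
 (.fork (.fork (.one (.edge 5 [8,6,4,3,2,1,0,6,4,3,5,8] 5 (wOf 24 0x54321643623463123468632)))
 (.one (.stab 0 [])))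
 (.fork (.one (.edge 9 [0,1,2,3,2,1,4,8,5,4,3,5] 9 (wOf 16 0x3745542323123210)))
 (.one (.stab 0 []))))))))

/-- a part of the facts -/
noncomputable def twFactsT97 : BT Fact := (.fork (.fork (.fork (.fork (.fork (.fork (.one (.stab 0 [3]))
 (.one (.edge 9 (wOf 13 0x6345834512320) 5 (wOf 26 0x15436432103645234682341232))))
 (.fork (.one (.edge 6 [3,2,1,6,4,3,2,5,8,5] 5 (wOf 26 0x10343215432634612346623010)))
 (.one (.stab 0 []))))
 (.fork (.fork (.one (.edge 5 [1,0,3,2,1,5,4,7,6,4,3] 5 (wOf 18 0x10634231234585432)))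
 (.one (.stab 0 [])))
 (.fork (.one (.edge 5 (wOf 15 0x346812346431230) 5 (wOf 25 0x2321064327545345723412321)))
 (.one (.stab 0 [])))))
 (.fork (.fork (.fork (.one (.edge 4 [0,5,4,3,2,1,3,2,4,7,6,4] 5 (wOf 22 0x6432326467346234512312)))
 (.one (.stab 0 [])))
 (.fork (.one (.edge 5 (wOf 14 0x53123452343232) 5 (wOf 24 0x10213234534583231234612)))
 (.one (.stab 0 []))))
 (.fork (.fork (.one (.edge 6 [6,6,4,3,2,1,3,2] 5 (wOf 24 0x32154321546346823412301)))
 (.one (.stab 0 [])))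
 (.fork (.one (.edge 5 (wOf 15 0x623123468634231) 5 (wOf 23 0x2321435463234572312341)))
 (.one (.stab 0 []))))))
 (.fork (.fork (.fork (.fork (.one (.edge 8 [0,1,3,2,3,6] 5 (wOf 25 0x102154328546346234123012)))
 (.one (.stab 10 (wOf 22 0x1343236453423123458323))))
 (.fork (.one (.edge 5 (wOf 15 0x662346312346740) 5 (wOf 23 0x3210854673234612323431)))
 (.one (.stab 0 []))))
 (.fork (.fork (.one (.edge 8 [4,3,2,1,0,6,4,6,4,3,6] 5 (wOf 24 0x214321321664532345731231)))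
 (.one (.stab 0 [])))
 (.fork (.one (.edge 5 (wOf 13 0x3123458543120) 5 (wOf 25 0x1054321643645234123123453)))
 (.one (.stab 0 [])))))
 (.fork (.fork (.fork (.one (.edge 7 (wOf 17 0x12645853461234520) 5 (wOf 28 0x103432543216432345543123401)))
 (.one (.stab 0 [])))
 (.fork (.one (.edge 5 [6,4,3,2,1,5,4,5,4,3] 5 (wOf 22 0x4326432583463123464120)))
 (.one (.stab 0 []))))
 (.fork (.fork (.one (.edge 8 [0,1,6,4,6,4,3,6] 5 (wOf 24 0x132136432673432312346423)))
 (.one (.stab 0 [])))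
 (.fork (.one (.edge 5 (wOf 15 0x575230123453010) 9 (wOf 22 0x125432646345723123010)))
 (.one (.stab 0 [])))))))
 (.fork (.fork (.fork (.fork (.fork (.one (.edge 7 (wOf 18 0x34732312301234323) 4 [0,2,1,0]))
 (.one (.edge 5 [3,2,4,3,6,4,3,2,1,6,4,3] 9 (wOf 20 0x12132453234573234632))))
 (.fork (.one (.edge 5 [0,2,4,3,2,1,6,4,3] 5 (wOf 26 0x2643254321754532346234610)))
 (.one (.stab 0 []))))
 (.fork (.fork (.one (.edge 5 [2,3,2,1,6,6,4,3] 5 (wOf 21 0x432134754323123454312)))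
 (.one (.stab 0 [])))
 (.fork (.one (.edge 5 (wOf 14 0x53451234534301) 5 (wOf 26 0x1021343232764531234573010)))
 (.one (.stab 0 [])))))
 (.fork (.fork (.fork (.one (.edge 6 [4,5,4,3] 5 (wOf 18 0x432645734523455232)))
 (.one (.stab 0 [])))
 (.fork (.one (.edge 5 [0,2,3,2,1,0,4,7,5,4,3,6] 5 (wOf 25 0x2323438543234512312345832)))
 (.one (.stab 0 []))))
 (.fork (.fork (.one (.edge 5 (wOf 14 0x34612346631230) 5 (wOf 23 0x10343213764623234663120)))
 (.one (.stab 0 [])))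
 (.fork (.one (.edge 5 (wOf 17 0x32345312346632310) 5 (wOf 23 0x13264327546345231234663)))
 (.one (.stab 0 []))))))
 (.fork (.fork (.fork (.fork (.one (.edge 6 [1,0,4,8,5,4,3,5] 6 (wOf 25 0x2106432175453234612345721)))
 (.one (.stab 0 [])))
 (.fork (.one (.edge 5 (wOf 13 0x4671232345532) 5 (wOf 27 0x12143213254632346412323464)))
 (.one (.stab 0 []))))
 (.fork (.fork (.one (.edge 7 [2,6,4,3,2,1,6,6,4,3,6] 5 (wOf 23 0x21543213462345832345121)))
 (.one (.stab 0 [])))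
 (.fork (.one (.edge 5 (wOf 13 0x8501232346732) 5 (wOf 21 0x123235545346234623462)))
 (.one (.stab 0 [])))))
 (.fork (.fork (.fork (.one (.edge 8 [3,2,1,6,4,3,7,6] 5 (wOf 25 0x343854323454323123462342)))
 (.one (.stab 0 [])))
 (.fork (.one (.edge 5 [4,3,2,1,0,3,6,4,3,2,7,6] 5 (wOf 26 0x10216432643754623123453120)))
 (.one (.stab 0 []))))
 (.fork (.fork (.one (.edge 5 (wOf 16 0x457345123464320) 5 (wOf 22 0x4323214646834231234610)))
 (.one (.stab 0 [])))
 (.fork (.one (.edge 5 [0,2,1,4,7,6,4,3,6] 9 (wOf 25 0x1326432136458323464231201)))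
 (.one (.stab 0 []))))))))

/-- a part of the facts -/
noncomputable def twFactsT98 : BT Fact := (.fork (.fork (.fork (.fork (.fork (.fork (.one (.edge 3 (wOf 19 0x2323546432345323466) 2 [1,2,1,3,2,1,0,8,5]))
 (.one (.edge 5 (wOf 14 0x57534501234520) 9 (wOf 25 0x1321432154534523234634521))))
 (.fork (.one (.edge 5 [4,3,2,1,5,4,8,5,4,3] 5 (wOf 24 0x364321321345323430123123)))
 (.one (.stab 0 []))))
 (.fork (.fork (.one (.edge 7 [0,2,6,4,3,2,1,7,5,4,3,6] 5 (wOf 25 0x123864354323462312345346)))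
 (.one (.stab 0 [])))
 (.fork (.one (.edge 5 [0,4,3,2,1,0,5,4,3,7,6] 5 (wOf 26 0x10321435432634512346342010)))
 (.one (.stab 0 [])))))
 (.fork (.fork (.fork (.one (.edge 5 [1,0,4,3,2,1,5,5,4,3] 5 (wOf 23 0x32346435432346234571232)))
 (.one (.stab 0 [])))
 (.fork (.one (.edge 5 (wOf 13 0x3012346632312) 5 (wOf 27 0x43236432136463234534231232)))
 (.one (.stab 0 []))))
 (.fork (.fork (.one (.edge 7 [2,5,4,3,2,1,6,4,3,6,6] 5 (wOf 23 0x2436432543123451234584)))
 (.one (.stab 0 [])))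
 (.fork (.one (.edge 5 [3,4,3,7,5,4,3,2,1,3,5] 5 (wOf 25 0x232432164832345423123458)))
 (.one (.stab 0 []))))))
 (.fork (.fork (.fork (.fork (.one (.edge 8 (wOf 13 0x3454501234542) 5 (wOf 20 0x64321584634230123463)))
 (.one (.stab 0 [])))
 (.fork (.one (.edge 5 [1,0,3,2,1,3,5,4,3,7,6] 5 (wOf 18 0x108643231234584232)))
 (.one (.stab 0 []))))
 (.fork (.fork (.one (.edge 5 (wOf 15 0x583123453230120) 5 (wOf 25 0x2103464321534323123455120)))
 (.one (.stab 0 [])))
 (.fork (.one (.edge 5 (wOf 14 0x64534631234682) 5 (wOf 25 0x1864325432554634671231234)))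
 (.one (.stab 0 [])))))
 (.fork (.fork (.fork (.one (.edge 6 [0,4,5,4,3,2,1,3,5,5] 5 (wOf 24 0x213254321583453234632343)))
 (.one (.stab 0 [])))
 (.fork (.one (.edge 5 [1,4,3,6,4,3,2,1,6,4,3,7] 5 (wOf 22 0x2321432753452312345312)))
 (.one (.stab 0 []))))
 (.fork (.fork (.one (.edge 5 (wOf 13 0x6345801234620) 5 (wOf 21 0x102132753462323467321)))
 (.one (.stab 0 [])))
 (.fork (.one (.edge 8 [1,3,6,6] 9 (wOf 22 0x2643264553455234523423)))
 (.one (.stab 0 [])))))))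
 (.fork (.fork (.fork (.fork (.fork (.one (.edge 6 (wOf 19 0x2432664583452345234) 3 [1,0,3,2,5,5,7]))
 (.one (.edge 9 [4,5,4,3,2,1,3,5,5] 5 (wOf 16 0x1864632345323468))))
 (.fork (.one (.edge 5 (wOf 14 0x31234585432301) 5 (wOf 27 0x13264321643623466312343210)))
 (.one (.stab 0 []))))
 (.fork (.fork (.one (.edge 6 [0,1,2,1,5,5,4,3,5,8] 5 (wOf 21 0x354323646432312342323)))
 (.one (.stab 0 [])))
 (.fork (.one (.edge 5 (wOf 13 0x5345123458410) 5 (wOf 23 0x1325432645345723123010)))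
 (.one (.stab 0 [])))))
 (.fork (.fork (.fork (.one (.edge 8 [1,2,1,6,4,3,5,8,5] 5 (wOf 25 0x1454321321746345234623010)))
 (.one (.stab 0 [])))
 (.fork (.one (.edge 5 (wOf 14 0x63450123466232) 5 (wOf 22 0x132103546346323455123)))
 (.one (.stab 0 []))))
 (.fork (.fork (.one (.edge 6 (wOf 13 0x5853460123451) 5 (wOf 24 0x325432103462346431234120)))
 (.one (.stab 0 [])))
 (.fork (.one (.edge 5 [3,4,5,4,3,2,1,3,7] 5 (wOf 26 0x3213245432645323468123460)))
 (.one (.stab 0 []))))))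
 (.fork (.fork (.fork (.fork (.one (.edge 3 [3,2,1,5,4,3,2,6,6] 5 (wOf 24 0x326432136453234581232346)))
 (.one (.stab 0 [])))
 (.fork (.one (.edge 5 [0,2,3,7,6,4,3,2,1,3,6] 5 (wOf 21 0x432136643234512346830)))
 (.one (.stab 0 []))))
 (.fork (.fork (.one (.edge 5 [1,0,4,3,2,1,5,5,4,3,6] 5 (wOf 26 0x32164321321645345732340120)))
 (.one (.stab 0 [])))
 (.fork (.one (.edge 5 (wOf 15 0x634612346323458) 5 (wOf 24 0x215432321643234574301230)))
 (.one (.stab 0 [])))))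
 (.fork (.fork (.fork (.one (.edge 7 (wOf 16 0x3823454531234630) 5 (wOf 25 0x132324643552346123234673)))
 (.one (.stab 0 [])))
 (.fork (.one (.edge 5 [0,3,2,1,4,3,6,4,3,7,6] 5 (wOf 27 0x10232186432546323468312341)))
 (.one (.stab 0 []))))
 (.fork (.fork (.one (.edge 5 (wOf 17 0x2463461234584123) 5 (wOf 27 0x121454321324854323466341231)))
 (.one (.stab 0 [])))
 (.fork (.one (.edge 7 [2,3,5,4,3,2,1,5,4,3] 9 (wOf 26 0x21321328543546234612346710)))
 (.one (.stab 0 []))))))))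

/-- a part of the facts -/
noncomputable def twFactsT99 : BT Fact := (.fork (.fork (.fork (.fork (.fork (.fork (.one (.edge 2 [6,6,4,3,6] 2 (wOf 17 0x32734543234532345)))
 (.one (.edge 9 [0,2,3,2,1,0,5,4,3,5,8] 9 (wOf 25 0x1214321032546346612345123))))
 (.fork (.one (.edge 5 (wOf 16 0x1734632345323460) 5 (wOf 25 0x321343213468452323431230)))
 (.one (.stab 0 []))))
 (.fork (.fork (.one (.edge 6 [1,4,8,5,4,3,6,4] 5 (wOf 24 0x23254321574632345231230)))
 (.one (.stab 0 [])))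
 (.fork (.one (.edge 5 (wOf 15 0x754631234643012) 5 (wOf 24 0x10213543546234682341232)))
 (.one (.stab 0 [])))))
 (.fork (.fork (.fork (.one (.edge 8 [1,5,8,5,4,3,2,3] 6 (wOf 25 0x1043213643542323453123464)))
 (.one (.stab 0 [])))
 (.fork (.one (.edge 5 [1,0,2,5,4,3,5,5,7] 5 (wOf 25 0x1321676432545345412312346)))
 (.one (.stab 0 []))))
 (.fork (.fork (.one (.edge 6 [4,5,4,3,2,1,6,6,4,3,5] 5 (wOf 20 0x1021634623430123123)))
 (.one (.stab 0 [])))
 (.fork (.one (.edge 5 (wOf 13 0x5346812346430) 5 (wOf 26 0x3213643215467323463123210)))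
 (.one (.stab 0 []))))))
 (.fork (.fork (.fork (.fork (.one (.edge 6 [2,3,5,4,5,4,8] 8 (wOf 22 0x1214321683453234581201)))
 (.one (.stab 0 [])))
 (.fork (.one (.edge 5 (wOf 15 0x674623451234540) 5 (wOf 26 0x1543232143754323466123423)))
 (.one (.stab 0 []))))
 (.fork (.fork (.one (.edge 5 (wOf 16 0x1662345123468230) 6 (wOf 22 0x1323643623463231234550)))
 (.one (.stab 0 [])))
 (.fork (.one (.edge 5 (wOf 16 0x3545823451234662) 5 (wOf 25 0x105432164585342312345120)))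
 (.one (.stab 0 [])))))
 (.fork (.fork (.fork (.one (.edge 8 [1,6,4,3,2,6,6] 5 (wOf 28 0x102134321354323467412301201)))
 (.one (.stab 0 [])))
 (.fork (.one (.edge 5 (wOf 13 0x6345712345231) 5 (wOf 26 0x18643254321346623462345820)))
 (.one (.stab 0 []))))
 (.fork (.fork (.one (.edge 5 (wOf 13 0x5312345743230) 5 (wOf 25 0x321348643523423123464301)))
 (.one (.stab 0 [])))
 (.fork (.one (.edge 6 [0,2,3,2,1,5,5,4,3,5,8] 9 (wOf 21 0x321043545234623412310)))
 (.one (.stab 0 [])))))))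
 (.fork (.fork (.fork (.fork (.fork (.one (.stab 6 (wOf 22 0x3286432534553234123012)))
 (.one (.edge 5 (wOf 18 0x124645345723462321) 9 (wOf 22 0x3234543574231234542312))))
 (.fork (.one (.edge 5 [0,2,1,3,5,5,7] 5 (wOf 25 0x4326643216453234512345723)))
 (.one (.stab 0 []))))
 (.fork (.fork (.one (.edge 6 [0,2,1,0,3] 5 (wOf 20 0x21343546323461231210)))
 (.one (.stab 0 [])))
 (.fork (.one (.edge 5 (wOf 14 0x63123466323430) 5 (wOf 21 0x14643234671234231232)))
 (.one (.stab 0 [])))))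
 (.fork (.fork (.fork (.one (.edge 7 [0,2,3,6,4,3,2,1,3,8,5] 5 (wOf 25 0x1054321643546723462312341)))
 (.one (.stab 0 [])))
 (.fork (.one (.edge 5 (wOf 15 0x754534612345820) 5 (wOf 24 0x123236643623458123423012)))
 (.one (.stab 0 []))))
 (.fork (.fork (.one (.edge 5 (wOf 13 0x7631234534323) 5 (wOf 23 0x21432134643234554312321)))
 (.one (.stab 0 [])))
 (.fork (.one (.edge 5 (wOf 17 0x2645312345341232) 5 (wOf 25 0x121321754323454312345234)))
 (.one (.stab 0 []))))))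
 (.fork (.fork (.fork (.fork (.one (.edge 5 (wOf 14 0x67453464123012) 5 [2,3,2,3,7,5,4,3,2,5,4]))
 (.one (.stab 0 [])))
 (.fork (.one (.edge 5 (wOf 14 0x46431234632312) 5 (wOf 26 0x23213234326745323463123451)))
 (.one (.stab 0 []))))
 (.fork (.fork (.one (.edge 8 [0,3,2,1,3,4] 5 (wOf 25 0x104664321346234623453123)))
 (.one (.stab 0 [])))
 (.fork (.one (.edge 5 [0,2,4,3,2,1,7,6,4,3] 5 (wOf 24 0x123243210663462343231230)))
 (.one (.stab 0 [])))))
 (.fork (.fork (.fork (.one (.edge 6 [5,4,3,2,1,6,4,3,5,4] 5 (wOf 24 0x13210643545823412301201)))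
 (.one (.stab 0 [])))
 (.fork (.one (.edge 5 [1,3,2,1,6,4,3,2,1] 5 (wOf 24 0x10213234664323458312301)))
 (.one (.stab 0 []))))
 (.fork (.fork (.one (.edge 5 (wOf 14 0x64531234662341) 5 (wOf 24 0x147643213452346623412312)))
 (.one (.stab 0 [])))
 (.fork (.one (.edge 5 (wOf 14 0x63457301234120) 9 (wOf 24 0x12323854534623464123201)))
 (.one (.stab 0 []))))))))

/-- a part of the facts -/
noncomputable def twFactsT100 : BT Fact := (.fork (.fork (.fork (.fork (.fork (.fork (.one (.edge 3 (wOf 20 0x35543523464123012346) 3 (wOf 15 0x572345012301231)))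
 (.one (.edge 5 (wOf 13 0x8523455123210) 9 (wOf 24 0x32464325463423123466423))))
 (.fork (.one (.edge 5 (wOf 13 0x4630123455323) 5 (wOf 20 0x12432543123458512342)))
 (.one (.stab 0 []))))
 (.fork (.fork (.one (.edge 8 [2,1,3,5,8,5,4,6] 5 (wOf 27 0x123764321364632345234673121)))
 (.one (.stab 0 [])))
 (.fork (.one (.edge 5 [0,5,4,5,5,4,3,2,1,3] 5 (wOf 24 0x35432135432345451234230)))
 (.one (.stab 0 [])))))
 (.fork (.fork (.fork (.one (.edge 7 (wOf 14 0x67453412323454) 5 (wOf 21 0x21032834612323461232)))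
 (.one (.stab 0 [])))
 (.fork (.one (.edge 5 [0,2,3,2,1,6,4,3,5,8] 5 (wOf 27 0x154321323543645234672312345)))
 (.one (.stab 0 []))))
 (.fork (.fork (.one (.edge 4 [1,2,5,4,3,5,4,5,4,8] 5 (wOf 25 0x3432132186463423123123466)))
 (.one (.stab 0 [])))
 (.fork (.one (.edge 5 (wOf 16 0x1646632346234610) 5 (wOf 23 0x12145432864312346343121)))
 (.one (.stab 0 []))))))
 (.fork (.fork (.fork (.fork (.one (.edge 8 (wOf 15 0x553462312345532) 5 (wOf 19 0x2103554634523123430)))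
 (.one (.stab 0 [])))
 (.fork (.one (.edge 5 [0,2,6,6,4,3,2,1,6,4,3,6] 5 (wOf 27 0x254325432643862345123467210)))
 (.one (.stab 0 []))))
 (.fork (.fork (.one (.edge 6 [0,4,3,2,1,0,7,5,4,3] 5 (wOf 22 0x3210454632312345234673)))
 (.one (.stab 0 [])))
 (.fork (.one (.edge 5 (wOf 14 0x31234575232310) 5 (wOf 26 0x10232864321646323455234231)))
 (.one (.stab 0 [])))))
 (.fork (.fork (.fork (.one (.edge 7 [2,3,2,5,4,3,2,1,0,3,6,7] 5 (wOf 27 0x10232145432634542312346310)))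
 (.one (.stab 0 [])))
 (.fork (.one (.edge 5 (wOf 14 0x57345123462343) 5 (wOf 27 0x10321464321534523458234210)))
 (.one (.stab 0 []))))
 (.fork (.fork (.one (.edge 6 [2,5,4,3,2,1,5,5,4,6] 5 (wOf 27 0x123432154325453452312346812)))
 (.one (.stab 0 [])))
 (.fork (.one (.edge 5 [4,8,5,4,3,2,1,5,4,3] 9 (wOf 24 0x103215432553452312345712)))
 (.one (.stab 0 [])))))))
 (.fork (.fork (.fork (.fork (.fork (.one (.edge 6 [6,6,4,3,6] 8 (wOf 22 0x3243234684532312346210)))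
 (.one (.edge 5 [0,1,0,3,2,1,4,8,5,4,3] 10 (wOf 21 0x243234574323412301234))))
 (.fork (.one (.edge 5 (wOf 15 0x463458123452301) 5 (wOf 22 0x7543232463461234623462)))
 (.one (.stab 0 []))))
 (.fork (.fork (.one (.edge 7 [0,2,4,5,4,3,2,1,6,4,3,6] 5 (wOf 25 0x321432103546234512345841)))
 (.one (.stab 0 [])))
 (.fork (.one (.edge 5 [5,4,3,2,1,5,4,3,5,5,4,6] 5 (wOf 25 0x2132134323466423123467120)))
 (.one (.stab 0 [])))))
 (.fork (.fork (.fork (.one (.edge 5 [1,0,3,4,6,4,3,2,1,3,6,8] 8 (wOf 23 0x26432132466323123463432)))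
 (.one (.stab 0 [])))
 (.fork (.one (.edge 5 (wOf 13 0x8531234583230) 5 (wOf 27 0x132132166432553453423123450)))
 (.one (.stab 0 []))))
 (.fork (.fork (.one (.edge 6 [2,1,3,7,5] 5 (wOf 26 0x24326432137543234512345510)))
 (.one (.stab 0 [])))
 (.fork (.one (.edge 5 (wOf 15 0x345451234542320) 5 (wOf 25 0x3214325432545432346123201)))
 (.one (.stab 0 []))))))
 (.fork (.fork (.fork (.fork (.one (.edge 7 (wOf 13 0x6466123234632) 5 (wOf 23 0x32664321323457423234641)))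
 (.one (.stab 0 [])))
 (.fork (.one (.edge 5 [0,1,2,1,3,2,1,6,4,3,5,8] 5 (wOf 25 0x321032134754323457323123)))
 (.one (.stab 0 []))))
 (.fork (.fork (.one (.edge 5 (wOf 16 0x573123453234530) 5 (wOf 27 0x210432185432645345123454310)))
 (.one (.stab 0 [])))
 (.fork (.one (.edge 5 (wOf 13 0x1231234553453) 5 (wOf 22 0x6432132466346123457012)))
 (.one (.stab 0 [])))))
 (.fork (.fork (.fork (.one (.edge 8 [1,2,4,5,5,4,3] 5 (wOf 25 0x1043543234546323123423120)))
 (.one (.stab 0 [])))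
 (.fork (.one (.edge 5 (wOf 14 0x53123457342323) 5 (wOf 25 0x2354321321745345234641230)))
 (.one (.stab 0 []))))
 (.fork (.fork (.one (.edge 5 [3,6,6,4,3,2,1,6,4,3,5,7] 5 (wOf 23 0x1543210534582345231231)))
 (.one (.stab 0 [])))
 (.fork (.one (.edge 9 (wOf 13 0x7623454012010) 5 (wOf 25 0x432136432634531234583121)))
 (.one (.stab 0 []))))))))

/-- a part of the facts -/
noncomputable def twFactsT101 : BT Fact := (.fork (.fork (.fork (.fork (.fork (.fork (.one (.edge 2 [] 1 [0,3,2]))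
 (.one (.edge 9 [2,1,0,3,2,1,3] 5 (wOf 27 0x13234321854632345123460123))))
 (.fork (.one (.edge 5 (wOf 17 0x10623457234523431) 5 (wOf 26 0x13214643215463452323467120)))
 (.one (.stab 0 []))))
 (.fork (.fork (.one (.edge 6 [3,4,6,4,3,8] 5 (wOf 23 0x54321324323461234553201)))
 (.one (.stab 0 [])))
 (.fork (.one (.edge 5 (wOf 15 0x634681234642323) 5 (wOf 26 0x10210376432546345231234543)))
 (.one (.stab 0 [])))))
 (.fork (.fork (.fork (.one (.edge 6 [2,1,5,4,3,5] 5 (wOf 26 0x2135432132645343231234674)))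
 (.one (.stab 0 [])))
 (.fork (.one (.edge 5 [0,3,2,1,5,4,3,2,7,5] 5 (wOf 27 0x485432132324634623461234612)))
 (.one (.stab 0 []))))
 (.fork (.fork (.one (.edge 6 [0,3,2,1,3,7,6] 5 (wOf 26 0x1054364321323453464323123)))
 (.one (.stab 0 [])))
 (.fork (.one (.edge 5 [0,1,7,6,4,3,2,1,5,4,3] 5 (wOf 28 0x134854321321345232346834121)))
 (.one (.stab 0 []))))))
 (.fork (.fork (.fork (.fork (.one (.edge 8 [0,1,7,6,4,3,2,6,8] 5 (wOf 19 0x210632345731231201)))
 (.one (.stab 0 [])))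
 (.fork (.one (.edge 5 [3,2,1,0,4,5,5,4,3] 5 (wOf 25 0x2164375432534512346623210)))
 (.one (.stab 0 []))))
 (.fork (.fork (.one (.edge 8 [0,5,5,4,3,2,1,3,2,7,6] 5 (wOf 24 0x543213643623466312345010)))
 (.one (.stab 0 [])))
 (.fork (.one (.edge 5 (wOf 13 0x4534661234531) 5 (wOf 25 0x210321325463234553451210)))
 (.one (.stab 0 [])))))
 (.fork (.fork (.fork (.one (.edge 8 (wOf 13 0x8531234634512) 5 (wOf 21 0x275432546346232312346)))
 (.one (.stab 0 [])))
 (.fork (.one (.edge 5 [3,2,1,3,7,5,4,3] 5 (wOf 25 0x1232354321543234501234540)))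
 (.one (.stab 0 []))))
 (.fork (.fork (.one (.edge 5 (wOf 15 0x573461234634230) 5 (wOf 15 0x834323123464120)))
 (.one (.stab 0 [])))
 (.fork (.one (.edge 5 (wOf 16 0x1646834523464230) 9 (wOf 19 0x3210634572312343230)))
 (.one (.stab 0 [])))))))
 (.fork (.fork (.fork (.fork (.fork (.one (.edge 5 [0,2,5,8] 5 [0,2,6,6]))
 (.one (.edge 5 (wOf 15 0x634681234612343) 9 (wOf 25 0x1232106432634634542312346))))
 (.fork (.one (.edge 5 (wOf 18 0x21346345234662323) 5 (wOf 24 0x643232854534231234612343)))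
 (.one (.stab 0 []))))
 (.fork (.fork (.one (.edge 5 (wOf 13 0x7553123453423) 5 (wOf 25 0x107643210646734623412310)))
 (.one (.stab 0 [])))
 (.fork (.one (.edge 5 (wOf 13 0x2345123467340) 5 (wOf 27 0x64321854321534632345543121)))
 (.one (.stab 0 [])))))
 (.fork (.fork (.fork (.one (.edge 7 (wOf 16 0x3545823123463412) 6 (wOf 19 0x1021545834323123120)))
 (.one (.stab 0 [])))
 (.fork (.one (.edge 5 [0,5,4,3,2,1,6,6] 5 (wOf 24 0x236435432346231234523466)))
 (.one (.stab 0 []))))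
 (.fork (.fork (.one (.edge 5 (wOf 15 0x673461234523012) 3 (wOf 23 0x2105432674631234643121)))
 (.one (.stab 0 [])))
 (.fork (.one (.edge 5 (wOf 13 0x6345234571231) 5 (wOf 27 0x164327543213523462323463412)))
 (.one (.stab 0 []))))))
 (.fork (.fork (.fork (.fork (.one (.edge 8 (wOf 14 0x46634512346812) 5 (wOf 19 0x3210663432312346830)))
 (.one (.stab 0 [])))
 (.fork (.one (.edge 5 [3,5,4,3,2,1,3,7,5,4,6] 5 (wOf 23 0x13236432645312345553121)))
 (.one (.stab 0 []))))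
 (.fork (.fork (.one (.edge 7 [0,5,4,3,2,1,3,2,5,4,6] 5 (wOf 27 0x43215432164634623461234551)))
 (.one (.stab 0 [])))
 (.fork (.one (.edge 5 (wOf 15 0x612345234662301) 5 (wOf 26 0x18543213216455346232312340)))
 (.one (.stab 0 [])))))
 (.fork (.fork (.fork (.one (.edge 5 (wOf 14 0x53458512346230) 8 (wOf 21 0x343238646323451232343)))
 (.one (.stab 0 [])))
 (.fork (.one (.edge 5 [1,0,3,2,1,6,4,6,4,3,6] 5 (wOf 20 0x32764632346732312301)))
 (.one (.stab 0 []))))
 (.fork (.fork (.one (.edge 5 (wOf 13 0x8523461234320) 5 (wOf 20 0x14321543234545712323)))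
 (.one (.stab 0 [])))
 (.fork (.one (.edge 5 (wOf 14 0x83450123464310) 9 (wOf 26 0x15754321324632346312346401)))
 (.one (.stab 0 []))))))))

/-- a part of the facts -/
noncomputable def twFactsT102 : BT Fact := (.fork (.fork (.fork (.fork (.fork (.fork (.one (.stab 3 (wOf 26 0x32132321432863467123231232)))
 (.one (.edge 5 (wOf 17 0x1234634523452310) 9 (wOf 26 0x1643210354634231234523412))))
 (.fork (.one (.edge 5 (wOf 13 0x8523451234540) 5 (wOf 26 0x32134321543852345123464232)))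
 (.one (.stab 0 []))))
 (.fork (.fork (.one (.edge 8 [0,2,3,2,1,4,7,6,4,3,5] 5 (wOf 24 0x13236643234612345234321)))
 (.one (.stab 0 [])))
 (.fork (.one (.edge 5 (wOf 17 0x10674632345532343) 5 (wOf 22 0x1021864634632312345312)))
 (.one (.stab 0 [])))))
 (.fork (.fork (.fork (.one (.edge 6 [1,5,8,5,4,3,5] 5 (wOf 23 0x10432154634623234583423)))
 (.one (.stab 0 [])))
 (.fork (.one (.edge 5 (wOf 15 0x634601234532340) 5 (wOf 23 0x32108643542312345523453)))
 (.one (.stab 0 []))))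
 (.fork (.fork (.one (.edge 8 [1,2,6,4,3,7,6] 5 (wOf 26 0x10213643213468623452312310)))
 (.one (.stab 0 [])))
 (.fork (.one (.edge 5 [0,4,3,2,1,7,5,4,3,5,4,6] 5 (wOf 23 0x1021326432345431234666)))
 (.one (.stab 0 []))))))
 (.fork (.fork (.fork (.fork (.one (.edge 6 [5,5,4,3,2,7] 5 (wOf 19 0x2643545723234634232)))
 (.one (.stab 0 [])))
 (.fork (.one (.edge 5 (wOf 17 0x10684532346345232) 5 (wOf 25 0x343213543623454312345012)))
 (.one (.stab 0 []))))
 (.fork (.fork (.one (.edge 6 (wOf 13 0x4512346343232) 5 (wOf 27 0x12554321543546234612345712)))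
 (.one (.stab 0 [])))
 (.fork (.one (.edge 5 [3,8,5,4,3,2,1,6,4,3,8] 5 (wOf 25 0x3213236432674312346423123)))
 (.one (.stab 0 [])))))
 (.fork (.fork (.fork (.one (.edge 6 [0,4,6,6,4,3,2,1,3] 5 (wOf 25 0x102134643572345312345401)))
 (.one (.stab 0 [])))
 (.fork (.one (.edge 5 (wOf 13 0x7612345234620) 5 (wOf 22 0x121432834512343012310)))
 (.one (.stab 0 []))))
 (.fork (.fork (.one (.edge 5 (wOf 14 0x46712323453412) 5 (wOf 21 0x275432546312345431232)))
 (.one (.stab 0 [])))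
 (.fork (.one (.edge 5 (wOf 15 0x831234523463232) 9 (wOf 24 0x123213543545234123234531)))
 (.one (.stab 0 [])))))))
 (.fork (.fork (.fork (.fork (.fork (.one (.edge 6 [5,4,3,6,6] 5 (wOf 21 0x327643546234661230120)))
 (.one (.edge 9 [0,3,2,1,5,4,3,6,4,6] 5 (wOf 23 0x36432175432345123458012))))
 (.fork (.one (.edge 5 (wOf 13 0x2345123457323) 5 (wOf 24 0x432134854323123451232343)))
 (.one (.stab 0 []))))
 (.fork (.fork (.one (.edge 6 [0,1,0,6,4,3,6,6,4] 5 (wOf 27 0x21326432543623461234632301)))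
 (.one (.stab 0 [])))
 (.fork (.one (.edge 5 [1,0,2,3,2,1,6,4,3,7,6] 5 (wOf 22 0x1324364553231230123455)))
 (.one (.stab 0 [])))))
 (.fork (.fork (.fork (.one (.edge 3 [0,3,2,1,3,4,3] 5 (wOf 22 0x2386432634581234523410)))
 (.one (.stab 0 [])))
 (.fork (.one (.edge 5 (wOf 14 0x73451232345312) 5 (wOf 25 0x218643254323461234583231)))
 (.one (.stab 0 []))))
 (.fork (.fork (.one (.edge 6 [0,2,3,2,1,4,3] 5 (wOf 14 0x80123123431210)))
 (.one (.stab 0 [])))
 (.fork (.one (.edge 5 [0,2,3,2,5,4,3,2,1,6,6] 5 (wOf 22 0x7543254634672312345232)))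
 (.one (.stab 0 []))))))
 (.fork (.fork (.fork (.fork (.one (.edge 5 (wOf 17 0x13686234523123012) 3 (wOf 20 0x2103645231234312010)))
 (.one (.stab 0 [])))
 (.fork (.one (.edge 5 (wOf 17 0x21645323453234512) 5 (wOf 27 0x32343213543234545123234661)))
 (.one (.stab 0 []))))
 (.fork (.fork (.one (.edge 5 [0,1,3,6,6,4,3,2,1,3,6] 5 (wOf 22 0x3432132345123467232341)))
 (.one (.stab 0 [])))
 (.fork (.one (.edge 5 (wOf 13 0x7546312345432) 5 (wOf 26 0x23432132346463462323412323)))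
 (.one (.stab 0 [])))))
 (.fork (.fork (.fork (.one (.edge 7 [0,2,1,4,3,8,5,4,3] 5 (wOf 26 0x1021076432645345812345120)))
 (.one (.stab 0 [])))
 (.fork (.one (.edge 5 [3,6,4,3,2,3,2,1,4,3] 5 (wOf 26 0x4323643213854583234612301)))
 (.one (.stab 0 []))))
 (.fork (.fork (.one (.edge 5 [0,5,4,3,2,1,8,5,4,3] 5 (wOf 25 0x4321754321545346234312310)))
 (.one (.stab 0 [])))
 (.fork (.one (.edge 9 [1,5,5,7] 5 (wOf 28 0x121321643864532346312312312)))
 (.one (.stab 0 []))))))))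

/-- a part of the facts -/
noncomputable def twFactsT103 : BT Fact := (.fork (.fork (.fork (.fork (.fork (.fork (.one (.edge 1 (wOf 17 0x43764552323463423) 1 [0,3,2,6,4]))
 (.one (.edge 9 [0,1,0,7,6,4,3,2,1,3,2,3] 5 (wOf 26 0x32764326432346123466323423))))
 (.fork (.one (.edge 5 [2,6,4,3,2,1,3,8,5,4,3] 5 (wOf 22 0x134643623467123462312)))
 (.one (.stab 0 []))))
 (.fork (.fork (.one (.edge 7 [2,5,4,3,2,1,0,6,4,3,6,7] 5 (wOf 23 0x21321343523462312345731)))
 (.one (.stab 0 [])))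
 (.fork (.one (.edge 5 [0,7,6,4,3,2,1,5,4,3,7,5] 5 (wOf 25 0x1345432103452345823412321)))
 (.one (.stab 0 [])))))
 (.fork (.fork (.fork (.one (.edge 3 [2,3,2,1,5,4,3,6] 5 (wOf 26 0x1232543213645823452345234)))
 (.one (.stab 0 [])))
 (.fork (.one (.edge 5 [6,4,3,2,1,0,6,4,6,4,3,6] 5 (wOf 23 0x12143264634672323123450)))
 (.one (.stab 0 []))))
 (.fork (.fork (.one (.edge 6 [5,4,3,2,1,6,4,3,6,6,4,6] 5 (wOf 21 0x214325458342312345423)))
 (.one (.stab 0 [])))
 (.fork (.one (.edge 5 [3,4,3,2,3,5,5,4,3,2,1,3] 5 (wOf 24 0x232432643864523234571232)))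
 (.one (.stab 0 []))))))
 (.fork (.fork (.fork (.fork (.one (.edge 4 [0,4,5,4,3,6,8] 5 (wOf 20 0x23264534552345323423)))
 (.one (.stab 0 [])))
 (.fork (.one (.edge 5 (wOf 14 0x64623461234640) 5 [1,0,4,3,2,1,0,3,4,6,4]))
 (.one (.stab 0 []))))
 (.fork (.fork (.one (.edge 5 [2,3,5,4,3,2,1,8,5,4,3] 5 (wOf 22 0x232643754523452345121)))
 (.one (.stab 0 [])))
 (.fork (.one (.edge 5 (wOf 15 0x853012345832301) 5 (wOf 25 0x2543213543864623123453121)))
 (.one (.stab 0 [])))))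
 (.fork (.fork (.fork (.one (.edge 3 [1,0,3,2,1,4,3,2,6,4,6] 5 (wOf 27 0x35454321323462345712312312)))
 (.one (.stab 0 [])))
 (.fork (.one (.edge 5 (wOf 16 0x1672345234642320) 5 (wOf 26 0x1213432543864231234581210)))
 (.one (.stab 0 []))))
 (.fork (.fork (.one (.edge 5 (wOf 14 0x34545123464230) 5 (wOf 26 0x10432132643764323123467010)))
 (.one (.stab 0 [])))
 (.fork (.one (.edge 7 [6,4,3,2,7,6,4,3,2,1] 9 (wOf 22 0x1032134534532346323423)))
 (.one (.stab 0 [])))))))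
 (.fork (.fork (.fork (.fork (.fork (.one (.edge 6 [1,0,4,6,4,6,4,3,2,1] 8 (wOf 21 0x102132674631234553210)))
 (.one (.edge 9 (wOf 15 0x734501234672010) 9 (wOf 23 0x13243543755231234532301))))
 (.fork (.one (.edge 5 [0,2,3,4,6,4,3,2,1,3,5,8] 5 (wOf 25 0x232143210634634523423120)))
 (.one (.stab 0 []))))
 (.fork (.fork (.one (.edge 6 [0,3,2,1,4,5,4,3,6,4,7] 5 (wOf 23 0x32643264753462346612312)))
 (.one (.stab 0 [])))
 (.fork (.one (.edge 5 [2,7,6,4,3,2,1,6,4,3,6] 5 (wOf 23 0x12432643686423123464320)))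
 (.one (.stab 0 [])))))
 (.fork (.fork (.fork (.one (.edge 8 [2,8,6,4,3,2,1,6,4,3,5,8] 5 (wOf 17 0x32754534623234632)))
 (.one (.stab 0 [])))
 (.fork (.one (.edge 5 (wOf 17 0x1834532346323458) 5 (wOf 18 0x321346834232341230)))
 (.one (.stab 0 []))))
 (.fork (.fork (.one (.edge 6 [0,1,5,5,4,3,6] 5 (wOf 24 0x321032432674312346123461)))
 (.one (.stab 0 [])))
 (.fork (.one (.edge 5 [0,3,6,6,4,3,2,1,0,5,4,3] 5 (wOf 21 0x10210346623453123467)))
 (.one (.stab 0 []))))))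
 (.fork (.fork (.fork (.fork (.one (.edge 7 [2,3,2,5,5,7] 6 (wOf 21 0x13543552345123450120)))
 (.one (.stab 0 [])))
 (.fork (.one (.edge 5 (wOf 15 0x534584312345232) 5 (wOf 24 0x643215432543123461234573)))
 (.one (.stab 0 []))))
 (.fork (.fork (.one (.edge 3 (wOf 14 0x63234663451231) 5 (wOf 24 0x121385432634532312345423)))
 (.one (.stab 0 [])))
 (.fork (.one (.edge 5 (wOf 13 0x3123453234530) 5 (wOf 25 0x1554323216453452345234671)))
 (.one (.stab 0 [])))))
 (.fork (.fork (.fork (.one (.edge 6 [0,2,3,2,1,4,6,6,4,3,2,5] 5 (wOf 23 0x1213210583463234634120)))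
 (.one (.stab 0 [])))
 (.fork (.one (.edge 5 [0,3,5,4,6,6,4,3,2,1,3] 5 (wOf 26 0x32134323543234543231234623)))
 (.one (.stab 0 []))))
 (.fork (.fork (.one (.edge 6 [0,1,7,5,4,5,4,3] 5 (wOf 23 0x13543236455323412323412)))
 (.one (.stab 0 [])))
 (.fork (.one (.edge 6 [0,4,3,6,4,3,2,1,3,7] 9 (wOf 23 0x10213214534632312345834)))
 (.one (.stab 0 []))))))))

/-- a part of the facts -/
noncomputable def twFactsT104 : BT Fact := (.fork (.fork (.fork (.fork (.fork (.fork (.one (.edge 4 [8,5] 5 [6]))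
 (.one (.edge 5 [3,5,4,3,2,1,0,3,2,5,5,7] 9 (wOf 23 0x25432643764231234523123))))
 (.fork (.one (.edge 5 (wOf 15 0x661234623466010) 5 (wOf 22 0x121321853462345234620)))
 (.one (.stab 0 []))))
 (.fork (.fork (.one (.edge 3 (wOf 14 0x63401232345532) 5 (wOf 18 0x12532312345842312)))
 (.one (.stab 0 [])))
 (.fork (.one (.edge 5 [1,3,2,5,4,3,2,1,7,5] 5 (wOf 24 0x12432185463234523412010)))
 (.one (.stab 0 [])))))
 (.fork (.fork (.fork (.one (.edge 8 [1,5,4,3,6,6] 5 (wOf 23 0x32103254534623457123460)))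
 (.one (.stab 0 [])))
 (.fork (.one (.edge 5 [4,3,2,1,3,4,7,5] 5 (wOf 22 0x6643213234512312346632)))
 (.one (.stab 0 []))))
 (.fork (.fork (.one (.edge 5 [4,3,2,3,5,4,3,2,1,3,7,6] 5 (wOf 24 0x123215432534571234623210)))
 (.one (.stab 0 [])))
 (.fork (.one (.edge 5 [3,5,4,3,2,1,6,4,3,2,7] 5 (wOf 22 0x3454321345234632345712)))
 (.one (.stab 0 []))))))
 (.fork (.fork (.fork (.fork (.one (.edge 6 [0,4,5,4,3,2,1,3,8,6] 7 (wOf 22 0x3234321323462346323412)))
 (.one (.stab 0 [])))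
 (.fork (.one (.edge 5 (wOf 17 0x1764534672346231) 5 (wOf 26 0x10210432157545345234123120)))
 (.one (.stab 0 []))))
 (.fork (.fork (.one (.edge 6 (wOf 13 0x3231234572323) 5 (wOf 26 0x23210432106764634523412320)))
 (.one (.stab 0 [])))
 (.fork (.one (.edge 5 (wOf 14 0x85312345346230) 5 (wOf 24 0x32132754534523412323451)))
 (.one (.stab 0 [])))))
 (.fork (.fork (.fork (.one (.edge 8 [3,2,1,5,4,3,7,6] 6 (wOf 23 0x36764321634623450123423)))
 (.one (.stab 0 [])))
 (.fork (.one (.edge 5 (wOf 15 0x612345823452320) 5 (wOf 22 0x3864321534543234581230)))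
 (.one (.stab 0 []))))
 (.fork (.fork (.one (.edge 5 (wOf 14 0x64585346012321) 5 (wOf 24 0x12132132345453462312342)))
 (.one (.stab 0 [])))
 (.fork (.one (.edge 5 (wOf 13 0x5346341232345) 9 (wOf 28 0x1043643213235453462346123458)))
 (.one (.stab 0 [])))))))
 (.fork (.fork (.fork (.fork (.fork (.one (.edge 7 [3,5,4,3,2,1,6,4,3,5] 5 (wOf 22 0x3543210346231234583430)))
 (.one (.edge 9 (wOf 16 0x1572345234643210) 10 (wOf 22 0x643213854542323123401))))
 (.fork (.one (.edge 5 (wOf 14 0x64673460123452) 5 (wOf 23 0x1854321534683234631210)))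
 (.one (.stab 0 []))))
 (.fork (.fork (.one (.edge 8 [0,4,3,2,3,4,6,4,3,2,1,8] 5 (wOf 24 0x21043255453468231234530)))
 (.one (.stab 0 [])))
 (.fork (.one (.edge 5 (wOf 13 0x2346123458532) 5 (wOf 26 0x1324854321342323455345310)))
 (.one (.stab 0 [])))))
 (.fork (.fork (.fork (.one (.edge 6 [0,3,4,3,2,1,6,4,3,7,5] 5 (wOf 13 0x6845323123451)))
 (.one (.stab 0 [])))
 (.fork (.one (.edge 5 (wOf 16 0x2466312346234231) 5 (wOf 26 0x23213432103645523452341230)))
 (.one (.stab 0 []))))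
 (.fork (.fork (.one (.edge 6 [3,2,1,5,4,3,2,5,5,4,7] 5 (wOf 25 0x543264321554632346234612)))
 (.one (.stab 0 [])))
 (.fork (.one (.edge 5 (wOf 13 0x3451234663231) 5 (wOf 25 0x3215432764534642312340120)))
 (.one (.stab 0 []))))))
 (.fork (.fork (.fork (.fork (.one (.edge 8 [0,6,4,3,2,1] 6 (wOf 18 0x103862345123234571)))
 (.one (.stab 0 [])))
 (.fork (.one (.edge 5 (wOf 15 0x764512346234620) 5 (wOf 22 0x104355463234512342310)))
 (.one (.stab 0 []))))
 (.fork (.fork (.one (.edge 5 [0,4,3,6,4,3,7,6] 5 (wOf 23 0x45432105453423123468630)))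
 (.one (.stab 0 [])))
 (.fork (.one (.edge 5 [6,4,3,5,4,3,2,1,3,5,8] 5 (wOf 25 0x3213543264634523123455501)))
 (.one (.stab 0 [])))))
 (.fork (.fork (.fork (.one (.edge 8 [0,2,3,2,1,0,6,6,4,3,5,8] 5 (wOf 25 0x1032146432534551234582341)))
 (.one (.stab 0 [])))
 (.fork (.one (.edge 5 (wOf 13 0x6723012345312) 5 (wOf 22 0x1210432545343231234554)))
 (.one (.stab 0 []))))
 (.fork (.fork (.one (.edge 5 [2,3,2,1,5,4,5,5,4,3,2,1] 5 (wOf 25 0x1032186435432345123463412)))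
 (.one (.stab 0 [])))
 (.fork (.one (.edge 9 [2,1,0,6,4,3,2,1,3,7,5] 5 (wOf 25 0x132132343543231230123455)))
 (.one (.stab 0 []))))))))

/-- a part of the facts -/
noncomputable def twFactsT105 : BT Fact := (.fork (.fork (.fork (.fork (.fork (.fork (.one (.stab 1 [8]))
 (.one (.edge 9 [0,3,2,1,3,6] 5 (wOf 23 0x5432543645234231234581))))
 (.fork (.one (.edge 5 [1,0,3,2,1,0,5,5,4,3,6,6] 5 (wOf 18 0x103623123453234573)))
 (.one (.stab 0 []))))
 (.fork (.fork (.one (.edge 5 (wOf 15 0x452345123468310) 5 (wOf 26 0x1323454321646345234671210)))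
 (.one (.stab 0 [])))
 (.fork (.one (.edge 5 [1,0,3,5,8,5,4,3,2,1,3,6] 5 (wOf 24 0x12323432863453123423210)))
 (.one (.stab 0 [])))))
 (.fork (.fork (.fork (.one (.edge 6 [3,2,5,5,4,3,2,1,0,7] 5 (wOf 22 0x1243218546323452346423)))
 (.one (.stab 0 [])))
 (.fork (.one (.edge 5 [3] 5 (wOf 19 0x123523123468301234)))
 (.one (.stab 0 []))))
 (.fork (.fork (.one (.edge 6 [8,6,4,3,2,1,5,4,3,5,8] 5 (wOf 24 0x43254325463452312345412)))
 (.one (.stab 0 [])))
 (.fork (.one (.edge 5 [2,1,0,3,2,1,3,5,4,3] 5 (wOf 21 0x104321643234573234632)))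
 (.one (.stab 0 []))))))
 (.fork (.fork (.fork (.fork (.one (.edge 6 (wOf 13 0x6746012346601) 8 (wOf 21 0x125454634231234674210)))
 (.one (.stab 0 [])))
 (.fork (.one (.edge 5 [3,2,1,0,4,5,8,5,4,3] 5 (wOf 21 0x323264532345346231231)))
 (.one (.stab 0 []))))
 (.fork (.fork (.one (.edge 8 [0,3,2,1,3,5,7,5] 5 (wOf 27 0x21323254325463462312346621)))
 (.one (.stab 0 [])))
 (.fork (.one (.edge 5 [3,5,4,5,4,3,2,1,3,5] 5 (wOf 27 0x121432176432545312345731234)))
 (.one (.stab 0 [])))))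
 (.fork (.fork (.fork (.one (.edge 7 [0,3,5,4,5,4,3,2,1,3,5] 5 (wOf 25 0x2464321323462345823123460)))
 (.one (.stab 0 [])))
 (.fork (.one (.edge 5 (wOf 19 0x232457345123462320) 5 (wOf 25 0x123214321345823412323123)))
 (.one (.stab 0 []))))
 (.fork (.fork (.one (.edge 3 [0,1,3,2,1,3,5,8] 5 (wOf 26 0x12454321324632346312345540)))
 (.one (.stab 0 [])))
 (.fork (.one (.edge 5 [3,2,3,2,4,3,5,4,3,2,1,3] 9 (wOf 25 0x102132432634631234662312)))
 (.one (.stab 0 [])))))))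
 (.fork (.fork (.fork (.fork (.fork (.one (.edge 4 [1,3,2,4,3,2,1,0,3,2,1,8] 7 [0,2,1,0,3,2]))
 (.one (.edge 5 (wOf 14 0x50123234534323) 9 (wOf 17 0x86432346812345012))))
 (.fork (.one (.edge 5 [0,6,4,3,2,1,3,5,4,6,8] 5 (wOf 24 0x132132105463462345123410)))
 (.one (.stab 0 []))))
 (.fork (.fork (.one (.edge 5 (wOf 13 0x3123463454230) 5 (wOf 25 0x213432103575453234312310)))
 (.one (.stab 0 [])))
 (.fork (.one (.edge 5 (wOf 14 0x66346012345423) 5 (wOf 23 0x43213232546634231234310)))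
 (.one (.stab 0 [])))))
 (.fork (.fork (.fork (.one (.edge 6 [3,2,1,3,5,5,7] 5 (wOf 24 0x121326664634623467123462)))
 (.one (.stab 0 [])))
 (.fork (.one (.edge 5 (wOf 13 0x7534670123462) 5 (wOf 23 0x10214321346462312346834)))
 (.one (.stab 0 []))))
 (.fork (.fork (.one (.edge 5 (wOf 14 0x67346312346232) 5 (wOf 23 0x6432105463467234612346)))
 (.one (.stab 0 [])))
 (.fork (.one (.edge 5 [0,5,4,3,2,1,0,5,4,3,6,6] 5 (wOf 23 0x21343643234612345123467)))
 (.one (.stab 0 []))))))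
 (.fork (.fork (.fork (.fork (.one (.edge 7 [0,2,3,5,4,3,2,1,6,4,3] 5 (wOf 25 0x354323764632345812342312)))
 (.one (.stab 0 [])))
 (.fork (.one (.edge 5 (wOf 13 0x5312346345720) 5 (wOf 25 0x1213216432634612345523120)))
 (.one (.stab 0 []))))
 (.fork (.fork (.one (.edge 7 [0,2,1,3,5,5,7] 5 (wOf 26 0x23214364321634572346323461)))
 (.one (.stab 0 [])))
 (.fork (.one (.edge 5 (wOf 14 0x85123462345234) 5 (wOf 24 0x12324321754323463423121)))
 (.one (.stab 0 [])))))
 (.fork (.fork (.fork (.one (.edge 4 [0,1,5,4,3,6,4,3,2,1,3] 5 (wOf 23 0x13237643623123467231231)))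
 (.one (.stab 0 [])))
 (.fork (.one (.edge 5 (wOf 15 0x231234664323012) 5 (wOf 22 0x1754325453452346234120)))
 (.one (.stab 0 []))))
 (.fork (.fork (.one (.edge 5 (wOf 18 0x13646623453123430) 5 (wOf 25 0x2754326432546346712346230)))
 (.one (.stab 0 [])))
 (.fork (.one (.edge 5 [0,2,4,3,2,1,5,4,8,5,4,3] 9 (wOf 17 0x43645723423123012)))
 (.one (.stab 0 []))))))))

/-- a part of the facts -/
noncomputable def twFactsT106 : BT Fact := (.fork (.fork (.fork (.fork (.fork (.fork (.one (.edge 3 [3,2,1,0,3,2,1,4,5,4,3,5] 3 (wOf 23 0x3454321546346623012341)))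
 (.one (.edge 5 [0,2,1,5,5,4,3,5,8] 9 (wOf 23 0x2143215463462345812312))))
 (.fork (.one (.edge 5 [5,4,5,5,4,3,2,1,0,3,4] 5 (wOf 22 0x1243237646323453123466)))
 (.one (.stab 0 []))))
 (.fork (.fork (.one (.edge 8 [0,3,2,1,3,2,7,6] 5 (wOf 23 0x32321043862346732312342)))
 (.one (.stab 0 [])))
 (.fork (.one (.edge 5 [1,6,4,3,5,4,8] 5 (wOf 20 0x12321534523466301234)))
 (.one (.stab 0 [])))))
 (.fork (.fork (.fork (.one (.edge 6 [1,3] 8 (wOf 23 0x1543210554534231234621)))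
 (.one (.stab 0 [])))
 (.fork (.one (.edge 5 [2,4,6,4,3,2,1,8,6,4,3,6] 5 (wOf 23 0x23210432346841232346410)))
 (.one (.stab 0 []))))
 (.fork (.fork (.one (.edge 8 (wOf 14 0x45734612345312) 5 (wOf 27 0x105432136432645834612312010)))
 (.one (.stab 0 [])))
 (.fork (.one (.edge 5 [2,3,4,6,4,3,2,1,5,4,3,8] 5 (wOf 26 0x10215432864634662345123458)))
 (.one (.stab 0 []))))))
 (.fork (.fork (.fork (.fork (.one (.edge 3 (wOf 13 0x6466123423010) 7 (wOf 21 0x34323545732341232345)))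
 (.one (.stab 0 [])))
 (.fork (.one (.edge 5 [0,5,4,3,2,1,3,5,8] 5 (wOf 26 0x43543213216432346463412321)))
 (.one (.stab 0 []))))
 (.fork (.fork (.one (.edge 6 [0,2,1,3,5,5,7] 5 (wOf 23 0x7643213464623234531234)))
 (.one (.stab 0 [])))
 (.fork (.one (.edge 5 (wOf 18 0x216453234634523120) 5 (wOf 25 0x4323215432584634123123468)))
 (.one (.stab 0 [])))))
 (.fork (.fork (.fork (.one (.edge 6 [1,4,3,2,1,0,6,6,4,3,6,7] 5 (wOf 24 0x136432154534623461232345)))
 (.one (.stab 0 [])))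
 (.fork (.one (.edge 5 (wOf 15 0x674531234532312) 5 (wOf 23 0x12485432346712345234501)))
 (.one (.stab 0 []))))
 (.fork (.fork (.one (.edge 5 (wOf 18 0x21573455234512340) 5 (wOf 25 0x213214543646723461234541)))
 (.one (.stab 0 [])))
 (.fork (.one (.edge 3 (wOf 16 0x466346123423010) 9 (wOf 22 0x8643232645345812341230)))
 (.one (.stab 0 [])))))))
 (.fork (.fork (.fork (.fork (.fork (.one (.edge 8 (wOf 22 0x3243213543234545341210) 6 [0,3,2,4]))
 (.one (.edge 9 [0,1,5,4,3,5,5,4,7,6] 5 (wOf 27 0x103464321323458345234612312))))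
 (.fork (.one (.edge 5 [0,3,2,1,3,6,4,3,2,3,7,6] 5 (wOf 25 0x1232464321573234523423123)))
 (.one (.stab 0 []))))
 (.fork (.fork (.one (.edge 6 (wOf 13 0x5123452346340) 5 (wOf 23 0x3243218646342323466120)))
 (.one (.stab 0 [])))
 (.fork (.one (.edge 5 [0,1,4,7,6,4,3,6] 5 (wOf 17 0x1853234673012342)))
 (.one (.stab 0 [])))))
 (.fork (.fork (.fork (.one (.edge 8 [0,3,4,3,2,1,3,5,8] 6 (wOf 24 0x102132321846323451234523)))
 (.one (.stab 0 [])))
 (.fork (.one (.edge 5 (wOf 15 0x346745123462301) 5 (wOf 19 0x1234683234612301210)))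
 (.one (.stab 0 []))))
 (.fork (.fork (.one (.edge 6 [2,1,3,2,1,6,4,6,4,3,6] 5 (wOf 22 0x134323546723463123450)))
 (.one (.stab 0 [])))
 (.fork (.one (.edge 5 (wOf 14 0x34501234534620) 5 (wOf 22 0x1213214673423231234321)))
 (.one (.stab 0 []))))))
 (.fork (.fork (.fork (.fork (.one (.edge 4 [1,4,6] 6 (wOf 23 0x24385432631234553234643)))
 (.one (.stab 0 [])))
 (.fork (.one (.edge 5 (wOf 17 0x32754534512345232) 5 (wOf 20 0x2543854623461234620)))
 (.one (.stab 0 []))))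
 (.fork (.fork (.one (.edge 5 (wOf 15 0x683453123467323) 5 (wOf 24 0x437543210634582342312010)))
 (.one (.stab 0 [])))
 (.fork (.one (.edge 5 (wOf 13 0x4672301234553) 5 (wOf 27 0x13432136432763453123453231)))
 (.one (.stab 0 [])))))
 (.fork (.fork (.fork (.one (.edge 7 (wOf 13 0x4534512345532) 5 (wOf 19 0x1325432346461234501)))
 (.one (.stab 0 [])))
 (.fork (.one (.edge 5 [2,3,2,1,4,3,2,1,6,6,4,6] 5 (wOf 24 0x102132132684634231231234)))
 (.one (.stab 0 []))))
 (.fork (.fork (.one (.edge 5 [4,6,6,4,3,5] 5 (wOf 20 0x64325453452346823462)))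
 (.one (.stab 0 [])))
 (.fork (.one (.edge 8 [0,2,3,2,1,4,6,4,3,8,6] 9 (wOf 25 0x1210435432634581234230121)))
 (.one (.stab 0 []))))))))

/-- a part of the facts -/
noncomputable def twFactsT107 : BT Fact := (.fork (.fork (.fork (.fork (.fork (.fork (.one (.edge 2 [4,3,5,5,7] 1 (wOf 18 0x376463234682345232)))
 (.one (.edge 9 [2,1,3,7] 5 (wOf 26 0x21643264321546634623412301))))
 (.fork (.one (.edge 5 [0,6,4,3,2,1,3,7,6] 5 (wOf 26 0x25432132437543234512342323)))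
 (.one (.stab 0 []))))
 (.fork (.fork (.one (.edge 6 [2,4,7,6,4,3,2,1,3,4,6] 5 (wOf 25 0x2343854321346623451232010)))
 (.one (.stab 0 [])))
 (.fork (.one (.edge 5 (wOf 17 0x13454523451230120) 5 (wOf 18 0x213464323467342323)))
 (.one (.stab 0 [])))))
 (.fork (.fork (.fork (.one (.edge 8 [0,1,2,5,8,5,4,3,2,5] 5 (wOf 23 0x1543213645232345123462)))
 (.one (.stab 0 [])))
 (.fork (.one (.edge 5 (wOf 15 0x853123463123430) 5 (wOf 23 0x2132164323454123234553)))
 (.one (.stab 0 []))))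
 (.fork (.fork (.one (.edge 6 [2,3,2,1,5,4,8,5,4,3] 6 (wOf 24 0x102154323674632346312312)))
 (.one (.stab 0 [])))
 (.fork (.one (.edge 5 (wOf 13 0x3123458543012) 5 (wOf 24 0x23643216458323461234631)))
 (.one (.stab 0 []))))))
 (.fork (.fork (.fork (.fork (.one (.edge 7 [1,0,3,6,4,3,2,1,3,2,6,7] 5 (wOf 23 0x21032143645234543123012)))
 (.one (.stab 0 [])))
 (.fork (.one (.edge 5 (wOf 16 0x764534512345830) 5 (wOf 22 0x1324321863467232345343)))
 (.one (.stab 0 []))))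
 (.fork (.fork (.one (.edge 5 (wOf 17 0x2634523461234570) 5 (wOf 23 0x21754326453231234553210)))
 (.one (.stab 0 [])))
 (.fork (.one (.edge 5 [0,3,4,5,4,3,2,1,0,3,8,6] 5 (wOf 26 0x36432324643234612345234673)))
 (.one (.stab 0 [])))))
 (.fork (.fork (.fork (.one (.edge 8 [0,1,5,4,3,6,6,4] 5 (wOf 24 0x213285432534683123431230)))
 (.one (.stab 0 [])))
 (.fork (.one (.edge 5 (wOf 13 0x6466345512345) 5 (wOf 25 0x143543213234551234323120)))
 (.one (.stab 0 []))))
 (.fork (.fork (.one (.edge 5 (wOf 13 0x2345451234570) 5 (wOf 25 0x4543213286463462346712341)))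
 (.one (.stab 0 [])))
 (.fork (.one (.edge 6 [2,3,2,1,5,8,5,4,3,6] 9 (wOf 26 0x2132321436458323461234581)))
 (.one (.stab 0 [])))))))
 (.fork (.fork (.fork (.fork (.fork (.one (.edge 6 [0,1,0,2,1,0,8,5,4,5] 6 [0,1,0,2,1,0,5,5,4,7,6]))
 (.one (.edge 5 (wOf 15 0x663123453230120) 9 (wOf 21 0x102147646346234582342))))
 (.fork (.one (.edge 5 [3,7,6,4,3,2,3,2,1,0,5,8] 5 (wOf 21 0x13243546234643123121)))
 (.one (.stab 0 []))))
 (.fork (.fork (.one (.edge 6 [0,2,1,3,6] 5 (wOf 26 0x21325432164323464231234512)))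
 (.one (.stab 0 [])))
 (.fork (.one (.edge 5 [1,3,4,3,5,4,3,2,1,3,6] 5 (wOf 24 0x121643213854634232346310)))
 (.one (.stab 0 [])))))
 (.fork (.fork (.fork (.one (.edge 8 [0,6,4,3,2,1,3,2,6,4,7,6] 5 (wOf 22 0x2323764532343231234601)))
 (.one (.stab 0 [])))
 (.fork (.one (.edge 5 (wOf 16 0x1854643234623432) 5 (wOf 24 0x185432321463423234543210)))
 (.one (.stab 0 []))))
 (.fork (.fork (.one (.edge 5 (wOf 17 0x34323466123464323) 5 (wOf 22 0x103216646634623458123)))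
 (.one (.stab 0 [])))
 (.fork (.one (.edge 5 (wOf 13 0x8530123464120) 5 (wOf 25 0x2324643264643231234532345)))
 (.one (.stab 0 []))))))
 (.fork (.fork (.fork (.fork (.one (.edge 7 [6,4,3,2,1,7,5,4,3,6] 6 (wOf 24 0x124325543523453123453462)))
 (.one (.stab 0 [])))
 (.fork (.one (.edge 5 [3,2,6,4,3,2,1,5,4,3,7,6] 5 (wOf 21 0x243643723451234501230)))
 (.one (.stab 0 []))))
 (.fork (.fork (.one (.edge 8 [0,4,3,6,4,3,2,1,3,7,5] 5 (wOf 22 0x121346453468234512340)))
 (.one (.stab 0 [])))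
 (.fork (.one (.edge 5 (wOf 18 0x102663462345123010) 5 (wOf 23 0x1321432854583452345121)))
 (.one (.stab 0 [])))))
 (.fork (.fork (.fork (.one (.edge 6 [0,3,2,1,0,7,5,4,3,6] 5 (wOf 25 0x2343213213464323455341201)))
 (.one (.stab 0 [])))
 (.fork (.one (.edge 5 (wOf 15 0x342312345453463) 5 (wOf 22 0x1024543542312346623453)))
 (.one (.stab 0 []))))
 (.fork (.fork (.one (.edge 5 (wOf 13 0x6623453123468) 5 (wOf 26 0x6432754321646345823462310)))
 (.one (.stab 0 [])))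
 (.fork (.one (.edge 5 [7,5,4,3,2,1,3,5] 9 (wOf 21 0x213243645342312346743)))
 (.one (.stab 0 []))))))))

/-- a part of the facts -/
noncomputable def twFactsT108 : BT Fact := (.fork (.fork (.fork (.fork (.fork (.fork (.one (.edge 1 [1,3,6] 5 []))
 (.one (.edge 5 (wOf 13 0x6345123462301) 9 (wOf 13 0x7523231234634))))
 (.fork (.one (.edge 5 [2,5,4,3,2,1,6,4,3,5,4,3] 5 (wOf 23 0x32543213455432345234521)))
 (.one (.stab 0 []))))
 (.fork (.fork (.one (.edge 8 [4,3,2,1,0,7,5,4,5,4,3] 5 (wOf 27 0x10213266432864634612345201)))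
 (.one (.stab 0 [])))
 (.fork (.one (.edge 5 [1,0,3,2,1,6,4,7,5,4,3] 5 (wOf 20 0x3454532346323123421)))
 (.one (.stab 0 [])))))
 (.fork (.fork (.fork (.one (.edge 8 (wOf 15 0x554634512345832) 5 (wOf 17 0x2683462345823452)))
 (.one (.stab 0 [])))
 (.fork (.one (.edge 5 (wOf 15 0x534601234530121) 5 (wOf 27 0x10432186432534531234543120)))
 (.one (.stab 0 []))))
 (.fork (.fork (.one (.edge 5 (wOf 13 0x5531234542323) 5 (wOf 21 0x102103454523461234523)))
 (.one (.stab 0 [])))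
 (.fork (.one (.edge 5 (wOf 14 0x34571234534230) 5 (wOf 21 0x12321646634232341230)))
 (.one (.stab 0 []))))))
 (.fork (.fork (.fork (.fork (.one (.edge 4 [8,6,4,3,2,1,3,2,1,5] 8 (wOf 24 0x324321054532346612323123)))
 (.one (.stab 0 [])))
 (.fork (.one (.edge 5 [0,7,6,4,3,2,1,6,4,3,6] 5 (wOf 24 0x143285432531234553234321)))
 (.one (.stab 0 []))))
 (.fork (.fork (.one (.edge 6 [0,4,5,4,3,2,1,3,8] 5 (wOf 25 0x1364321326466342312346842)))
 (.one (.stab 0 [])))
 (.fork (.one (.edge 5 [2,3,5,4,3,2,3,2,1,4,3,6] 5 (wOf 27 0x432321754326463423123455012)))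
 (.one (.stab 0 [])))))
 (.fork (.fork (.fork (.one (.edge 7 [0,3,2,3,5,4,3,2,1,3,6] 5 (wOf 15 0x12345452345232)))
 (.one (.stab 0 [])))
 (.fork (.one (.edge 5 (wOf 17 0x21453234545232310) 5 (wOf 25 0x3643218543546234523467121)))
 (.one (.stab 0 []))))
 (.fork (.fork (.one (.edge 6 [0,1,2,6,4,3,2,5,8] 5 (wOf 23 0x12323432646346123455120)))
 (.one (.stab 0 [])))
 (.fork (.one (.edge 5 (wOf 13 0x6346123234584) 9 (wOf 22 0x4321323864634323123464)))
 (.one (.stab 0 [])))))))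
 (.fork (.fork (.fork (.fork (.fork (.one (.edge 3 [3,2,3,4,3,2,1,0,6] 6 (wOf 27 0x12143643213864523412312310)))
 (.one (.edge 5 [1,0,3,2,1,3,5,5,4,3,6] 10 (wOf 19 0x643823454123012346))))
 (.fork (.one (.edge 5 [2,1,0,3,2,1,0,5,4,3,6] 5 (wOf 22 0x2364323854623123012346)))
 (.one (.stab 0 []))))
 (.fork (.fork (.one (.edge 7 (wOf 13 0x8531234612345) 5 (wOf 26 0x21432164321646345234683121)))
 (.one (.stab 0 [])))
 (.fork (.one (.edge 5 [4,3,6,4,3,2,1,3,7,6] 5 (wOf 25 0x2354323214645323466312340)))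
 (.one (.stab 0 [])))))
 (.fork (.fork (.fork (.one (.edge 6 [4,5,4,3,6,7] 5 (wOf 20 0x4328546346234523462)))
 (.one (.stab 0 [])))
 (.fork (.one (.edge 5 [4,3,2,1,5,4,3,6,4,5,5] 5 (wOf 25 0x102157543645234612323464)))
 (.one (.stab 0 []))))
 (.fork (.fork (.one (.edge 6 [3,2,1,0,5,4,3,2,6,6] 5 (wOf 25 0x1543232154543234512346421)))
 (.one (.stab 0 [])))
 (.fork (.one (.edge 5 [2,3,2,1,4,7,6,4,3,6] 5 (wOf 27 0x123754321543545234551231231)))
 (.one (.stab 0 []))))))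
 (.fork (.fork (.fork (.fork (.one (.edge 8 [0,2,1,5,8] 4 [0,1,2,1,0,5,4,5,7]))
 (.one (.stab 0 [])))
 (.fork (.one (.edge 5 [2,4,3,6,4,3,2,1,3,4] 5 (wOf 24 0x134364321634523461234663)))
 (.one (.stab 0 []))))
 (.fork (.fork (.one (.edge 5 (wOf 14 0x63461234542320) 6 (wOf 23 0x23254385453234582312310)))
 (.one (.stab 0 [])))
 (.fork (.one (.edge 5 (wOf 13 0x7634512346620) 5 (wOf 24 0x10327543546234512345841)))
 (.one (.stab 0 [])))))
 (.fork (.fork (.fork (.one (.edge 8 [2,3,2,5,5,4,3,2,1,0] 5 (wOf 26 0x23214864323646234123123463)))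
 (.one (.stab 0 [])))
 (.fork (.one (.edge 5 [0,2,5,4,3,2,1,8,5,4,3] 5 (wOf 24 0x464321326463452346323452)))
 (.one (.stab 0 []))))
 (.fork (.fork (.one (.edge 5 [6,4,3,2,1,0,3,5,4,3,2] 5 (wOf 27 0x12321466432634612323412323)))
 (.one (.stab 0 [])))
 (.fork (.one (.edge 9 [1,0,3,2,1,3,6] 9 (wOf 25 0x3234364321573234523452341)))
 (.one (.stab 0 []))))))))

/-- a part of the facts -/
noncomputable def twFactsT109 : BT Fact := (.fork (.fork (.fork (.fork (.fork (.fork (.one (.stab 2 (wOf 21 0x324325453455234552345)))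
 (.one (.edge 9 [0,1,6,6,4,3,6,4,7,6] 5 (wOf 23 0x4321364754323412323120))))
 (.fork (.one (.edge 5 (wOf 17 0x1645323453230120) 5 (wOf 18 0x121864634623462341)))
 (.one (.stab 0 []))))
 (.fork (.fork (.one (.edge 6 (wOf 13 0x6466346123201) 5 (wOf 16 0x3574323123450123)))
 (.one (.stab 0 [])))
 (.fork (.one (.edge 5 (wOf 14 0x46123451234623) 5 (wOf 22 0x1364643234623123423231)))
 (.one (.stab 0 [])))))
 (.fork (.fork (.fork (.one (.edge 7 [5,4,3,5] 5 (wOf 17 0x1763234540123234)))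
 (.one (.stab 0 [])))
 (.fork (.one (.edge 5 (wOf 15 0x412312345534532) 5 (wOf 22 0x1036432634555123234312)))
 (.one (.stab 0 []))))
 (.fork (.fork (.one (.edge 6 [0,4,5,4,3,2,1,0,3,6,7] 5 (wOf 26 0x14643213210466345231231210)))
 (.one (.stab 0 [])))
 (.fork (.one (.edge 5 [3,2,6,4,3,2,1,0,3,6,4,3] 5 (wOf 24 0x10323432643123123464310)))
 (.one (.stab 0 []))))))
 (.fork (.fork (.fork (.fork (.one (.edge 4 [4,5,4,3,2] 6 (wOf 18 0x324634582346234542)))
 (.one (.stab 0 [])))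
 (.fork (.one (.edge 5 [4,3,2,1,3,2,1,0] 5 (wOf 17 0x5468323123401232)))
 (.one (.stab 0 []))))
 (.fork (.fork (.one (.edge 3 (wOf 14 0x67423012346323) 5 (wOf 21 0x13234854632345323467)))
 (.one (.stab 0 [])))
 (.fork (.one (.edge 5 [3,6,4,3,2,1,3] 5 (wOf 26 0x1064321054634523452346710)))
 (.one (.stab 0 [])))))
 (.fork (.fork (.fork (.one (.edge 8 [1,4,6,6,4,3,5] 5 (wOf 24 0x12464325453452346712341)))
 (.one (.stab 0 [])))
 (.fork (.one (.edge 5 [0,1,0,3,6,6,4,3,6] 5 (wOf 20 0x14325432346123467323)))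
 (.one (.stab 0 []))))
 (.fork (.fork (.one (.edge 5 (wOf 15 0x853451234623430) 5 (wOf 24 0x21323215453234646231210)))
 (.one (.stab 0 [])))
 (.fork (.one (.edge 5 (wOf 13 0x5231234543232) 9 (wOf 25 0x264326432546831234542312)))
 (.one (.stab 0 [])))))))
 (.fork (.fork (.fork (.fork (.fork (.one (.edge 7 (wOf 24 0x106432154632345541231234) 4 [0,4,5,4,3,2,6,4,6]))
 (.one (.edge 5 (wOf 16 0x1634674323453423) 9 (wOf 21 0x102134543234623463120))))
 (.fork (.one (.edge 5 [3,7,6,4,3,2,3] 5 (wOf 19 0x2432684534523234634)))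
 (.one (.stab 0 []))))
 (.fork (.fork (.one (.edge 5 (wOf 14 0x46345730123453) 5 (wOf 23 0x35432132454573123453210)))
 (.one (.stab 0 [])))
 (.fork (.one (.edge 5 (wOf 14 0x53451234683232) 5 (wOf 24 0x213213254863423123464310)))
 (.one (.stab 0 [])))))
 (.fork (.fork (.fork (.one (.edge 7 [0,2,1,4,5,4,3,2,1,6,4,3] 5 (wOf 23 0x23246432863412323461230)))
 (.one (.stab 0 [])))
 (.fork (.one (.edge 5 (wOf 14 0x34663012346323) 5 (wOf 23 0x10214323546231234674231)))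
 (.one (.stab 0 []))))
 (.fork (.fork (.one (.edge 5 (wOf 13 0x7463123453420) 5 (wOf 24 0x10321032846346123123432)))
 (.one (.stab 0 [])))
 (.fork (.one (.edge 5 [3,2,5,5,4,3,2,1,0,3] 5 (wOf 19 0x364683234512346323)))
 (.one (.stab 0 []))))))
 (.fork (.fork (.fork (.fork (.one (.edge 4 (wOf 14 0x68230123454120) 5 (wOf 24 0x124364321634623461234123)))
 (.one (.stab 0 [])))
 (.fork (.one (.edge 5 (wOf 14 0x51234661234523) 5 (wOf 26 0x21323454321545323453461230)))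
 (.one (.stab 0 []))))
 (.fork (.fork (.one (.edge 8 [1,3,7,5,4,3,2,6] 5 (wOf 25 0x2325432154663234631234120)))
 (.one (.stab 0 [])))
 (.fork (.one (.edge 5 [4,3,2,1,6,8,6,4,3] 5 (wOf 23 0x2143213854632346232310)))
 (.one (.stab 0 [])))))
 (.fork (.fork (.fork (.one (.edge 5 (wOf 16 0x663123453234510) 5 (wOf 23 0x3432132545346623451201)))
 (.one (.stab 0 [])))
 (.fork (.one (.edge 5 (wOf 15 0x231234584532301) 5 (wOf 25 0x1324321754534523457231232)))
 (.one (.stab 0 []))))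
 (.fork (.fork (.one (.edge 5 (wOf 13 0x6634612345431) 5 (wOf 21 0x21343523451234601230)))
 (.one (.stab 0 [])))
 (.fork (.one (.edge 5 (wOf 13 0x5346012346460) 9 (wOf 25 0x104321643764632345123234)))
 (.one (.stab 0 []))))))))

/-- a part of the facts -/
noncomputable def twFactsT110 : BT Fact := (.fork (.fork (.fork (.fork (.fork (.fork (.one (.edge 3 (wOf 20 0x5454832346123231234) 3 [3,2,1,0,3,2,1,0,3,2,7,6]))
 (.one (.edge 5 (wOf 13 0x6345512323455) 9 (wOf 26 0x32326643213546323458523210))))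
 (.fork (.one (.edge 5 (wOf 13 0x4612345853234) 5 (wOf 26 0x21324364321323454312345710)))
 (.one (.stab 0 []))))
 (.fork (.fork (.one (.edge 8 [0,5,4,3,2,1,3,4,7,6] 5 (wOf 21 0x103215466345234582321)))
 (.one (.stab 0 [])))
 (.fork (.one (.edge 5 (wOf 14 0x1234646123453) 5 (wOf 21 0x102103234574631234531)))
 (.one (.stab 0 [])))))
 (.fork (.fork (.fork (.one (.edge 7 (wOf 14 0x74646312346320) 5 (wOf 26 0x1215543210346234552312341)))
 (.one (.stab 0 [])))
 (.fork (.one (.edge 5 (wOf 14 0x85234612346420) 5 (wOf 24 0x10323432534631234530121)))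
 (.one (.stab 0 []))))
 (.fork (.fork (.one (.edge 8 [3,2,1,5,4,3] 5 (wOf 26 0x12134326432546345123453421)))
 (.one (.stab 0 [])))
 (.fork (.one (.edge 5 (wOf 14 0x34571234532340) 5 (wOf 26 0x4854321364553234623123012)))
 (.one (.stab 0 []))))))
 (.fork (.fork (.fork (.fork (.one (.edge 7 [0,3,2,1,3,6,4] 7 (wOf 25 0x4323246432573453234612323)))
 (.one (.stab 0 [])))
 (.fork (.one (.edge 5 (wOf 13 0x3457123455312) 5 (wOf 24 0x234854321543234673123452)))
 (.one (.stab 0 []))))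
 (.fork (.fork (.one (.edge 6 [0,1,3,5,5,5] 5 (wOf 23 0x10321043523453123457410)))
 (.one (.stab 0 [])))
 (.fork (.one (.edge 5 (wOf 14 0x75531234532340) 5 (wOf 26 0x43216432164534582323453121)))
 (.one (.stab 0 [])))))
 (.fork (.fork (.fork (.one (.edge 7 (wOf 14 0x23454570123460) 5 (wOf 22 0x102132834543123454232)))
 (.one (.stab 0 [])))
 (.fork (.one (.edge 5 [1,2,3,2,1,6,4,3,6,4,8] 5 (wOf 25 0x1432643215543234671234321)))
 (.one (.stab 0 []))))
 (.fork (.fork (.one (.edge 6 [0,1,0,2,5,4,7,6,4,3] 5 (wOf 22 0x4354543231234623234663)))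
 (.one (.stab 0 [])))
 (.fork (.one (.edge 5 (wOf 15 0x345512345342320) 9 (wOf 17 0x23854323455412321)))
 (.one (.stab 0 [])))))))
 (.fork (.fork (.fork (.fork (.fork (.one (.edge 7 [3,2,1,6,4,3,5,4,6] 5 (wOf 22 0x1055432531234662323432)))
 (.one (.edge 9 [3,2,3,4,3,2,1,6,4,6,4,3] 5 (wOf 25 0x213264321545323453234573))))
 (.fork (.one (.edge 5 (wOf 13 0x7553123453012) 5 (wOf 23 0x1321321634632345532310)))
 (.one (.stab 0 []))))
 (.fork (.fork (.one (.edge 6 [0,1,3,2,1,6,6,4,3] 5 (wOf 24 0x14321064553452345823421)))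
 (.one (.stab 0 [])))
 (.fork (.one (.edge 5 [0,3,5,4,3,2,1,3,6] 5 (wOf 26 0x2154321854634623464123120)))
 (.one (.stab 0 [])))))
 (.fork (.fork (.fork (.one (.edge 5 [0,2,1,3,6] 5 (wOf 24 0x32154321543234583123464)))
 (.one (.stab 0 [])))
 (.fork (.one (.edge 5 (wOf 14 0x34545012346620) 5 (wOf 25 0x3432164326463452312346810)))
 (.one (.stab 0 []))))
 (.fork (.fork (.one (.edge 6 [0,5,4,3,2,6,4,3,2,1,6] 5 (wOf 26 0x1232343210674534523123431)))
 (.one (.stab 0 [])))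
 (.fork (.one (.edge 5 (wOf 14 0x64523451234612) 5 (wOf 22 0x436432553123452312345)))
 (.one (.stab 0 []))))))
 (.fork (.fork (.fork (.fork (.one (.edge 6 [3,2,1,3,7] 8 (wOf 20 0x21343234612301234570)))
 (.one (.stab 0 [])))
 (.fork (.one (.edge 5 (wOf 14 0x53467012346323) 5 (wOf 23 0x1213432634532312345542)))
 (.one (.stab 0 []))))
 (.fork (.fork (.one (.edge 5 (wOf 13 0x3461234542320) 5 (wOf 24 0x43213254663234612346230)))
 (.one (.stab 0 [])))
 (.fork (.one (.edge 5 (wOf 14 0x53123454532340) 5 (wOf 23 0x12132136453234583231230)))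
 (.one (.stab 0 [])))))
 (.fork (.fork (.fork (.one (.edge 8 [1,6,4,3,6,4] 5 (wOf 22 0x103210834523452312342)))
 (.one (.stab 0 [])))
 (.fork (.one (.edge 5 [0,5,4,6,6,4,3,2,1,3] 5 (wOf 25 0x213213210545345234681210)))
 (.one (.stab 0 []))))
 (.fork (.fork (.one (.edge 5 (wOf 13 0x6630123453230) 5 (wOf 24 0x232143276453452346412321)))
 (.one (.stab 0 [])))
 (.fork (.one (.edge 9 [2,1,0,3,2,1,3,6,6] 5 (wOf 17 0x2345453231234301)))
 (.one (.stab 0 []))))))))

/-- a part of the facts -/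
noncomputable def twFactsT111 : BT Fact := (.fork (.fork (.fork (.fork (.fork (.fork (.one (.edge 2 [1,0,2,1,0,3,6] 3 (wOf 19 0x3432634631230123421)))
 (.one (.edge 9 (wOf 13 0x7123462346623) 5 (wOf 19 0x3210753432312346632))))
 (.fork (.one (.edge 5 (wOf 17 0x1646323453123010) 5 (wOf 21 0x321764534623234553412)))
 (.one (.stab 0 []))))
 (.fork (.fork (.one (.edge 7 (wOf 20 0x10213523463123463420) 5 (wOf 23 0x1210321453466234523423)))
 (.one (.stab 0 [])))
 (.fork (.one (.edge 5 [1,5,5,4,3,2,1,3,4,7,6] 5 (wOf 22 0x1232543523461234632346)))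
 (.one (.stab 0 [])))))
 (.fork (.fork (.fork (.one (.edge 5 (wOf 16 0x731234543123012) 5 (wOf 23 0x12154321546342323466120)))
 (.one (.stab 0 [])))
 (.fork (.one (.edge 5 [0,3,7,6,4,3,2,1,3,2,6] 5 (wOf 24 0x164321321673463234542321)))
 (.one (.stab 0 []))))
 (.fork (.fork (.one (.edge 6 [3,2,1,5,4,3,5,4,8] 5 (wOf 26 0x75432354321545323452346710)))
 (.one (.stab 0 [])))
 (.fork (.one (.edge 5 [0,2,4,7,5,4,3,2,1,6] 5 (wOf 27 0x15543232164573452345123464)))
 (.one (.stab 0 []))))))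
 (.fork (.fork (.fork (.fork (.one (.edge 6 [7,6,4,3,6] 5 (wOf 20 0x24321674534230123463)))
 (.one (.stab 0 [])))
 (.fork (.one (.edge 5 (wOf 13 0x3453012345734) 5 (wOf 26 0x10321345432534632345831234)))
 (.one (.stab 0 []))))
 (.fork (.fork (.one (.edge 5 (wOf 16 0x683123454323010) 5 (wOf 26 0x1215486432346123452323463)))
 (.one (.stab 0 [])))
 (.fork (.one (.edge 5 (wOf 16 0x3523451232346312) 5 (wOf 25 0x102143213864623463234510)))
 (.one (.stab 0 [])))))
 (.fork (.fork (.fork (.one (.edge 5 (wOf 13 0x5731234634301) 5 (wOf 22 0x123235546342312345734)))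
 (.one (.stab 0 [])))
 (.fork (.one (.edge 5 (wOf 15 0x634612345323120) 5 (wOf 26 0x1321432132432346845341231)))
 (.one (.stab 0 []))))
 (.fork (.fork (.one (.edge 5 (wOf 14 0x34612345346230) 5 (wOf 26 0x12326432135457342312343121)))
 (.one (.stab 0 [])))
 (.fork (.one (.edge 7 [5,4,3,2,1,3,5,8,5] 9 (wOf 24 0x121435432345842323464123)))
 (.one (.stab 0 [])))))))
 (.fork (.fork (.fork (.fork (.fork (.one (.edge 6 [6,4,6,4,3,6] 8 (wOf 19 0x346464323123012345)))
 (.one (.edge 9 (wOf 13 0x4646234512320) 9 (wOf 23 0x32321466432312346832343))))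
 (.fork (.one (.edge 5 (wOf 15 0x430123466453230) 5 (wOf 22 0x1254321323468453234612)))
 (.one (.stab 0 []))))
 (.fork (.fork (.one (.edge 6 [0,1,2,1,0,6,4,3,5,8] 5 (wOf 24 0x232132437643234554231234)))
 (.one (.stab 0 [])))
 (.fork (.one (.edge 5 [0,3,2,3,4,5,4,3,2,1,3,7] 5 (wOf 22 0x213213546234543123451)))
 (.one (.stab 0 [])))))
 (.fork (.fork (.fork (.one (.edge 8 [3,2,1,5,4,3,5] 5 (wOf 20 0x1864532312346312312)))
 (.one (.stab 0 [])))
 (.fork (.one (.edge 5 [6,4,3,2,3,2,1,5,4,3,2] 5 (wOf 24 0x164326643554623123461234)))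
 (.one (.stab 0 []))))
 (.fork (.fork (.one (.edge 6 [5,4,3,2,1,6,4,3,8] 5 (wOf 24 0x121032186463234672312340)))
 (.one (.stab 0 [])))
 (.fork (.one (.edge 5 (wOf 14 0x23461234663232) 5 (wOf 25 0x2132135543645234612345012)))
 (.one (.stab 0 []))))))
 (.fork (.fork (.fork (.fork (.one (.edge 8 [6,6] 8 [0,1,0,2,1,0,4,6,6,6]))
 (.one (.stab 0 [])))
 (.fork (.one (.edge 5 (wOf 16 0x1234523458532340) 5 (wOf 23 0x45432103454572312345312)))
 (.one (.stab 0 []))))
 (.fork (.fork (.one (.edge 4 [1,3,5,4,5,8] 5 (wOf 24 0x32643216643234571234530)))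
 (.one (.stab 0 [])))
 (.fork (.one (.edge 5 [1,0,3,2,1,5,4,3,5,8] 5 (wOf 22 0x132321464632345232345)))
 (.one (.stab 0 [])))))
 (.fork (.fork (.fork (.one (.edge 6 [1,3,6,4,3,2,3] 5 (wOf 21 0x643232545834512345010)))
 (.one (.stab 0 [])))
 (.fork (.one (.edge 5 [3,2,3,4,6,4,3,2,1,3,6,8] 5 (wOf 25 0x436432136646323452346321)))
 (.one (.stab 0 []))))
 (.fork (.fork (.one (.edge 5 (wOf 13 0x6234512345850) 5 (wOf 25 0x2354323643646231234571234)))
 (.one (.stab 0 [])))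
 (.fork (.one (.edge 6 [2,1,6,4,3,7,6] 9 (wOf 16 0x1553458234523123)))
 (.one (.stab 0 []))))))))

/-- a part of the facts -/
noncomputable def twFactsT112 : BT Fact := (.fork (.fork (.fork (.fork (.fork (.fork (.one (.edge 5 (wOf 21 0x34664323412301234553) 3 [1,0,3,7,6]))
 (.one (.edge 5 [0,2,1,3,7,6,4] 9 (wOf 22 0x166432634683423123210))))
 (.fork (.one (.edge 5 (wOf 15 0x453451234534323) 5 (wOf 23 0x1021343231234634523451)))
 (.one (.stab 0 []))))
 (.fork (.fork (.one (.edge 5 [3,2,1,6] 5 (wOf 26 0x1243215432834623451234623)))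
 (.one (.stab 0 [])))
 (.fork (.one (.edge 5 (wOf 17 0x12463464612346231) 5 (wOf 26 0x13254321643854623451234301)))
 (.one (.stab 0 [])))))
 (.fork (.fork (.fork (.one (.edge 4 [0,2,5,4,3,6,4,3,2,1,3] 5 (wOf 23 0x46432132834612346712341)))
 (.one (.stab 0 [])))
 (.fork (.one (.edge 5 (wOf 15 0x345451234512301) 5 (wOf 26 0x1213243643862342312345812)))
 (.one (.stab 0 []))))
 (.fork (.fork (.one (.edge 5 (wOf 16 0x1463453234634231) 5 (wOf 25 0x123432132545743123455323)))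
 (.one (.stab 0 [])))
 (.fork (.one (.edge 5 (wOf 15 0x431234664323010) 5 (wOf 24 0x147643236455323123452345)))
 (.one (.stab 0 []))))))
 (.fork (.fork (.fork (.fork (.one (.edge 6 [4,3,7,6] 5 (wOf 18 0x343645323458234232)))
 (.one (.stab 0 [])))
 (.fork (.one (.edge 5 (wOf 14 0x46123466234620) 5 (wOf 27 0x215432543210734623452345232)))
 (.one (.stab 0 []))))
 (.fork (.fork (.one (.edge 6 [0,2,1,3,7,6] 5 (wOf 24 0x21364321634623464232312)))
 (.one (.stab 0 [])))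
 (.fork (.one (.edge 5 (wOf 14 0x63457123462345) 5 (wOf 22 0x2132146843234543234510)))
 (.one (.stab 0 [])))))
 (.fork (.fork (.fork (.one (.edge 8 [0,6,6,4,3,2,1,3,4,6] 5 (wOf 20 0x32103846234631234523)))
 (.one (.stab 0 [])))
 (.fork (.one (.edge 5 [3,4,6,4,3,2,1,3,5,5] 5 (wOf 25 0x3264323643672312346343232)))
 (.one (.stab 0 []))))
 (.fork (.fork (.one (.edge 5 [2,3,4,6,4,3,2,1,3,2,5,5] 5 (wOf 22 0x4321348543234551232343)))
 (.one (.stab 0 [])))
 (.fork (.one (.edge 5 [3,4,3,2,1,6,6,4,3,5] 9 (wOf 21 0x216432634683123401230)))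
 (.one (.stab 0 [])))))))
 (.fork (.fork (.fork (.fork (.fork (.one (.edge 6 [1,3,2,3,2,5,4,3,2,1,0,6] 8 (wOf 23 0x1321754534623461234643)))
 (.one (.edge 10 [0,1,4,3,2,5,4,3,2,1,3] 5 (wOf 21 0x254321584534230123432))))
 (.fork (.one (.edge 5 [4,6,4,3,5,4,3,2,1,0,3] 5 (wOf 26 0x23213254321634634523234120)))
 (.one (.stab 0 []))))
 (.fork (.fork (.one (.edge 8 (wOf 14 0x34572345123460) 5 (wOf 19 0x243545234681232010)))
 (.one (.stab 0 [])))
 (.fork (.one (.edge 5 (wOf 14 0x32345346123452) 5 (wOf 26 0x1243218543545234571234510)))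
 (.one (.stab 0 [])))))
 (.fork (.fork (.fork (.one (.edge 7 [3,2,1,6,4,3,7,5] 5 [5,5,4,3,5,4,5]))
 (.one (.stab 0 [])))
 (.fork (.one (.edge 5 [0,2,6,6,4,3,2,1,6,4,3] 5 (wOf 24 0x105454321345232345453123)))
 (.one (.stab 0 []))))
 (.fork (.fork (.one (.edge 7 (wOf 14 0x12345746234620) 5 (wOf 24 0x13234385432342312346840)))
 (.one (.stab 0 [])))
 (.fork (.one (.edge 6 [1,2,1,5,4,3,2,5,7,5] 9 (wOf 20 0x10210732345312345323)))
 (.one (.stab 0 []))))))
 (.fork (.fork (.fork (.fork (.one (.edge 3 [2,3,2,1,5,4,3] 5 (wOf 26 0x2132436432346845123234634)))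
 (.one (.stab 0 [])))
 (.fork (.one (.edge 5 [2,3,2,1,5,4,7,6,4,3] 5 (wOf 20 0x2326463452346123234)))
 (.one (.stab 0 []))))
 (.fork (.fork (.one (.edge 5 [1,2,6,6] 5 (wOf 19 0x2104646323412301234)))
 (.one (.stab 0 [])))
 (.fork (.one (.edge 5 [5,4,3,2,1,6,4,3,5,4,8] 5 (wOf 24 0x121454321346234523012312)))
 (.one (.stab 0 [])))))
 (.fork (.fork (.fork (.one (.edge 5 [1,0,6,4,3,2,1,8,5,4,3,6] 5 (wOf 21 0x213235432346431234552)))
 (.one (.stab 0 [])))
 (.fork (.one (.edge 5 (wOf 14 0x63461234634232) 5 (wOf 26 0x21032135543545723462312346)))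
 (.one (.stab 0 []))))
 (.fork (.fork (.one (.edge 5 [3,2,3,2,6,4,3,2,1,3,7,5] 5 (wOf 26 0x1376432132646734623412301)))
 (.one (.stab 0 [])))
 (.fork (.one (.edge 9 [0,2,3,2,1,4,3,7,6] 5 (wOf 22 0x1217543546234612323412)))
 (.one (.stab 0 []))))))))

/-- a part of the facts -/
noncomputable def twFactsT113 : BT Fact := (.fork (.fork (.fork (.fork (.fork (.fork (.one (.edge 0 [] 1 []))
 (.one (.edge 9 [0,2,1,3,4,7,6,4,3,5] 5 (wOf 25 0x2143232104632346341232312))))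
 (.fork (.one (.edge 5 [3,2,1,4,5,4,3,5] 5 (wOf 26 0x2186432132463451234323123)))
 (.one (.stab 0 []))))
 (.fork (.fork (.one (.edge 5 [2,1,0,6,4,3,7,6] 5 (wOf 18 0x43666234123234646)))
 (.one (.stab 0 [])))
 (.fork (.one (.edge 5 [7,6,4,3,2,1,5,4,5,4,3] 5 (wOf 26 0x1243210764534523452346712)))
 (.one (.stab 0 [])))))
 (.fork (.fork (.fork (.one (.edge 6 [1,7,6,4,3] 5 (wOf 22 0x132554683234631231231)))
 (.one (.stab 0 [])))
 (.fork (.one (.edge 5 (wOf 13 0x3012346645323) 5 (wOf 23 0x32321454323123464634120)))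
 (.one (.stab 0 []))))
 (.fork (.fork (.one (.edge 6 [0,1,3,5,5,7] 5 (wOf 24 0x104554321634623452345412)))
 (.one (.stab 0 [])))
 (.fork (.one (.edge 5 (wOf 13 0x5723461234663) 5 (wOf 23 0x1023243645734231230120)))
 (.one (.stab 0 []))))))
 (.fork (.fork (.fork (.fork (.one (.edge 3 [0,2,3,2,1,0,4,3] 8 (wOf 26 0x1032147543234661234231231)))
 (.one (.edge 10 (wOf 20 0x43213745423123123455) 10 [1,3,2,1,0,5,4,3])))
 (.fork (.one (.edge 5 (wOf 15 0x854312345453432) 5 (wOf 26 0x2321476432646346123451234)))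
 (.one (.stab 0 []))))
 (.fork (.fork (.one (.edge 8 [3,4,3,2,3,2,1,0,6,4,6] 5 (wOf 25 0x1232103264853462346123450)))
 (.one (.stab 0 [])))
 (.fork (.one (.edge 5 (wOf 14 0x34612346342320) 5 (wOf 25 0x432164325463457234531232)))
 (.one (.stab 0 [])))))
 (.fork (.fork (.fork (.one (.edge 7 [0,2,3,6,4,3,2,1,3,2,7,6] 5 (wOf 21 0x432132553452312345342)))
 (.one (.stab 0 [])))
 (.fork (.one (.edge 5 (wOf 14 0x76312345323010) 5 (wOf 23 0x21643232645345823123401)))
 (.one (.stab 0 []))))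
 (.fork (.fork (.one (.edge 8 [3,2,6] 5 (wOf 18 0x216432345523123464)))
 (.one (.stab 0 [])))
 (.fork (.one (.edge 5 [3,2,4,3,6,4,3,2,1,3,2] 9 (wOf 23 0x13432132645534523451232)))
 (.one (.stab 0 [])))))))
 (.fork (.fork (.fork (.fork (.fork (.one (.edge 7 [1,5,4,3,2,5,8] 5 (wOf 24 0x13234321323453234683234)))
 (.one (.edge 5 [6,6,6,4,3,2,1,3] 9 (wOf 25 0x3664323216432345512345010))))
 (.fork (.one (.edge 5 [2,3,6,8,6,4,3,2,1,5,4,3] 5 (wOf 26 0x43210643213458423234531230)))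
 (.one (.stab 0 []))))
 (.fork (.fork (.one (.edge 5 (wOf 15 0x612346234682323) 5 (wOf 20 0x12132634674312301230)))
 (.one (.stab 0 [])))
 (.fork (.one (.edge 5 (wOf 14 0x74623123463423) 5 (wOf 23 0x1235543523461234682301)))
 (.one (.stab 0 [])))))
 (.fork (.fork (.fork (.one (.edge 6 [4,5,4,3,2,1,3,6,7] 5 (wOf 17 0x13852312346312342)))
 (.one (.stab 0 [])))
 (.fork (.one (.edge 5 (wOf 14 0x75453012345832) 5 (wOf 21 0x86432312345843234612)))
 (.one (.stab 0 []))))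
 (.fork (.fork (.one (.edge 5 (wOf 13 0x5731234643012) 5 (wOf 22 0x4323215546346623451232)))
 (.one (.stab 0 [])))
 (.fork (.one (.edge 5 (wOf 14 0x67463460123210) 5 (wOf 24 0x132104643546234523453123)))
 (.one (.stab 0 []))))))
 (.fork (.fork (.fork (.fork (.one (.edge 7 [0,3,2,1,6,4,3,2,6,6,4] 5 (wOf 19 0x3432346432346661201)))
 (.one (.stab 0 [])))
 (.fork (.one (.edge 5 [0,3,2,1,5,5,4,3,5,8] 5 (wOf 26 0x2104321543523454123234632)))
 (.one (.stab 0 []))))
 (.fork (.fork (.one (.edge 7 (wOf 15 0x554534612345320) 5 (wOf 24 0x21323438543234661234232)))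
 (.one (.stab 0 [])))
 (.fork (.one (.edge 5 (wOf 15 0x631234663452342) 5 (wOf 27 0x132466432132463468232312346)))
 (.one (.stab 0 [])))))
 (.fork (.fork (.fork (.one (.edge 3 (wOf 14 0x62346123423010) 3 (wOf 23 0x2132132575453231234532)))
 (.one (.stab 0 [])))
 (.fork (.one (.edge 5 (wOf 17 0x10346632345323432) 5 (wOf 21 0x12432545345232346812)))
 (.one (.stab 0 []))))
 (.fork (.fork (.one (.edge 5 [0,3,7,5,4,3,2,1,3,6] 5 (wOf 25 0x102432154863234231234510)))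
 (.one (.stab 0 [])))
 (.fork (.one (.edge 5 (wOf 18 0x12573461234662323) 9 (wOf 25 0x455432132345342312346730)))
 (.one (.stab 0 []))))))))

/-- a part of the facts -/
noncomputable def twFactsT114 : BT Fact := (.fork (.fork (.fork (.fork (.fork (.fork (.one (.edge 3 (wOf 29 0x4321032132643623454123231234) 1 [1,0,2,8,5]))
 (.one (.edge 5 (wOf 14 0x45312345453120) 9 (wOf 23 0x23235432345123467423210))))
 (.fork (.one (.edge 5 (wOf 14 0x85312345123234) 5 (wOf 23 0x21343643234512345341201)))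
 (.one (.stab 0 []))))
 (.fork (.fork (.one (.edge 8 [0,5,4,8,6,4,3,2,1,3,4,6] 5 (wOf 24 0x432154326453234531234523)))
 (.one (.stab 0 [])))
 (.fork (.one (.edge 5 [7,6,4,3,2,1,3,2,5,8] 5 (wOf 19 0x1343234512301234670)))
 (.one (.stab 0 [])))))
 (.fork (.fork (.fork (.one (.edge 5 [2,1,3,2,7,6,4,3,2,1,6] 5 (wOf 16 0x1746234630123430)))
 (.one (.stab 0 [])))
 (.fork (.one (.edge 5 (wOf 14 0x42312346643012) 5 (wOf 27 0x246432132432346463123462310)))
 (.one (.stab 0 []))))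
 (.fork (.fork (.one (.edge 8 [0,3,4,3,2,1,6,4,3,7,5] 5 (wOf 21 0x10232854531234581210)))
 (.one (.stab 0 [])))
 (.fork (.one (.edge 5 (wOf 14 0x46234601234540) 5 (wOf 24 0x104321324863452312345853)))
 (.one (.stab 0 []))))))
 (.fork (.fork (.fork (.fork (.one (.edge 3 [0,3,2,1,3] 8 (wOf 20 0x32455432345123458521)))
 (.one (.stab 0 [])))
 (.fork (.one (.edge 5 (wOf 15 0x663461234523012) 5 (wOf 25 0x132143235453453234612340)))
 (.one (.stab 0 []))))
 (.fork (.fork (.one (.edge 6 [0,1,2,1,8,5,4,3,5] 5 (wOf 25 0x321432103754634623461231)))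
 (.one (.stab 0 [])))
 (.fork (.one (.edge 5 (wOf 15 0x863450123463230) 5 (wOf 20 0x4321553463234523466)))
 (.one (.stab 0 [])))))
 (.fork (.fork (.fork (.one (.edge 6 [0,3,2,1,5,4,3,5,8] 8 (wOf 21 0x486432534231234542310)))
 (.one (.stab 0 [])))
 (.fork (.one (.edge 5 (wOf 16 0x345312345323120) 5 (wOf 22 0x3213432546345234583120)))
 (.one (.stab 0 []))))
 (.fork (.fork (.one (.edge 5 (wOf 13 0x3012346645320) 5 (wOf 24 0x104543216453423123457120)))
 (.one (.stab 0 [])))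
 (.fork (.one (.stab 9 (wOf 25 0x2164321543645234623468121)))
 (.one (.stab 0 [])))))))
 (.fork (.fork (.fork (.fork (.fork (.one (.edge 8 (wOf 24 0x121864326453452323412301) 4 [0,5,4,3,2,6,6]))
 (.one (.edge 9 [1,0,2,1,0,3,4,6,4,8,5] 9 (wOf 19 0x3232546463423123121))))
 (.fork (.one (.edge 5 (wOf 14 0x34512346623412) 5 (wOf 22 0x2343285432312345234120)))
 (.one (.stab 0 []))))
 (.fork (.fork (.one (.edge 6 [1,5,4,3,5,4,6] 5 (wOf 23 0x23643210734523451234540)))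
 (.one (.stab 0 [])))
 (.fork (.one (.edge 5 (wOf 18 0x13523468123464231) 5 (wOf 24 0x23432105463234673123453)))
 (.one (.stab 0 [])))))
 (.fork (.fork (.fork (.one (.edge 8 [0,2,3,2,5,5,7] 5 (wOf 22 0x4327543623467312346301)))
 (.one (.stab 0 [])))
 (.fork (.one (.edge 5 (wOf 15 0x345450123462345) 5 (wOf 23 0x13254321553423012345510)))
 (.one (.stab 0 []))))
 (.fork (.fork (.one (.edge 6 [0,3,2,6,4,3,2,1,6,7] 5 (wOf 23 0x12432554532345312345120)))
 (.one (.stab 0 [])))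
 (.fork (.one (.edge 5 [1,3,2,4,6,6,4,3,2,1,3] 5 (wOf 20 0x64323554623467123120)))
 (.one (.stab 0 []))))))
 (.fork (.fork (.fork (.fork (.one (.edge 3 [0,2,3,2,1,4,3,7,6] 5 (wOf 23 0x21324543234123234674120)))
 (.one (.stab 0 [])))
 (.fork (.one (.edge 5 [0,2,3,2,1,5,8,5,4,3,6] 5 (wOf 26 0x1216432354534672346123466)))
 (.one (.stab 0 []))))
 (.fork (.fork (.one (.edge 5 [2,1,6,4,3,2,7,5] 5 (wOf 22 0x3264321574323463123454)))
 (.one (.stab 0 [])))
 (.fork (.one (.edge 5 [0,1,3,2,3,2,5,4,3,2,1,6] 5 (wOf 28 0x1213247643216453234612346723)))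
 (.one (.stab 0 [])))))
 (.fork (.fork (.fork (.one (.edge 7 (wOf 14 0x34673123463420) 5 (wOf 21 0x243643823123453423210)))
 (.one (.stab 0 [])))
 (.fork (.one (.edge 5 (wOf 19 0x1321663452346812323) 5 (wOf 24 0x104325432664534671231210)))
 (.one (.stab 0 []))))
 (.fork (.fork (.one (.edge 5 [0,4,3,2,1,6,4,3,7,6] 5 (wOf 26 0x1432543216743234541231201)))
 (.one (.stab 0 [])))
 (.fork (.one (.edge 8 [0,2,3,2,1,4,6,4,3,5,7] 9 (wOf 24 0x123643764323461234612342)))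
 (.one (.stab 0 []))))))))

/-- a part of the facts -/
noncomputable def twFactsT115 : BT Fact := (.fork (.fork (.fork (.fork (.fork (.fork (.one (.edge 2 [3,6] 2 (wOf 20 0x3543546623462346232)))
 (.one (.edge 9 [3,4,3,2,1,3,6,4,3,6] 5 (wOf 27 0x102324643543523123458234523))))
 (.fork (.one (.edge 5 (wOf 15 0x752345312345832) 5 (wOf 24 0x321032106432345412323467)))
 (.one (.stab 0 []))))
 (.fork (.fork (.one (.edge 6 [0,2,1,5,4,3,6,4,6] 5 (wOf 24 0x102132143645232312346830)))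
 (.one (.stab 0 [])))
 (.fork (.one (.edge 5 (wOf 13 0x3412323467432) 5 (wOf 24 0x123432132634571234552321)))
 (.one (.stab 0 [])))))
 (.fork (.fork (.fork (.one (.edge 8 [2,1,0,3,2,6] 5 (wOf 26 0x13232543235432312346842323)))
 (.one (.stab 0 [])))
 (.fork (.one (.edge 5 (wOf 17 0x13574623451230120) 5 (wOf 24 0x25432154663423123463432)))
 (.one (.stab 0 []))))
 (.fork (.fork (.one (.edge 6 [0,2,3,2,1,5,5,4,3,6,4] 5 (wOf 28 0x1254326432543682312342312345)))
 (.one (.stab 0 [])))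
 (.fork (.one (.edge 5 [0,4,3,2,1,6,4,3,2,6,6,4] 5 (wOf 23 0x21321076453452312346630)))
 (.one (.stab 0 []))))))
 (.fork (.fork (.fork (.fork (.one (.edge 7 (wOf 13 0x5346123453120) 6 (wOf 21 0x432324634532312345012)))
 (.one (.stab 0 [])))
 (.fork (.one (.edge 5 (wOf 14 0x12345123457342) 5 (wOf 26 0x12321676432534631234232310)))
 (.one (.stab 0 []))))
 (.fork (.fork (.one (.edge 5 [0,1,2,3,2,1,5,4,3,7,6] 5 (wOf 22 0x143210346643231234530)))
 (.one (.stab 0 [])))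
 (.fork (.one (.edge 5 (wOf 16 0x1674534623453123) 5 (wOf 23 0x32175432645342312345412)))
 (.one (.stab 0 [])))))
 (.fork (.fork (.fork (.one (.edge 8 [3,4,3,2,3,2,1,7,6] 5 (wOf 25 0x121664321646323412323467)))
 (.one (.stab 0 [])))
 (.fork (.one (.edge 5 (wOf 15 0x674231234554323) 5 (wOf 25 0x321343854323466123460123)))
 (.one (.stab 0 []))))
 (.fork (.fork (.one (.edge 5 [2,3,6,4,3,2,1,3,2,6] 5 (wOf 24 0x43216455432346123234534)))
 (.one (.stab 0 [])))
 (.fork (.one (.edge 6 [2,1,4,7,5,4,3,6] 9 (wOf 26 0x12186432543584231234501201)))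
 (.one (.stab 0 [])))))))
 (.fork (.fork (.fork (.fork (.fork (.one (.edge 8 [0,2,8,5,4] 7 [0,2,6,4]))
 (.one (.edge 5 [1,0,6,4,6,4,3,2,6,4] 9 (wOf 20 0x14385453234612346232))))
 (.fork (.one (.edge 5 [3,2,1,0,3,6,6,6] 5 (wOf 24 0x123213643642312345734510)))
 (.one (.stab 0 []))))
 (.fork (.fork (.one (.edge 6 [2,1,5,4,3,6,4,3] 5 (wOf 22 0x3214327546345231234623)))
 (.one (.stab 0 [])))
 (.fork (.one (.edge 5 (wOf 13 0x6731234532301) 5 (wOf 23 0x10213254534632343231231)))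
 (.one (.stab 0 [])))))
 (.fork (.fork (.fork (.one (.edge 8 [1,5,4,7,6,4,3,2,1] 5 (wOf 25 0x123213243664532345812323)))
 (.one (.stab 0 [])))
 (.fork (.one (.edge 5 (wOf 13 0x6341232345343) 5 (wOf 26 0x34323464321323462345412312)))
 (.one (.stab 0 []))))
 (.fork (.fork (.one (.edge 5 (wOf 14 0x66312345832343) 5 (wOf 24 0x213215436843234612345430)))
 (.one (.stab 0 [])))
 (.fork (.one (.edge 5 [3,2,5,5,4,3,2,1,5,4,3] 5 (wOf 24 0x12343254632346612323458)))
 (.one (.stab 0 []))))))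
 (.fork (.fork (.fork (.fork (.one (.edge 6 [2,1,6,4,3,2,6,7] 8 (wOf 16 0x231234630123457)))
 (.one (.stab 0 [])))
 (.fork (.one (.edge 5 [0,2,3,2,1,0,4,7,5,4,3] 5 (wOf 23 0x2543254634231234674512)))
 (.one (.stab 0 []))))
 (.fork (.fork (.one (.edge 8 (wOf 15 0x673462346012320) 5 (wOf 26 0x43235543235463231234523461)))
 (.one (.stab 0 [])))
 (.fork (.one (.edge 5 [0,1,0,3,2,1,5,4,3,5,5,7] 5 (wOf 23 0x21032134634632345312010)))
 (.one (.stab 0 [])))))
 (.fork (.fork (.fork (.one (.edge 6 [0,2,1,4,7,5,4,3,2,6] 5 (wOf 25 0x2145432321453452323453120)))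
 (.one (.stab 0 [])))
 (.fork (.one (.edge 5 (wOf 13 0x7346123454320) 5 (wOf 25 0x1021543264534623467123432)))
 (.one (.stab 0 []))))
 (.fork (.fork (.one (.edge 5 (wOf 13 0x4634612345830) 5 (wOf 26 0x14643215432545345123453234)))
 (.one (.stab 0 [])))
 (.fork (.one (.edge 5 (wOf 18 0x121466346234572340) 9 (wOf 25 0x132166432534612342312343)))
 (.one (.stab 0 []))))))))

/-- a part of the facts -/
noncomputable def twFactsT116 : BT Fact := (.fork (.fork (.fork (.fork (.fork (.fork (.one (.edge 3 (wOf 13 0x3467341230123) 3 (wOf 17 0x21663423012346840)))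
 (.one (.edge 5 [6,4,3,2,5,4,5,4,3,2,1,0] 9 (wOf 24 0x106432175463234534612312))))
 (.fork (.one (.edge 5 (wOf 13 0x7545346601230) 5 (wOf 23 0x21064321534543234312321)))
 (.one (.stab 0 []))))
 (.fork (.fork (.one (.edge 8 [1,4,3,2,1,6,4,7,5,4,3] 5 (wOf 20 0x2143546323461232345)))
 (.one (.stab 0 [])))
 (.fork (.one (.edge 5 (wOf 14 0x12346234663230) 5 (wOf 24 0x210643213545323458423210)))
 (.one (.stab 0 [])))))
 (.fork (.fork (.fork (.one (.edge 8 [0,2,1,6,4,3,2,1] 6 (wOf 21 0x12134532346312346801)))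
 (.one (.stab 0 [])))
 (.fork (.one (.edge 5 [0,4,5,4,3,2,1,3,5] 5 (wOf 26 0x1235432164634672342323123)))
 (.one (.stab 0 []))))
 (.fork (.fork (.one (.edge 4 [1,0,5,4,3,7,6] 5 (wOf 21 0x213213645852323453412)))
 (.one (.stab 0 [])))
 (.fork (.one (.edge 5 [2,3,5,5,4,3,2,1,3,6,6] 5 (wOf 25 0x4643213243672345123464231)))
 (.one (.stab 0 []))))))
 (.fork (.fork (.fork (.fork (.one (.edge 3 [3,2,1,0,5,4,3,2,5,8] 5 (wOf 21 0x23764632346123452312)))
 (.one (.stab 0 [])))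
 (.fork (.one (.edge 5 (wOf 15 0x453460123457234) 5 (wOf 27 0x85432132432546342312345210)))
 (.one (.stab 0 []))))
 (.fork (.fork (.one (.edge 6 [1,0,2,3,2,1,0,6,4,3,6,6] 5 (wOf 22 0x4643213545234674231201)))
 (.one (.stab 0 [])))
 (.fork (.one (.edge 5 (wOf 15 0x634523461234682) 5 (wOf 25 0x137643216453234512345231)))
 (.one (.stab 0 [])))))
 (.fork (.fork (.fork (.one (.edge 7 [2,6,4,3,2,1,3,8,5,4,3] 5 (wOf 25 0x1032343554323123452346123)))
 (.one (.stab 0 [])))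
 (.fork (.one (.edge 5 (wOf 15 0x463012345853234) 5 (wOf 24 0x123255432546312312345512)))
 (.one (.stab 0 []))))
 (.fork (.fork (.one (.edge 6 [5,4,3,2,1,5,4,3,7,6] 5 (wOf 27 0x12103255432646312342312340)))
 (.one (.stab 0 [])))
 (.fork (.one (.edge 5 (wOf 14 0x31234663452320) 9 (wOf 23 0x1032154863462345234323)))
 (.one (.stab 0 [])))))))
 (.fork (.fork (.fork (.fork (.fork (.one (.edge 3 [2,3,2,5,8] 5 (wOf 17 0x21553452301234530)))
 (.one (.edge 5 [1,0,3,2,1,5,5,4,3,5,4,6] 10 (wOf 25 0x1023286432546312345534231))))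
 (.fork (.one (.edge 5 [2,4,3,6,4,3,2,1,3,7,6] 5 (wOf 23 0x1210321453234584312341)))
 (.one (.stab 0 []))))
 (.fork (.fork (.one (.edge 7 [0,3,6,4,3,2,1,0,3,4,7] 5 (wOf 27 0x10210643264673423123464320)))
 (.one (.stab 0 [])))
 (.fork (.one (.edge 5 (wOf 15 0x345123467341231) 5 (wOf 18 0x102853452312345712)))
 (.one (.stab 0 [])))))
 (.fork (.fork (.fork (.one (.edge 6 [0,1,3,2,1,4,3] 5 (wOf 18 0x103234612346323450)))
 (.one (.stab 0 [])))
 (.fork (.one (.edge 5 [4,7,6,4,3,2,1,0,5] 5 (wOf 25 0x436432132746432346345231)))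
 (.one (.stab 0 []))))
 (.fork (.fork (.one (.edge 6 [1,0,2,3,2,1,6,4,3,5,4,8] 5 (wOf 25 0x2321045432346612323123453)))
 (.one (.stab 0 [])))
 (.fork (.one (.edge 5 [6,4,3,2,1,5,4,3,2,7,6] 5 (wOf 22 0x1032134323466123451231)))
 (.one (.stab 0 []))))))
 (.fork (.fork (.fork (.fork (.one (.edge 7 [2,4,5,4,3,2,1,5,4,3,6,7] 5 (wOf 24 0x276432132453452345323467)))
 (.one (.stab 0 [])))
 (.fork (.one (.edge 5 (wOf 14 0x84512345234520) 5 (wOf 24 0x46432543645823423123450)))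
 (.one (.stab 0 []))))
 (.fork (.fork (.one (.edge 5 (wOf 13 0x3234575341230) 5 (wOf 21 0x432543554623467231230)))
 (.one (.stab 0 [])))
 (.fork (.one (.edge 5 [1,2,3,5,4] 5 (wOf 24 0x104364321574323453463121)))
 (.one (.stab 0 [])))))
 (.fork (.fork (.fork (.one (.edge 8 [0,3,4,3,2,1,3] 5 (wOf 22 0x2643213682346234612321)))
 (.one (.stab 0 [])))
 (.fork (.one (.edge 5 (wOf 13 0x6346123462343) 5 (wOf 25 0x103543213546462323431230)))
 (.one (.stab 0 []))))
 (.fork (.fork (.one (.edge 5 [1,0,3,5,4,3,2,1,0,3,7] 5 (wOf 25 0x121326432546832345123462)))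
 (.one (.stab 0 [])))
 (.fork (.one (.edge 9 [3,2,1,6,8,6,4,3] 5 (wOf 25 0x2554321032646346231234312)))
 (.one (.stab 0 []))))))))

/-- a part of the facts -/
noncomputable def twFactsT117 : BT Fact := (.fork (.fork (.fork (.fork (.fork (.fork (.one (.stab 2 (wOf 18 0x232645323463234543)))
 (.one (.edge 9 [0,3,2,1,0,4,3,5,5,7] 5 (wOf 24 0x321343215466346234231210))))
 (.fork (.one (.edge 5 [4,3,2,1,3,8,5] 5 [1,0,2,1,3,2,1,3,5,4,6,6]))
 (.one (.stab 0 []))))
 (.fork (.fork (.one (.edge 6 [0,3,2,1,4,3,6,6] 5 (wOf 21 0x108543523123462312321)))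
 (.one (.stab 0 [])))
 (.fork (.one (.edge 5 (wOf 16 0x2463458123452320) 5 (wOf 22 0x232154534323123463432)))
 (.one (.stab 0 [])))))
 (.fork (.fork (.fork (.one (.edge 6 [1,6,4,3,2,6,4] 8 (wOf 23 0x1321543572341230123461)))
 (.one (.stab 0 [])))
 (.fork (.one (.edge 5 (wOf 13 0x5823123463452) 5 (wOf 21 0x13213457342323123450)))
 (.one (.stab 0 []))))
 (.fork (.fork (.one (.edge 6 [0,1,5,4,3,6,4,7,6] 5 (wOf 26 0x54325432186463462346232312)))
 (.one (.stab 0 [])))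
 (.fork (.one (.edge 5 (wOf 14 0x30123468634232) 5 (wOf 24 0x321321554534582346234521)))
 (.one (.stab 0 []))))))
 (.fork (.fork (.fork (.fork (.one (.edge 4 [4,5,4,3,5,4] 8 (wOf 23 0x12143854532346612323123)))
 (.one (.stab 0 [])))
 (.fork (.one (.edge 5 [5,4,3,2,1,8,5,4,3,5] 5 (wOf 21 0x166432683453123123463)))
 (.one (.stab 0 []))))
 (.fork (.fork (.one (.edge 8 [2,1,3,2,5,8,5] 5 (wOf 25 0x2135432643823461232346634)))
 (.one (.stab 0 [])))
 (.fork (.one (.edge 5 [8,6,4,3,2,1,5,4,3,5,8] 5 (wOf 21 0x385432345231234623231)))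
 (.one (.stab 0 [])))))
 (.fork (.fork (.fork (.one (.edge 8 [0,3,4,3,2,1,3,6] 5 (wOf 22 0x102132554534532345812)))
 (.one (.stab 0 [])))
 (.fork (.one (.edge 5 [0,1,3,2,1,4,3,5,5,7] 5 (wOf 16 0x234534623451230)))
 (.one (.stab 0 []))))
 (.fork (.fork (.one (.edge 5 (wOf 14 0x34581234532301) 5 (wOf 23 0x1214643231234534623462)))
 (.one (.stab 0 [])))
 (.fork (.one (.edge 5 [0,3,2,1,5,4,3,2,5,8] 9 (wOf 24 0x664323245432312345234632)))
 (.one (.stab 0 [])))))))
 (.fork (.fork (.fork (.fork (.fork (.one (.edge 6 (wOf 26 0x2366432132545342323123210) 7 [0,1,5,4,3,2,1,0,3,5,8]))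
 (.one (.edge 5 [0,5,4,3,2,1,3,2,4,3,7] 9 (wOf 21 0x176432345712346231234))))
 (.fork (.one (.edge 5 (wOf 13 0x6346712346123) 5 (wOf 25 0x121321324663463234612320)))
 (.one (.stab 0 []))))
 (.fork (.fork (.one (.edge 5 [3,5,4,5,8,5] 5 (wOf 18 0x232763461230123453)))
 (.one (.stab 0 [])))
 (.fork (.one (.edge 5 [0,3,6,6,4,3,2,1,3,2,4] 5 (wOf 24 0x125432108545342312345310)))
 (.one (.stab 0 [])))))
 (.fork (.fork (.fork (.one (.edge 7 [0,5,4,3,2,1,3,6,6] 5 (wOf 24 0x21432132345731234632312)))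
 (.one (.stab 0 [])))
 (.fork (.one (.edge 5 (wOf 15 0x534501234554231) 5 (wOf 28 0x124554321324634682323451232)))
 (.one (.stab 0 []))))
 (.fork (.fork (.one (.edge 5 [2,7,5,4,3,2,1,6,4,3,6] 5 (wOf 27 0x103243275432643123467123412)))
 (.one (.stab 0 [])))
 (.fork (.one (.edge 5 (wOf 15 0x345812345323432) 5 (wOf 24 0x102143264634523234641230)))
 (.one (.stab 0 []))))))
 (.fork (.fork (.fork (.fork (.one (.edge 3 [2,3,2,1,5,4,3,5,8] 5 (wOf 23 0x12321436746342323123421)))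
 (.one (.stab 0 [])))
 (.fork (.one (.edge 5 [0,2,1,0,5,4,3] 5 (wOf 26 0x2643218543523461234232312)))
 (.one (.stab 0 []))))
 (.fork (.fork (.one (.edge 8 [3,4,3,2,1,5,4,3,5,4,6] 5 (wOf 25 0x326432854634231234661230)))
 (.one (.stab 0 [])))
 (.fork (.one (.edge 5 (wOf 13 0x6463123466320) 5 (wOf 25 0x5543213254323454512323451)))
 (.one (.stab 0 [])))))
 (.fork (.fork (.fork (.one (.edge 5 [0,2,1,3,2,1,8,6,4,3,5,4] 5 (wOf 25 0x1046432364534523468123410)))
 (.one (.stab 0 [])))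
 (.fork (.one (.edge 5 (wOf 14 0x64512323453412) 5 (wOf 25 0x3243213454673234612343010)))
 (.one (.stab 0 []))))
 (.fork (.fork (.one (.edge 5 (wOf 14 0x23450123458530) 5 (wOf 26 0x32103210327646346234671232)))
 (.one (.stab 0 [])))
 (.fork (.one (.edge 5 (wOf 14 0x62345834512320) 9 (wOf 27 0x154321321326846345231234523)))
 (.one (.stab 0 []))))))))

/-- a part of the facts -/
noncomputable def twFactsT118 : BT Fact := (.fork (.fork (.fork (.fork (.fork (.fork (.one (.edge 3 (wOf 18 0x54553234512323123) 3 (wOf 13 0x6662301230123)))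
 (.one (.edge 5 (wOf 14 0x63466123455231) 9 (wOf 26 0x13218543213546632343231232))))
 (.fork (.one (.edge 5 [0,4,3,6,4,3,2,1,3,2,5,8] 5 (wOf 23 0x23543210546634623458123)))
 (.one (.stab 0 []))))
 (.fork (.fork (.one (.edge 8 [1,3,5,8,5] 5 (wOf 16 0x681232341232312)))
 (.one (.stab 0 [])))
 (.fork (.one (.edge 5 (wOf 17 0x12573453462323453) 5 (wOf 27 0x26432154321853464323432312)))
 (.one (.stab 0 [])))))
 (.fork (.fork (.fork (.one (.edge 7 (wOf 13 0x5531234543230) 5 (wOf 26 0x1326643216463452345234672)))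
 (.one (.stab 0 [])))
 (.fork (.one (.edge 5 (wOf 15 0x463123468345234) 5 (wOf 27 0x121321854321684532345832346)))
 (.one (.stab 0 []))))
 (.fork (.fork (.one (.edge 8 [0,3,2,6,4,3,2,1,0,6,6,4] 5 (wOf 25 0x2325432345453452345123450)))
 (.one (.stab 0 [])))
 (.fork (.one (.edge 5 [5,4,3,2,3,2,1,0,6,4,7,6] 5 (wOf 25 0x343210321674634231234551)))
 (.one (.stab 0 []))))))
 (.fork (.fork (.fork (.fork (.one (.edge 7 [0,2,5,4,3,2,6,6] 6 (wOf 26 0x14321354364532345123432312)))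
 (.one (.stab 0 [])))
 (.fork (.one (.edge 5 [3,2,1,5,5,4,3,6,6] 5 (wOf 22 0x2132436432345123423120)))
 (.one (.stab 0 []))))
 (.fork (.fork (.one (.edge 6 [0,3,2,1,0,8,6,4,3,5] 5 (wOf 26 0x32103210354634572312312346)))
 (.one (.stab 0 [])))
 (.fork (.one (.edge 5 [2,1,3,6,6,4,3,2,1,0,3] 5 (wOf 24 0x143213643862346431234010)))
 (.one (.stab 0 [])))))
 (.fork (.fork (.fork (.one (.edge 6 [0,5,4,3,2,1,3,5,8] 5 (wOf 22 0x3214664323454312345721)))
 (.one (.stab 0 [])))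
 (.fork (.one (.edge 5 (wOf 13 0x1232346734232) 5 (wOf 25 0x143264321583452323431201)))
 (.one (.stab 0 []))))
 (.fork (.fork (.one (.edge 5 [0,3,2,1,0,4,5,4,3,5] 5 (wOf 27 0x26432643217645323453123210)))
 (.one (.stab 0 [])))
 (.fork (.one (.edge 5 [3,2,1,4,6,4,3,2,1,5,4,3] 9 (wOf 26 0x10432167643546234512345721)))
 (.one (.stab 0 [])))))))
 (.fork (.fork (.fork (.fork (.fork (.one (.edge 6 [4,3] 8 (wOf 20 0x16432534662312343232)))
 (.one (.edge 9 [5,4,3,7,5,4,3,2,1] 5 (wOf 21 0x466432634231234646421))))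
 (.fork (.one (.edge 5 (wOf 13 0x8634612346120) 5 (wOf 26 0x1213213243645532345523121)))
 (.one (.stab 0 []))))
 (.fork (.fork (.one (.edge 6 [1,2,3,2,1,6,4,3] 5 (wOf 25 0x554321323646823123453120)))
 (.one (.stab 0 [])))
 (.fork (.one (.edge 5 [4,3,6,8,6,4,3,2,1,3,6] 5 (wOf 23 0x34321032534531234584123)))
 (.one (.stab 0 [])))))
 (.fork (.fork (.fork (.one (.edge 4 [0,5,4,3,2,1,3] 5 (wOf 27 0x135432103264663423123458123)))
 (.one (.stab 0 [])))
 (.fork (.one (.edge 5 (wOf 13 0x5345123453430) 5 (wOf 26 0x1213213643854623123431210)))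
 (.one (.stab 0 []))))
 (.fork (.fork (.one (.edge 6 [0,3,4,3,2,5,4,3,2,1,7] 5 (wOf 20 0x21054632345812340121)))
 (.one (.stab 0 [])))
 (.fork (.one (.edge 5 [5,5,4,3,2,1,3,6,6] 5 (wOf 17 0x32853123467312342)))
 (.one (.stab 0 []))))))
 (.fork (.fork (.fork (.fork (.one (.edge 6 (wOf 13 0x6346345431232) 5 (wOf 26 0x12321543213574523423123423)))
 (.one (.stab 0 [])))
 (.fork (.one (.edge 5 (wOf 16 0x2634512346343230) 5 (wOf 22 0x2143264323461234543201)))
 (.one (.stab 0 []))))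
 (.fork (.fork (.one (.edge 5 (wOf 13 0x7631234532312) 5 (wOf 28 0x123454326432645312345712301)))
 (.one (.stab 0 [])))
 (.fork (.one (.edge 5 [1,0,3,4,3,6,4,3,2,1,3,7] 5 (wOf 26 0x54321643276463452345123460)))
 (.one (.stab 0 [])))))
 (.fork (.fork (.fork (.one (.edge 8 [1,5,4,3,2,7,6] 5 (wOf 26 0x32106432554534682346123460)))
 (.one (.stab 0 [])))
 (.fork (.one (.edge 5 [0,2,3,4,3,2,1,3,5,4,3,2] 5 (wOf 22 0x2103432646734612345421)))
 (.one (.stab 0 []))))
 (.fork (.fork (.one (.edge 5 [0,2,1,3,2,1,6,6,4,3,6] 5 (wOf 27 0x12132454321323468323453210)))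
 (.one (.stab 0 [])))
 (.fork (.one (.edge 9 [1,3,6] 5 (wOf 24 0x323245432634631234631231)))
 (.one (.stab 0 []))))))))

/-- a part of the facts -/
noncomputable def twFactsT119 : BT Fact := (.fork (.fork (.fork (.fork (.fork (.fork (.one (.stab 3 [5,5,4,6,6]))
 (.one (.edge 9 [1,3,5,8,5] 5 (wOf 18 0x26463452312345553))))
 (.fork (.one (.edge 5 (wOf 18 0x643646231234673230) 5 (wOf 22 0x5543210345231234683010)))
 (.one (.stab 0 []))))
 (.fork (.fork (.one (.edge 7 [0,6,4,3,2,1,7,6,4,3,6] 5 (wOf 20 0x32132453462346234543)))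
 (.one (.stab 0 [])))
 (.fork (.one (.edge 5 [0,5,4,3,2,1,3,7,6] 5 (wOf 21 0x321686432346412323463)))
 (.one (.stab 0 [])))))
 (.fork (.fork (.fork (.one (.edge 3 [1,0,3,2,1,4,3,6,6,6] 5 (wOf 20 0x1432634542312345321)))
 (.one (.stab 0 [])))
 (.fork (.one (.edge 5 [0,2,3,2,1,0,5,8] 5 (wOf 23 0x35432132645831234534121)))
 (.one (.stab 0 []))))
 (.fork (.fork (.one (.edge 6 [0,3,2,1,4,5,4,3,6,4,8,6] 5 (wOf 25 0x1023864321543234623457120)))
 (.one (.stab 0 [])))
 (.fork (.one (.edge 5 [1,2,3,4,6,6,4,3,2,1,3] 5 (wOf 20 0x21354532345231234523)))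
 (.one (.stab 0 []))))))
 (.fork (.fork (.fork (.fork (.one (.edge 5 [4,6,4,3,2,6,6] 3 (wOf 22 0x3643213674532342312321)))
 (.one (.stab 0 [])))
 (.fork (.one (.edge 5 (wOf 16 0x1853234523123430) 5 (wOf 24 0x146432132746345323458120)))
 (.one (.stab 0 []))))
 (.fork (.fork (.one (.edge 5 (wOf 17 0x34532346712345230) 5 (wOf 21 0x124321674534623234632)))
 (.one (.stab 0 [])))
 (.fork (.one (.edge 5 [0,8,5,4,3,2,6,4,3,2,1] 5 (wOf 18 0x485432345123457320)))
 (.one (.stab 0 [])))))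
 (.fork (.fork (.fork (.one (.edge 5 [1,2,1,3,2,1,5,4,3,5,5,7] 5 (wOf 25 0x1043213254763234634123120)))
 (.one (.stab 0 [])))
 (.fork (.one (.edge 5 (wOf 15 0x612346234663232) 5 (wOf 25 0x2343232143645323451234301)))
 (.one (.stab 0 []))))
 (.fork (.fork (.one (.edge 5 (wOf 13 0x2346830123431) 5 (wOf 23 0x32364321754323123455341)))
 (.one (.stab 0 [])))
 (.fork (.one (.edge 7 [2,6,4,3,2,1,0,8,6,4,3,6] 9 (wOf 26 0x24321643237545323431231201)))
 (.one (.stab 0 [])))))))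
 (.fork (.fork (.fork (.fork (.fork (.one (.edge 4 [1,4,5,4,3,2,1,0,3,6,7] 8 (wOf 19 0x213843234512345210)))
 (.one (.edge 9 [3,2,1,4,3,2,6,8] 5 (wOf 24 0x454321646432345231234623))))
 (.fork (.one (.edge 5 [2,3,7,5,4,3,2,1,6,4,3,6] 5 (wOf 27 0x102132321754534231234512320)))
 (.one (.stab 0 []))))
 (.fork (.fork (.one (.edge 6 [4,5,4,3,2,1,0,3,7] 5 (wOf 24 0x107543216457346234631201)))
 (.one (.stab 0 [])))
 (.fork (.one (.edge 5 [4,3,2,3,4,6,6,4,3,2,1,3] 5 (wOf 25 0x646432132346232345312342)))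
 (.one (.stab 0 [])))))
 (.fork (.fork (.fork (.one (.edge 8 [2,1,0,3,6,6,6,4] 5 (wOf 26 0x64321032435463234531234572)))
 (.one (.stab 0 [])))
 (.fork (.one (.edge 5 [2,3,2,1,6,4,3] 5 (wOf 24 0x321032103467346234512345)))
 (.one (.stab 0 []))))
 (.fork (.fork (.one (.edge 6 [0,1,5,8,5,4,3,6] 5 (wOf 24 0x132145432574534512341201)))
 (.one (.stab 0 [])))
 (.fork (.one (.edge 5 [0,7,5,4,3,2,1,5,4,3,6,4] 5 (wOf 23 0x5432364643231234673230)))
 (.one (.stab 0 []))))))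
 (.fork (.fork (.fork (.fork (.one (.edge 7 [0,1,3,2,1,4,7,5,4,3] 8 (wOf 22 0x2324543542312345734312)))
 (.one (.stab 0 [])))
 (.fork (.one (.edge 5 (wOf 14 0x63458345123452) 5 (wOf 22 0x1366432663464312346010)))
 (.one (.stab 0 []))))
 (.fork (.fork (.one (.edge 3 [0,3,2,1,4,3,7,6] 5 (wOf 25 0x4375432103523467123423123)))
 (.one (.stab 0 [])))
 (.fork (.one (.edge 5 [2,6,4,3,2,1,5,4,3,6,4,3] 5 (wOf 26 0x10454321345743234623412323)))
 (.one (.stab 0 [])))))
 (.fork (.fork (.fork (.one (.edge 6 [5,4,3,2,1,5,4,3,6,8] 5 (wOf 25 0x1643232143546323451234572)))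
 (.one (.stab 0 [])))
 (.fork (.one (.edge 5 [0,5,4,3,2,1,5,4,5,4,3] 5 (wOf 26 0x12323543213554632346234662)))
 (.one (.stab 0 []))))
 (.fork (.fork (.one (.edge 7 (wOf 14 0x76453412323454) 5 (wOf 24 0x14321037546346234612321)))
 (.one (.stab 0 [])))
 (.fork (.one (.edge 6 [1,0,2,3,2,6,4,3,2,1,6,6] 9 (wOf 28 0x3210321386432534683123012301)))
 (.one (.stab 0 []))))))))

/-- a part of the facts -/
noncomputable def twFactsT120 : BT Fact := (.fork (.fork (.fork (.fork (.fork (.fork (.one (.edge 2 [1] 7 []))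
 (.one (.edge 5 [4,3,2,1,0,6,6,4,3,5] 9 (wOf 21 0x243213745234623123455))))
 (.fork (.one (.edge 5 [0,1,6,4,3,2,1,6,4,6,4,3] 5 (wOf 26 0x1343254321543234523453231)))
 (.one (.stab 0 []))))
 (.fork (.fork (.one (.edge 4 [0,5,4,3,2,1,3,5,8] 5 (wOf 26 0x10210328643645234231234684)))
 (.one (.stab 0 [])))
 (.fork (.one (.edge 5 [0,3,8,5,4,3,2,5,4,3,2,1] 5 (wOf 23 0x2132321574632346123121)))
 (.one (.stab 0 [])))))
 (.fork (.fork (.fork (.one (.edge 8 [0,2,3,2,1,4,3,7,6,4] 6 (wOf 26 0x43213554323546234581234512)))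
 (.one (.stab 0 [])))
 (.fork (.one (.edge 5 (wOf 16 0x345731234632301) 5 (wOf 26 0x10325435454323123452341231)))
 (.one (.stab 0 []))))
 (.fork (.fork (.one (.edge 5 (wOf 18 0x132834612345342320) 5 (wOf 22 0x210435545323468123420)))
 (.one (.stab 0 [])))
 (.fork (.one (.edge 5 (wOf 17 0x13674623453123120) 5 (wOf 26 0x23432324643231234543234631)))
 (.one (.stab 0 []))))))
 (.fork (.fork (.fork (.fork (.one (.edge 6 [1,6,4,3,6,6] 5 (wOf 26 0x32364321643762346123123455)))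
 (.one (.stab 0 [])))
 (.fork (.one (.edge 5 [3,7,5,4,3,2,1,0,3,6,4] 5 (wOf 26 0x2136432543545231234512343)))
 (.one (.stab 0 []))))
 (.fork (.fork (.one (.edge 6 (wOf 14 0x62345530123454) 5 (wOf 25 0x1543643213854623412323120)))
 (.one (.stab 0 [])))
 (.fork (.one (.edge 5 (wOf 19 0x132575345231234510) 5 (wOf 23 0x23213543854232346612321)))
 (.one (.stab 0 [])))))
 (.fork (.fork (.fork (.one (.edge 8 [4,3,2,1,8,6,4,3] 6 (wOf 24 0x105432164634523468312341)))
 (.one (.stab 0 [])))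
 (.fork (.one (.edge 5 (wOf 14 0x34601234634231) 5 (wOf 25 0x1454326432345123458301231)))
 (.one (.stab 0 []))))
 (.fork (.fork (.one (.edge 5 [0,3,2,1,4,6,4,3,2,8,6] 5 (wOf 25 0x4321321436746323123453432)))
 (.one (.stab 0 [])))
 (.fork (.one (.edge 5 (wOf 15 0x673451234612301) 9 (wOf 25 0x213643266432346812323431)))
 (.one (.stab 0 [])))))))
 (.fork (.fork (.fork (.fork (.fork (.one (.edge 3 [1,3,6,4,6,4] 5 (wOf 20 0x64323584534623123012)))
 (.one (.edge 10 [3,2,1,3,5,8] 5 (wOf 21 0x432105453452341232346))))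
 (.fork (.one (.edge 5 (wOf 15 0x734523123453232) 5 (wOf 22 0x364321634232346123468)))
 (.one (.stab 0 []))))
 (.fork (.fork (.one (.edge 8 [0,2,3,2,1,5,4,5,5,4,3,2] 5 (wOf 23 0x1235432634661231231201)))
 (.one (.stab 0 [])))
 (.fork (.one (.edge 5 [8,5,4,3,2,1,3,5,4,3,6] 5 (wOf 26 0x13432103643582345323123452)))
 (.one (.stab 0 [])))))
 (.fork (.fork (.fork (.one (.edge 6 (wOf 13 0x4534674012320) 7 (wOf 24 0x21032154634523458512346)))
 (.one (.stab 0 [])))
 (.fork (.one (.edge 5 (wOf 16 0x2453451234543232) 5 (wOf 24 0x21321543546232312345552)))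
 (.one (.stab 0 []))))
 (.fork (.fork (.one (.edge 6 [4,5,4,3,2,1,3,2,5,5,4] 5 (wOf 23 0x1543232846343231234530)))
 (.one (.stab 0 [])))
 (.fork (.one (.edge 5 [3,2,1,7,6] 9 [4,5,4,3,2,3,2,4,5,4,8]))
 (.one (.stab 0 []))))))
 (.fork (.fork (.fork (.fork (.one (.edge 8 [0,1,5,4,3,6] 5 (wOf 22 0x1232132553462323453123)))
 (.one (.stab 0 [])))
 (.fork (.one (.edge 5 (wOf 14 0x63451232345312) 5 (wOf 22 0x2321543762345412312312)))
 (.one (.stab 0 []))))
 (.fork (.fork (.one (.edge 5 [3,2,4,8,5,4,3,2,1,3,5] 5 (wOf 24 0x343232154632346723123462)))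
 (.one (.stab 0 [])))
 (.fork (.one (.edge 5 [4,3,6,4,3,2,1,3,6] 5 (wOf 24 0x10218643646234123123468)))
 (.one (.stab 0 [])))))
 (.fork (.fork (.fork (.one (.edge 3 [0,1,3,2,1,4,3,5,7] 5 (wOf 16 0x1346642323467123)))
 (.one (.stab 0 [])))
 (.fork (.one (.edge 5 (wOf 16 0x1554534623468323) 5 (wOf 23 0x12132554634231230123455)))
 (.one (.stab 0 []))))
 (.fork (.fork (.one (.edge 5 [2,5,4,3,2,1,5,4,3,6,4] 5 (wOf 23 0x3545432312345532346323)))
 (.one (.stab 0 [])))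
 (.fork (.one (.edge 9 [0,3,2,1,0,5,4,3,2,7,6] 5 (wOf 23 0x1245436463234671231210)))
 (.one (.stab 0 []))))))))

/-- a part of the facts -/
noncomputable def twFactsT121 : BT Fact := (.fork (.fork (.fork (.fork (.fork (.fork (.one (.stab 1 [1,0,2,1,4]))
 (.one (.edge 9 [1,0,2,1,0,6,6,4,3,5,8] 9 (wOf 19 0x1043864623123462323))))
 (.fork (.one (.edge 5 (wOf 13 0x3123468345234) 5 (wOf 20 0x25432645832312346320)))
 (.one (.stab 0 []))))
 (.fork (.fork (.one (.edge 6 [2,3,2,5,4,3,2,1,7] 5 (wOf 22 0x1435432543123457323432)))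
 (.one (.stab 0 [])))
 (.fork (.one (.edge 5 [0,2,6,4,3,2,1,5,4,3,6,6] 5 (wOf 26 0x1321032164853462346412323)))
 (.one (.stab 0 [])))))
 (.fork (.fork (.fork (.one (.edge 6 [0,1,2,5,4,6,6,4,3] 5 (wOf 25 0x214764321346623452340123)))
 (.one (.stab 0 [])))
 (.fork (.one (.edge 5 (wOf 13 0x6312346342320) 5 (wOf 26 0x12154321075463452346423120)))
 (.one (.stab 0 []))))
 (.fork (.fork (.one (.edge 6 [0,4,3,6,4,3,2,1,3,2,5] 5 (wOf 26 0x1214321543864523452346821)))
 (.one (.stab 0 [])))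
 (.fork (.one (.edge 5 (wOf 14 0x67346123452323) 5 (wOf 27 0x12432164325432346812346012)))
 (.one (.stab 0 []))))))
 (.fork (.fork (.fork (.fork (.one (.edge 7 [3,5,4,3,2,1,6,4,3,2] 5 (wOf 23 0x34543210534623423123121)))
 (.one (.stab 0 [])))
 (.fork (.one (.edge 5 [3,2,3,2,7,5,4,3,2,1,6] 5 (wOf 27 0x264321643232764553423123462)))
 (.one (.stab 0 []))))
 (.fork (.fork (.one (.edge 8 [3,2,1,5,4,5,4,3] 5 (wOf 22 0x1432321545323468312343)))
 (.one (.stab 0 [])))
 (.fork (.one (.edge 5 [0,6,4,3,2,1,6,4,3,6] 5 (wOf 22 0x132135546323454312321)))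
 (.one (.stab 0 [])))))
 (.fork (.fork (.fork (.one (.edge 8 [0,2,1,0,7] 6 [1,0,7,6,4,5]))
 (.one (.stab 0 [])))
 (.fork (.one (.edge 5 (wOf 15 0x466312346312312) 5 (wOf 18 0x324634672345123461)))
 (.one (.stab 0 []))))
 (.fork (.fork (.one (.edge 5 [3,2,6,4,3,2,1,7,5,4,3,2] 5 (wOf 23 0x1213643664323123431210)))
 (.one (.stab 0 [])))
 (.fork (.one (.edge 5 (wOf 14 0x63123468323430) 9 (wOf 16 0x3462342312312345)))
 (.one (.stab 0 [])))))))
 (.fork (.fork (.fork (.fork (.fork (.one (.edge 6 (wOf 21 0x43235463234683123421) 4 [0,5,4,3,2,5,4,6]))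
 (.one (.edge 5 (wOf 14 0x73123463431231) 9 (wOf 26 0x32132185432345812323453423))))
 (.fork (.one (.edge 5 (wOf 14 0x12345123466230) 5 (wOf 23 0x23432138545323432312343)))
 (.one (.stab 0 []))))
 (.fork (.fork (.one (.edge 5 (wOf 16 0x645534123234684) 5 (wOf 22 0x1023285463462312346340)))
 (.one (.stab 0 [])))
 (.fork (.one (.edge 5 [0,8,5,4,3,2,1,6,4,3,6,6] 5 (wOf 20 0x2103458234512343123)))
 (.one (.stab 0 [])))))
 (.fork (.fork (.fork (.one (.edge 6 [2,1,3,6,6,4] 5 (wOf 24 0x210321432346431234585232)))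
 (.one (.stab 0 [])))
 (.fork (.one (.edge 5 (wOf 16 0x623461234634230) 5 (wOf 25 0x4325543210583462342312346)))
 (.one (.stab 0 []))))
 (.fork (.fork (.one (.edge 5 (wOf 13 0x3451234683230) 5 (wOf 23 0x10466432345123453234671)))
 (.one (.stab 0 [])))
 (.fork (.one (.edge 5 (wOf 18 0x21346732346312301) 5 (wOf 23 0x10343213642323123458343)))
 (.one (.stab 0 []))))))
 (.fork (.fork (.fork (.fork (.one (.edge 7 [0,2,4,3,6,4,3,2,1,3,5,5] 5 (wOf 23 0x2103213463423234583452)))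
 (.one (.stab 0 [])))
 (.fork (.one (.edge 5 [2,3,4,5,4,3,2,1,3,6,7] 5 (wOf 23 0x1243543643231234631201)))
 (.one (.stab 0 []))))
 (.fork (.fork (.one (.edge 7 (wOf 13 0x5854231234532) 6 (wOf 25 0x210321464534623463231210)))
 (.one (.stab 0 [])))
 (.fork (.one (.edge 5 (wOf 13 0x6346123452301) 5 (wOf 26 0x32643215543523455123462342)))
 (.one (.stab 0 [])))))
 (.fork (.fork (.fork (.one (.edge 5 [2,1,0,3,5,4,3,2,1,3,5,8] 8 (wOf 27 0x121043254326457346231234621)))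
 (.one (.stab 0 [])))
 (.fork (.one (.edge 5 [5,5,4,3,2,3,2,1,0] 5 (wOf 22 0x2464321683462323453210)))
 (.one (.stab 0 []))))
 (.fork (.fork (.one (.edge 5 (wOf 15 0x345457123462320) 5 (wOf 27 0x135432132437643234551234512)))
 (.one (.stab 0 [])))
 (.fork (.one (.edge 5 [0,3,2,1,3,2,7,6,4] 9 (wOf 22 0x2132176453462346123450)))
 (.one (.stab 0 []))))))))

/-- a part of the facts -/
noncomputable def twFactsT122 : BT Fact := (.fork (.fork (.fork (.fork (.fork (.fork (.one (.edge 3 (wOf 14 0x34674512301231) 3 (wOf 21 0x486432534612301234660)))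
 (.one (.edge 5 [3,4,6,4,3,2,1,3,7,5] 9 (wOf 25 0x2135432132646634623123455))))
 (.fork (.one (.edge 5 [1,3,4,5,4,3,2,3,2,1,0,5] 5 (wOf 24 0x214643254763452312345723)))
 (.one (.stab 0 []))))
 (.fork (.fork (.one (.edge 8 (wOf 13 0x6123012345346) 5 (wOf 26 0x5432136432534123123123454)))
 (.one (.stab 0 [])))
 (.fork (.one (.edge 5 (wOf 14 0x63123468632301) 5 (wOf 25 0x354321032534583452312342)))
 (.one (.stab 0 [])))))
 (.fork (.fork (.fork (.one (.edge 6 [1,0,3,5,8] 8 (wOf 26 0x12132132432643123458541201)))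
 (.one (.stab 0 [])))
 (.fork (.one (.edge 5 (wOf 17 0x13468345234623120) 5 (wOf 25 0x1343213210546345852341230)))
 (.one (.stab 0 []))))
 (.fork (.fork (.one (.edge 8 [0,3,4,3,2,1,3,7,5] 5 (wOf 22 0x217543645234123123453)))
 (.one (.stab 0 [])))
 (.fork (.one (.edge 5 (wOf 13 0x8453461234520) 5 (wOf 14 0x85312345123464)))
 (.one (.stab 0 []))))))
 (.fork (.fork (.fork (.fork (.one (.edge 4 (wOf 17 0x23646234661232346) 7 (wOf 17 0x10346234532346612)))
 (.one (.stab 0 [])))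
 (.fork (.one (.edge 5 (wOf 13 0x4534512345343) 5 (wOf 19 0x2432546346123455232)))
 (.one (.stab 0 []))))
 (.fork (.fork (.one (.edge 6 [0,3,2,1,5,4,3,7,6] 5 (wOf 23 0x1254321534572346234232)))
 (.one (.stab 0 [])))
 (.fork (.one (.edge 5 [2,1,3,2,3,6,4,3,2,1,3] 5 (wOf 28 0x1023664321354573234512346420)))
 (.one (.stab 0 [])))))
 (.fork (.fork (.fork (.one (.edge 6 (wOf 13 0x6466345512320) 5 (wOf 24 0x323543643862346123423121)))
 (.one (.stab 0 [])))
 (.fork (.one (.edge 5 (wOf 15 0x631234686342310) 5 (wOf 26 0x32325432136464323461234620)))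
 (.one (.stab 0 []))))
 (.fork (.fork (.one (.edge 5 (wOf 14 0x63461234673230) 5 (wOf 22 0x2354321753423234545431)))
 (.one (.stab 0 [])))
 (.fork (.one (.edge 5 (wOf 17 0x2646312345534301) 9 (wOf 25 0x2324325432553453123464121)))
 (.one (.stab 0 [])))))))
 (.fork (.fork (.fork (.fork (.fork (.one (.edge 6 [5,4,3,7,5,4,3,6] 5 (wOf 16 0x5457323453234534)))
 (.one (.edge 9 [3,2,3,2,1,6,4,3,7,6] 9 (wOf 27 0x364323485432312345234523421))))
 (.fork (.one (.edge 5 (wOf 16 0x3623123452346231) 5 (wOf 26 0x1021464323646342312346731)))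
 (.one (.stab 0 []))))
 (.fork (.fork (.one (.edge 6 [0,6,6,4,3,2,1,3,4,6] 5 (wOf 27 0x102321432543754623123467312)))
 (.one (.stab 0 [])))
 (.fork (.one (.edge 5 [3,5,4,3,2,1,8,5,4,3] 5 (wOf 25 0x132136432674312346412320)))
 (.one (.stab 0 [])))))
 (.fork (.fork (.fork (.one (.edge 3 [3,2,3,2,1,8,6] 5 (wOf 22 0x121321764534552343210)))
 (.one (.stab 0 [])))
 (.fork (.one (.edge 5 (wOf 16 0x1663234523234512) 5 (wOf 19 0x2554634623123463123)))
 (.one (.stab 0 []))))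
 (.fork (.fork (.one (.edge 6 [0,3,2,1,4,3,5,5,7] 5 (wOf 26 0x10213232154753234523461230)))
 (.one (.stab 0 [])))
 (.fork (.one (.edge 5 (wOf 16 0x3572346312345530) 5 (wOf 24 0x102134764632346123463123)))
 (.one (.stab 0 []))))))
 (.fork (.fork (.fork (.fork (.one (.edge 4 [4,5,4,3,2,3,2,1,7] 5 (wOf 23 0x32134323554523452346723)))
 (.one (.stab 0 [])))
 (.fork (.one (.edge 5 (wOf 16 0x572346123453232) 5 (wOf 25 0x6432364321534523452323457)))
 (.one (.stab 0 []))))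
 (.fork (.fork (.one (.edge 5 [0,5,5,4,3,2,1,6,6,4,3,6] 5 (wOf 25 0x1232432154534623468123231)))
 (.one (.stab 0 [])))
 (.fork (.one (.edge 5 (wOf 14 0x46731234634010) 5 (wOf 26 0x1432136432346123457323012)))
 (.one (.stab 0 [])))))
 (.fork (.fork (.fork (.one (.edge 7 (wOf 13 0x1234545234542) 5 (wOf 25 0x864321543554623458123462)))
 (.one (.stab 0 [])))
 (.fork (.one (.edge 5 [2,3,7,5,4,3,2,1,3,6,4,6] 5 (wOf 13 0x7601234662323)))
 (.one (.stab 0 []))))
 (.fork (.fork (.one (.edge 5 [4,3,2,6,4,3,2,1] 5 (wOf 27 0x10213213754534523454123210)))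
 (.one (.stab 0 [])))
 (.fork (.one (.edge 8 [1,4,3,2,1,7,6,4,3,6] 9 (wOf 25 0x3435432321864632345234510)))
 (.one (.stab 0 []))))))))

/-- a part of the facts -/
noncomputable def twFactsT123 : BT Fact := (.fork (.fork (.fork (.fork (.fork (.fork (.one (.edge 2 [3,6,4,3] 2 [0,3,2,3,4,3,6,4,6,7]))
 (.one (.edge 9 [3,7,6] 5 (wOf 20 0x32643864532346231231))))
 (.fork (.one (.edge 5 (wOf 14 0x53123458345323) 5 (wOf 22 0x124364553234323123460)))
 (.one (.stab 0 []))))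
 (.fork (.fork (.one (.edge 6 [0,1,5,4,3,2,6,6] 5 (wOf 27 0x132554321325463462345812310)))
 (.one (.stab 0 [])))
 (.fork (.one (.edge 5 [0,2,1,6,4,3,6] 5 (wOf 26 0x10216432643554231231234554)))
 (.one (.stab 0 [])))))
 (.fork (.fork (.fork (.one (.edge 8 [4,5,4,3] 5 (wOf 25 0x126432103462345853123123)))
 (.one (.stab 0 [])))
 (.fork (.one (.edge 5 [2,1,0,4,3,7,5,4,3,2,1,3] 5 (wOf 23 0x13213213646832345432346)))
 (.one (.stab 0 []))))
 (.fork (.fork (.one (.edge 6 [1,0,3,6,6] 6 (wOf 18 0x102663412323431230)))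
 (.one (.stab 0 [])))
 (.fork (.one (.edge 5 (wOf 14 0x63123457345123) 5 (wOf 26 0x2154326432631234543234532)))
 (.one (.stab 0 []))))))
 (.fork (.fork (.fork (.fork (.one (.edge 8 [0,4,5,4,3,2,1,3,5,5] 5 (wOf 22 0x6432132554634323123453)))
 (.one (.stab 0 [])))
 (.fork (.one (.edge 5 (wOf 17 0x21646323457234232) 5 (wOf 23 0x1432364853423234612346)))
 (.one (.stab 0 []))))
 (.fork (.fork (.one (.edge 5 (wOf 15 0x663461234572323) 5 (wOf 28 0x267643216432546346612346010)))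
 (.one (.stab 0 [])))
 (.fork (.one (.edge 5 (wOf 15 0x846301234643012) 5 (wOf 23 0x21643217546345234581230)))
 (.one (.stab 0 [])))))
 (.fork (.fork (.fork (.one (.edge 3 [2,3,2,1,5,4,3,5,5,7] 5 (wOf 23 0x10432164863452346123120)))
 (.one (.stab 0 [])))
 (.fork (.one (.edge 5 [0,2,7,6,4,3,2,1,0,6,4,3] 5 (wOf 20 0x1321432345512345521)))
 (.one (.stab 0 []))))
 (.fork (.fork (.one (.edge 5 (wOf 15 0x645734501234532) 5 (wOf 25 0x124376432346423123464210)))
 (.one (.stab 0 [])))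
 (.fork (.one (.edge 6 [0,1,0,3,4,6,7] 9 (wOf 21 0x321321545346823012310)))
 (.one (.stab 0 [])))))))
 (.fork (.fork (.fork (.fork (.fork (.one (.edge 5 [2,6,6,6,4] 6 [2,5,8,5,4]))
 (.one (.edge 5 (wOf 13 0x7545234571230) 9 (wOf 23 0x21854323646823423123010))))
 (.fork (.one (.edge 5 (wOf 14 0x58530123453410) 5 (wOf 27 0x46432132432634681234643232)))
 (.one (.stab 0 []))))
 (.fork (.fork (.one (.edge 6 [4,3,2,1,0,6,6,4,3,2,5,4] 5 (wOf 24 0x12325432574631234512301)))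
 (.one (.stab 0 [])))
 (.fork (.one (.edge 5 (wOf 13 0x6731234534623) 5 (wOf 26 0x1210354323864532312346823)))
 (.one (.stab 0 [])))))
 (.fork (.fork (.fork (.one (.edge 8 [2,3,5,4,3,2,1,6,4,3] 5 (wOf 18 0x132546632312340123)))
 (.one (.stab 0 [])))
 (.fork (.one (.edge 5 [0,1,3,4,5,4,3,2,1,3,5,5] 5 (wOf 24 0x643264321664534662345120)))
 (.one (.stab 0 []))))
 (.fork (.fork (.one (.edge 5 [0,1,2,1,6,4,3,5,4,6] 7 (wOf 19 0x1321546346232345312)))
 (.one (.stab 0 [])))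
 (.fork (.one (.edge 5 [1,2,7,5] 5 (wOf 20 0x10321853234523123453)))
 (.one (.stab 0 []))))))
 (.fork (.fork (.fork (.fork (.one (.edge 7 [2,3,2,6,4,3,2,1,3,7,6] 6 (wOf 24 0x234323575432312345012346)))
 (.one (.stab 0 [])))
 (.fork (.one (.edge 5 [0,1,0,6,4,3,7,6,4,3,2,1] 5 (wOf 24 0x355543213467234123012345)))
 (.one (.stab 0 []))))
 (.fork (.fork (.one (.edge 3 [0,2,3,2,1,4,3,8,6,4] 5 (wOf 25 0x1321464321534523458523461)))
 (.one (.stab 0 [])))
 (.fork (.one (.edge 5 (wOf 13 0x3457012346340) 5 (wOf 24 0x123235432674534512345401)))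
 (.one (.stab 0 [])))))
 (.fork (.fork (.fork (.one (.edge 6 [1,0,4,7,5,4,3] 5 (wOf 21 0x664321674323463231232)))
 (.one (.stab 0 [])))
 (.fork (.one (.edge 5 [0,4,3,8,5,4,3,2,1,3,6] 5 (wOf 25 0x2103237643646234231231210)))
 (.one (.stab 0 []))))
 (.fork (.fork (.one (.edge 5 [1,0,3,6,8,6,4,3,2,1,0,3] 5 (wOf 22 0x2435486432312346342320)))
 (.one (.stab 0 [])))
 (.fork (.one (.edge 5 [0,2,6,4,3,2,1,5,4,5,4,3] 9 (wOf 24 0x123854321634623452345410)))
 (.one (.stab 0 []))))))))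

/-- a part of the facts -/
noncomputable def twFactsT124 : BT Fact := (.fork (.fork (.fork (.fork (.fork (.fork (.one (.edge 1 [1,3,5,5,7] 6 []))
 (.one (.edge 5 (wOf 16 0x762345123461231) 9 (wOf 24 0x15432155453452346612346))))
 (.fork (.one (.edge 5 [0,3,6,4,3,2,1,5,4,3,6] 5 (wOf 25 0x2135432154532346312346340)))
 (.one (.stab 0 []))))
 (.fork (.fork (.one (.edge 8 [1,0,7,5,4,5,4,3] 5 (wOf 22 0x543235458323461232341)))
 (.one (.stab 0 [])))
 (.fork (.one (.edge 5 [3,2,1,6,6,4,3] 5 (wOf 28 0x324326432164534623467123452)))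
 (.one (.stab 0 [])))))
 (.fork (.fork (.fork (.one (.edge 8 [0,3,7,6] 8 (wOf 21 0x43264573452345234642)))
 (.one (.stab 0 [])))
 (.fork (.one (.edge 5 [5,4,5,4,3,2,1,3,5] 5 (wOf 23 0x1023216645734231234123)))
 (.one (.stab 0 []))))
 (.fork (.fork (.one (.edge 5 (wOf 14 0x46346712346320) 5 (wOf 24 0x123435432643123466340120)))
 (.one (.stab 0 [])))
 (.fork (.one (.edge 5 (wOf 18 0x10346345323468323) 5 (wOf 24 0x243234643542312346863123)))
 (.one (.stab 0 []))))))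
 (.fork (.fork (.fork (.fork (.one (.edge 5 [0,1,2,3,2,1,5,4,8,6,4,3] 6 (wOf 22 0x2104321346234663423121)))
 (.one (.stab 0 [])))
 (.fork (.one (.edge 5 (wOf 14 0x63452345512345) 5 (wOf 23 0x13213243762312346723231)))
 (.one (.stab 0 []))))
 (.fork (.fork (.one (.edge 6 [0,4,3,2,1,3,7,6,4,3,6] 5 (wOf 24 0x386432135453234631234554)))
 (.one (.stab 0 [])))
 (.fork (.one (.edge 5 (wOf 14 0x64631234573230) 5 (wOf 26 0x2103543213646623234612301)))
 (.one (.stab 0 [])))))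
 (.fork (.fork (.fork (.one (.edge 8 (wOf 13 0x6812346345230) 5 (wOf 27 0x137643232164532345346123210)))
 (.one (.stab 0 [])))
 (.fork (.one (.edge 5 (wOf 15 0x645312345532301) 5 (wOf 25 0x232643216646323453462342)))
 (.one (.stab 0 []))))
 (.fork (.fork (.one (.edge 5 [1,3,2,6,4,3,2,1,5,8] 5 (wOf 24 0x102134364732345432312301)))
 (.one (.stab 0 [])))
 (.fork (.one (.edge 5 (wOf 14 0x67461234623420) 9 (wOf 25 0x1032137543623462345123121)))
 (.one (.stab 0 [])))))))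
 (.fork (.fork (.fork (.fork (.fork (.one (.edge 6 [0,1,5,5,7] 8 (wOf 26 0x3210321343723454123231234)))
 (.one (.edge 9 [0,3,2,1,5,4,8,5,4,3] 10 (wOf 21 0x125432531234231234555))))
 (.fork (.one (.edge 5 (wOf 13 0x6843123454323) 5 (wOf 24 0x25432155453462346123234)))
 (.one (.stab 0 []))))
 (.fork (.fork (.one (.edge 8 (wOf 15 0x745123462343010) 5 (wOf 25 0x1021432543545823123452312)))
 (.one (.stab 0 [])))
 (.fork (.one (.edge 5 (wOf 14 0x53460123462343) 5 (wOf 25 0x1021364321634643234323120)))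
 (.one (.stab 0 [])))))
 (.fork (.fork (.fork (.one (.edge 6 [0,1,4,6,6,4,3,2,1,5] 5 (wOf 22 0x4325543234681234623010)))
 (.one (.stab 0 [])))
 (.fork (.one (.edge 5 (wOf 14 0x58501234623460) 5 (wOf 23 0x1054323545832345341230)))
 (.one (.stab 0 []))))
 (.fork (.fork (.one (.edge 6 [0,2,4,6,6,4,3,2,1,0,5] 5 (wOf 26 0x24327543254634623123453421)))
 (.one (.stab 0 [])))
 (.fork (.one (.edge 5 (wOf 13 0x4634630123463) 5 (wOf 22 0x6432164832312346323453)))
 (.one (.stab 0 []))))))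
 (.fork (.fork (.fork (.fork (.one (.edge 8 [1,3,4,3,2,1,5,4,3,7,5] 5 (wOf 26 0x1215432103466234623461210)))
 (.one (.stab 0 [])))
 (.fork (.one (.edge 5 [2,5,4,3,2,1,5,4,3,2,6,6] 5 (wOf 26 0x14321326432543234612346720)))
 (.one (.stab 0 []))))
 (.fork (.fork (.one (.edge 5 [3,2,4,6,4,3,2,1,6,4,3] 5 (wOf 21 0x364321646346234523401)))
 (.one (.stab 0 [])))
 (.fork (.one (.edge 5 (wOf 13 0x5312345843120) 5 (wOf 19 0x3213545723451234010)))
 (.one (.stab 0 [])))))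
 (.fork (.fork (.fork (.one (.edge 8 [0,3,2,1,5,4,6] 5 (wOf 28 0x213213264321646346723431232)))
 (.one (.stab 0 [])))
 (.fork (.one (.edge 5 (wOf 13 0x4634512345812) 5 (wOf 23 0x10554321323467323455312)))
 (.one (.stab 0 []))))
 (.fork (.fork (.one (.edge 5 [3,6,4,3,2,1,3,6,4] 5 (wOf 26 0x10643266432646346712345234)))
 (.one (.stab 0 [])))
 (.fork (.one (.edge 9 [0,1,5,4,3,5,5,7] 9 (wOf 26 0x1021343232574531234123121)))
 (.one (.stab 0 []))))))))

/-- a part of the facts -/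
noncomputable def twFactsT125 : BT Fact := (.fork (.fork (.fork (.fork (.fork (.fork (.one (.edge 2 [4,5,4,3,5] 1 (wOf 13 0x6234682323432)))
 (.one (.edge 9 [0,3,2,1,5,4,7,6,4,3] 5 (wOf 18 0x276463234671234523))))
 (.fork (.one (.edge 5 (wOf 14 0x64530123453463) 5 (wOf 19 0x8643645234612346823)))
 (.one (.stab 0 []))))
 (.fork (.fork (.one (.edge 6 [1,0,3,2,1,0,6] 6 (wOf 20 0x76432634663234512301)))
 (.one (.stab 0 [])))
 (.fork (.one (.edge 5 [2,4,3,2,1,6,4,3,2,5,8,5] 5 (wOf 21 0x354323746231234623210)))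
 (.one (.stab 0 [])))))
 (.fork (.fork (.fork (.one (.edge 7 [0,2,3,6,4,3,2,1,3,6] 6 (wOf 26 0x13275432103646234662312010)))
 (.one (.stab 0 [])))
 (.fork (.one (.edge 5 [0,3,6,4,6,4,3,2,1,3,7] 5 (wOf 24 0x214326643234643123464120)))
 (.one (.stab 0 []))))
 (.fork (.fork (.one (.edge 6 (wOf 13 0x8530123463420) 5 (wOf 23 0x12132364664323431230123)))
 (.one (.stab 0 [])))
 (.fork (.one (.edge 5 [3,6] 5 (wOf 21 0x210643546231234573230)))
 (.one (.stab 0 []))))))
 (.fork (.fork (.fork (.fork (.one (.edge 5 [5,4,3,6] 2 (wOf 18 0x10634574231234641)))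
 (.one (.stab 0 [])))
 (.fork (.one (.edge 5 [3,2,1,5,8,5,4,3,6] 5 (wOf 24 0x213210854583423123454121)))
 (.one (.stab 0 []))))
 (.fork (.fork (.one (.edge 5 (wOf 14 0x51234634323012) 5 (wOf 25 0x1321435432534552312341232)))
 (.one (.stab 0 [])))
 (.fork (.one (.edge 5 [1,3,2,1,5,4,3,2,1] 5 (wOf 22 0x464321323012346663231)))
 (.one (.stab 0 [])))))
 (.fork (.fork (.fork (.one (.edge 8 [1,3,6,7] 5 (wOf 27 0x12864326432645531234612010)))
 (.one (.stab 0 [])))
 (.fork (.one (.edge 5 [3,4,5,4,3,2,1,3,6,7] 5 (wOf 24 0x324643213462345323468323)))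
 (.one (.stab 0 []))))
 (.fork (.fork (.one (.edge 5 [0,1,3,2,1,4,6,4,6,4,3] 5 (wOf 21 0x132554323457123462010)))
 (.one (.stab 0 [])))
 (.fork (.one (.edge 5 (wOf 15 0x634531234583234) 9 (wOf 25 0x2132132103754663452312341)))
 (.one (.stab 0 [])))))))
 (.fork (.fork (.fork (.fork (.fork (.one (.edge 3 [1,3,2,7] 8 (wOf 15 0x346123123123468)))
 (.one (.edge 5 (wOf 13 0x6453461234520) 9 (wOf 23 0x23216432583461234230123))))
 (.fork (.one (.edge 5 [4,3,2,1,3,5,5,4,3,7] 5 (wOf 28 0x136437543213234612345723210)))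
 (.one (.stab 0 []))))
 (.fork (.fork (.one (.edge 5 (wOf 14 0x67234631234542) 5 (wOf 21 0x354543823461232346412)))
 (.one (.stab 0 [])))
 (.fork (.one (.edge 5 [2,3,2,4,6,4,3,2,1,8] 5 (wOf 26 0x10325543254634682312341210)))
 (.one (.stab 0 [])))))
 (.fork (.fork (.fork (.one (.edge 7 [0,6,4,3,2,1,5,8,5,4,3,6] 6 (wOf 19 0x2103645842312346342)))
 (.one (.stab 0 [])))
 (.fork (.one (.edge 5 (wOf 14 0x76430123466301) 5 (wOf 26 0x28643213243546723451231231)))
 (.one (.stab 0 []))))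
 (.fork (.fork (.one (.edge 5 [0,2,3,5,4,3,2,1,3,5,8] 5 (wOf 26 0x10543216432664534671234230)))
 (.one (.stab 0 [])))
 (.fork (.one (.edge 5 (wOf 13 0x7312345232345) 5 (wOf 24 0x12324321534584323451234)))
 (.one (.stab 0 []))))))
 (.fork (.fork (.fork (.fork (.one (.edge 5 [4,3,2,3,2,1,6,6] 5 (wOf 20 0x32132534551231234543)))
 (.one (.stab 0 [])))
 (.fork (.one (.edge 5 [0,3,2,5,4,8,5,4,3,2,1] 5 (wOf 19 0x2543646234585123420)))
 (.one (.stab 0 []))))
 (.fork (.fork (.one (.edge 8 [4,3,2,1,5,4,7,6,4,3] 5 (wOf 25 0x3764321324543234612323451)))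
 (.one (.stab 0 [])))
 (.fork (.one (.edge 5 [4,3,2,1,5,4,3,6,6] 5 (wOf 23 0x21345432545734612312343)))
 (.one (.stab 0 [])))))
 (.fork (.fork (.fork (.one (.edge 5 [2,5,4,3,2,1,6,6] 5 (wOf 23 0x21764326463452345812342)))
 (.one (.stab 0 [])))
 (.fork (.one (.edge 5 [1,0,3,2,1,4,6,4,3,6] 5 (wOf 16 0x2534583231234121)))
 (.one (.stab 0 []))))
 (.fork (.fork (.one (.edge 5 (wOf 13 0x7523467123460) 5 (wOf 24 0x132321543646234512345723)))
 (.one (.stab 0 [])))
 (.fork (.one (.edge 5 (wOf 13 0x6312345734232) 9 (wOf 23 0x21034321734543234543210)))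
 (.one (.stab 0 []))))))))

/-- a part of the facts -/
noncomputable def twFactsT126 : BT Fact := (.fork (.fork (.fork (.fork (.fork (.fork (.one (.edge 2 (wOf 22 0x3246432634543234631201) 3 (wOf 18 0x23745523412301231)))
 (.one (.edge 5 [3,4,7,6,4,3,2,1,3,5] 9 (wOf 20 0x23235745323451234662))))
 (.fork (.one (.edge 5 (wOf 15 0x634012323457432) 5 (wOf 26 0x1324321324546345234585232)))
 (.one (.stab 0 []))))
 (.fork (.fork (.one (.edge 8 (wOf 13 0x7623453412320) 5 (wOf 25 0x143255432673123453234530)))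
 (.one (.stab 0 [])))
 (.fork (.one (.edge 5 (wOf 14 0x12346812345323) 5 (wOf 22 0x2343213762346234623451)))
 (.one (.stab 0 [])))))
 (.fork (.fork (.fork (.one (.edge 7 [5,4,3,2,3,2,1,6] 5 (wOf 21 0x210343752345412301234)))
 (.one (.stab 0 [])))
 (.fork (.one (.edge 5 (wOf 13 0x6463123463401) 5 (wOf 23 0x12432103846234523123451)))
 (.one (.stab 0 []))))
 (.fork (.fork (.one (.edge 8 (wOf 13 0x2345312345530) 5 (wOf 24 0x432166432634623123463121)))
 (.one (.stab 0 [])))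
 (.fork (.one (.edge 5 (wOf 14 0x46345123457234) 5 (wOf 24 0x12143254663452345123464)))
 (.one (.stab 0 []))))))
 (.fork (.fork (.fork (.fork (.one (.edge 7 [0,3,2,1,3,5,4,3,7] 5 (wOf 15 0x585231230123423)))
 (.one (.stab 0 [])))
 (.fork (.one (.edge 5 (wOf 14 0x34683123452323) 5 (wOf 22 0x6432132466346123458232)))
 (.one (.stab 0 []))))
 (.fork (.fork (.one (.edge 6 [5,4,3,2,1,3,5,5,7] 5 (wOf 27 0x12134321321746345323432301)))
 (.one (.stab 0 [])))
 (.fork (.one (.edge 5 (wOf 13 0x3461234532345) 5 (wOf 22 0x1432854632346612340123)))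
 (.one (.stab 0 [])))))
 (.fork (.fork (.fork (.one (.edge 7 [1,0,3,5,4,5,4,3,2,1,3,5] 5 (wOf 25 0x1325432854534523467123420)))
 (.one (.stab 0 [])))
 (.fork (.one (.edge 5 [2,7,6,4,3,2,1,0,5,4,3,7] 5 (wOf 24 0x123854321634623457232312)))
 (.one (.stab 0 []))))
 (.fork (.fork (.one (.edge 6 [0,2,1,3,6,6] 5 (wOf 25 0x213264321545345234531231)))
 (.one (.stab 0 [])))
 (.fork (.one (.edge 5 (wOf 15 0x683123454323430) 9 (wOf 22 0x2545432543123453462321)))
 (.one (.stab 0 [])))))))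
 (.fork (.fork (.fork (.fork (.fork (.one (.edge 3 [1,0,3,2,1,0,4,3] 8 (wOf 25 0x1210324354632345731234232)))
 (.one (.edge 3 [3,2,3,6,4,3,2,1,3,6,6] 10 [])))
 (.fork (.one (.edge 5 (wOf 16 0x463123457341230) 5 (wOf 25 0x123210343623463423123210)))
 (.one (.stab 0 []))))
 (.fork (.fork (.one (.edge 7 [2,1,3,2,4,6,6,4,3,2,1,3] 5 (wOf 25 0x106432154634623466234123)))
 (.one (.stab 0 [])))
 (.fork (.one (.edge 5 [0,3,4,3,6,4,3,2,1,3,7] 5 (wOf 23 0x32386432543231234523458)))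
 (.one (.stab 0 [])))))
 (.fork (.fork (.fork (.one (.edge 5 [5,4,3,2,1,3,5,5,7] 5 (wOf 26 0x1254321323458342323123452)))
 (.one (.stab 0 [])))
 (.fork (.one (.edge 5 (wOf 16 0x634572312346323) 5 (wOf 26 0x3214664326453466231231210)))
 (.one (.stab 0 []))))
 (.fork (.fork (.one (.edge 6 [5,5,4,3,2,1,0,3,6,4,7] 5 (wOf 23 0x24321064632345834512310)))
 (.one (.stab 0 [])))
 (.fork (.one (.edge 5 [2,5,4,3,6,6,4,3,2,1,3,6] 5 (wOf 25 0x1255432154532345123467423)))
 (.one (.stab 0 []))))))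
 (.fork (.fork (.fork (.fork (.one (.edge 6 [4,7,6,4,3,6] 5 (wOf 19 0x105546343231234553)))
 (.one (.stab 0 [])))
 (.fork (.one (.edge 5 [0,1,7,6,4,3,6] 5 (wOf 17 0x1632345842312342)))
 (.one (.stab 0 []))))
 (.fork (.fork (.one (.edge 5 (wOf 14 0x53466012345323) 5 (wOf 24 0x214643232645531234012301)))
 (.one (.stab 0 [])))
 (.fork (.one (.edge 5 [0,4,5,8,5,4,3,2,1,3] 5 (wOf 26 0x1213210432545342312346840)))
 (.one (.stab 0 [])))))
 (.fork (.fork (.fork (.one (.edge 8 [2,1,6,4,3,7,5] 5 (wOf 25 0x1343543210634523466312301)))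
 (.one (.stab 0 [])))
 (.fork (.one (.edge 5 (wOf 15 0x231234584534231) 5 (wOf 25 0x102354364532345123453210)))
 (.one (.stab 0 []))))
 (.fork (.fork (.one (.edge 5 (wOf 13 0x3455123453412) 5 (wOf 26 0x36643213213646342323461201)))
 (.one (.stab 0 [])))
 (.fork (.one (.edge 9 [0,1,0,4,3,8,5] 5 (wOf 21 0x121321573463423234541)))
 (.one (.stab 0 []))))))))

/-- a part of the facts -/
noncomputable def twFactsT127 : BT Fact := (.fork (.fork (.fork (.fork (.fork (.fork (.one (.stab 4 [7]))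
 (.one (.edge 9 [3,2,3,4,7,5,4,3,2,1,3,5] 5 (wOf 25 0x4321032432684534123123431))))
 (.fork (.one (.edge 5 [2,5,4,3,2,1,8,6,4,3,2,6] 5 (wOf 26 0x1255432543646234612346201)))
 (.one (.stab 0 []))))
 (.fork (.fork (.one (.edge 7 (wOf 14 0x62323453123466) 5 (wOf 25 0x7543232543645231234534120)))
 (.one (.stab 0 [])))
 (.fork (.one (.edge 5 [2,3,6,4,3,2,1,5,5,4,3] 5 (wOf 24 0x123246432646834512346120)))
 (.one (.stab 0 [])))))
 (.fork (.fork (.fork (.one (.edge 5 [0,6,4,3,5,4,5,4,8] 5 (wOf 17 0x32864634623454232)))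
 (.one (.stab 0 [])))
 (.fork (.one (.edge 5 (wOf 13 0x6453012345323) 5 (wOf 22 0x2643213468232312346345)))
 (.one (.stab 0 []))))
 (.fork (.fork (.one (.edge 7 [2,3,5,4,3,2,1,3,2] 5 (wOf 25 0x1432364327646342312345412)))
 (.one (.stab 0 [])))
 (.fork (.one (.edge 5 (wOf 15 0x663461234523231) 5 (wOf 25 0x3243554321634673234623431)))
 (.one (.stab 0 []))))))
 (.fork (.fork (.fork (.fork (.one (.edge 8 [0,1,6,4,3,2,1,3,6,6] 6 (wOf 21 0x264323645532345123401)))
 (.one (.stab 0 [])))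
 (.fork (.one (.edge 5 [0,1,0,2,3,2,5,4,3,2,1] 5 (wOf 25 0x216435543231234674123234)))
 (.one (.stab 0 []))))
 (.fork (.fork (.one (.edge 5 [4,3,2,1,7,6,4,3,6] 5 (wOf 19 0x2176432342312346460)))
 (.one (.stab 0 [])))
 (.fork (.one (.edge 5 (wOf 14 0x34581234632340) 5 (wOf 24 0x21432324534643231234321)))
 (.one (.stab 0 [])))))
 (.fork (.fork (.fork (.one (.edge 6 [2,1,3,2,1,4,6,4,3,5,7] 5 (wOf 26 0x32105432103684632345123231)))
 (.one (.stab 0 [])))
 (.fork (.one (.edge 5 [0,1,3,5,4,3,2,1,3,5,7,5] 5 (wOf 26 0x1454323543642312346723412)))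
 (.one (.stab 0 []))))
 (.fork (.fork (.one (.edge 5 (wOf 14 0x63464612346232) 5 (wOf 21 0x13464532312346634521)))
 (.one (.stab 0 [])))
 (.fork (.one (.edge 8 [0,1,5,4,3,2,1,3,8,5] 9 (wOf 24 0x102103554683234631234623)))
 (.one (.stab 0 [])))))))
 (.fork (.fork (.fork (.fork (.fork (.one (.stab 4 (wOf 23 0x25432103645723452345312)))
 (.one (.edge 9 [6,6,4,3,2,1,3,5] 5 (wOf 25 0x4327543264323123453234531))))
 (.fork (.one (.edge 5 [2,1,3,4,5,5,4,3,2,1,3] 5 (wOf 22 0x2143643552345323457123)))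
 (.one (.stab 0 []))))
 (.fork (.fork (.one (.edge 6 [0,2,1,5,4,3,6,7] 5 (wOf 25 0x6437643213234512346623210)))
 (.one (.stab 0 [])))
 (.fork (.one (.edge 5 [6,4,3,2,1,6,4,3,6,6] 5 (wOf 23 0x43215432864534512342010)))
 (.one (.stab 0 [])))))
 (.fork (.fork (.fork (.one (.edge 8 [0,1,5,4,3,5,5,7] 5 (wOf 26 0x21032143218646345234623464)))
 (.one (.stab 0 [])))
 (.fork (.one (.edge 5 (wOf 14 0x34512346342323) 5 (wOf 24 0x12324643231234582343231)))
 (.one (.stab 0 []))))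
 (.fork (.fork (.one (.edge 6 [0,3,2,1,0,3,6,8,6,4,6] 5 (wOf 25 0x2354326432684531234534232)))
 (.one (.stab 0 [])))
 (.fork (.one (.edge 5 (wOf 14 0x76463461234672) 5 (wOf 19 0x2326745342312346632)))
 (.one (.stab 0 []))))))
 (.fork (.fork (.fork (.fork (.one (.edge 8 [4,3,6,4,3,2,3,2,1,4,7,6] 5 (wOf 22 0x2354321534582312346310)))
 (.one (.stab 0 [])))
 (.fork (.one (.edge 5 (wOf 14 0x43012346643231) 5 (wOf 23 0x10213432534682346123458)))
 (.one (.stab 0 []))))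
 (.fork (.fork (.one (.edge 5 [0,4,3,5,4,3,2,1,3,2,6] 5 (wOf 28 0x143232154321634582340123012)))
 (.one (.stab 0 [])))
 (.fork (.one (.edge 5 [0,4,5,4,3,2,1,6,4,3] 5 (wOf 25 0x213213764634231234671232)))
 (.one (.stab 0 [])))))
 (.fork (.fork (.fork (.one (.edge 6 [1,3,5,4,3,7,6] 5 (wOf 26 0x15432643213662345342323463)))
 (.one (.stab 0 [])))
 (.fork (.one (.edge 5 [2,6,4,3,5,4,3,2,1,5,4,3] 5 (wOf 23 0x2176432646631231234321)))
 (.one (.stab 0 []))))
 (.fork (.fork (.one (.edge 5 (wOf 16 0x1764532346312310) 5 (wOf 25 0x4323214646432345123468232)))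
 (.one (.stab 0 [])))
 (.fork (.one (.edge 6 [0,3,2,1,4,3,6,6,6] 9 (wOf 26 0x2321432543684523453123451)))
 (.one (.stab 0 []))))))))

/-- a part of the facts -/
noncomputable def twFactsT128 : BT Fact := (.fork (.fork (.fork (.fork (.fork (.fork (.one (.edge 5 (wOf 13 0x3123412312343) 4 [5,4,3,2,1,0,3,2,6]))
 (.one (.edge 5 [0,1,3,7,5,4,3,2,1,0,3,5] 9 (wOf 25 0x132454321323462346732341))))
 (.fork (.one (.edge 5 (wOf 17 0x1623457323462323) 5 (wOf 22 0x103485432341232345310)))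
 (.one (.stab 0 []))))
 (.fork (.fork (.one (.edge 5 [3,2,1,5,4,3,2,6,4,6] 5 (wOf 23 0x32135432864634612340120)))
 (.one (.stab 0 [])))
 (.fork (.one (.edge 5 [3,8,5] 5 (wOf 18 0x646432346712341210)))
 (.one (.stab 0 [])))))
 (.fork (.fork (.fork (.one (.edge 5 (wOf 13 0x6346712345320) 5 (wOf 23 0x4323454323412323457432)))
 (.one (.stab 0 [])))
 (.fork (.one (.edge 5 [0,2,3,2,1,7,5,4,3,6] 5 (wOf 26 0x1764321324645323454123201)))
 (.one (.stab 0 []))))
 (.fork (.fork (.one (.edge 5 (wOf 14 0x85312345323010) 5 (wOf 22 0x4321324832346123467232)))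
 (.one (.stab 0 [])))
 (.fork (.one (.edge 5 (wOf 20 0x10232545312346823423) 5 (wOf 26 0x1234854323466231234582323)))
 (.one (.stab 0 []))))))
 (.fork (.fork (.fork (.fork (.one (.edge 6 [6,6,4,3] 5 (wOf 22 0x2323432764532345123012)))
 (.one (.stab 0 [])))
 (.fork (.one (.edge 5 [6,6,4,3,2,1,5,4,3] 5 (wOf 24 0x354323215432346461234120)))
 (.one (.stab 0 []))))
 (.fork (.fork (.one (.edge 7 (wOf 14 0x63234663012345) 5 (wOf 23 0x1323285453462312343123)))
 (.one (.stab 0 [])))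
 (.fork (.one (.edge 5 (wOf 14 0x67312346342320) 5 (wOf 27 0x21454326432546731234523431)))
 (.one (.stab 0 [])))))
 (.fork (.fork (.fork (.one (.edge 8 [1,0,2,5,4,5,4,3,2] 5 (wOf 19 0x121634682346231201)))
 (.one (.stab 0 [])))
 (.fork (.one (.edge 5 (wOf 14 0x52345123454323) 5 (wOf 22 0x3543643231234534312321)))
 (.one (.stab 0 []))))
 (.fork (.fork (.one (.edge 5 [5,4,3,2,1,3,7,6] 5 (wOf 27 0x106643213254763234631234310)))
 (.one (.stab 0 [])))
 (.fork (.one (.edge 5 [4,3,2,1,3,2,5,5,4,3,5,5] 9 (wOf 23 0x35432854534623123467321)))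
 (.one (.stab 0 [])))))))
 (.fork (.fork (.fork (.fork (.fork (.one (.edge 8 [0,1,5,5,7] 6 (wOf 19 0x6643623123453012343)))
 (.one (.edge 10 (wOf 14 0x86123452346320) 5 (wOf 23 0x23643232458312345231231))))
 (.fork (.one (.edge 5 [6,8,6,4,3,2,3,2,1] 5 (wOf 26 0x1275432543545231234553123)))
 (.one (.stab 0 []))))
 (.fork (.fork (.one (.edge 8 [0,2,3,2,1,5,5,4,3,2,3,7] 5 (wOf 25 0x1236464321323463451234531)))
 (.one (.stab 0 [])))
 (.fork (.one (.edge 5 (wOf 15 0x463468012323453) 5 (wOf 23 0x32185432345812312345341)))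
 (.one (.stab 0 [])))))
 (.fork (.fork (.fork (.one (.edge 7 [5,4,3,2,1,3,5,4,6] 5 (wOf 26 0x12132385432646323461234620)))
 (.one (.stab 0 [])))
 (.fork (.one (.edge 5 (wOf 15 0x646312345734230) 5 (wOf 27 0x102432154323545523123463012)))
 (.one (.stab 0 []))))
 (.fork (.fork (.one (.edge 7 [2,3,2,6,4,3,2,1,3] 5 (wOf 18 0x343582341232345120)))
 (.one (.stab 0 [])))
 (.fork (.one (.edge 3 [0,1,3,4,3,2,3,2,1,5,4,3] 9 (wOf 20 0x23464753462312341230)))
 (.one (.stab 0 []))))))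
 (.fork (.fork (.fork (.fork (.one (.edge 3 [1,3,2,4,3,2,1,0,6,4,7,6] 5 (wOf 17 0x6458323451234623)))
 (.one (.stab 0 [])))
 (.fork (.one (.edge 5 (wOf 17 0x1645734623466231) 5 (wOf 23 0x23236664632345123455201)))
 (.one (.stab 0 []))))
 (.fork (.fork (.one (.edge 6 [0,1,5,8] 5 (wOf 20 0x24321323454323123468)))
 (.one (.stab 0 [])))
 (.fork (.one (.edge 5 [2,3,2,1,0,3,4,7,6,4,3,5] 5 (wOf 21 0x10554532345312345432)))
 (.one (.stab 0 [])))))
 (.fork (.fork (.fork (.one (.edge 5 [1,7,6,4,3,2] 5 (wOf 26 0x2321543232463453123458012)))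
 (.one (.stab 0 [])))
 (.fork (.one (.edge 5 (wOf 13 0x3457012345340) 5 (wOf 26 0x2328543215463234523466210)))
 (.one (.stab 0 []))))
 (.fork (.fork (.one (.edge 6 [0,3,2,1,5,5,4,3,2,5] 5 (wOf 24 0x385432132453463123451230)))
 (.one (.stab 0 [])))
 (.fork (.one (.edge 9 [3,2,7,5,4,3,6,4,3,2,1] 5 (wOf 21 0x14543546234572312341)))
 (.one (.stab 0 []))))))))

/-- the facts -/
noncomputable def twFacts : BT Fact :=
  (.fork (.fork (.fork (.fork (.fork (.fork (.fork twFactsT1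
 twFactsT2)
 (.fork twFactsT3
 twFactsT4))
 (.fork (.fork twFactsT5
 twFactsT6)
 (.fork twFactsT7
 twFactsT8)))
 (.fork (.fork (.fork twFactsT9
 twFactsT10)
 (.fork twFactsT11
 twFactsT12))
 (.fork (.fork twFactsT13
 twFactsT14)
 (.fork twFactsT15
 twFactsT16))))
 (.fork (.fork (.fork (.fork twFactsT17
 twFactsT18)
 (.fork twFactsT19
 twFactsT20))
 (.fork (.fork twFactsT21
 twFactsT22)
 (.fork twFactsT23
 twFactsT24)))
 (.fork (.fork (.fork twFactsT25
 twFactsT26)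
 (.fork twFactsT27
 twFactsT28))
 (.fork (.fork twFactsT29
 twFactsT30)
 (.fork twFactsT31
 twFactsT32)))))
 (.fork (.fork (.fork (.fork (.fork twFactsT33
 twFactsT34)
 (.fork twFactsT35
 twFactsT36))
 (.fork (.fork twFactsT37
 twFactsT38)
 (.fork twFactsT39
 twFactsT40)))
 (.fork (.fork (.fork twFactsT41
 twFactsT42)
 (.fork twFactsT43
 twFactsT44))
 (.fork (.fork twFactsT45
 twFactsT46)
 (.fork twFactsT47
 twFactsT48))))
 (.fork (.fork (.fork (.fork twFactsT49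
 twFactsT50)
 (.fork twFactsT51
 twFactsT52))
 (.fork (.fork twFactsT53
 twFactsT54)
 (.fork twFactsT55
 twFactsT56)))
 (.fork (.fork (.fork twFactsT57
 twFactsT58)
 (.fork twFactsT59
 twFactsT60))
 (.fork (.fork twFactsT61
 twFactsT62)
 (.fork twFactsT63
 twFactsT64))))))
 (.fork (.fork (.fork (.fork (.fork (.fork twFactsT65
 twFactsT66)
 (.fork twFactsT67
 twFactsT68))
 (.fork (.fork twFactsT69
 twFactsT70)
 (.fork twFactsT71
 twFactsT72)))
 (.fork (.fork (.fork twFactsT73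
 twFactsT74)
 (.fork twFactsT75
 twFactsT76))
 (.fork (.fork twFactsT77
 twFactsT78)
 (.fork twFactsT79
 twFactsT80))))
 (.fork (.fork (.fork (.fork twFactsT81
 twFactsT82)
 (.fork twFactsT83
 twFactsT84))
 (.fork (.fork twFactsT85
 twFactsT86)
 (.fork twFactsT87
 twFactsT88)))
 (.fork (.fork (.fork twFactsT89
 twFactsT90)
 (.fork twFactsT91
 twFactsT92))
 (.fork (.fork twFactsT93
 twFactsT94)
 (.fork twFactsT95
 twFactsT96)))))
 (.fork (.fork (.fork (.fork (.fork twFactsT97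
 twFactsT98)
 (.fork twFactsT99
 twFactsT100))
 (.fork (.fork twFactsT101
 twFactsT102)
 (.fork twFactsT103
 twFactsT104)))
 (.fork (.fork (.fork twFactsT105
 twFactsT106)
 (.fork twFactsT107
 twFactsT108))
 (.fork (.fork twFactsT109
 twFactsT110)
 (.fork twFactsT111
 twFactsT112))))
 (.fork (.fork (.fork (.fork twFactsT113
 twFactsT114)
 (.fork twFactsT115
 twFactsT116))
 (.fork (.fork twFactsT117
 twFactsT118)
 (.fork twFactsT119
 twFactsT120)))
 (.fork (.fork (.fork twFactsT121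
 twFactsT122)
 (.fork twFactsT123
 twFactsT124))
 (.fork (.fork twFactsT125
 twFactsT126)
 (.fork twFactsT127
 twFactsT128)))))))

end CfsgLib.ThPres
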