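import Cfsg.Agent.Lib.TwistTree.Tree

/-!
The justifications of the facts.
-/

set_option autoImplicit false

namespace CfsgLib.ThPres
open CfsgLib.CosetEnum CfsgLib.TwistTree
open CfsgLib.TwistCoset (wOf cOK CLev cSize lettersOK)

/-- a part of the justifications -/
noncomputable def twJustT1 : BT Just := (.fork (.fork (.fork (.fork (.fork (.fork (.one .base)
 (.one (.rev 4095)))
 (.fork (.one (.rev 2047))
 (.one .base)))
 (.fork (.fork (.one (.rev 1023))
 (.one .base))
 (.fork (.one (.rev 3071))
 (.one .base))))
 (.fork (.fork (.fork (.one (.rev 511))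
 (.one .base))
 (.fork (.one (.rev 2559))
 (.one .base)))
 (.fork (.fork (.one (.rev 1535))
 (.one .base))
 (.fork (.one (.rev 3583))
 (.one .base)))))
 (.fork (.fork (.fork (.fork (.one (.rev 255))
 (.one (.rev 4351)))
 (.fork (.one (.rev 2303))
 (.one .base)))
 (.fork (.fork (.one (.rev 1279))
 (.one .base))
 (.fork (.one (.rev 3327))
 (.one .base))))
 (.fork (.fork (.fork (.one (.rev 767))
 (.one .base))
 (.fork (.one (.rev 2815))
 (.one .base)))
 (.fork (.fork (.one (.rev 1791))
 (.one .base))
 (.fork (.one (.rev 3839))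
 (.one .base))))))
 (.fork (.fork (.fork (.fork (.fork (.one (.path 6 [⟨93,[],[(1,false),(2,false),(4,false),(5,false),(2,true)]⟩,⟨53,[(100,true),(83,false)],[(0,false),(1,false),(5,false),(4,false),(1,false),(6,false),(4,false),(5,false),(4,false),(5,false)]⟩,⟨111,[(13,false),(10,false),(13,false),(14,false),(11,true),(14,false),(13,false),(12,false)],[(4,false),(3,false),(5,false),(2,false),(4,false),(1,false),(6,false),(4,false),(1,false)]⟩]))
 (.one (.rev 4223)))
 (.fork (.one (.rev 2175))
 (.one .base)))
 (.fork (.fork (.one (.rev 1151))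
 (.one .base))
 (.fork (.one (.rev 3199))
 (.one .base))))
 (.fork (.fork (.fork (.one (.rev 639))
 (.one .base))
 (.fork (.one (.rev 2687))
 (.one .base)))
 (.fork (.fork (.one (.rev 1663))
 (.one .base))
 (.fork (.one (.rev 3711))
 (.one .base)))))
 (.fork (.fork (.fork (.fork (.one (.rev 383))
 (.one .base))
 (.fork (.one (.rev 2431))
 (.one .base)))
 (.fork (.fork (.one (.rev 1407))
 (.one .base))
 (.fork (.one (.rev 3455))
 (.one .base))))
 (.fork (.fork (.fork (.one (.rev 895))
 (.one .base))
 (.fork (.one (.rev 2943))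
 (.one .base)))
 (.fork (.fork (.one (.rev 1919))
 (.one .base))
 (.fork (.one (.rev 3967))
 (.one .base)))))))

/-- a part of the justifications -/
noncomputable def twJustT2 : BT Just := (.fork (.fork (.fork (.fork (.fork (.fork (.one (.lift 1 (wOf 18 0x154634523455232343) ⟨61,[(10,false),(13,false),(11,false),(14,false),(13,false),(11,true),(14,false),(10,false),(13,false)],[]⟩ ⟨61,[(12,true),(15,false),(10,false),(13,false),(14,false),(11,true),(14,false),(13,false),(15,false),(14,false),(9,false)],[(6,false),(2,true)]⟩))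
 (.one (.rev 4159)))
 (.fork (.one (.rev 2111))
 (.one .base)))
 (.fork (.fork (.one (.rev 1087))
 (.one .base))
 (.fork (.one (.rev 3135))
 (.one .base))))
 (.fork (.fork (.fork (.one (.rev 575))
 (.one .base))
 (.fork (.one (.rev 2623))
 (.one .base)))
 (.fork (.fork (.one (.rev 1599))
 (.one .base))
 (.fork (.one (.rev 3647))
 (.one .base)))))
 (.fork (.fork (.fork (.fork (.one (.rev 319))
 (.one .base))
 (.fork (.one (.rev 2367))
 (.one .base)))
 (.fork (.fork (.one (.rev 1343))
 (.one .base))
 (.fork (.one (.rev 3391))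
 (.one .base))))
 (.fork (.fork (.fork (.one (.rev 831))
 (.one .base))
 (.fork (.one (.rev 2879))
 (.one .base)))
 (.fork (.fork (.one (.rev 1855))
 (.one .base))
 (.fork (.one (.rev 3903))
 (.one .base))))))
 (.fork (.fork (.fork (.fork (.fork (.one (.path 2 [⟨128,[(55,false)],[(4,false),(3,false),(5,false),(2,false)]⟩,⟨171,[(114,false),(163,true)],[(1,false),(4,false),(3,false),(5,false),(2,false),(4,false),(6,false),(4,false),(1,false)]⟩,⟨179,[],[(1,false),(5,false),(4,false),(5,false),(4,false),(1,false),(6,false),(4,false),(5,false)]⟩]))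
 (.one (.rev 4287)))
 (.fork (.one (.rev 2239))
 (.one .base)))
 (.fork (.fork (.one (.rev 1215))
 (.one .base))
 (.fork (.one (.rev 3263))
 (.one .base))))
 (.fork (.fork (.fork (.one (.rev 703))
 (.one .base))
 (.fork (.one (.rev 2751))
 (.one .base)))
 (.fork (.fork (.one (.rev 1727))
 (.one .base))
 (.fork (.one (.rev 3775))
 (.one .base)))))
 (.fork (.fork (.fork (.fork (.one (.rev 447))
 (.one .base))
 (.fork (.one (.rev 2495))
 (.one .base)))
 (.fork (.fork (.one (.rev 1471))
 (.one .base))
 (.fork (.one (.rev 3519))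
 (.one .base))))
 (.fork (.fork (.fork (.one (.rev 959))
 (.one .base))
 (.fork (.one (.rev 3007))
 (.one .base)))
 (.fork (.fork (.one (.rev 1983))
 (.one .base))
 (.fork (.one (.rev 4031))
 (.one .base)))))))

/-- a part of the justifications -/
noncomputable def twJustT3 : BT Just := (.fork (.fork (.fork (.fork (.fork (.fork (.one (.rev 31))
 (.one (.rev 4127)))
 (.fork (.one (.rev 2079))
 (.one .base)))
 (.fork (.fork (.one (.rev 1055))
 (.one .base))
 (.fork (.one (.rev 3103))
 (.one .base))))
 (.fork (.fork (.fork (.one (.rev 543))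
 (.one .base))
 (.fork (.one (.rev 2591))
 (.one .base)))
 (.fork (.fork (.one (.rev 1567))
 (.one .base))
 (.fork (.one (.rev 3615))
 (.one .base)))))
 (.fork (.fork (.fork (.fork (.one (.rev 287))
 (.one .base))
 (.fork (.one (.rev 2335))
 (.one .base)))
 (.fork (.fork (.one (.rev 1311))
 (.one .base))
 (.fork (.one (.rev 3359))
 (.one .base))))
 (.fork (.fork (.fork (.one (.rev 799))
 (.one .base))
 (.fork (.one (.rev 2847))
 (.one .base)))
 (.fork (.fork (.one (.rev 1823))
 (.one .base))
 (.fork (.one (.rev 3871))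
 (.one .base))))))
 (.fork (.fork (.fork (.fork (.fork (.one (.rev 159))
 (.one (.rev 4255)))
 (.fork (.one (.rev 2207))
 (.one .base)))
 (.fork (.fork (.one (.rev 1183))
 (.one .base))
 (.fork (.one (.rev 3231))
 (.one .base))))
 (.fork (.fork (.fork (.one (.rev 671))
 (.one .base))
 (.fork (.one (.rev 2719))
 (.one .base)))
 (.fork (.fork (.one (.rev 1695))
 (.one .base))
 (.fork (.one (.rev 3743))
 (.one .base)))))
 (.fork (.fork (.fork (.fork (.one (.rev 415))
 (.one .base))
 (.fork (.one (.rev 2463))
 (.one .base)))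
 (.fork (.fork (.one (.rev 1439))
 (.one .base))
 (.fork (.one (.rev 3487))
 (.one .base))))
 (.fork (.fork (.fork (.one (.rev 927))
 (.one .base))
 (.fork (.one (.rev 2975))
 (.one .base)))
 (.fork (.fork (.one (.rev 1951))
 (.one .base))
 (.fork (.one (.rev 3999))
 (.one .base)))))))

/-- a part of the justifications -/
noncomputable def twJustT4 : BT Just := (.fork (.fork (.fork (.fork (.fork (.fork (.one (.path 0 [⟨86,[],[(6,false)]⟩,⟨90,[],[(1,false),(3,false),(6,false),(2,true),(5,false),(4,false),(1,false),(5,false),(6,false)]⟩]))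
 (.one (.rev 4191)))
 (.fork (.one (.rev 2143))
 (.one .base)))
 (.fork (.fork (.one (.rev 1119))
 (.one .base))
 (.fork (.one (.rev 3167))
 (.one .base))))
 (.fork (.fork (.fork (.one (.rev 607))
 (.one .base))
 (.fork (.one (.rev 2655))
 (.one .base)))
 (.fork (.fork (.one (.rev 1631))
 (.one .base))
 (.fork (.one (.rev 3679))
 (.one .base)))))
 (.fork (.fork (.fork (.fork (.one (.rev 351))
 (.one .base))
 (.fork (.one (.rev 2399))
 (.one .base)))
 (.fork (.fork (.one (.rev 1375))
 (.one .base))
 (.fork (.one (.rev 3423))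
 (.one .base))))
 (.fork (.fork (.fork (.one (.rev 863))
 (.one .base))
 (.fork (.one (.rev 2911))
 (.one .base)))
 (.fork (.fork (.one (.rev 1887))
 (.one .base))
 (.fork (.one (.rev 3935))
 (.one .base))))))
 (.fork (.fork (.fork (.fork (.fork (.one (.rev 223))
 (.one (.rev 4319)))
 (.fork (.one (.rev 2271))
 (.one .base)))
 (.fork (.fork (.one (.rev 1247))
 (.one .base))
 (.fork (.one (.rev 3295))
 (.one .base))))
 (.fork (.fork (.fork (.one (.rev 735))
 (.one .base))
 (.fork (.one (.rev 2783))
 (.one .base)))
 (.fork (.fork (.one (.rev 1759))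
 (.one .base))
 (.fork (.one (.rev 3807))
 (.one .base)))))
 (.fork (.fork (.fork (.fork (.one (.rev 479))
 (.one .base))
 (.fork (.one (.rev 2527))
 (.one .base)))
 (.fork (.fork (.one (.rev 1503))
 (.one .base))
 (.fork (.one (.rev 3551))
 (.one .base))))
 (.fork (.fork (.fork (.one (.rev 991))
 (.one .base))
 (.fork (.one (.rev 3039))
 (.one .base)))
 (.fork (.fork (.one (.rev 2015))
 (.one .base))
 (.fork (.one (.rev 4063))
 (.one .base)))))))

/-- a part of the justifications -/
noncomputable def twJustT5 : BT Just := (.fork (.fork (.fork (.fork (.fork (.fork (.one (.path 1 [⟨8,[],[(0,false),(6,false)]⟩,⟨7,[(5,false)],[(1,false),(2,false),(3,false),(5,false),(6,false),(2,true)]⟩]))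
 (.one (.rev 4111)))
 (.fork (.one (.rev 2063))
 (.one .base)))
 (.fork (.fork (.one (.rev 1039))
 (.one .base))
 (.fork (.one (.rev 3087))
 (.one .base))))
 (.fork (.fork (.fork (.one (.rev 527))
 (.one .base))
 (.fork (.one (.rev 2575))
 (.one .base)))
 (.fork (.fork (.one (.rev 1551))
 (.one .base))
 (.fork (.one (.rev 3599))
 (.one .base)))))
 (.fork (.fork (.fork (.fork (.one (.rev 271))
 (.one .base))
 (.fork (.one (.rev 2319))
 (.one .base)))
 (.fork (.fork (.one (.rev 1295))
 (.one .base))
 (.fork (.one (.rev 3343))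
 (.one .base))))
 (.fork (.fork (.fork (.one (.rev 783))
 (.one .base))
 (.fork (.one (.rev 2831))
 (.one .base)))
 (.fork (.fork (.one (.rev 1807))
 (.one .base))
 (.fork (.one (.rev 3855))
 (.one .base))))))
 (.fork (.fork (.fork (.fork (.fork (.one (.path 3 [⟨79,[(100,false),(83,true)],[(2,false),(4,false),(5,false),(2,true),(5,false),(4,false),(1,false),(6,false),(4,false),(5,false)]⟩,⟨141,[(57,false),(83,true),(54,false)],[(0,false),(5,false),(4,false),(6,false),(4,false),(1,false),(5,false),(4,false),(5,false),(6,false)]⟩,⟨133,[],[(1,false),(3,false),(4,false),(2,true),(5,false),(2,false),(4,false),(5,false),(4,false),(1,false)]⟩]))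
 (.one (.rev 4239)))
 (.fork (.one (.rev 2191))
 (.one .base)))
 (.fork (.fork (.one (.rev 1167))
 (.one .base))
 (.fork (.one (.rev 3215))
 (.one .base))))
 (.fork (.fork (.fork (.one (.rev 655))
 (.one .base))
 (.fork (.one (.rev 2703))
 (.one .base)))
 (.fork (.fork (.one (.rev 1679))
 (.one .base))
 (.fork (.one (.rev 3727))
 (.one .base)))))
 (.fork (.fork (.fork (.fork (.one (.rev 399))
 (.one .base))
 (.fork (.one (.rev 2447))
 (.one .base)))
 (.fork (.fork (.one (.rev 1423))
 (.one .base))
 (.fork (.one (.rev 3471))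
 (.one .base))))
 (.fork (.fork (.fork (.one (.rev 911))
 (.one .base))
 (.fork (.one (.rev 2959))
 (.one .base)))
 (.fork (.fork (.one (.rev 1935))
 (.one .base))
 (.fork (.one (.rev 3983))
 (.one .base)))))))

/-- a part of the justifications -/
noncomputable def twJustT6 : BT Just := (.fork (.fork (.fork (.fork (.fork (.fork (.one (.rev 79))
 (.one (.rev 4175)))
 (.fork (.one (.rev 2127))
 (.one .base)))
 (.fork (.fork (.one (.rev 1103))
 (.one .base))
 (.fork (.one (.rev 3151))
 (.one .base))))
 (.fork (.fork (.fork (.one (.rev 591))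
 (.one .base))
 (.fork (.one (.rev 2639))
 (.one .base)))
 (.fork (.fork (.one (.rev 1615))
 (.one .base))
 (.fork (.one (.rev 3663))
 (.one .base)))))
 (.fork (.fork (.fork (.fork (.one (.rev 335))
 (.one .base))
 (.fork (.one (.rev 2383))
 (.one .base)))
 (.fork (.fork (.one (.rev 1359))
 (.one .base))
 (.fork (.one (.rev 3407))
 (.one .base))))
 (.fork (.fork (.fork (.one (.rev 847))
 (.one .base))
 (.fork (.one (.rev 2895))
 (.one .base)))
 (.fork (.fork (.one (.rev 1871))
 (.one .base))
 (.fork (.one (.rev 3919))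
 (.one .base))))))
 (.fork (.fork (.fork (.fork (.fork (.one (.rev 207))
 (.one (.rev 4303)))
 (.fork (.one (.rev 2255))
 (.one .base)))
 (.fork (.fork (.one (.rev 1231))
 (.one .base))
 (.fork (.one (.rev 3279))
 (.one .base))))
 (.fork (.fork (.fork (.one (.rev 719))
 (.one .base))
 (.fork (.one (.rev 2767))
 (.one .base)))
 (.fork (.fork (.one (.rev 1743))
 (.one .base))
 (.fork (.one (.rev 3791))
 (.one .base)))))
 (.fork (.fork (.fork (.fork (.one (.rev 463))
 (.one .base))
 (.fork (.one (.rev 2511))
 (.one .base)))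
 (.fork (.fork (.one (.rev 1487))
 (.one .base))
 (.fork (.one (.rev 3535))
 (.one .base))))
 (.fork (.fork (.fork (.one (.rev 975))
 (.one .base))
 (.fork (.one (.rev 3023))
 (.one .base)))
 (.fork (.fork (.one (.rev 1999))
 (.one .base))
 (.fork (.one (.rev 4047))
 (.one .base)))))))

/-- a part of the justifications -/
noncomputable def twJustT7 : BT Just := (.fork (.fork (.fork (.fork (.fork (.fork (.one (.rev 47))
 (.one (.rev 4143)))
 (.fork (.one (.rev 2095))
 (.one .base)))
 (.fork (.fork (.one (.rev 1071))
 (.one .base))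
 (.fork (.one (.rev 3119))
 (.one .base))))
 (.fork (.fork (.fork (.one (.rev 559))
 (.one .base))
 (.fork (.one (.rev 2607))
 (.one .base)))
 (.fork (.fork (.one (.rev 1583))
 (.one .base))
 (.fork (.one (.rev 3631))
 (.one .base)))))
 (.fork (.fork (.fork (.fork (.one (.rev 303))
 (.one .base))
 (.fork (.one (.rev 2351))
 (.one .base)))
 (.fork (.fork (.one (.rev 1327))
 (.one .base))
 (.fork (.one (.rev 3375))
 (.one .base))))
 (.fork (.fork (.fork (.one (.rev 815))
 (.one .base))
 (.fork (.one (.rev 2863))
 (.one .base)))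
 (.fork (.fork (.one (.rev 1839))
 (.one .base))
 (.fork (.one (.rev 3887))
 (.one .base))))))
 (.fork (.fork (.fork (.fork (.fork (.one (.rev 175))
 (.one (.rev 4271)))
 (.fork (.one (.rev 2223))
 (.one .base)))
 (.fork (.fork (.one (.rev 1199))
 (.one .base))
 (.fork (.one (.rev 3247))
 (.one .base))))
 (.fork (.fork (.fork (.one (.rev 687))
 (.one .base))
 (.fork (.one (.rev 2735))
 (.one .base)))
 (.fork (.fork (.one (.rev 1711))
 (.one .base))
 (.fork (.one (.rev 3759))
 (.one .base)))))
 (.fork (.fork (.fork (.fork (.one (.rev 431))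
 (.one .base))
 (.fork (.one (.rev 2479))
 (.one .base)))
 (.fork (.fork (.one (.rev 1455))
 (.one .base))
 (.fork (.one (.rev 3503))
 (.one .base))))
 (.fork (.fork (.fork (.one (.rev 943))
 (.one .base))
 (.fork (.one (.rev 2991))
 (.one .base)))
 (.fork (.fork (.one (.rev 1967))
 (.one .base))
 (.fork (.one (.rev 4015))
 (.one .base)))))))

/-- a part of the justifications -/
noncomputable def twJustT8 : BT Just := (.fork (.fork (.fork (.fork (.fork (.fork (.one (.rev 111))
 (.one (.rev 4207)))
 (.fork (.one (.rev 2159))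
 (.one .base)))
 (.fork (.fork (.one (.rev 1135))
 (.one .base))
 (.fork (.one (.rev 3183))
 (.one .base))))
 (.fork (.fork (.fork (.one (.rev 623))
 (.one .base))
 (.fork (.one (.rev 2671))
 (.one .base)))
 (.fork (.fork (.one (.rev 1647))
 (.one .base))
 (.fork (.one (.rev 3695))
 (.one .base)))))
 (.fork (.fork (.fork (.fork (.one (.rev 367))
 (.one .base))
 (.fork (.one (.rev 2415))
 (.one .base)))
 (.fork (.fork (.one (.rev 1391))
 (.one .base))
 (.fork (.one (.rev 3439))
 (.one .base))))
 (.fork (.fork (.fork (.one (.rev 879))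
 (.one .base))
 (.fork (.one (.rev 2927))
 (.one .base)))
 (.fork (.fork (.one (.rev 1903))
 (.one .base))
 (.fork (.one (.rev 3951))
 (.one .base))))))
 (.fork (.fork (.fork (.fork (.fork (.one (.rev 239))
 (.one (.rev 4335)))
 (.fork (.one (.rev 2287))
 (.one .base)))
 (.fork (.fork (.one (.rev 1263))
 (.one .base))
 (.fork (.one (.rev 3311))
 (.one .base))))
 (.fork (.fork (.fork (.one (.rev 751))
 (.one .base))
 (.fork (.one (.rev 2799))
 (.one .base)))
 (.fork (.fork (.one (.rev 1775))
 (.one .base))
 (.fork (.one (.rev 3823))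
 (.one .base)))))
 (.fork (.fork (.fork (.fork (.one (.rev 495))
 (.one .base))
 (.fork (.one (.rev 2543))
 (.one .base)))
 (.fork (.fork (.one (.rev 1519))
 (.one .base))
 (.fork (.one (.rev 3567))
 (.one .base))))
 (.fork (.fork (.fork (.one (.rev 1007))
 (.one .base))
 (.fork (.one (.rev 3055))
 (.one .base)))
 (.fork (.fork (.one (.rev 2031))
 (.one .base))
 (.fork (.one (.rev 4079))
 (.one .base)))))))

/-- a part of the justifications -/
noncomputable def twJustT9 : BT Just := (.fork (.fork (.fork (.fork (.fork (.fork (.one (.rev 7))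
 (.one (.rev 4103)))
 (.fork (.one (.rev 2055))
 (.one .base)))
 (.fork (.fork (.one (.rev 1031))
 (.one .base))
 (.fork (.one (.rev 3079))
 (.one .base))))
 (.fork (.fork (.fork (.one (.rev 519))
 (.one .base))
 (.fork (.one (.rev 2567))
 (.one .base)))
 (.fork (.fork (.one (.rev 1543))
 (.one .base))
 (.fork (.one (.rev 3591))
 (.one .base)))))
 (.fork (.fork (.fork (.fork (.one (.rev 263))
 (.one .base))
 (.fork (.one (.rev 2311))
 (.one .base)))
 (.fork (.fork (.one (.rev 1287))
 (.one .base))
 (.fork (.one (.rev 3335))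
 (.one .base))))
 (.fork (.fork (.fork (.one (.rev 775))
 (.one .base))
 (.fork (.one (.rev 2823))
 (.one .base)))
 (.fork (.fork (.one (.rev 1799))
 (.one .base))
 (.fork (.one (.rev 3847))
 (.one .base))))))
 (.fork (.fork (.fork (.fork (.fork (.one (.rev 135))
 (.one (.rev 4231)))
 (.fork (.one (.rev 2183))
 (.one .base)))
 (.fork (.fork (.one (.rev 1159))
 (.one .base))
 (.fork (.one (.rev 3207))
 (.one .base))))
 (.fork (.fork (.fork (.one (.rev 647))
 (.one .base))
 (.fork (.one (.rev 2695))
 (.one .base)))
 (.fork (.fork (.one (.rev 1671))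
 (.one .base))
 (.fork (.one (.rev 3719))
 (.one .base)))))
 (.fork (.fork (.fork (.fork (.one (.rev 391))
 (.one .base))
 (.fork (.one (.rev 2439))
 (.one .base)))
 (.fork (.fork (.one (.rev 1415))
 (.one .base))
 (.fork (.one (.rev 3463))
 (.one .base))))
 (.fork (.fork (.fork (.one (.rev 903))
 (.one .base))
 (.fork (.one (.rev 2951))
 (.one .base)))
 (.fork (.fork (.one (.rev 1927))
 (.one .base))
 (.fork (.one (.rev 3975))
 (.one .base)))))))

/-- a part of the justifications -/
noncomputable def twJustT10 : BT Just := (.fork (.fork (.fork (.fork (.fork (.fork (.one (.loop 3 [] [⟨62,[],[]⟩,⟨30,[(13,false),(15,false)],[(0,false),(4,false),(6,false),(4,false),(1,false),(4,false),(1,false),(6,false),(4,false)]⟩,⟨29,[(23,false),(21,false)],[(2,false),(6,false),(4,false),(5,false),(4,false),(2,true)]⟩,⟨61,[(15,false),(13,false),(11,false),(14,false),(10,false),(13,false),(10,false)],[(1,false),(2,false),(6,false),(4,false),(1,false)]⟩]))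
 (.one (.rev 4167)))
 (.fork (.one (.rev 2119))
 (.one .base)))
 (.fork (.fork (.one (.rev 1095))
 (.one .base))
 (.fork (.one (.rev 3143))
 (.one .base))))
 (.fork (.fork (.fork (.one (.rev 583))
 (.one .base))
 (.fork (.one (.rev 2631))
 (.one .base)))
 (.fork (.fork (.one (.rev 1607))
 (.one .base))
 (.fork (.one (.rev 3655))
 (.one .base)))))
 (.fork (.fork (.fork (.fork (.one (.rev 327))
 (.one .base))
 (.fork (.one (.rev 2375))
 (.one .base)))
 (.fork (.fork (.one (.rev 1351))
 (.one .base))
 (.fork (.one (.rev 3399))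
 (.one .base))))
 (.fork (.fork (.fork (.one (.rev 839))
 (.one .base))
 (.fork (.one (.rev 2887))
 (.one .base)))
 (.fork (.fork (.one (.rev 1863))
 (.one .base))
 (.fork (.one (.loop 4 (wOf 14 0x85234551234230) [⟨3840,[],[(2,true),(5,false),(4,false),(5,false),(2,true),(5,false),(4,false)]⟩,⟨1463,[(57,false),(83,false),(100,true)],[(1,false),(2,false),(4,false),(5,false),(4,false),(2,true),(5,false),(4,false),(1,false),(6,false)]⟩,⟨3355,[(110,false),(109,false)],[(0,false),(5,false),(2,false),(5,false),(4,false),(5,false),(2,false),(6,false),(4,false),(1,false)]⟩,⟨3845,[],[(1,false),(4,false),(1,false),(5,false),(2,false),(4,false)]⟩]))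
 (.one .base))))))
 (.fork (.fork (.fork (.fork (.fork (.one (.path 0 [⟨197,[],[(1,false),(5,false),(2,false),(6,false),(4,false),(5,false),(4,false),(6,false)]⟩,⟨198,[],[(5,false),(4,false),(1,false),(4,false),(2,true),(5,false),(4,false),(5,false),(2,true),(5,false)]⟩]))
 (.one (.rev 4295)))
 (.fork (.one (.rev 2247))
 (.one .base)))
 (.fork (.fork (.one (.rev 1223))
 (.one .base))
 (.fork (.one (.rev 3271))
 (.one .base))))
 (.fork (.fork (.fork (.one (.rev 711))
 (.one .base))
 (.fork (.one (.rev 2759))
 (.one .base)))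
 (.fork (.fork (.one (.rev 1735))
 (.one .base))
 (.fork (.one (.rev 3783))
 (.one .base)))))
 (.fork (.fork (.fork (.fork (.one (.rev 455))
 (.one .base))
 (.fork (.one (.rev 2503))
 (.one .base)))
 (.fork (.fork (.one (.rev 1479))
 (.one .base))
 (.fork (.one (.rev 3527))
 (.one .base))))
 (.fork (.fork (.fork (.one (.rev 967))
 (.one .base))
 (.fork (.one (.rev 3015))
 (.one .base)))
 (.fork (.fork (.one (.rev 1991))
 (.one .base))
 (.fork (.one (.rev 4039))
 (.one .base)))))))

/-- a part of the justifications -/
noncomputable def twJustT11 : BT Just := (.fork (.fork (.fork (.fork (.fork (.fork (.one (.rev 39))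
 (.one (.rev 4135)))
 (.fork (.one (.rev 2087))
 (.one .base)))
 (.fork (.fork (.one (.rev 1063))
 (.one .base))
 (.fork (.one (.rev 3111))
 (.one .base))))
 (.fork (.fork (.fork (.one (.rev 551))
 (.one .base))
 (.fork (.one (.rev 2599))
 (.one .base)))
 (.fork (.fork (.one (.rev 1575))
 (.one .base))
 (.fork (.one (.rev 3623))
 (.one .base)))))
 (.fork (.fork (.fork (.fork (.one (.rev 295))
 (.one .base))
 (.fork (.one (.rev 2343))
 (.one .base)))
 (.fork (.fork (.one (.rev 1319))
 (.one .base))
 (.fork (.one (.rev 3367))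
 (.one .base))))
 (.fork (.fork (.fork (.one (.rev 807))
 (.one .base))
 (.fork (.one (.rev 2855))
 (.one .base)))
 (.fork (.fork (.one (.rev 1831))
 (.one .base))
 (.fork (.one (.rev 3879))
 (.one .base))))))
 (.fork (.fork (.fork (.fork (.fork (.one (.path 7 [⟨130,[(65,false),(72,false),(65,false)],[(1,false),(2,true),(5,false),(4,false),(1,false),(3,false),(6,false),(4,false)]⟩,⟨120,[(121,false),(137,true)],[(1,false),(5,false),(4,false),(3,false),(2,true)]⟩,⟨156,[(23,false),(49,false),(28,true),(26,false)],[(2,false),(5,false),(4,false),(1,false),(4,false),(1,false),(6,false),(4,false),(1,false),(2,true)]⟩]))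
 (.one (.rev 4263)))
 (.fork (.one (.rev 2215))
 (.one .base)))
 (.fork (.fork (.one (.rev 1191))
 (.one .base))
 (.fork (.one (.rev 3239))
 (.one .base))))
 (.fork (.fork (.fork (.one (.rev 679))
 (.one .base))
 (.fork (.one (.rev 2727))
 (.one .base)))
 (.fork (.fork (.one (.rev 1703))
 (.one .base))
 (.fork (.one (.rev 3751))
 (.one .base)))))
 (.fork (.fork (.fork (.fork (.one (.rev 423))
 (.one .base))
 (.fork (.one (.rev 2471))
 (.one .base)))
 (.fork (.fork (.one (.rev 1447))
 (.one .base))
 (.fork (.one (.rev 3495))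
 (.one .base))))
 (.fork (.fork (.fork (.one (.rev 935))
 (.one .base))
 (.fork (.one (.rev 2983))
 (.one .base)))
 (.fork (.fork (.one (.rev 1959))
 (.one .base))
 (.fork (.one (.rev 4007))
 (.one .base)))))))

/-- a part of the justifications -/
noncomputable def twJustT12 : BT Just := (.fork (.fork (.fork (.fork (.fork (.fork (.one (.rev 103))
 (.one (.rev 4199)))
 (.fork (.one (.rev 2151))
 (.one .base)))
 (.fork (.fork (.one (.rev 1127))
 (.one .base))
 (.fork (.one (.rev 3175))
 (.one .base))))
 (.fork (.fork (.fork (.one (.rev 615))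
 (.one .base))
 (.fork (.one (.rev 2663))
 (.one .base)))
 (.fork (.fork (.one (.rev 1639))
 (.one .base))
 (.fork (.one (.rev 3687))
 (.one .base)))))
 (.fork (.fork (.fork (.fork (.one (.rev 359))
 (.one .base))
 (.fork (.one (.rev 2407))
 (.one .base)))
 (.fork (.fork (.one (.rev 1383))
 (.one .base))
 (.fork (.one (.rev 3431))
 (.one .base))))
 (.fork (.fork (.fork (.one (.rev 871))
 (.one .base))
 (.fork (.one (.rev 2919))
 (.one .base)))
 (.fork (.fork (.one (.rev 1895))
 (.one .base))
 (.fork (.one (.rev 3943))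
 (.one .base))))))
 (.fork (.fork (.fork (.fork (.fork (.one (.rev 231))
 (.one (.rev 4327)))
 (.fork (.one (.rev 2279))
 (.one .base)))
 (.fork (.fork (.one (.rev 1255))
 (.one .base))
 (.fork (.one (.rev 3303))
 (.one .base))))
 (.fork (.fork (.fork (.one (.rev 743))
 (.one .base))
 (.fork (.one (.rev 2791))
 (.one .base)))
 (.fork (.fork (.one (.rev 1767))
 (.one .base))
 (.fork (.one (.rev 3815))
 (.one .base)))))
 (.fork (.fork (.fork (.fork (.one (.rev 487))
 (.one .base))
 (.fork (.one (.rev 2535))
 (.one .base)))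
 (.fork (.fork (.one (.rev 1511))
 (.one .base))
 (.fork (.one (.rev 3559))
 (.one .base))))
 (.fork (.fork (.fork (.one (.rev 999))
 (.one .base))
 (.fork (.one (.rev 3047))
 (.one .base)))
 (.fork (.fork (.one (.rev 2023))
 (.one .base))
 (.fork (.one (.rev 4071))
 (.one .base)))))))

/-- a part of the justifications -/
noncomputable def twJustT13 : BT Just := (.fork (.fork (.fork (.fork (.fork (.fork (.one (.lift 1 (wOf 19 0x3864532343231230123) ⟨18,[(13,false),(15,false),(11,false),(14,false),(10,false)],[]⟩ ⟨18,[(14,true),(13,false),(15,false),(11,false),(14,false),(10,false)],[(0,false),(5,false),(2,false),(6,false),(4,false),(5,false),(4,false),(6,false),(2,true),(5,false)]⟩))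
 (.one (.rev 4119)))
 (.fork (.one (.rev 2071))
 (.one .base)))
 (.fork (.fork (.one (.rev 1047))
 (.one .base))
 (.fork (.one (.rev 3095))
 (.one .base))))
 (.fork (.fork (.fork (.one (.rev 535))
 (.one .base))
 (.fork (.one (.rev 2583))
 (.one .base)))
 (.fork (.fork (.one (.rev 1559))
 (.one .base))
 (.fork (.one (.rev 3607))
 (.one .base)))))
 (.fork (.fork (.fork (.fork (.one (.rev 279))
 (.one .base))
 (.fork (.one (.rev 2327))
 (.one .base)))
 (.fork (.fork (.one (.rev 1303))
 (.one .base))
 (.fork (.one (.rev 3351))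
 (.one .base))))
 (.fork (.fork (.fork (.one (.rev 791))
 (.one .base))
 (.fork (.one (.rev 2839))
 (.one .base)))
 (.fork (.fork (.one (.rev 1815))
 (.one .base))
 (.fork (.one (.rev 3863))
 (.one .base))))))
 (.fork (.fork (.fork (.fork (.fork (.one (.path 0 [⟨108,[],[(2,true),(5,false)]⟩,⟨111,[],[(0,false),(1,false),(3,false),(5,false)]⟩]))
 (.one (.rev 4247)))
 (.fork (.one (.rev 2199))
 (.one .base)))
 (.fork (.fork (.one (.rev 1175))
 (.one .base))
 (.fork (.one (.rev 3223))
 (.one .base))))
 (.fork (.fork (.fork (.one (.rev 663))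
 (.one .base))
 (.fork (.one (.rev 2711))
 (.one .base)))
 (.fork (.fork (.one (.rev 1687))
 (.one .base))
 (.fork (.one (.rev 3735))
 (.one .base)))))
 (.fork (.fork (.fork (.fork (.one (.rev 407))
 (.one .base))
 (.fork (.one (.rev 2455))
 (.one .base)))
 (.fork (.fork (.one (.rev 1431))
 (.one .base))
 (.fork (.one (.rev 3479))
 (.one .base))))
 (.fork (.fork (.fork (.one (.rev 919))
 (.one .base))
 (.fork (.one (.rev 2967))
 (.one .base)))
 (.fork (.fork (.one (.rev 1943))
 (.one .base))
 (.fork (.one (.rev 3991))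
 (.one .base)))))))

/-- a part of the justifications -/
noncomputable def twJustT14 : BT Just := (.fork (.fork (.fork (.fork (.fork (.fork (.one (.path 2 [⟨68,[],[(1,false),(2,false)]⟩,⟨67,[],[(1,false),(3,false),(5,false),(2,false),(4,false),(5,false),(4,false),(6,false),(2,true),(5,false),(2,true)]⟩,⟨66,[(27,false),(20,false)],[(1,false),(5,false),(6,false),(4,false),(5,false),(2,false)]⟩]))
 (.one (.rev 4183)))
 (.fork (.one (.rev 2135))
 (.one .base)))
 (.fork (.fork (.one (.rev 1111))
 (.one .base))
 (.fork (.one (.rev 3159))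
 (.one .base))))
 (.fork (.fork (.fork (.one (.rev 599))
 (.one .base))
 (.fork (.one (.rev 2647))
 (.one .base)))
 (.fork (.fork (.one (.rev 1623))
 (.one .base))
 (.fork (.one (.rev 3671))
 (.one .base)))))
 (.fork (.fork (.fork (.fork (.one (.rev 343))
 (.one .base))
 (.fork (.one (.rev 2391))
 (.one .base)))
 (.fork (.fork (.one (.rev 1367))
 (.one .base))
 (.fork (.one (.rev 3415))
 (.one .base))))
 (.fork (.fork (.fork (.one (.rev 855))
 (.one .base))
 (.fork (.one (.rev 2903))
 (.one .base)))
 (.fork (.fork (.one (.rev 1879))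
 (.one .base))
 (.fork (.one (.rev 3927))
 (.one .base))))))
 (.fork (.fork (.fork (.fork (.fork (.one (.rev 215))
 (.one (.rev 4311)))
 (.fork (.one (.rev 2263))
 (.one .base)))
 (.fork (.fork (.one (.rev 1239))
 (.one .base))
 (.fork (.one (.rev 3287))
 (.one .base))))
 (.fork (.fork (.fork (.one (.rev 727))
 (.one .base))
 (.fork (.one (.rev 2775))
 (.one .base)))
 (.fork (.fork (.one (.rev 1751))
 (.one .base))
 (.fork (.one (.rev 3799))
 (.one .base)))))
 (.fork (.fork (.fork (.fork (.one (.rev 471))
 (.one .base))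
 (.fork (.one (.rev 2519))
 (.one .base)))
 (.fork (.fork (.one (.rev 1495))
 (.one .base))
 (.fork (.one (.rev 3543))
 (.one .base))))
 (.fork (.fork (.fork (.one (.rev 983))
 (.one .base))
 (.fork (.one (.rev 3031))
 (.one .base)))
 (.fork (.fork (.one (.rev 2007))
 (.one .base))
 (.fork (.one (.rev 4055))
 (.one .base)))))))

/-- a part of the justifications -/
noncomputable def twJustT15 : BT Just := (.fork (.fork (.fork (.fork (.fork (.fork (.one (.lift 1 (wOf 23 0x1432132573432312346421) ⟨52,[(13,false),(10,false),(13,false),(15,false),(11,false),(14,false),(13,false),(10,false),(13,false),(11,false)],[]⟩ ⟨52,[(12,true),(13,false),(14,false),(13,false),(11,true),(14,false),(13,false),(11,false),(14,false),(13,false),(11,true)],[(0,false),(1,false),(2,false),(3,false),(5,false),(2,true)]⟩))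
 (.one (.rev 4151)))
 (.fork (.one (.rev 2103))
 (.one .base)))
 (.fork (.fork (.one (.rev 1079))
 (.one .base))
 (.fork (.one (.rev 3127))
 (.one .base))))
 (.fork (.fork (.fork (.one (.rev 567))
 (.one .base))
 (.fork (.one (.rev 2615))
 (.one .base)))
 (.fork (.fork (.one (.rev 1591))
 (.one .base))
 (.fork (.one (.rev 3639))
 (.one .base)))))
 (.fork (.fork (.fork (.fork (.one (.rev 311))
 (.one .base))
 (.fork (.one (.rev 2359))
 (.one .base)))
 (.fork (.fork (.one (.rev 1335))
 (.one .base))
 (.fork (.one (.rev 3383))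
 (.one .base))))
 (.fork (.fork (.fork (.one (.rev 823))
 (.one .base))
 (.fork (.one (.rev 2871))
 (.one .base)))
 (.fork (.fork (.one (.rev 1847))
 (.one .base))
 (.fork (.one (.rev 3895))
 (.one .base))))))
 (.fork (.fork (.fork (.fork (.fork (.one (.rev 183))
 (.one (.rev 4279)))
 (.fork (.one (.rev 2231))
 (.one .base)))
 (.fork (.fork (.one (.rev 1207))
 (.one .base))
 (.fork (.one (.rev 3255))
 (.one .base))))
 (.fork (.fork (.fork (.one (.rev 695))
 (.one .base))
 (.fork (.one (.rev 2743))
 (.one .base)))
 (.fork (.fork (.one (.rev 1719))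
 (.one .base))
 (.fork (.one (.rev 3767))
 (.one .base)))))
 (.fork (.fork (.fork (.fork (.one (.rev 439))
 (.one .base))
 (.fork (.one (.rev 2487))
 (.one .base)))
 (.fork (.fork (.one (.rev 1463))
 (.one .base))
 (.fork (.one (.rev 3511))
 (.one .base))))
 (.fork (.fork (.fork (.one (.rev 951))
 (.one .base))
 (.fork (.one (.rev 2999))
 (.one .base)))
 (.fork (.fork (.one (.rev 1975))
 (.one .base))
 (.fork (.one (.rev 4023))
 (.one .base)))))))

/-- a part of the justifications -/
noncomputable def twJustT16 : BT Just := (.fork (.fork (.fork (.fork (.fork (.fork (.one (.rev 119))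
 (.one (.rev 4215)))
 (.fork (.one (.rev 2167))
 (.one .base)))
 (.fork (.fork (.one (.rev 1143))
 (.one .base))
 (.fork (.one (.rev 3191))
 (.one .base))))
 (.fork (.fork (.fork (.one (.rev 631))
 (.one .base))
 (.fork (.one (.rev 2679))
 (.one .base)))
 (.fork (.fork (.one (.rev 1655))
 (.one .base))
 (.fork (.one (.rev 3703))
 (.one .base)))))
 (.fork (.fork (.fork (.fork (.one (.rev 375))
 (.one .base))
 (.fork (.one (.rev 2423))
 (.one .base)))
 (.fork (.fork (.one (.rev 1399))
 (.one .base))
 (.fork (.one (.rev 3447))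
 (.one .base))))
 (.fork (.fork (.fork (.one (.rev 887))
 (.one .base))
 (.fork (.one (.rev 2935))
 (.one .base)))
 (.fork (.fork (.one (.rev 1911))
 (.one .base))
 (.fork (.one (.rev 3959))
 (.one .base))))))
 (.fork (.fork (.fork (.fork (.fork (.one (.rev 247))
 (.one (.rev 4343)))
 (.fork (.one (.rev 2295))
 (.one .base)))
 (.fork (.fork (.one (.rev 1271))
 (.one .base))
 (.fork (.one (.rev 3319))
 (.one .base))))
 (.fork (.fork (.fork (.one (.rev 759))
 (.one .base))
 (.fork (.one (.rev 2807))
 (.one .base)))
 (.fork (.fork (.one (.rev 1783))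
 (.one .base))
 (.fork (.one (.rev 3831))
 (.one .base)))))
 (.fork (.fork (.fork (.fork (.one (.rev 503))
 (.one .base))
 (.fork (.one (.rev 2551))
 (.one .base)))
 (.fork (.fork (.one (.rev 1527))
 (.one .base))
 (.fork (.one (.rev 3575))
 (.one .base))))
 (.fork (.fork (.fork (.one (.rev 1015))
 (.one .base))
 (.fork (.one (.rev 3063))
 (.one .base)))
 (.fork (.fork (.one (.rev 2039))
 (.one .base))
 (.fork (.one (.rev 4087))
 (.one .base)))))))

/-- a part of the justifications -/
noncomputable def twJustT17 : BT Just := (.fork (.fork (.fork (.fork (.fork (.fork (.one .base)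
 (.one (.rev 4099)))
 (.fork (.one (.rev 2051))
 (.one .base)))
 (.fork (.fork (.one (.rev 1027))
 (.one .base))
 (.fork (.one (.rev 3075))
 (.one .base))))
 (.fork (.fork (.fork (.one (.rev 515))
 (.one .base))
 (.fork (.one (.rev 2563))
 (.one .base)))
 (.fork (.fork (.one (.rev 1539))
 (.one .base))
 (.fork (.one (.rev 3587))
 (.one .base)))))
 (.fork (.fork (.fork (.fork (.one (.rev 259))
 (.one (.path 1 [⟨3999,[],[(2,false),(6,false),(4,false),(1,false)]⟩,⟨4335,[(3911,false),(3911,false),(3911,false)],[(0,false),(1,false),(5,false),(6,false),(4,false),(1,false),(4,false),(5,false),(2,false),(4,false)]⟩])))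
 (.fork (.one (.rev 2307))
 (.one .base)))
 (.fork (.fork (.one (.rev 1283))
 (.one .base))
 (.fork (.one (.rev 3331))
 (.one .base))))
 (.fork (.fork (.fork (.one (.rev 771))
 (.one .base))
 (.fork (.one (.rev 2819))
 (.one .base)))
 (.fork (.fork (.one (.rev 1795))
 (.one .base))
 (.fork (.one (.rev 3843))
 (.one .base))))))
 (.fork (.fork (.fork (.fork (.fork (.one (.lift 4 (wOf 17 0x13823432312342312) ⟨130,[(72,true),(65,true),(72,false)],[]⟩ ⟨130,[(65,true),(72,true),(64,false),(72,false),(65,false)],[(0,false),(1,false),(2,false),(3,false)]⟩))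
 (.one (.rev 4227)))
 (.fork (.one (.rev 2179))
 (.one .base)))
 (.fork (.fork (.one (.rev 1155))
 (.one .base))
 (.fork (.one (.rev 3203))
 (.one .base))))
 (.fork (.fork (.fork (.one (.rev 643))
 (.one .base))
 (.fork (.one (.rev 2691))
 (.one .base)))
 (.fork (.fork (.one (.rev 1667))
 (.one .base))
 (.fork (.one (.rev 3715))
 (.one .base)))))
 (.fork (.fork (.fork (.fork (.one (.rev 387))
 (.one .base))
 (.fork (.one (.rev 2435))
 (.one .base)))
 (.fork (.fork (.one (.rev 1411))
 (.one .base))
 (.fork (.one (.rev 3459))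
 (.one .base))))
 (.fork (.fork (.fork (.one (.rev 899))
 (.one .base))
 (.fork (.one (.rev 2947))
 (.one .base)))
 (.fork (.fork (.one (.rev 1923))
 (.one .base))
 (.fork (.one (.rev 3971))
 (.one .base)))))))

/-- a part of the justifications -/
noncomputable def twJustT18 : BT Just := (.fork (.fork (.fork (.fork (.fork (.fork (.one (.path 4 [⟨67,[],[(1,false),(2,false),(5,false),(4,false),(1,false),(4,false),(5,false),(2,false),(6,false)]⟩,⟨33,[(49,false),(49,false)],[(1,false),(4,false),(6,false),(2,true),(5,false),(4,false),(1,false),(5,false),(4,false),(1,false)]⟩,⟨66,[(28,false),(49,false),(26,false)],[(1,false),(5,false),(6,false),(4,false),(1,false),(5,false)]⟩]))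
 (.one (.rev 4163)))
 (.fork (.one (.rev 2115))
 (.one .base)))
 (.fork (.fork (.one (.rev 1091))
 (.one .base))
 (.fork (.one (.rev 3139))
 (.one .base))))
 (.fork (.fork (.fork (.one (.rev 579))
 (.one .base))
 (.fork (.one (.rev 2627))
 (.one .base)))
 (.fork (.fork (.one (.rev 1603))
 (.one .base))
 (.fork (.one (.rev 3651))
 (.one .base)))))
 (.fork (.fork (.fork (.fork (.one (.rev 323))
 (.one .base))
 (.fork (.one (.rev 2371))
 (.one .base)))
 (.fork (.fork (.one (.rev 1347))
 (.one .base))
 (.fork (.one (.rev 3395))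
 (.one .base))))
 (.fork (.fork (.fork (.one (.rev 835))
 (.one .base))
 (.fork (.one (.rev 2883))
 (.one .base)))
 (.fork (.fork (.one (.rev 1859))
 (.one .base))
 (.fork (.one (.rev 3907))
 (.one .base))))))
 (.fork (.fork (.fork (.fork (.fork (.one (.path 3 [⟨117,[],[(2,true),(5,false),(4,false),(3,false)]⟩,⟨195,[],[(2,false),(6,false),(4,false),(1,false),(5,false),(4,false),(5,false),(6,false),(4,false)]⟩,⟨122,[(57,false),(56,false)],[(0,false),(5,false),(6,false),(2,true),(5,false),(4,false),(1,false),(5,false),(4,false),(6,false)]⟩]))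
 (.one (.rev 4291)))
 (.fork (.one (.rev 2243))
 (.one .base)))
 (.fork (.fork (.one (.rev 1219))
 (.one .base))
 (.fork (.one (.rev 3267))
 (.one .base))))
 (.fork (.fork (.fork (.one (.rev 707))
 (.one .base))
 (.fork (.one (.rev 2755))
 (.one .base)))
 (.fork (.fork (.one (.rev 1731))
 (.one .base))
 (.fork (.one (.rev 3779))
 (.one .base)))))
 (.fork (.fork (.fork (.fork (.one (.rev 451))
 (.one .base))
 (.fork (.one (.rev 2499))
 (.one .base)))
 (.fork (.fork (.one (.rev 1475))
 (.one .base))
 (.fork (.one (.rev 3523))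
 (.one .base))))
 (.fork (.fork (.fork (.one (.rev 963))
 (.one .base))
 (.fork (.one (.rev 3011))
 (.one .base)))
 (.fork (.fork (.one (.rev 1987))
 (.one .base))
 (.fork (.one (.rev 4035))
 (.one .base)))))))

/-- a part of the justifications -/
noncomputable def twJustT19 : BT Just := (.fork (.fork (.fork (.fork (.fork (.fork (.one (.rev 35))
 (.one (.rev 4131)))
 (.fork (.one (.rev 2083))
 (.one .base)))
 (.fork (.fork (.one (.rev 1059))
 (.one .base))
 (.fork (.one (.rev 3107))
 (.one .base))))
 (.fork (.fork (.fork (.one (.rev 547))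
 (.one .base))
 (.fork (.one (.rev 2595))
 (.one .base)))
 (.fork (.fork (.one (.rev 1571))
 (.one .base))
 (.fork (.one (.rev 3619))
 (.one .base)))))
 (.fork (.fork (.fork (.fork (.one (.rev 291))
 (.one .base))
 (.fork (.one (.rev 2339))
 (.one .base)))
 (.fork (.fork (.one (.rev 1315))
 (.one .base))
 (.fork (.one (.rev 3363))
 (.one .base))))
 (.fork (.fork (.fork (.one (.rev 803))
 (.one .base))
 (.fork (.one (.rev 2851))
 (.one .base)))
 (.fork (.fork (.one (.rev 1827))
 (.one .base))
 (.fork (.one (.rev 3875))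
 (.one .base))))))
 (.fork (.fork (.fork (.fork (.fork (.one (.path 0 [⟨153,[],[(1,false),(2,true)]⟩,⟨147,[],[(2,false)]⟩]))
 (.one (.rev 4259)))
 (.fork (.one (.rev 2211))
 (.one .base)))
 (.fork (.fork (.one (.rev 1187))
 (.one .base))
 (.fork (.one (.rev 3235))
 (.one .base))))
 (.fork (.fork (.fork (.one (.rev 675))
 (.one .base))
 (.fork (.one (.rev 2723))
 (.one .base)))
 (.fork (.fork (.one (.rev 1699))
 (.one .base))
 (.fork (.one (.rev 3747))
 (.one .base)))))
 (.fork (.fork (.fork (.fork (.one (.rev 419))
 (.one .base))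
 (.fork (.one (.rev 2467))
 (.one .base)))
 (.fork (.fork (.one (.rev 1443))
 (.one .base))
 (.fork (.one (.rev 3491))
 (.one .base))))
 (.fork (.fork (.fork (.one (.rev 931))
 (.one .base))
 (.fork (.one (.rev 2979))
 (.one .base)))
 (.fork (.fork (.one (.rev 1955))
 (.one .base))
 (.fork (.one (.rev 4003))
 (.one .base)))))))

/-- a part of the justifications -/
noncomputable def twJustT20 : BT Just := (.fork (.fork (.fork (.fork (.fork (.fork (.one (.loop 2 (wOf 13 0x4663451230123) [⟨71,[(83,true)],[(1,false),(5,false),(4,false),(6,false),(2,true),(5,false),(2,false),(4,false),(1,false)]⟩,⟨52,[(13,false),(14,false),(13,false),(11,true),(14,false),(13,false),(11,false),(14,false),(13,false),(11,true)],[(3,false),(5,false),(2,false),(4,false),(6,false),(4,false),(5,false),(4,false),(1,false)]⟩,⟨75,[],[(2,false),(5,false),(4,false),(1,false),(5,false),(2,false),(4,false),(1,false)]⟩,⟨80,[(83,false)],[(0,false),(1,false),(4,false),(1,false),(6,false),(4,false),(1,false),(2,true),(5,false),(4,false),(6,false)]⟩]))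
 (.one (.rev 4195)))
 (.fork (.one (.rev 2147))
 (.one .base)))
 (.fork (.fork (.one (.rev 1123))
 (.one .base))
 (.fork (.one (.rev 3171))
 (.one .base))))
 (.fork (.fork (.fork (.one (.rev 611))
 (.one .base))
 (.fork (.one (.rev 2659))
 (.one .base)))
 (.fork (.fork (.one (.rev 1635))
 (.one .base))
 (.fork (.one (.rev 3683))
 (.one .base)))))
 (.fork (.fork (.fork (.fork (.one (.rev 355))
 (.one .base))
 (.fork (.one (.rev 2403))
 (.one .base)))
 (.fork (.fork (.one (.rev 1379))
 (.one .base))
 (.fork (.one (.rev 3427))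
 (.one .base))))
 (.fork (.fork (.fork (.one (.rev 867))
 (.one .base))
 (.fork (.one (.rev 2915))
 (.one .base)))
 (.fork (.fork (.one (.rev 1891))
 (.one .base))
 (.fork (.one (.rev 3939))
 (.one .base))))))
 (.fork (.fork (.fork (.fork (.fork (.one (.rev 227))
 (.one (.rev 4323)))
 (.fork (.one (.rev 2275))
 (.one .base)))
 (.fork (.fork (.one (.rev 1251))
 (.one .base))
 (.fork (.one (.rev 3299))
 (.one .base))))
 (.fork (.fork (.fork (.one (.rev 739))
 (.one .base))
 (.fork (.one (.rev 2787))
 (.one .base)))
 (.fork (.fork (.one (.rev 1763))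
 (.one .base))
 (.fork (.one (.rev 3811))
 (.one .base)))))
 (.fork (.fork (.fork (.fork (.one (.rev 483))
 (.one .base))
 (.fork (.one (.rev 2531))
 (.one .base)))
 (.fork (.fork (.one (.rev 1507))
 (.one .base))
 (.fork (.one (.rev 3555))
 (.one .base))))
 (.fork (.fork (.fork (.one (.rev 995))
 (.one .base))
 (.fork (.one (.rev 3043))
 (.one .base)))
 (.fork (.fork (.one (.rev 2019))
 (.one .base))
 (.fork (.one (.rev 4067))
 (.one .base)))))))

/-- a part of the justifications -/
noncomputable def twJustT21 : BT Just := (.fork (.fork (.fork (.fork (.fork (.fork (.one (.lift 1 (wOf 20 0x34543572343231230123) ⟨18,[(13,false),(15,false),(11,true),(14,false),(10,false)],[]⟩ ⟨18,[(15,true),(13,false),(15,false),(11,true),(14,false),(10,false)],[(0,false),(5,false),(6,false),(4,false),(2,true),(5,false),(2,false),(4,false),(5,false),(6,false)]⟩))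
 (.one (.rev 4115)))
 (.fork (.one (.rev 2067))
 (.one .base)))
 (.fork (.fork (.one (.rev 1043))
 (.one .base))
 (.fork (.one (.rev 3091))
 (.one .base))))
 (.fork (.fork (.fork (.one (.rev 531))
 (.one .base))
 (.fork (.one (.rev 2579))
 (.one .base)))
 (.fork (.fork (.one (.rev 1555))
 (.one .base))
 (.fork (.one (.rev 3603))
 (.one .base)))))
 (.fork (.fork (.fork (.fork (.one (.rev 275))
 (.one .base))
 (.fork (.one (.rev 2323))
 (.one .base)))
 (.fork (.fork (.one (.rev 1299))
 (.one .base))
 (.fork (.one (.rev 3347))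
 (.one .base))))
 (.fork (.fork (.fork (.one (.rev 787))
 (.one .base))
 (.fork (.one (.rev 2835))
 (.one .base)))
 (.fork (.fork (.one (.rev 1811))
 (.one .base))
 (.fork (.one (.rev 3859))
 (.one .base))))))
 (.fork (.fork (.fork (.fork (.fork (.one (.path 8 [⟨120,[(137,true),(132,false),(121,false),(132,false)],[(0,false),(4,false),(1,false),(4,false),(6,false),(4,false),(1,false),(4,false),(2,true),(5,false),(2,false)]⟩,⟨59,[(49,true),(28,false),(26,false)],[(1,false),(5,false),(4,false),(1,false),(5,false),(6,false),(4,false),(5,false),(4,false),(1,false)]⟩,⟨124,[(100,true),(56,false),(83,false)],[(0,false),(2,false),(6,false),(4,false),(1,false),(5,false),(4,false),(1,false),(2,true)]⟩]))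
 (.one (.rev 4243)))
 (.fork (.one (.rev 2195))
 (.one .base)))
 (.fork (.fork (.one (.rev 1171))
 (.one .base))
 (.fork (.one (.rev 3219))
 (.one .base))))
 (.fork (.fork (.fork (.one (.rev 659))
 (.one .base))
 (.fork (.one (.rev 2707))
 (.one .base)))
 (.fork (.fork (.one (.rev 1683))
 (.one .base))
 (.fork (.one (.rev 3731))
 (.one .base)))))
 (.fork (.fork (.fork (.fork (.one (.rev 403))
 (.one .base))
 (.fork (.one (.rev 2451))
 (.one .base)))
 (.fork (.fork (.one (.rev 1427))
 (.one .base))
 (.fork (.one (.rev 3475))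
 (.one .base))))
 (.fork (.fork (.fork (.one (.rev 915))
 (.one .base))
 (.fork (.one (.rev 2963))
 (.one .base)))
 (.fork (.fork (.one (.rev 1939))
 (.one .base))
 (.fork (.one (.rev 3987))
 (.one .base)))))))

/-- a part of the justifications -/
noncomputable def twJustT22 : BT Just := (.fork (.fork (.fork (.fork (.fork (.fork (.one (.path 0 [⟨60,[(83,true)],[(3,false),(4,false),(5,false),(4,false),(2,true),(5,false),(4,false),(5,false),(2,false)]⟩,⟨59,[(28,false)],[(1,false),(5,false),(4,false),(5,false),(2,false),(4,false),(5,false),(4,false)]⟩]))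
 (.one (.rev 4179)))
 (.fork (.one (.rev 2131))
 (.one .base)))
 (.fork (.fork (.one (.rev 1107))
 (.one .base))
 (.fork (.one (.rev 3155))
 (.one .base))))
 (.fork (.fork (.fork (.one (.rev 595))
 (.one .base))
 (.fork (.one (.rev 2643))
 (.one .base)))
 (.fork (.fork (.one (.rev 1619))
 (.one .base))
 (.fork (.one (.rev 3667))
 (.one .base)))))
 (.fork (.fork (.fork (.fork (.one (.rev 339))
 (.one .base))
 (.fork (.one (.rev 2387))
 (.one .base)))
 (.fork (.fork (.one (.rev 1363))
 (.one .base))
 (.fork (.one (.rev 3411))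
 (.one .base))))
 (.fork (.fork (.fork (.one (.rev 851))
 (.one .base))
 (.fork (.one (.rev 2899))
 (.one .base)))
 (.fork (.fork (.one (.rev 1875))
 (.one .base))
 (.fork (.one (.rev 3923))
 (.one .base))))))
 (.fork (.fork (.fork (.fork (.fork (.one (.rev 211))
 (.one (.rev 4307)))
 (.fork (.one (.rev 2259))
 (.one .base)))
 (.fork (.fork (.one (.rev 1235))
 (.one .base))
 (.fork (.one (.rev 3283))
 (.one .base))))
 (.fork (.fork (.fork (.one (.rev 723))
 (.one .base))
 (.fork (.one (.rev 2771))
 (.one .base)))
 (.fork (.fork (.one (.rev 1747))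
 (.one .base))
 (.fork (.one (.rev 3795))
 (.one .base)))))
 (.fork (.fork (.fork (.fork (.one (.rev 467))
 (.one .base))
 (.fork (.one (.rev 2515))
 (.one .base)))
 (.fork (.fork (.one (.rev 1491))
 (.one .base))
 (.fork (.one (.rev 3539))
 (.one .base))))
 (.fork (.fork (.fork (.one (.rev 979))
 (.one .base))
 (.fork (.one (.rev 3027))
 (.one .base)))
 (.fork (.fork (.one (.rev 2003))
 (.one .base))
 (.fork (.one (.rev 4051))
 (.one .base)))))))

/-- a part of the justifications -/
noncomputable def twJustT23 : BT Just := (.fork (.fork (.fork (.fork (.fork (.fork (.one .def')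
 (.one (.rev 4147)))
 (.fork (.one (.rev 2099))
 (.one .base)))
 (.fork (.fork (.one (.rev 1075))
 (.one .base))
 (.fork (.one (.rev 3123))
 (.one .base))))
 (.fork (.fork (.fork (.one (.rev 563))
 (.one .base))
 (.fork (.one (.rev 2611))
 (.one .base)))
 (.fork (.fork (.one (.rev 1587))
 (.one .base))
 (.fork (.one (.rev 3635))
 (.one .base)))))
 (.fork (.fork (.fork (.fork (.one (.rev 307))
 (.one .base))
 (.fork (.one (.rev 2355))
 (.one .base)))
 (.fork (.fork (.one (.rev 1331))
 (.one .base))
 (.fork (.one (.rev 3379))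
 (.one .base))))
 (.fork (.fork (.fork (.one (.rev 819))
 (.one .base))
 (.fork (.one (.rev 2867))
 (.one .base)))
 (.fork (.fork (.one (.rev 1843))
 (.one .base))
 (.fork (.one (.rev 3891))
 (.one .base))))))
 (.fork (.fork (.fork (.fork (.fork (.one (.rev 179))
 (.one (.rev 4275)))
 (.fork (.one (.rev 2227))
 (.one .base)))
 (.fork (.fork (.one (.rev 1203))
 (.one .base))
 (.fork (.one (.rev 3251))
 (.one .base))))
 (.fork (.fork (.fork (.one (.rev 691))
 (.one .base))
 (.fork (.one (.rev 2739))
 (.one .base)))
 (.fork (.fork (.one (.rev 1715))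
 (.one .base))
 (.fork (.one (.rev 3763))
 (.one .base)))))
 (.fork (.fork (.fork (.fork (.one (.rev 435))
 (.one .base))
 (.fork (.one (.rev 2483))
 (.one .base)))
 (.fork (.fork (.one (.rev 1459))
 (.one .base))
 (.fork (.one (.rev 3507))
 (.one .base))))
 (.fork (.fork (.fork (.one (.rev 947))
 (.one .base))
 (.fork (.one (.rev 2995))
 (.one .base)))
 (.fork (.fork (.one (.rev 1971))
 (.one .base))
 (.fork (.one (.rev 4019))
 (.one .base)))))))

/-- a part of the justifications -/
noncomputable def twJustT24 : BT Just := (.fork (.fork (.fork (.fork (.fork (.fork (.one (.rev 115))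
 (.one (.rev 4211)))
 (.fork (.one (.rev 2163))
 (.one .base)))
 (.fork (.fork (.one (.rev 1139))
 (.one .base))
 (.fork (.one (.rev 3187))
 (.one .base))))
 (.fork (.fork (.fork (.one (.rev 627))
 (.one .base))
 (.fork (.one (.rev 2675))
 (.one .base)))
 (.fork (.fork (.one (.rev 1651))
 (.one .base))
 (.fork (.one (.rev 3699))
 (.one .base)))))
 (.fork (.fork (.fork (.fork (.one (.rev 371))
 (.one .base))
 (.fork (.one (.rev 2419))
 (.one .base)))
 (.fork (.fork (.one (.rev 1395))
 (.one .base))
 (.fork (.one (.rev 3443))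
 (.one .base))))
 (.fork (.fork (.fork (.one (.rev 883))
 (.one .base))
 (.fork (.one (.rev 2931))
 (.one .base)))
 (.fork (.fork (.one (.rev 1907))
 (.one .base))
 (.fork (.one (.rev 3955))
 (.one .base))))))
 (.fork (.fork (.fork (.fork (.fork (.one (.rev 243))
 (.one (.rev 4339)))
 (.fork (.one (.rev 2291))
 (.one .base)))
 (.fork (.fork (.one (.rev 1267))
 (.one .base))
 (.fork (.one (.rev 3315))
 (.one .base))))
 (.fork (.fork (.fork (.one (.rev 755))
 (.one .base))
 (.fork (.one (.rev 2803))
 (.one .base)))
 (.fork (.fork (.one (.rev 1779))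
 (.one .base))
 (.fork (.one (.rev 3827))
 (.one .base)))))
 (.fork (.fork (.fork (.fork (.one (.rev 499))
 (.one .base))
 (.fork (.one (.rev 2547))
 (.one .base)))
 (.fork (.fork (.one (.rev 1523))
 (.one .base))
 (.fork (.one (.rev 3571))
 (.one .base))))
 (.fork (.fork (.fork (.one (.rev 1011))
 (.one .base))
 (.fork (.one (.rev 3059))
 (.one .base)))
 (.fork (.fork (.one (.rev 2035))
 (.one .base))
 (.fork (.one (.rev 4083))
 (.one .base)))))))

/-- a part of the justifications -/
noncomputable def twJustT25 : BT Just := (.fork (.fork (.fork (.fork (.fork (.fork (.one (.ubase [(3,false)]))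
 (.one (.rev 4107)))
 (.fork (.one (.rev 2059))
 (.one .base)))
 (.fork (.fork (.one (.rev 1035))
 (.one .base))
 (.fork (.one (.rev 3083))
 (.one .base))))
 (.fork (.fork (.fork (.one (.rev 523))
 (.one .base))
 (.fork (.one (.rev 2571))
 (.one .base)))
 (.fork (.fork (.one (.rev 1547))
 (.one .base))
 (.fork (.one (.rev 3595))
 (.one .base)))))
 (.fork (.fork (.fork (.fork (.one (.rev 267))
 (.one .base))
 (.fork (.one (.rev 2315))
 (.one .base)))
 (.fork (.fork (.one (.rev 1291))
 (.one .base))
 (.fork (.one (.rev 3339))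
 (.one .base))))
 (.fork (.fork (.fork (.one (.rev 779))
 (.one .base))
 (.fork (.one (.rev 2827))
 (.one .base)))
 (.fork (.fork (.one (.rev 1803))
 (.one .base))
 (.fork (.one (.rev 3851))
 (.one .base))))))
 (.fork (.fork (.fork (.fork (.fork (.one (.path 7 [⟨62,[(64,false),(72,false)],[(2,true),(5,false),(4,false),(2,true),(5,false),(4,false),(1,false),(2,true),(5,false)]⟩,⟨30,[(13,false),(15,false),(10,false),(13,false),(10,false)],[(3,false),(4,false),(1,false),(5,false),(4,false)]⟩,⟨59,[(28,false),(27,false)],[(4,false),(3,false),(5,false),(2,false),(4,false),(5,false),(4,false),(2,true),(5,false),(2,false)]⟩]))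
 (.one (.rev 4235)))
 (.fork (.one (.rev 2187))
 (.one .base)))
 (.fork (.fork (.one (.rev 1163))
 (.one .base))
 (.fork (.one (.rev 3211))
 (.one .base))))
 (.fork (.fork (.fork (.one (.rev 651))
 (.one .base))
 (.fork (.one (.rev 2699))
 (.one .base)))
 (.fork (.fork (.one (.rev 1675))
 (.one .base))
 (.fork (.one (.rev 3723))
 (.one .base)))))
 (.fork (.fork (.fork (.fork (.one (.rev 395))
 (.one .base))
 (.fork (.one (.rev 2443))
 (.one .base)))
 (.fork (.fork (.one (.rev 1419))
 (.one .base))
 (.fork (.one (.rev 3467))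
 (.one .base))))
 (.fork (.fork (.fork (.one (.rev 907))
 (.one .base))
 (.fork (.one (.rev 2955))
 (.one .base)))
 (.fork (.fork (.one (.rev 1931))
 (.one .base))
 (.fork (.one (.rev 3979))
 (.one .base)))))))

/-- a part of the justifications -/
noncomputable def twJustT26 : BT Just := (.fork (.fork (.fork (.fork (.fork (.fork (.one (.rev 75))
 (.one (.rev 4171)))
 (.fork (.one (.rev 2123))
 (.one .base)))
 (.fork (.fork (.one (.rev 1099))
 (.one .base))
 (.fork (.one (.rev 3147))
 (.one .base))))
 (.fork (.fork (.fork (.one (.rev 587))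
 (.one .base))
 (.fork (.one (.rev 2635))
 (.one .base)))
 (.fork (.fork (.one (.rev 1611))
 (.one .base))
 (.fork (.one (.rev 3659))
 (.one .base)))))
 (.fork (.fork (.fork (.fork (.one (.rev 331))
 (.one .base))
 (.fork (.one (.rev 2379))
 (.one .base)))
 (.fork (.fork (.one (.rev 1355))
 (.one .base))
 (.fork (.one (.rev 3403))
 (.one .base))))
 (.fork (.fork (.fork (.one (.rev 843))
 (.one .base))
 (.fork (.one (.rev 2891))
 (.one .base)))
 (.fork (.fork (.one (.rev 1867))
 (.one .base))
 (.fork (.one (.rev 3915))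
 (.one .base))))))
 (.fork (.fork (.fork (.fork (.fork (.one (.lift 6 (wOf 27 0x21432321643572345312301232) ⟨202,[(114,true),(163,true),(114,false)],[]⟩ ⟨202,[(163,true),(114,true),(163,true),(114,false)],[(3,false),(4,false),(1,false),(5,false),(6,false),(4,false),(1,false),(2,true),(5,false),(4,false)]⟩))
 (.one (.rev 4299)))
 (.fork (.one (.rev 2251))
 (.one .base)))
 (.fork (.fork (.one (.rev 1227))
 (.one .base))
 (.fork (.one (.rev 3275))
 (.one .base))))
 (.fork (.fork (.fork (.one (.rev 715))
 (.one .base))
 (.fork (.one (.rev 2763))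
 (.one .base)))
 (.fork (.fork (.one (.rev 1739))
 (.one .base))
 (.fork (.one (.rev 3787))
 (.one .base)))))
 (.fork (.fork (.fork (.fork (.one (.rev 459))
 (.one .base))
 (.fork (.one (.rev 2507))
 (.one .base)))
 (.fork (.fork (.one (.rev 1483))
 (.one .base))
 (.fork (.one (.rev 3531))
 (.one .base))))
 (.fork (.fork (.fork (.one (.rev 971))
 (.one .base))
 (.fork (.one (.rev 3019))
 (.one .base)))
 (.fork (.fork (.one (.rev 1995))
 (.one .base))
 (.fork (.one (.rev 4043))
 (.one .base)))))))

/-- a part of the justifications -/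
noncomputable def twJustT27 : BT Just := (.fork (.fork (.fork (.fork (.fork (.fork (.one (.rev 43))
 (.one (.rev 4139)))
 (.fork (.one (.rev 2091))
 (.one .base)))
 (.fork (.fork (.one (.rev 1067))
 (.one .base))
 (.fork (.one (.rev 3115))
 (.one .base))))
 (.fork (.fork (.fork (.one (.rev 555))
 (.one .base))
 (.fork (.one (.rev 2603))
 (.one .base)))
 (.fork (.fork (.one (.rev 1579))
 (.one .base))
 (.fork (.one (.rev 3627))
 (.one .base)))))
 (.fork (.fork (.fork (.fork (.one (.rev 299))
 (.one .base))
 (.fork (.one (.rev 2347))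
 (.one .base)))
 (.fork (.fork (.one (.rev 1323))
 (.one .base))
 (.fork (.one (.rev 3371))
 (.one .base))))
 (.fork (.fork (.fork (.one (.rev 811))
 (.one .base))
 (.fork (.one (.rev 2859))
 (.one .base)))
 (.fork (.fork (.one (.rev 1835))
 (.one .base))
 (.fork (.one (.rev 3883))
 (.one .base))))))
 (.fork (.fork (.fork (.fork (.fork (.one (.lift 4 (wOf 13 0x7623462323412) ⟨168,[(65,false),(72,false),(65,true),(63,true)],[]⟩ ⟨168,[(72,false),(64,false),(72,false),(65,false),(72,true)],[(2,false),(3,false),(4,false),(5,false),(4,false),(5,false),(2,true),(5,false),(4,false),(5,false)]⟩))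
 (.one (.rev 4267)))
 (.fork (.one (.rev 2219))
 (.one .base)))
 (.fork (.fork (.one (.rev 1195))
 (.one .base))
 (.fork (.one (.rev 3243))
 (.one .base))))
 (.fork (.fork (.fork (.one (.rev 683))
 (.one .base))
 (.fork (.one (.rev 2731))
 (.one .base)))
 (.fork (.fork (.one (.rev 1707))
 (.one .base))
 (.fork (.one (.rev 3755))
 (.one .base)))))
 (.fork (.fork (.fork (.fork (.one (.rev 427))
 (.one .base))
 (.fork (.one (.rev 2475))
 (.one .base)))
 (.fork (.fork (.one (.rev 1451))
 (.one .base))
 (.fork (.one (.rev 3499))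
 (.one .base))))
 (.fork (.fork (.fork (.one (.rev 939))
 (.one .base))
 (.fork (.one (.rev 2987))
 (.one .base)))
 (.fork (.fork (.one (.rev 1963))
 (.one .base))
 (.fork (.one (.rev 4011))
 (.one .base)))))))

/-- a part of the justifications -/
noncomputable def twJustT28 : BT Just := (.fork (.fork (.fork (.fork (.fork (.fork (.one (.rev 107))
 (.one (.rev 4203)))
 (.fork (.one (.rev 2155))
 (.one .base)))
 (.fork (.fork (.one (.rev 1131))
 (.one .base))
 (.fork (.one (.rev 3179))
 (.one .base))))
 (.fork (.fork (.fork (.one (.rev 619))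
 (.one .base))
 (.fork (.one (.rev 2667))
 (.one .base)))
 (.fork (.fork (.one (.rev 1643))
 (.one .base))
 (.fork (.one (.rev 3691))
 (.one .base)))))
 (.fork (.fork (.fork (.fork (.one (.rev 363))
 (.one .base))
 (.fork (.one (.rev 2411))
 (.one .base)))
 (.fork (.fork (.one (.rev 1387))
 (.one .base))
 (.fork (.one (.rev 3435))
 (.one .base))))
 (.fork (.fork (.fork (.one (.rev 875))
 (.one .base))
 (.fork (.one (.rev 2923))
 (.one .base)))
 (.fork (.fork (.one (.rev 1899))
 (.one .base))
 (.fork (.one (.rev 3947))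
 (.one .base))))))
 (.fork (.fork (.fork (.fork (.fork (.one (.rev 235))
 (.one (.rev 4331)))
 (.fork (.one (.rev 2283))
 (.one .base)))
 (.fork (.fork (.one (.rev 1259))
 (.one .base))
 (.fork (.one (.rev 3307))
 (.one .base))))
 (.fork (.fork (.fork (.one (.rev 747))
 (.one .base))
 (.fork (.one (.rev 2795))
 (.one .base)))
 (.fork (.fork (.one (.rev 1771))
 (.one .base))
 (.fork (.one (.rev 3819))
 (.one .base)))))
 (.fork (.fork (.fork (.fork (.one (.rev 491))
 (.one .base))
 (.fork (.one (.rev 2539))
 (.one .base)))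
 (.fork (.fork (.one (.rev 1515))
 (.one .base))
 (.fork (.one (.rev 3563))
 (.one .base))))
 (.fork (.fork (.fork (.one (.rev 1003))
 (.one .base))
 (.fork (.one (.rev 3051))
 (.one .base)))
 (.fork (.fork (.one (.rev 2027))
 (.one .base))
 (.fork (.one (.rev 4075))
 (.one .base)))))))

/-- a part of the justifications -/
noncomputable def twJustT29 : BT Just := (.fork (.fork (.fork (.fork (.fork (.fork (.one (.lift 1 [1,0,2,1,8,6,4,3,6] ⟨18,[(15,false),(11,false),(14,false)],[]⟩ ⟨18,[(14,true),(15,false),(11,true),(14,false),(10,false)],[(2,false)]⟩))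
 (.one (.rev 4123)))
 (.fork (.one (.rev 2075))
 (.one .base)))
 (.fork (.fork (.one (.rev 1051))
 (.one .base))
 (.fork (.one (.rev 3099))
 (.one .base))))
 (.fork (.fork (.fork (.one (.rev 539))
 (.one .base))
 (.fork (.one (.rev 2587))
 (.one .base)))
 (.fork (.fork (.one (.rev 1563))
 (.one .base))
 (.fork (.one (.rev 3611))
 (.one .base)))))
 (.fork (.fork (.fork (.fork (.one (.rev 283))
 (.one .base))
 (.fork (.one (.rev 2331))
 (.one .base)))
 (.fork (.fork (.one (.rev 1307))
 (.one .base))
 (.fork (.one (.rev 3355))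
 (.one .base))))
 (.fork (.fork (.fork (.one (.rev 795))
 (.one .base))
 (.fork (.one (.rev 2843))
 (.one .base)))
 (.fork (.fork (.one (.rev 1819))
 (.one .base))
 (.fork (.one (.rev 3867))
 (.one .base))))))
 (.fork (.fork (.fork (.fork (.fork (.one .def')
 (.one (.rev 4251)))
 (.fork (.one (.rev 2203))
 (.one .base)))
 (.fork (.fork (.one (.rev 1179))
 (.one .base))
 (.fork (.one (.rev 3227))
 (.one .base))))
 (.fork (.fork (.fork (.one (.rev 667))
 (.one .base))
 (.fork (.one (.rev 2715))
 (.one .base)))
 (.fork (.fork (.one (.rev 1691))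
 (.one .base))
 (.fork (.one (.rev 3739))
 (.one .base)))))
 (.fork (.fork (.fork (.fork (.one (.rev 411))
 (.one .base))
 (.fork (.one (.rev 2459))
 (.one .base)))
 (.fork (.fork (.one (.rev 1435))
 (.one .base))
 (.fork (.one (.rev 3483))
 (.one .base))))
 (.fork (.fork (.fork (.one (.rev 923))
 (.one .base))
 (.fork (.one (.rev 2971))
 (.one .base)))
 (.fork (.fork (.one (.rev 1947))
 (.one .base))
 (.fork (.one (.rev 3995))
 (.one .base)))))))

/-- a part of the justifications -/
noncomputable def twJustT30 : BT Just := (.fork (.fork (.fork (.fork (.fork (.fork (.one (.path 0 [⟨60,[(83,true)],[(4,false),(5,false),(2,true),(5,false),(4,false),(5,false),(4,false),(2,true)]⟩,⟨66,[(28,false)],[(0,false),(5,false),(2,false),(6,false),(4,false),(1,false),(5,false),(4,false),(5,false),(4,false)]⟩]))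
 (.one (.rev 4187)))
 (.fork (.one (.rev 2139))
 (.one .base)))
 (.fork (.fork (.one (.rev 1115))
 (.one .base))
 (.fork (.one (.rev 3163))
 (.one .base))))
 (.fork (.fork (.fork (.one (.rev 603))
 (.one .base))
 (.fork (.one (.rev 2651))
 (.one .base)))
 (.fork (.fork (.one (.rev 1627))
 (.one .base))
 (.fork (.one (.rev 3675))
 (.one .base)))))
 (.fork (.fork (.fork (.fork (.one (.rev 347))
 (.one .base))
 (.fork (.one (.rev 2395))
 (.one .base)))
 (.fork (.fork (.one (.rev 1371))
 (.one .base))
 (.fork (.one (.rev 3419))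
 (.one .base))))
 (.fork (.fork (.fork (.one (.rev 859))
 (.one .base))
 (.fork (.one (.rev 2907))
 (.one .base)))
 (.fork (.fork (.one (.rev 1883))
 (.one .base))
 (.fork (.one (.rev 3931))
 (.one .base))))))
 (.fork (.fork (.fork (.fork (.fork (.one (.rev 219))
 (.one (.rev 4315)))
 (.fork (.one (.rev 2267))
 (.one .base)))
 (.fork (.fork (.one (.rev 1243))
 (.one .base))
 (.fork (.one (.rev 3291))
 (.one .base))))
 (.fork (.fork (.fork (.one (.rev 731))
 (.one .base))
 (.fork (.one (.rev 2779))
 (.one .base)))
 (.fork (.fork (.one (.rev 1755))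
 (.one .base))
 (.fork (.one (.rev 3803))
 (.one .base)))))
 (.fork (.fork (.fork (.fork (.one (.rev 475))
 (.one .base))
 (.fork (.one (.rev 2523))
 (.one .base)))
 (.fork (.fork (.one (.rev 1499))
 (.one .base))
 (.fork (.one (.rev 3547))
 (.one .base))))
 (.fork (.fork (.fork (.one (.rev 987))
 (.one .base))
 (.fork (.one (.rev 3035))
 (.one .base)))
 (.fork (.fork (.one (.rev 2011))
 (.one .base))
 (.fork (.one (.rev 4059))
 (.one .base)))))))

/-- a part of the justifications -/
noncomputable def twJustT31 : BT Just := (.fork (.fork (.fork (.fork (.fork (.fork (.one (.rev 59))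
 (.one (.rev 4155)))
 (.fork (.one (.rev 2107))
 (.one .base)))
 (.fork (.fork (.one (.rev 1083))
 (.one .base))
 (.fork (.one (.rev 3131))
 (.one .base))))
 (.fork (.fork (.fork (.one (.rev 571))
 (.one .base))
 (.fork (.one (.rev 2619))
 (.one .base)))
 (.fork (.fork (.one (.rev 1595))
 (.one .base))
 (.fork (.one (.rev 3643))
 (.one .base)))))
 (.fork (.fork (.fork (.fork (.one (.rev 315))
 (.one .base))
 (.fork (.one (.rev 2363))
 (.one .base)))
 (.fork (.fork (.one (.rev 1339))
 (.one .base))
 (.fork (.one (.rev 3387))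
 (.one .base))))
 (.fork (.fork (.fork (.one (.rev 827))
 (.one .base))
 (.fork (.one (.rev 2875))
 (.one .base)))
 (.fork (.fork (.one (.rev 1851))
 (.one .base))
 (.fork (.one (.rev 3899))
 (.one .base))))))
 (.fork (.fork (.fork (.fork (.fork (.one (.rev 187))
 (.one (.rev 4283)))
 (.fork (.one (.rev 2235))
 (.one .base)))
 (.fork (.fork (.one (.rev 1211))
 (.one .base))
 (.fork (.one (.rev 3259))
 (.one .base))))
 (.fork (.fork (.fork (.one (.rev 699))
 (.one .base))
 (.fork (.one (.rev 2747))
 (.one .base)))
 (.fork (.fork (.one (.rev 1723))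
 (.one .base))
 (.fork (.one (.rev 3771))
 (.one .base)))))
 (.fork (.fork (.fork (.fork (.one (.rev 443))
 (.one .base))
 (.fork (.one (.rev 2491))
 (.one .base)))
 (.fork (.fork (.one (.rev 1467))
 (.one .base))
 (.fork (.one (.rev 3515))
 (.one .base))))
 (.fork (.fork (.fork (.one (.rev 955))
 (.one .base))
 (.fork (.one (.rev 3003))
 (.one .base)))
 (.fork (.fork (.one (.rev 1979))
 (.one .base))
 (.fork (.one (.rev 4027))
 (.one .base)))))))

/-- a part of the justifications -/
noncomputable def twJustT32 : BT Just := (.fork (.fork (.fork (.fork (.fork (.fork (.one (.path 7 [⟨93,[(100,true),(83,true)],[(0,false),(5,false),(6,false),(2,true),(5,false),(4,false),(1,false),(5,false),(4,false),(6,false),(4,false)]⟩,⟨53,[(100,true),(83,false)],[(2,false),(5,false),(4,false),(6,false),(2,true),(5,false),(4,false),(5,false),(2,false),(6,false)]⟩,⟨111,[(11,false),(14,false),(12,false),(11,false),(9,false)],[(1,false),(2,false),(4,false),(1,false),(4,false),(6,false),(4,false),(5,false),(4,false),(6,false),(2,true)]⟩]))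
 (.one (.rev 4219)))
 (.fork (.one (.rev 2171))
 (.one .base)))
 (.fork (.fork (.one (.rev 1147))
 (.one .base))
 (.fork (.one (.rev 3195))
 (.one .base))))
 (.fork (.fork (.fork (.one (.rev 635))
 (.one .base))
 (.fork (.one (.rev 2683))
 (.one .base)))
 (.fork (.fork (.one (.rev 1659))
 (.one .base))
 (.fork (.one (.rev 3707))
 (.one .base)))))
 (.fork (.fork (.fork (.fork (.one (.rev 379))
 (.one .base))
 (.fork (.one (.rev 2427))
 (.one .base)))
 (.fork (.fork (.one (.rev 1403))
 (.one .base))
 (.fork (.one (.rev 3451))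
 (.one .base))))
 (.fork (.fork (.fork (.one (.rev 891))
 (.one .base))
 (.fork (.one (.rev 2939))
 (.one .base)))
 (.fork (.fork (.one (.rev 1915))
 (.one .base))
 (.fork (.one (.rev 3963))
 (.one .base))))))
 (.fork (.fork (.fork (.fork (.fork (.one (.rev 251))
 (.one (.rev 4347)))
 (.fork (.one (.rev 2299))
 (.one .base)))
 (.fork (.fork (.one (.rev 1275))
 (.one .base))
 (.fork (.one (.rev 3323))
 (.one .base))))
 (.fork (.fork (.fork (.one (.rev 763))
 (.one .base))
 (.fork (.one (.rev 2811))
 (.one .base)))
 (.fork (.fork (.one (.rev 1787))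
 (.one .base))
 (.fork (.one (.rev 3835))
 (.one .base)))))
 (.fork (.fork (.fork (.fork (.one (.rev 507))
 (.one .base))
 (.fork (.one (.rev 2555))
 (.one .base)))
 (.fork (.fork (.one (.rev 1531))
 (.one .base))
 (.fork (.one (.rev 3579))
 (.one .base))))
 (.fork (.fork (.fork (.one (.rev 1019))
 (.one .base))
 (.fork (.one (.rev 3067))
 (.one .base)))
 (.fork (.fork (.one (.rev 2043))
 (.one .base))
 (.fork (.one (.rev 4091))
 (.one .base)))))))

/-- a part of the justifications -/
noncomputable def twJustT33 : BT Just := (.fork (.fork (.fork (.fork (.fork (.fork (.one .base)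
 (.one (.rev 4097)))
 (.fork (.one (.rev 2049))
 (.one .base)))
 (.fork (.fork (.one (.rev 1025))
 (.one .base))
 (.fork (.one (.rev 3073))
 (.one .base))))
 (.fork (.fork (.fork (.one (.rev 513))
 (.one .base))
 (.fork (.one (.rev 2561))
 (.one .base)))
 (.fork (.fork (.one (.rev 1537))
 (.one .base))
 (.fork (.one (.rev 3585))
 (.one .base)))))
 (.fork (.fork (.fork (.fork (.one (.rev 257))
 (.one (.rev 4353)))
 (.fork (.one (.rev 2305))
 (.one .base)))
 (.fork (.fork (.one (.rev 1281))
 (.one .base))
 (.fork (.one (.rev 3329))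
 (.one .base))))
 (.fork (.fork (.fork (.one (.rev 769))
 (.one .base))
 (.fork (.one (.rev 2817))
 (.one .base)))
 (.fork (.fork (.one (.rev 1793))
 (.one .base))
 (.fork (.one (.rev 3841))
 (.one .base))))))
 (.fork (.fork (.fork (.fork (.fork (.one (.path 8 [⟨62,[(72,true)],[(0,false),(4,false),(6,false),(4,false),(1,false),(4,false),(1,false),(6,false),(4,false),(2,true)]⟩,⟨30,[(10,false)],[(2,false),(3,false),(4,false),(1,false),(4,false),(6,false)]⟩,⟨119,[(27,false),(21,false),(20,false)],[(1,false),(6,false),(4,false),(1,false),(3,false),(2,true)]⟩]))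
 (.one (.rev 4225)))
 (.fork (.one (.rev 2177))
 (.one .base)))
 (.fork (.fork (.one (.rev 1153))
 (.one .base))
 (.fork (.one (.rev 3201))
 (.one .base))))
 (.fork (.fork (.fork (.one (.rev 641))
 (.one .base))
 (.fork (.one (.rev 2689))
 (.one .base)))
 (.fork (.fork (.one (.rev 1665))
 (.one .base))
 (.fork (.one (.rev 3713))
 (.one .base)))))
 (.fork (.fork (.fork (.fork (.one (.rev 385))
 (.one .base))
 (.fork (.one (.rev 2433))
 (.one .base)))
 (.fork (.fork (.one (.rev 1409))
 (.one .base))
 (.fork (.one (.rev 3457))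
 (.one .base))))
 (.fork (.fork (.fork (.one (.rev 897))
 (.one .base))
 (.fork (.one (.rev 2945))
 (.one .base)))
 (.fork (.fork (.one (.rev 1921))
 (.one .base))
 (.fork (.one (.rev 3969))
 (.one .base)))))))

/-- a part of the justifications -/
noncomputable def twJustT34 : BT Just := (.fork (.fork (.fork (.fork (.fork (.fork (.one (.path 0 [⟨29,[],[(6,false),(2,true)]⟩,⟨52,[(10,false),(13,false),(15,false),(10,false),(13,false),(11,true)],[(3,false),(5,false),(4,false),(5,false)]⟩]))
 (.one (.rev 4161)))
 (.fork (.one (.rev 2113))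
 (.one .base)))
 (.fork (.fork (.one (.rev 1089))
 (.one .base))
 (.fork (.one (.rev 3137))
 (.one .base))))
 (.fork (.fork (.fork (.one (.rev 577))
 (.one .base))
 (.fork (.one (.rev 2625))
 (.one .base)))
 (.fork (.fork (.one (.rev 1601))
 (.one .base))
 (.fork (.one (.rev 3649))
 (.one .base)))))
 (.fork (.fork (.fork (.fork (.one (.rev 321))
 (.one .base))
 (.fork (.one (.rev 2369))
 (.one .base)))
 (.fork (.fork (.one (.rev 1345))
 (.one .base))
 (.fork (.one (.rev 3393))
 (.one .base))))
 (.fork (.fork (.fork (.one (.rev 833))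
 (.one .base))
 (.fork (.one (.rev 2881))
 (.one .base)))
 (.fork (.fork (.one (.rev 1857))
 (.one .base))
 (.fork (.one (.rev 3905))
 (.one .base))))))
 (.fork (.fork (.fork (.fork (.fork (.one (.path 4 [⟨81,[(100,false),(83,true)],[(0,false),(5,false),(4,false),(2,true),(5,false),(4,false),(1,false),(4,false),(2,true)]⟩,⟨177,[(58,false),(57,false)],[(1,false),(5,false),(6,false)]⟩,⟨188,[(158,false),(172,false),(158,false),(172,false),(158,false),(172,false),(158,false),(172,false),(158,false),(172,false),(158,false),(172,false)],[(2,false),(4,false),(3,false),(5,false),(4,false),(1,false),(4,false),(2,true),(5,false),(2,false)]⟩]))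
 (.one (.rev 4289)))
 (.fork (.one (.rev 2241))
 (.one .base)))
 (.fork (.fork (.one (.rev 1217))
 (.one .base))
 (.fork (.one (.rev 3265))
 (.one .base))))
 (.fork (.fork (.fork (.one (.rev 705))
 (.one .base))
 (.fork (.one (.rev 2753))
 (.one .base)))
 (.fork (.fork (.one (.rev 1729))
 (.one .base))
 (.fork (.one (.rev 3777))
 (.one .base)))))
 (.fork (.fork (.fork (.fork (.one (.rev 449))
 (.one .base))
 (.fork (.one (.rev 2497))
 (.one .base)))
 (.fork (.fork (.one (.rev 1473))
 (.one .base))
 (.fork (.one (.rev 3521))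
 (.one .base))))
 (.fork (.fork (.fork (.one (.rev 961))
 (.one .base))
 (.fork (.one (.rev 3009))
 (.one .base)))
 (.fork (.fork (.one (.rev 1985))
 (.one .base))
 (.fork (.one (.rev 4033))
 (.one .base)))))))

/-- a part of the justifications -/
noncomputable def twJustT35 : BT Just := (.fork (.fork (.fork (.fork (.fork (.fork (.one (.rev 33))
 (.one (.rev 4129)))
 (.fork (.one (.rev 2081))
 (.one .base)))
 (.fork (.fork (.one (.rev 1057))
 (.one .base))
 (.fork (.one (.rev 3105))
 (.one .base))))
 (.fork (.fork (.fork (.one (.rev 545))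
 (.one .base))
 (.fork (.one (.rev 2593))
 (.one .base)))
 (.fork (.fork (.one (.rev 1569))
 (.one .base))
 (.fork (.one (.rev 3617))
 (.one .base)))))
 (.fork (.fork (.fork (.fork (.one (.rev 289))
 (.one .base))
 (.fork (.one (.rev 2337))
 (.one .base)))
 (.fork (.fork (.one (.rev 1313))
 (.one .base))
 (.fork (.one (.rev 3361))
 (.one .base))))
 (.fork (.fork (.fork (.one (.rev 801))
 (.one .base))
 (.fork (.one (.rev 2849))
 (.one .base)))
 (.fork (.fork (.one (.rev 1825))
 (.one .base))
 (.fork (.one (.rev 3873))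
 (.one .base))))))
 (.fork (.fork (.fork (.fork (.fork (.one (.rev 161))
 (.one (.rev 4257)))
 (.fork (.one (.rev 2209))
 (.one .base)))
 (.fork (.fork (.one (.rev 1185))
 (.one .base))
 (.fork (.one (.rev 3233))
 (.one .base))))
 (.fork (.fork (.fork (.one (.rev 673))
 (.one .base))
 (.fork (.one (.rev 2721))
 (.one .base)))
 (.fork (.fork (.one (.rev 1697))
 (.one .base))
 (.fork (.one (.rev 3745))
 (.one .base)))))
 (.fork (.fork (.fork (.fork (.one (.rev 417))
 (.one .base))
 (.fork (.one (.rev 2465))
 (.one .base)))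
 (.fork (.fork (.one (.rev 1441))
 (.one .base))
 (.fork (.one (.rev 3489))
 (.one .base))))
 (.fork (.fork (.fork (.one (.rev 929))
 (.one .base))
 (.fork (.one (.rev 2977))
 (.one .base)))
 (.fork (.fork (.one (.rev 1953))
 (.one .base))
 (.fork (.one (.rev 4001))
 (.one .base)))))))

/-- a part of the justifications -/
noncomputable def twJustT36 : BT Just := (.fork (.fork (.fork (.fork (.fork (.fork (.one (.path 2 [⟨79,[],[(1,false)]⟩,⟨60,[(83,true)],[(1,false),(3,false),(4,false),(1,false),(4,false),(5,false),(4,false),(2,true)]⟩,⟨66,[(28,false),(24,false)],[(4,false),(5,false),(2,true),(5,false),(4,false),(5,false),(2,false),(6,false)]⟩]))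
 (.one (.rev 4193)))
 (.fork (.one (.rev 2145))
 (.one .base)))
 (.fork (.fork (.one (.rev 1121))
 (.one .base))
 (.fork (.one (.rev 3169))
 (.one .base))))
 (.fork (.fork (.fork (.one (.rev 609))
 (.one .base))
 (.fork (.one (.rev 2657))
 (.one .base)))
 (.fork (.fork (.one (.rev 1633))
 (.one .base))
 (.fork (.one (.rev 3681))
 (.one .base)))))
 (.fork (.fork (.fork (.fork (.one (.rev 353))
 (.one .base))
 (.fork (.one (.rev 2401))
 (.one .base)))
 (.fork (.fork (.one (.rev 1377))
 (.one .base))
 (.fork (.one (.rev 3425))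
 (.one .base))))
 (.fork (.fork (.fork (.one (.rev 865))
 (.one .base))
 (.fork (.one (.rev 2913))
 (.one .base)))
 (.fork (.fork (.one (.rev 1889))
 (.one .base))
 (.fork (.one (.rev 3937))
 (.one .base))))))
 (.fork (.fork (.fork (.fork (.fork (.one (.rev 225))
 (.one (.lift 3 (wOf 22 0x1232132468453452312341) ⟨4319,[(100,false),(56,false)],[]⟩ ⟨4319,[(83,true),(100,false),(83,false),(55,false)],[(6,false)]⟩)))
 (.fork (.one (.rev 2273))
 (.one .base)))
 (.fork (.fork (.one (.rev 1249))
 (.one .base))
 (.fork (.one (.rev 3297))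
 (.one .base))))
 (.fork (.fork (.fork (.one (.rev 737))
 (.one .base))
 (.fork (.one (.rev 2785))
 (.one .base)))
 (.fork (.fork (.one (.rev 1761))
 (.one .base))
 (.fork (.one (.rev 3809))
 (.one .base)))))
 (.fork (.fork (.fork (.fork (.one (.rev 481))
 (.one .base))
 (.fork (.one (.rev 2529))
 (.one .base)))
 (.fork (.fork (.one (.rev 1505))
 (.one .base))
 (.fork (.one (.rev 3553))
 (.one .base))))
 (.fork (.fork (.fork (.one (.rev 993))
 (.one .base))
 (.fork (.one (.rev 3041))
 (.one .base)))
 (.fork (.fork (.one (.rev 2017))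
 (.one .base))
 (.fork (.one (.rev 4065))
 (.one .base)))))))

/-- a part of the justifications -/
noncomputable def twJustT37 : BT Just := (.fork (.fork (.fork (.fork (.fork (.fork (.one .def')
 (.one (.rev 4113)))
 (.fork (.one (.rev 2065))
 (.one .base)))
 (.fork (.fork (.one (.rev 1041))
 (.one .base))
 (.fork (.one (.rev 3089))
 (.one .base))))
 (.fork (.fork (.fork (.one (.rev 529))
 (.one .base))
 (.fork (.one (.rev 2577))
 (.one .base)))
 (.fork (.fork (.one (.rev 1553))
 (.one .base))
 (.fork (.one (.rev 3601))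
 (.one .base)))))
 (.fork (.fork (.fork (.fork (.one (.rev 273))
 (.one .base))
 (.fork (.one (.rev 2321))
 (.one .base)))
 (.fork (.fork (.one (.rev 1297))
 (.one .base))
 (.fork (.one (.rev 3345))
 (.one .base))))
 (.fork (.fork (.fork (.one (.rev 785))
 (.one .base))
 (.fork (.one (.rev 2833))
 (.one .base)))
 (.fork (.fork (.one (.rev 1809))
 (.one .base))
 (.fork (.one (.rev 3857))
 (.one .base))))))
 (.fork (.fork (.fork (.fork (.fork (.one (.path 1 [⟨116,[],[]⟩,⟨115,[(63,true)],[(0,false),(2,false),(3,false)]⟩]))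
 (.one (.rev 4241)))
 (.fork (.one (.rev 2193))
 (.one .base)))
 (.fork (.fork (.one (.rev 1169))
 (.one .base))
 (.fork (.one (.rev 3217))
 (.one .base))))
 (.fork (.fork (.fork (.one (.rev 657))
 (.one .base))
 (.fork (.one (.rev 2705))
 (.one .base)))
 (.fork (.fork (.one (.rev 1681))
 (.one .base))
 (.fork (.one (.rev 3729))
 (.one .base)))))
 (.fork (.fork (.fork (.fork (.one (.rev 401))
 (.one .base))
 (.fork (.one (.rev 2449))
 (.one .base)))
 (.fork (.fork (.one (.rev 1425))
 (.one .base))
 (.fork (.one (.rev 3473))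
 (.one .base))))
 (.fork (.fork (.fork (.one (.rev 913))
 (.one .base))
 (.fork (.one (.rev 2961))
 (.one .base)))
 (.fork (.fork (.one (.rev 1937))
 (.one .base))
 (.fork (.one (.rev 3985))
 (.one .base)))))))

/-- a part of the justifications -/
noncomputable def twJustT38 : BT Just := (.fork (.fork (.fork (.fork (.fork (.fork (.one (.rev 81))
 (.one (.rev 4177)))
 (.fork (.one (.rev 2129))
 (.one .base)))
 (.fork (.fork (.one (.rev 1105))
 (.one .base))
 (.fork (.one (.rev 3153))
 (.one .base))))
 (.fork (.fork (.fork (.one (.rev 593))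
 (.one .base))
 (.fork (.one (.rev 2641))
 (.one .base)))
 (.fork (.fork (.one (.rev 1617))
 (.one .base))
 (.fork (.one (.rev 3665))
 (.one .base)))))
 (.fork (.fork (.fork (.fork (.one (.rev 337))
 (.one .base))
 (.fork (.one (.rev 2385))
 (.one .base)))
 (.fork (.fork (.one (.rev 1361))
 (.one .base))
 (.fork (.one (.rev 3409))
 (.one .base))))
 (.fork (.fork (.fork (.one (.rev 849))
 (.one .base))
 (.fork (.one (.rev 2897))
 (.one .base)))
 (.fork (.fork (.one (.rev 1873))
 (.one .base))
 (.fork (.one (.rev 3921))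
 (.one .base))))))
 (.fork (.fork (.fork (.fork (.fork (.one (.rev 209))
 (.one (.rev 4305)))
 (.fork (.one (.rev 2257))
 (.one .base)))
 (.fork (.fork (.one (.rev 1233))
 (.one .base))
 (.fork (.one (.rev 3281))
 (.one .base))))
 (.fork (.fork (.fork (.one (.rev 721))
 (.one .base))
 (.fork (.one (.rev 2769))
 (.one .base)))
 (.fork (.fork (.one (.rev 1745))
 (.one .base))
 (.fork (.one (.rev 3793))
 (.one .base)))))
 (.fork (.fork (.fork (.fork (.one (.rev 465))
 (.one .base))
 (.fork (.one (.rev 2513))
 (.one .base)))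
 (.fork (.fork (.one (.rev 1489))
 (.one .base))
 (.fork (.one (.rev 3537))
 (.one .base))))
 (.fork (.fork (.fork (.one (.rev 977))
 (.one .base))
 (.fork (.one (.rev 3025))
 (.one .base)))
 (.fork (.fork (.one (.rev 2001))
 (.one .base))
 (.fork (.one (.rev 4049))
 (.one .base)))))))

/-- a part of the justifications -/
noncomputable def twJustT39 : BT Just := (.fork (.fork (.fork (.fork (.fork (.fork (.one (.path 1 [⟨18,[],[(1,false),(2,false),(5,false),(2,true)]⟩,⟨31,[(49,true),(28,true)],[(0,false),(4,false),(2,true),(5,false),(4,false),(2,true),(5,false)]⟩]))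
 (.one (.rev 4145)))
 (.fork (.one (.rev 2097))
 (.one .base)))
 (.fork (.fork (.one (.rev 1073))
 (.one .base))
 (.fork (.one (.rev 3121))
 (.one .base))))
 (.fork (.fork (.fork (.one (.rev 561))
 (.one .base))
 (.fork (.one (.rev 2609))
 (.one .base)))
 (.fork (.fork (.one (.rev 1585))
 (.one .base))
 (.fork (.one (.rev 3633))
 (.one .base)))))
 (.fork (.fork (.fork (.fork (.one (.rev 305))
 (.one .base))
 (.fork (.one (.rev 2353))
 (.one .base)))
 (.fork (.fork (.one (.rev 1329))
 (.one .base))
 (.fork (.one (.rev 3377))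
 (.one .base))))
 (.fork (.fork (.fork (.one (.rev 817))
 (.one .base))
 (.fork (.one (.rev 2865))
 (.one .base)))
 (.fork (.fork (.one (.rev 1841))
 (.one .base))
 (.fork (.one (.rev 3889))
 (.one .base))))))
 (.fork (.fork (.fork (.fork (.fork (.one (.rev 177))
 (.one (.rev 4273)))
 (.fork (.one (.rev 2225))
 (.one .base)))
 (.fork (.fork (.one (.rev 1201))
 (.one .base))
 (.fork (.one (.rev 3249))
 (.one .base))))
 (.fork (.fork (.fork (.one (.rev 689))
 (.one .base))
 (.fork (.one (.rev 2737))
 (.one .base)))
 (.fork (.fork (.one (.rev 1713))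
 (.one .base))
 (.fork (.one (.rev 3761))
 (.one .base)))))
 (.fork (.fork (.fork (.fork (.one (.rev 433))
 (.one .base))
 (.fork (.one (.rev 2481))
 (.one .base)))
 (.fork (.fork (.one (.rev 1457))
 (.one .base))
 (.fork (.one (.rev 3505))
 (.one .base))))
 (.fork (.fork (.fork (.one (.rev 945))
 (.one .base))
 (.fork (.one (.rev 2993))
 (.one .base)))
 (.fork (.fork (.one (.rev 1969))
 (.one .base))
 (.fork (.one (.rev 4017))
 (.one .base)))))))

/-- a part of the justifications -/
noncomputable def twJustT40 : BT Just := (.fork (.fork (.fork (.fork (.fork (.fork (.one (.lift 1 (wOf 21 0x134323646323463234672) ⟨111,[(15,false),(11,true),(14,false),(13,false),(14,false),(13,false),(15,false),(13,false),(11,false),(9,false)],[]⟩ ⟨111,[(13,true),(11,false),(14,false),(13,false),(10,false),(13,false),(15,false),(11,true),(14,false),(12,false),(13,false)],[(3,false),(6,false),(4,false)]⟩))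
 (.one (.rev 4209)))
 (.fork (.one (.rev 2161))
 (.one .base)))
 (.fork (.fork (.one (.rev 1137))
 (.one .base))
 (.fork (.one (.rev 3185))
 (.one .base))))
 (.fork (.fork (.fork (.one (.rev 625))
 (.one .base))
 (.fork (.one (.rev 2673))
 (.one .base)))
 (.fork (.fork (.one (.rev 1649))
 (.one .base))
 (.fork (.one (.rev 3697))
 (.one .base)))))
 (.fork (.fork (.fork (.fork (.one (.rev 369))
 (.one .base))
 (.fork (.one (.rev 2417))
 (.one .base)))
 (.fork (.fork (.one (.rev 1393))
 (.one .base))
 (.fork (.one (.rev 3441))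
 (.one .base))))
 (.fork (.fork (.fork (.one (.rev 881))
 (.one .base))
 (.fork (.one (.rev 2929))
 (.one .base)))
 (.fork (.fork (.one (.rev 1905))
 (.one .base))
 (.fork (.one (.rev 3953))
 (.one .base))))))
 (.fork (.fork (.fork (.fork (.fork (.one (.rev 241))
 (.one (.rev 4337)))
 (.fork (.one (.rev 2289))
 (.one .base)))
 (.fork (.fork (.one (.rev 1265))
 (.one .base))
 (.fork (.one (.rev 3313))
 (.one .base))))
 (.fork (.fork (.fork (.one (.rev 753))
 (.one .base))
 (.fork (.one (.rev 2801))
 (.one .base)))
 (.fork (.fork (.one (.rev 1777))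
 (.one .base))
 (.fork (.one (.rev 3825))
 (.one .base)))))
 (.fork (.fork (.fork (.fork (.one (.rev 497))
 (.one .base))
 (.fork (.one (.rev 2545))
 (.one .base)))
 (.fork (.fork (.one (.rev 1521))
 (.one .base))
 (.fork (.one (.rev 3569))
 (.one .base))))
 (.fork (.fork (.fork (.one (.rev 1009))
 (.one .base))
 (.fork (.one (.rev 3057))
 (.one .base)))
 (.fork (.fork (.one (.rev 2033))
 (.one .base))
 (.fork (.one (.rev 4081))
 (.one .base)))))))

/-- a part of the justifications -/
noncomputable def twJustT41 : BT Just := (.fork (.fork (.fork (.fork (.fork (.fork (.one (.ubase [(1,false)]))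
 (.one (.rev 4105)))
 (.fork (.one (.rev 2057))
 (.one .base)))
 (.fork (.fork (.one (.rev 1033))
 (.one .base))
 (.fork (.one (.rev 3081))
 (.one .base))))
 (.fork (.fork (.fork (.one (.rev 521))
 (.one .base))
 (.fork (.one (.rev 2569))
 (.one .base)))
 (.fork (.fork (.one (.rev 1545))
 (.one .base))
 (.fork (.one (.rev 3593))
 (.one .base)))))
 (.fork (.fork (.fork (.fork (.one (.rev 265))
 (.one .base))
 (.fork (.one (.rev 2313))
 (.one .base)))
 (.fork (.fork (.one (.rev 1289))
 (.one .base))
 (.fork (.one (.rev 3337))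
 (.one .base))))
 (.fork (.fork (.fork (.one (.rev 777))
 (.one .base))
 (.fork (.one (.rev 2825))
 (.one .base)))
 (.fork (.fork (.one (.rev 1801))
 (.one .base))
 (.fork (.one (.rev 3849))
 (.one .base))))))
 (.fork (.fork (.fork (.fork (.fork (.one (.path 5 [⟨131,[(137,false),(121,false),(137,false)],[(0,false),(6,false),(2,true)]⟩,⟨130,[(65,false),(72,false),(65,true)],[(1,false),(6,false),(4,false),(3,false),(2,true)]⟩,⟨131,[(137,true),(121,false)],[(2,false),(6,false),(4,false),(1,false),(3,false),(4,false)]⟩]))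
 (.one (.rev 4233)))
 (.fork (.one (.rev 2185))
 (.one .base)))
 (.fork (.fork (.one (.rev 1161))
 (.one .base))
 (.fork (.one (.rev 3209))
 (.one .base))))
 (.fork (.fork (.fork (.one (.rev 649))
 (.one .base))
 (.fork (.one (.rev 2697))
 (.one .base)))
 (.fork (.fork (.one (.rev 1673))
 (.one .base))
 (.fork (.one (.rev 3721))
 (.one .base)))))
 (.fork (.fork (.fork (.fork (.one (.rev 393))
 (.one .base))
 (.fork (.one (.rev 2441))
 (.one .base)))
 (.fork (.fork (.one (.rev 1417))
 (.one .base))
 (.fork (.one (.rev 3465))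
 (.one .base))))
 (.fork (.fork (.fork (.one (.rev 905))
 (.one .base))
 (.fork (.one (.rev 2953))
 (.one .base)))
 (.fork (.fork (.one (.rev 1929))
 (.one .base))
 (.fork (.one (.rev 3977))
 (.one .base)))))))

/-- a part of the justifications -/
noncomputable def twJustT42 : BT Just := (.fork (.fork (.fork (.fork (.fork (.fork (.one (.rev 73))
 (.one (.rev 4169)))
 (.fork (.one (.rev 2121))
 (.one .base)))
 (.fork (.fork (.one (.rev 1097))
 (.one .base))
 (.fork (.one (.rev 3145))
 (.one .base))))
 (.fork (.fork (.fork (.one (.rev 585))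
 (.one .base))
 (.fork (.one (.rev 2633))
 (.one .base)))
 (.fork (.fork (.one (.rev 1609))
 (.one .base))
 (.fork (.one (.rev 3657))
 (.one .base)))))
 (.fork (.fork (.fork (.fork (.one (.rev 329))
 (.one .base))
 (.fork (.one (.rev 2377))
 (.one .base)))
 (.fork (.fork (.one (.rev 1353))
 (.one .base))
 (.fork (.one (.rev 3401))
 (.one .base))))
 (.fork (.fork (.fork (.one (.rev 841))
 (.one .base))
 (.fork (.one (.rev 2889))
 (.one .base)))
 (.fork (.fork (.one (.rev 1865))
 (.one .base))
 (.fork (.one (.rev 3913))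
 (.one .base))))))
 (.fork (.fork (.fork (.fork (.fork (.one (.path 2 [⟨112,[],[]⟩,⟨52,[(11,false)],[(0,false),(3,false),(2,true)]⟩,⟨192,[(58,false),(55,false)],[(5,false),(2,false)]⟩]))
 (.one (.rev 4297)))
 (.fork (.one (.rev 2249))
 (.one .base)))
 (.fork (.fork (.one (.rev 1225))
 (.one .base))
 (.fork (.one (.rev 3273))
 (.one .base))))
 (.fork (.fork (.fork (.one (.rev 713))
 (.one .base))
 (.fork (.one (.rev 2761))
 (.one .base)))
 (.fork (.fork (.one (.rev 1737))
 (.one .base))
 (.fork (.one (.rev 3785))
 (.one .base)))))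
 (.fork (.fork (.fork (.fork (.one (.rev 457))
 (.one .base))
 (.fork (.one (.rev 2505))
 (.one .base)))
 (.fork (.fork (.one (.rev 1481))
 (.one .base))
 (.fork (.one (.rev 3529))
 (.one .base))))
 (.fork (.fork (.fork (.one (.rev 969))
 (.one .base))
 (.fork (.one (.rev 3017))
 (.one .base)))
 (.fork (.fork (.one (.rev 1993))
 (.one .base))
 (.fork (.one (.rev 4041))
 (.one .base)))))))

/-- a part of the justifications -/
noncomputable def twJustT43 : BT Just := (.fork (.fork (.fork (.fork (.fork (.fork (.one (.rev 41))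
 (.one (.rev 4137)))
 (.fork (.one (.rev 2089))
 (.one .base)))
 (.fork (.fork (.one (.rev 1065))
 (.one .base))
 (.fork (.one (.rev 3113))
 (.one .base))))
 (.fork (.fork (.fork (.one (.rev 553))
 (.one .base))
 (.fork (.one (.rev 2601))
 (.one .base)))
 (.fork (.fork (.one (.rev 1577))
 (.one .base))
 (.fork (.one (.rev 3625))
 (.one .base)))))
 (.fork (.fork (.fork (.fork (.one (.rev 297))
 (.one .base))
 (.fork (.one (.rev 2345))
 (.one .base)))
 (.fork (.fork (.one (.rev 1321))
 (.one .base))
 (.fork (.one (.rev 3369))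
 (.one .base))))
 (.fork (.fork (.fork (.one (.rev 809))
 (.one .base))
 (.fork (.one (.rev 2857))
 (.one .base)))
 (.fork (.fork (.one (.rev 1833))
 (.one .base))
 (.fork (.one (.rev 3881))
 (.one .base))))))
 (.fork (.fork (.fork (.fork (.fork (.one (.path 0 [⟨164,[],[(2,false),(5,false),(2,false),(6,false)]⟩,⟨152,[],[(5,false),(2,false),(5,false),(6,false)]⟩]))
 (.one (.rev 4265)))
 (.fork (.one (.rev 2217))
 (.one .base)))
 (.fork (.fork (.one (.rev 1193))
 (.one .base))
 (.fork (.one (.rev 3241))
 (.one .base))))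
 (.fork (.fork (.fork (.one (.rev 681))
 (.one .base))
 (.fork (.one (.rev 2729))
 (.one .base)))
 (.fork (.fork (.one (.rev 1705))
 (.one .base))
 (.fork (.one (.rev 3753))
 (.one .base)))))
 (.fork (.fork (.fork (.fork (.one (.rev 425))
 (.one .base))
 (.fork (.one (.rev 2473))
 (.one .base)))
 (.fork (.fork (.one (.rev 1449))
 (.one .base))
 (.fork (.one (.rev 3497))
 (.one .base))))
 (.fork (.fork (.fork (.one (.rev 937))
 (.one .base))
 (.fork (.one (.rev 2985))
 (.one .base)))
 (.fork (.fork (.one (.rev 1961))
 (.one .base))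
 (.fork (.one (.rev 4009))
 (.one .base)))))))

/-- a part of the justifications -/
noncomputable def twJustT44 : BT Just := (.fork (.fork (.fork (.fork (.fork (.fork (.one (.rev 105))
 (.one (.rev 4201)))
 (.fork (.one (.rev 2153))
 (.one .base)))
 (.fork (.fork (.one (.rev 1129))
 (.one .base))
 (.fork (.one (.rev 3177))
 (.one .base))))
 (.fork (.fork (.fork (.one (.rev 617))
 (.one .base))
 (.fork (.one (.rev 2665))
 (.one .base)))
 (.fork (.fork (.one (.rev 1641))
 (.one .base))
 (.fork (.one (.rev 3689))
 (.one .base)))))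
 (.fork (.fork (.fork (.fork (.one (.rev 361))
 (.one .base))
 (.fork (.one (.rev 2409))
 (.one .base)))
 (.fork (.fork (.one (.rev 1385))
 (.one .base))
 (.fork (.one (.rev 3433))
 (.one .base))))
 (.fork (.fork (.fork (.one (.rev 873))
 (.one .base))
 (.fork (.one (.rev 2921))
 (.one .base)))
 (.fork (.fork (.one (.rev 1897))
 (.one .base))
 (.fork (.one (.rev 3945))
 (.one .base))))))
 (.fork (.fork (.fork (.fork (.fork (.one (.rev 233))
 (.one (.rev 4329)))
 (.fork (.one (.rev 2281))
 (.one .base)))
 (.fork (.fork (.one (.rev 1257))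
 (.one .base))
 (.fork (.one (.rev 3305))
 (.one .base))))
 (.fork (.fork (.fork (.one (.rev 745))
 (.one .base))
 (.fork (.one (.rev 2793))
 (.one .base)))
 (.fork (.fork (.one (.rev 1769))
 (.one .base))
 (.fork (.one (.rev 3817))
 (.one .base)))))
 (.fork (.fork (.fork (.fork (.one (.rev 489))
 (.one .base))
 (.fork (.one (.rev 2537))
 (.one .base)))
 (.fork (.fork (.one (.rev 1513))
 (.one .base))
 (.fork (.one (.rev 3561))
 (.one .base))))
 (.fork (.fork (.fork (.one (.rev 1001))
 (.one .base))
 (.fork (.one (.rev 3049))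
 (.one .base)))
 (.fork (.fork (.one (.rev 2025))
 (.one .base))
 (.fork (.one (.rev 4073))
 (.one .base)))))))

/-- a part of the justifications -/
noncomputable def twJustT45 : BT Just := (.fork (.fork (.fork (.fork (.fork (.fork (.one (.lift 1 (wOf 19 0x3543572343231230123) ⟨18,[(13,false),(15,false),(11,true),(14,false)],[]⟩ ⟨18,[(14,true),(13,false),(15,false),(11,true),(14,false)],[(1,false),(2,false),(4,false),(1,false),(3,false),(5,false),(4,false),(5,false),(2,true),(5,false),(4,false),(5,false)]⟩))
 (.one (.rev 4121)))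
 (.fork (.one (.rev 2073))
 (.one .base)))
 (.fork (.fork (.one (.rev 1049))
 (.one .base))
 (.fork (.one (.rev 3097))
 (.one .base))))
 (.fork (.fork (.fork (.one (.rev 537))
 (.one .base))
 (.fork (.one (.rev 2585))
 (.one .base)))
 (.fork (.fork (.one (.rev 1561))
 (.one .base))
 (.fork (.one (.rev 3609))
 (.one .base)))))
 (.fork (.fork (.fork (.fork (.one (.rev 281))
 (.one .base))
 (.fork (.one (.rev 2329))
 (.one .base)))
 (.fork (.fork (.one (.rev 1305))
 (.one .base))
 (.fork (.one (.rev 3353))
 (.one .base))))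
 (.fork (.fork (.fork (.one (.rev 793))
 (.one .base))
 (.fork (.one (.rev 2841))
 (.one .base)))
 (.fork (.fork (.one (.rev 1817))
 (.one .base))
 (.fork (.one (.rev 3865))
 (.one .base))))))
 (.fork (.fork (.fork (.fork (.fork (.one (.path 2 [⟨133,[],[(0,false),(2,true),(5,false),(2,false)]⟩,⟨145,[(132,false)],[(5,false),(4,false),(3,false),(2,true),(5,false),(4,false),(2,true),(5,false),(4,false),(1,false)]⟩,⟨144,[(58,false)],[(6,false),(2,true),(5,false),(4,false),(1,false),(4,false),(1,false),(5,false),(6,false)]⟩]))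
 (.one (.rev 4249)))
 (.fork (.one (.rev 2201))
 (.one .base)))
 (.fork (.fork (.one (.rev 1177))
 (.one .base))
 (.fork (.one (.rev 3225))
 (.one .base))))
 (.fork (.fork (.fork (.one (.rev 665))
 (.one .base))
 (.fork (.one (.rev 2713))
 (.one .base)))
 (.fork (.fork (.one (.rev 1689))
 (.one .base))
 (.fork (.one (.rev 3737))
 (.one .base)))))
 (.fork (.fork (.fork (.fork (.one (.rev 409))
 (.one .base))
 (.fork (.one (.rev 2457))
 (.one .base)))
 (.fork (.fork (.one (.rev 1433))
 (.one .base))
 (.fork (.one (.rev 3481))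
 (.one .base))))
 (.fork (.fork (.fork (.one (.rev 921))
 (.one .base))
 (.fork (.one (.rev 2969))
 (.one .base)))
 (.fork (.fork (.one (.rev 1945))
 (.one .base))
 (.fork (.one (.rev 3993))
 (.one .base)))))))

/-- a part of the justifications -/
noncomputable def twJustT46 : BT Just := (.fork (.fork (.fork (.fork (.fork (.fork (.one (.path 1 [⟨77,[],[(2,false),(4,false)]⟩,⟨68,[],[(2,false),(4,false),(6,false),(4,false),(1,false),(5,false),(4,false),(5,false),(4,false),(6,false)]⟩]))
 (.one (.rev 4185)))
 (.fork (.one (.rev 2137))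
 (.one .base)))
 (.fork (.fork (.one (.rev 1113))
 (.one .base))
 (.fork (.one (.rev 3161))
 (.one .base))))
 (.fork (.fork (.fork (.one (.rev 601))
 (.one .base))
 (.fork (.one (.rev 2649))
 (.one .base)))
 (.fork (.fork (.one (.rev 1625))
 (.one .base))
 (.fork (.one (.rev 3673))
 (.one .base)))))
 (.fork (.fork (.fork (.fork (.one (.rev 345))
 (.one .base))
 (.fork (.one (.rev 2393))
 (.one .base)))
 (.fork (.fork (.one (.rev 1369))
 (.one .base))
 (.fork (.one (.rev 3417))
 (.one .base))))
 (.fork (.fork (.fork (.one (.rev 857))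
 (.one .base))
 (.fork (.one (.rev 2905))
 (.one .base)))
 (.fork (.fork (.one (.rev 1881))
 (.one .base))
 (.fork (.one (.rev 3929))
 (.one .base))))))
 (.fork (.fork (.fork (.fork (.fork (.one (.rev 217))
 (.one (.rev 4313)))
 (.fork (.one (.rev 2265))
 (.one .base)))
 (.fork (.fork (.one (.rev 1241))
 (.one .base))
 (.fork (.one (.rev 3289))
 (.one .base))))
 (.fork (.fork (.fork (.one (.rev 729))
 (.one .base))
 (.fork (.one (.rev 2777))
 (.one .base)))
 (.fork (.fork (.one (.rev 1753))
 (.one .base))
 (.fork (.one (.rev 3801))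
 (.one .base)))))
 (.fork (.fork (.fork (.fork (.one (.rev 473))
 (.one .base))
 (.fork (.one (.rev 2521))
 (.one .base)))
 (.fork (.fork (.one (.rev 1497))
 (.one .base))
 (.fork (.one (.rev 3545))
 (.one .base))))
 (.fork (.fork (.fork (.one (.rev 985))
 (.one .base))
 (.fork (.one (.rev 3033))
 (.one .base)))
 (.fork (.fork (.one (.rev 2009))
 (.one .base))
 (.fork (.one (.rev 4057))
 (.one .base)))))))

/-- a part of the justifications -/
noncomputable def twJustT47 : BT Just := (.fork (.fork (.fork (.fork (.fork (.fork (.one (.lift 1 (wOf 21 0x13213234323123468401) ⟨52,[(13,false),(14,false),(13,false),(11,false),(14,false),(13,false),(11,true),(14,false),(13,false),(11,false)],[]⟩ ⟨52,[(14,true),(13,false),(14,false),(13,false),(11,false),(14,false),(13,false),(11,true),(14,false),(13,false),(11,false)],[(1,false),(2,true),(5,false),(2,false)]⟩))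
 (.one (.rev 4153)))
 (.fork (.one (.rev 2105))
 (.one .base)))
 (.fork (.fork (.one (.rev 1081))
 (.one .base))
 (.fork (.one (.rev 3129))
 (.one .base))))
 (.fork (.fork (.fork (.one (.rev 569))
 (.one .base))
 (.fork (.one (.rev 2617))
 (.one .base)))
 (.fork (.fork (.one (.rev 1593))
 (.one .base))
 (.fork (.one (.rev 3641))
 (.one .base)))))
 (.fork (.fork (.fork (.fork (.one (.rev 313))
 (.one .base))
 (.fork (.one (.rev 2361))
 (.one .base)))
 (.fork (.fork (.one (.rev 1337))
 (.one .base))
 (.fork (.one (.rev 3385))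
 (.one .base))))
 (.fork (.fork (.fork (.one (.rev 825))
 (.one .base))
 (.fork (.one (.rev 2873))
 (.one .base)))
 (.fork (.fork (.one (.rev 1849))
 (.one .base))
 (.fork (.one (.rev 3897))
 (.one .base))))))
 (.fork (.fork (.fork (.fork (.fork (.one (.rev 185))
 (.one (.rev 4281)))
 (.fork (.one (.rev 2233))
 (.one .base)))
 (.fork (.fork (.one (.rev 1209))
 (.one .base))
 (.fork (.one (.rev 3257))
 (.one .base))))
 (.fork (.fork (.fork (.one (.rev 697))
 (.one .base))
 (.fork (.one (.rev 2745))
 (.one .base)))
 (.fork (.fork (.one (.rev 1721))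
 (.one .base))
 (.fork (.one (.rev 3769))
 (.one .base)))))
 (.fork (.fork (.fork (.fork (.one (.rev 441))
 (.one .base))
 (.fork (.one (.rev 2489))
 (.one .base)))
 (.fork (.fork (.one (.rev 1465))
 (.one .base))
 (.fork (.one (.rev 3513))
 (.one .base))))
 (.fork (.fork (.fork (.one (.rev 953))
 (.one .base))
 (.fork (.one (.rev 3001))
 (.one .base)))
 (.fork (.fork (.one (.rev 1977))
 (.one .base))
 (.fork (.one (.rev 4025))
 (.one .base)))))))

/-- a part of the justifications -/
noncomputable def twJustT48 : BT Just := (.fork (.fork (.fork (.fork (.fork (.fork (.one (.path 7 [⟨105,[(100,true)],[(3,false),(4,false),(6,false),(4,false),(1,false),(4,false),(5,false),(6,false),(4,false)]⟩,⟨71,[(100,true)],[(6,false),(4,false),(3,false),(5,false),(2,false),(4,false),(5,false),(6,false),(4,false),(2,true),(5,false)]⟩,⟨107,[(11,false),(14,false)],[(3,false),(4,false),(5,false),(2,false),(5,false),(4,false),(5,false),(4,false),(2,true),(5,false)]⟩]))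
 (.one (.rev 4217)))
 (.fork (.one (.rev 2169))
 (.one .base)))
 (.fork (.fork (.one (.rev 1145))
 (.one .base))
 (.fork (.one (.rev 3193))
 (.one .base))))
 (.fork (.fork (.fork (.one (.rev 633))
 (.one .base))
 (.fork (.one (.rev 2681))
 (.one .base)))
 (.fork (.fork (.one (.rev 1657))
 (.one .base))
 (.fork (.one (.rev 3705))
 (.one .base)))))
 (.fork (.fork (.fork (.fork (.one (.rev 377))
 (.one .base))
 (.fork (.one (.rev 2425))
 (.one .base)))
 (.fork (.fork (.one (.rev 1401))
 (.one .base))
 (.fork (.one (.rev 3449))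
 (.one .base))))
 (.fork (.fork (.fork (.one (.rev 889))
 (.one .base))
 (.fork (.one (.rev 2937))
 (.one .base)))
 (.fork (.fork (.one (.rev 1913))
 (.one .base))
 (.fork (.one (.rev 3961))
 (.one .base))))))
 (.fork (.fork (.fork (.fork (.fork (.one (.rev 249))
 (.one (.rev 4345)))
 (.fork (.one (.rev 2297))
 (.one .base)))
 (.fork (.fork (.one (.rev 1273))
 (.one .base))
 (.fork (.one (.rev 3321))
 (.one .base))))
 (.fork (.fork (.fork (.one (.rev 761))
 (.one .base))
 (.fork (.one (.rev 2809))
 (.one .base)))
 (.fork (.fork (.one (.rev 1785))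
 (.one .base))
 (.fork (.one (.rev 3833))
 (.one .base)))))
 (.fork (.fork (.fork (.fork (.one (.rev 505))
 (.one .base))
 (.fork (.one (.rev 2553))
 (.one .base)))
 (.fork (.fork (.one (.rev 1529))
 (.one .base))
 (.fork (.one (.rev 3577))
 (.one .base))))
 (.fork (.fork (.fork (.one (.rev 1017))
 (.one .base))
 (.fork (.one (.rev 3065))
 (.one .base)))
 (.fork (.fork (.one (.rev 2041))
 (.one .base))
 (.fork (.one (.rev 4089))
 (.one .base)))))))

/-- a part of the justifications -/
noncomputable def twJustT49 : BT Just := (.fork (.fork (.fork (.fork (.fork (.fork (.one .base)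
 (.one (.rev 4101)))
 (.fork (.one (.rev 2053))
 (.one .base)))
 (.fork (.fork (.one (.rev 1029))
 (.one .base))
 (.fork (.one (.rev 3077))
 (.one .base))))
 (.fork (.fork (.fork (.one (.rev 517))
 (.one .base))
 (.fork (.one (.rev 2565))
 (.one .base)))
 (.fork (.fork (.one (.rev 1541))
 (.one .base))
 (.fork (.one (.rev 3589))
 (.one .base)))))
 (.fork (.fork (.fork (.fork (.one (.rev 261))
 (.one (.path 1 [⟨4340,[(4321,false),(4355,false),(4322,false),(4355,false)],[(2,false),(4,false),(5,false),(4,false),(2,true),(5,false),(4,false),(1,false),(6,false),(2,true)]⟩,⟨4337,[(3911,false)],[(1,false),(2,true),(5,false),(2,false),(4,false),(5,false),(6,false),(4,false),(2,true)]⟩])))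
 (.fork (.one (.rev 2309))
 (.one .base)))
 (.fork (.fork (.one (.rev 1285))
 (.one .base))
 (.fork (.one (.rev 3333))
 (.one .base))))
 (.fork (.fork (.fork (.one (.rev 773))
 (.one .base))
 (.fork (.one (.rev 2821))
 (.one .base)))
 (.fork (.fork (.one (.rev 1797))
 (.one .base))
 (.fork (.one (.rev 3845))
 (.one .base))))))
 (.fork (.fork (.fork (.fork (.fork (.one (.rev 133))
 (.one (.rev 4229)))
 (.fork (.one (.rev 2181))
 (.one .base)))
 (.fork (.fork (.one (.rev 1157))
 (.one .base))
 (.fork (.one (.rev 3205))
 (.one .base))))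
 (.fork (.fork (.fork (.one (.rev 645))
 (.one .base))
 (.fork (.one (.rev 2693))
 (.one .base)))
 (.fork (.fork (.one (.rev 1669))
 (.one .base))
 (.fork (.one (.rev 3717))
 (.one .base)))))
 (.fork (.fork (.fork (.fork (.one (.rev 389))
 (.one .base))
 (.fork (.one (.rev 2437))
 (.one .base)))
 (.fork (.fork (.one (.rev 1413))
 (.one .base))
 (.fork (.one (.rev 3461))
 (.one .base))))
 (.fork (.fork (.fork (.one (.rev 901))
 (.one .base))
 (.fork (.one (.rev 2949))
 (.one .base)))
 (.fork (.fork (.one (.rev 1925))
 (.one .base))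
 (.fork (.one (.rev 3973))
 (.one .base)))))))

/-- a part of the justifications -/
noncomputable def twJustT50 : BT Just := (.fork (.fork (.fork (.fork (.fork (.fork (.one (.path 0 [⟨30,[(13,false),(15,false),(10,false),(13,false),(10,false)],[(6,false),(4,false),(1,false),(3,false),(2,true)]⟩,⟨59,[(28,true)],[(4,false),(5,false),(4,false),(5,false),(6,false),(4,false),(5,false)]⟩]))
 (.one (.rev 4165)))
 (.fork (.one (.rev 2117))
 (.one .base)))
 (.fork (.fork (.one (.rev 1093))
 (.one .base))
 (.fork (.one (.rev 3141))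
 (.one .base))))
 (.fork (.fork (.fork (.one (.rev 581))
 (.one .base))
 (.fork (.one (.rev 2629))
 (.one .base)))
 (.fork (.fork (.one (.rev 1605))
 (.one .base))
 (.fork (.one (.rev 3653))
 (.one .base)))))
 (.fork (.fork (.fork (.fork (.one (.rev 325))
 (.one .base))
 (.fork (.one (.rev 2373))
 (.one .base)))
 (.fork (.fork (.one (.rev 1349))
 (.one .base))
 (.fork (.one (.rev 3397))
 (.one .base))))
 (.fork (.fork (.fork (.one (.rev 837))
 (.one .base))
 (.fork (.one (.rev 2885))
 (.one .base)))
 (.fork (.fork (.one (.rev 1861))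
 (.one .base))
 (.fork (.one (.rev 3909))
 (.one .base))))))
 (.fork (.fork (.fork (.fork (.fork (.one (.path 1 [⟨140,[],[(0,false),(3,false),(5,false)]⟩,⟨192,[(55,false),(83,false)],[(1,false),(3,false),(5,false),(4,false),(5,false),(4,false),(2,true),(5,false),(4,false),(1,false),(4,false)]⟩]))
 (.one (.rev 4293)))
 (.fork (.one (.rev 2245))
 (.one .base)))
 (.fork (.fork (.one (.rev 1221))
 (.one .base))
 (.fork (.one (.rev 3269))
 (.one .base))))
 (.fork (.fork (.fork (.one (.rev 709))
 (.one .base))
 (.fork (.one (.rev 2757))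
 (.one .base)))
 (.fork (.fork (.one (.rev 1733))
 (.one .base))
 (.fork (.one (.rev 3781))
 (.one .base)))))
 (.fork (.fork (.fork (.fork (.one (.rev 453))
 (.one .base))
 (.fork (.one (.rev 2501))
 (.one .base)))
 (.fork (.fork (.one (.rev 1477))
 (.one .base))
 (.fork (.one (.rev 3525))
 (.one .base))))
 (.fork (.fork (.fork (.one (.rev 965))
 (.one .base))
 (.fork (.one (.rev 3013))
 (.one .base)))
 (.fork (.fork (.one (.rev 1989))
 (.one .base))
 (.fork (.one (.rev 4037))
 (.one .base)))))))

/-- a part of the justifications -/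
noncomputable def twJustT51 : BT Just := (.fork (.fork (.fork (.fork (.fork (.fork (.one (.rev 37))
 (.one (.rev 4133)))
 (.fork (.one (.rev 2085))
 (.one .base)))
 (.fork (.fork (.one (.rev 1061))
 (.one .base))
 (.fork (.one (.rev 3109))
 (.one .base))))
 (.fork (.fork (.fork (.one (.rev 549))
 (.one .base))
 (.fork (.one (.rev 2597))
 (.one .base)))
 (.fork (.fork (.one (.rev 1573))
 (.one .base))
 (.fork (.one (.rev 3621))
 (.one .base)))))
 (.fork (.fork (.fork (.fork (.one (.rev 293))
 (.one .base))
 (.fork (.one (.rev 2341))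
 (.one .base)))
 (.fork (.fork (.one (.rev 1317))
 (.one .base))
 (.fork (.one (.rev 3365))
 (.one .base))))
 (.fork (.fork (.fork (.one (.rev 805))
 (.one .base))
 (.fork (.one (.rev 2853))
 (.one .base)))
 (.fork (.fork (.one (.rev 1829))
 (.one .base))
 (.fork (.one (.rev 3877))
 (.one .base))))))
 (.fork (.fork (.fork (.fork (.fork (.one (.path 1 [⟨120,[],[(1,false),(2,false),(5,false),(2,true)]⟩,⟨156,[(28,true)],[(0,false),(3,false),(2,true),(5,false),(2,true)]⟩]))
 (.one (.rev 4261)))
 (.fork (.one (.rev 2213))
 (.one .base)))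
 (.fork (.fork (.one (.rev 1189))
 (.one .base))
 (.fork (.one (.rev 3237))
 (.one .base))))
 (.fork (.fork (.fork (.one (.rev 677))
 (.one .base))
 (.fork (.one (.rev 2725))
 (.one .base)))
 (.fork (.fork (.one (.rev 1701))
 (.one .base))
 (.fork (.one (.rev 3749))
 (.one .base)))))
 (.fork (.fork (.fork (.fork (.one (.rev 421))
 (.one .base))
 (.fork (.one (.rev 2469))
 (.one .base)))
 (.fork (.fork (.one (.rev 1445))
 (.one .base))
 (.fork (.one (.rev 3493))
 (.one .base))))
 (.fork (.fork (.fork (.one (.rev 933))
 (.one .base))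
 (.fork (.one (.rev 2981))
 (.one .base)))
 (.fork (.fork (.one (.rev 1957))
 (.one .base))
 (.fork (.one (.rev 4005))
 (.one .base)))))))

/-- a part of the justifications -/
noncomputable def twJustT52 : BT Just := (.fork (.fork (.fork (.fork (.fork (.fork (.one (.rev 101))
 (.one (.rev 4197)))
 (.fork (.one (.rev 2149))
 (.one .base)))
 (.fork (.fork (.one (.rev 1125))
 (.one .base))
 (.fork (.one (.rev 3173))
 (.one .base))))
 (.fork (.fork (.fork (.one (.rev 613))
 (.one .base))
 (.fork (.one (.rev 2661))
 (.one .base)))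
 (.fork (.fork (.one (.rev 1637))
 (.one .base))
 (.fork (.one (.rev 3685))
 (.one .base)))))
 (.fork (.fork (.fork (.fork (.one (.rev 357))
 (.one .base))
 (.fork (.one (.rev 2405))
 (.one .base)))
 (.fork (.fork (.one (.rev 1381))
 (.one .base))
 (.fork (.one (.rev 3429))
 (.one .base))))
 (.fork (.fork (.fork (.one (.rev 869))
 (.one .base))
 (.fork (.one (.rev 2917))
 (.one .base)))
 (.fork (.fork (.one (.rev 1893))
 (.one .base))
 (.fork (.one (.rev 3941))
 (.one .base))))))
 (.fork (.fork (.fork (.fork (.fork (.one (.rev 229))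
 (.one (.rev 4325)))
 (.fork (.one (.rev 2277))
 (.one .base)))
 (.fork (.fork (.one (.rev 1253))
 (.one .base))
 (.fork (.one (.rev 3301))
 (.one .base))))
 (.fork (.fork (.fork (.one (.rev 741))
 (.one .base))
 (.fork (.one (.rev 2789))
 (.one .base)))
 (.fork (.fork (.one (.rev 1765))
 (.one .base))
 (.fork (.one (.rev 3813))
 (.one .base)))))
 (.fork (.fork (.fork (.fork (.one (.rev 485))
 (.one .base))
 (.fork (.one (.rev 2533))
 (.one .base)))
 (.fork (.fork (.one (.rev 1509))
 (.one .base))
 (.fork (.one (.rev 3557))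
 (.one .base))))
 (.fork (.fork (.fork (.one (.rev 997))
 (.one .base))
 (.fork (.one (.rev 3045))
 (.one .base)))
 (.fork (.fork (.one (.rev 2021))
 (.one .base))
 (.fork (.one (.rev 4069))
 (.one .base)))))))

/-- a part of the justifications -/
noncomputable def twJustT53 : BT Just := (.fork (.fork (.fork (.fork (.fork (.fork (.one (.lift 1 (wOf 20 0x34543572343231230123) ⟨18,[(13,false),(15,false),(11,true),(14,false),(10,false)],[]⟩ ⟨18,[(12,true),(13,false),(15,false),(11,true),(14,false),(10,false)],[(0,false),(4,false)]⟩))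
 (.one (.rev 4117)))
 (.fork (.one (.rev 2069))
 (.one .base)))
 (.fork (.fork (.one (.rev 1045))
 (.one .base))
 (.fork (.one (.rev 3093))
 (.one .base))))
 (.fork (.fork (.fork (.one (.rev 533))
 (.one .base))
 (.fork (.one (.rev 2581))
 (.one .base)))
 (.fork (.fork (.one (.rev 1557))
 (.one .base))
 (.fork (.one (.rev 3605))
 (.one .base)))))
 (.fork (.fork (.fork (.fork (.one (.rev 277))
 (.one .base))
 (.fork (.one (.rev 2325))
 (.one .base)))
 (.fork (.fork (.one (.rev 1301))
 (.one .base))
 (.fork (.one (.rev 3349))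
 (.one .base))))
 (.fork (.fork (.fork (.one (.rev 789))
 (.one .base))
 (.fork (.one (.rev 2837))
 (.one .base)))
 (.fork (.fork (.one (.rev 1813))
 (.one .base))
 (.fork (.one (.rev 3861))
 (.one .base))))))
 (.fork (.fork (.fork (.fork (.fork (.one (.path 12 [⟨148,[(121,true),(137,false),(132,true)],[(0,false),(1,false),(2,false),(6,false),(4,false),(5,false),(4,false),(6,false),(2,true)]⟩,⟨129,[],[(0,false),(4,false),(1,false),(5,false),(4,false),(6,false),(2,true),(5,false),(4,false),(2,true)]⟩,⟨124,[(100,false),(83,true)],[(1,false),(2,false),(4,false),(1,false),(3,false),(4,false),(5,false),(6,false),(4,false),(2,true),(5,false)]⟩]))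
 (.one (.rev 4245)))
 (.fork (.one (.rev 2197))
 (.one .base)))
 (.fork (.fork (.one (.rev 1173))
 (.one .base))
 (.fork (.one (.rev 3221))
 (.one .base))))
 (.fork (.fork (.fork (.one (.rev 661))
 (.one .base))
 (.fork (.one (.rev 2709))
 (.one .base)))
 (.fork (.fork (.one (.rev 1685))
 (.one .base))
 (.fork (.one (.rev 3733))
 (.one .base)))))
 (.fork (.fork (.fork (.fork (.one (.rev 405))
 (.one .base))
 (.fork (.one (.rev 2453))
 (.one .base)))
 (.fork (.fork (.one (.rev 1429))
 (.one .base))
 (.fork (.one (.rev 3477))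
 (.one .base))))
 (.fork (.fork (.fork (.one (.rev 917))
 (.one .base))
 (.fork (.one (.rev 2965))
 (.one .base)))
 (.fork (.fork (.one (.rev 1941))
 (.one .base))
 (.fork (.one (.rev 3989))
 (.one .base)))))))

/-- a part of the justifications -/
noncomputable def twJustT54 : BT Just := (.fork (.fork (.fork (.fork (.fork (.fork (.one (.path 13 [⟨67,[],[(1,false),(2,false),(4,false),(5,false),(6,false),(2,true),(5,false),(4,false),(6,false)]⟩,⟨31,[(28,true),(49,true),(28,true)],[(1,false),(3,false),(4,false),(2,true),(5,false),(2,false),(4,false),(5,false),(6,false),(2,true)]⟩,⟨70,[(14,false),(13,false),(15,false),(10,false),(13,false),(11,true)],[(1,false),(4,false),(1,false),(4,false),(5,false),(4,false),(6,false),(4,false),(1,false),(4,false)]⟩]))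
 (.one (.rev 4181)))
 (.fork (.one (.rev 2133))
 (.one .base)))
 (.fork (.fork (.one (.rev 1109))
 (.one .base))
 (.fork (.one (.rev 3157))
 (.one .base))))
 (.fork (.fork (.fork (.one (.rev 597))
 (.one .base))
 (.fork (.one (.rev 2645))
 (.one .base)))
 (.fork (.fork (.one (.rev 1621))
 (.one .base))
 (.fork (.one (.rev 3669))
 (.one .base)))))
 (.fork (.fork (.fork (.fork (.one (.rev 341))
 (.one .base))
 (.fork (.one (.rev 2389))
 (.one .base)))
 (.fork (.fork (.one (.rev 1365))
 (.one .base))
 (.fork (.one (.rev 3413))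
 (.one .base))))
 (.fork (.fork (.fork (.one (.rev 853))
 (.one .base))
 (.fork (.one (.rev 2901))
 (.one .base)))
 (.fork (.fork (.one (.rev 1877))
 (.one .base))
 (.fork (.one (.rev 3925))
 (.one .base))))))
 (.fork (.fork (.fork (.fork (.fork (.one (.rev 213))
 (.one (.rev 4309)))
 (.fork (.one (.rev 2261))
 (.one .base)))
 (.fork (.fork (.one (.rev 1237))
 (.one .base))
 (.fork (.one (.rev 3285))
 (.one .base))))
 (.fork (.fork (.fork (.one (.rev 725))
 (.one .base))
 (.fork (.one (.rev 2773))
 (.one .base)))
 (.fork (.fork (.one (.rev 1749))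
 (.one .base))
 (.fork (.one (.rev 3797))
 (.one .base)))))
 (.fork (.fork (.fork (.fork (.one (.rev 469))
 (.one .base))
 (.fork (.one (.rev 2517))
 (.one .base)))
 (.fork (.fork (.one (.rev 1493))
 (.one .base))
 (.fork (.one (.rev 3541))
 (.one .base))))
 (.fork (.fork (.fork (.one (.rev 981))
 (.one .base))
 (.fork (.one (.rev 3029))
 (.one .base)))
 (.fork (.fork (.one (.rev 2005))
 (.one .base))
 (.fork (.one (.rev 4053))
 (.one .base)))))))

/-- a part of the justifications -/
noncomputable def twJustT55 : BT Just := (.fork (.fork (.fork (.fork (.fork (.fork (.one (.lift 1 (wOf 22 0x321323645323123467401) ⟨52,[(13,false),(14,false),(13,false),(11,true),(14,false),(13,false),(11,false),(14,false),(13,false),(11,true)],[]⟩ ⟨52,[(15,true),(13,false),(14,false),(13,false),(11,true),(14,false),(13,false),(11,false),(14,false),(13,false),(11,true)],[(0,false),(3,false),(5,false),(6,false)]⟩))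
 (.one (.rev 4149)))
 (.fork (.one (.rev 2101))
 (.one .base)))
 (.fork (.fork (.one (.rev 1077))
 (.one .base))
 (.fork (.one (.rev 3125))
 (.one .base))))
 (.fork (.fork (.fork (.one (.rev 565))
 (.one .base))
 (.fork (.one (.rev 2613))
 (.one .base)))
 (.fork (.fork (.one (.rev 1589))
 (.one .base))
 (.fork (.one (.rev 3637))
 (.one .base)))))
 (.fork (.fork (.fork (.fork (.one (.rev 309))
 (.one .base))
 (.fork (.one (.rev 2357))
 (.one .base)))
 (.fork (.fork (.one (.rev 1333))
 (.one .base))
 (.fork (.one (.rev 3381))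
 (.one .base))))
 (.fork (.fork (.fork (.one (.rev 821))
 (.one .base))
 (.fork (.one (.rev 2869))
 (.one .base)))
 (.fork (.fork (.one (.rev 1845))
 (.one .base))
 (.fork (.one (.rev 3893))
 (.one .base))))))
 (.fork (.fork (.fork (.fork (.fork (.one (.rev 181))
 (.one (.rev 4277)))
 (.fork (.one (.rev 2229))
 (.one .base)))
 (.fork (.fork (.one (.rev 1205))
 (.one .base))
 (.fork (.one (.rev 3253))
 (.one .base))))
 (.fork (.fork (.fork (.one (.rev 693))
 (.one .base))
 (.fork (.one (.rev 2741))
 (.one .base)))
 (.fork (.fork (.one (.rev 1717))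
 (.one .base))
 (.fork (.one (.rev 3765))
 (.one .base)))))
 (.fork (.fork (.fork (.fork (.one (.rev 437))
 (.one .base))
 (.fork (.one (.rev 2485))
 (.one .base)))
 (.fork (.fork (.one (.rev 1461))
 (.one .base))
 (.fork (.one (.rev 3509))
 (.one .base))))
 (.fork (.fork (.fork (.one (.rev 949))
 (.one .base))
 (.fork (.one (.rev 2997))
 (.one .base)))
 (.fork (.fork (.one (.rev 1973))
 (.one .base))
 (.fork (.one (.rev 4021))
 (.one .base)))))))

/-- a part of the justifications -/
noncomputable def twJustT56 : BT Just := (.fork (.fork (.fork (.fork (.fork (.fork (.one (.rev 117))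
 (.one (.rev 4213)))
 (.fork (.one (.rev 2165))
 (.one .base)))
 (.fork (.fork (.one (.rev 1141))
 (.one .base))
 (.fork (.one (.rev 3189))
 (.one .base))))
 (.fork (.fork (.fork (.one (.rev 629))
 (.one .base))
 (.fork (.one (.rev 2677))
 (.one .base)))
 (.fork (.fork (.one (.rev 1653))
 (.one .base))
 (.fork (.one (.rev 3701))
 (.one .base)))))
 (.fork (.fork (.fork (.fork (.one (.rev 373))
 (.one .base))
 (.fork (.one (.rev 2421))
 (.one .base)))
 (.fork (.fork (.one (.rev 1397))
 (.one .base))
 (.fork (.one (.rev 3445))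
 (.one .base))))
 (.fork (.fork (.fork (.one (.rev 885))
 (.one .base))
 (.fork (.one (.rev 2933))
 (.one .base)))
 (.fork (.fork (.one (.rev 1909))
 (.one .base))
 (.fork (.one (.rev 3957))
 (.one .base))))))
 (.fork (.fork (.fork (.fork (.fork (.one (.rev 245))
 (.one (.rev 4341)))
 (.fork (.one (.rev 2293))
 (.one .base)))
 (.fork (.fork (.one (.rev 1269))
 (.one .base))
 (.fork (.one (.rev 3317))
 (.one .base))))
 (.fork (.fork (.fork (.one (.rev 757))
 (.one .base))
 (.fork (.one (.rev 2805))
 (.one .base)))
 (.fork (.fork (.one (.rev 1781))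
 (.one .base))
 (.fork (.one (.rev 3829))
 (.one .base)))))
 (.fork (.fork (.fork (.fork (.one (.rev 501))
 (.one .base))
 (.fork (.one (.rev 2549))
 (.one .base)))
 (.fork (.fork (.one (.rev 1525))
 (.one .base))
 (.fork (.one (.rev 3573))
 (.one .base))))
 (.fork (.fork (.fork (.one (.rev 1013))
 (.one .base))
 (.fork (.one (.rev 3061))
 (.one .base)))
 (.fork (.fork (.one (.rev 2037))
 (.one .base))
 (.fork (.one (.rev 4085))
 (.one .base)))))))

/-- a part of the justifications -/
noncomputable def twJustT57 : BT Just := (.fork (.fork (.fork (.fork (.fork (.fork (.one (.ubase [(5,false)]))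
 (.one (.rev 4109)))
 (.fork (.one (.rev 2061))
 (.one .base)))
 (.fork (.fork (.one (.rev 1037))
 (.one .base))
 (.fork (.one (.rev 3085))
 (.one .base))))
 (.fork (.fork (.fork (.one (.rev 525))
 (.one .base))
 (.fork (.one (.rev 2573))
 (.one .base)))
 (.fork (.fork (.one (.rev 1549))
 (.one .base))
 (.fork (.one (.rev 3597))
 (.one .base)))))
 (.fork (.fork (.fork (.fork (.one (.rev 269))
 (.one .base))
 (.fork (.one (.rev 2317))
 (.one .base)))
 (.fork (.fork (.one (.rev 1293))
 (.one .base))
 (.fork (.one (.rev 3341))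
 (.one .base))))
 (.fork (.fork (.fork (.one (.rev 781))
 (.one .base))
 (.fork (.one (.rev 2829))
 (.one .base)))
 (.fork (.fork (.one (.rev 1805))
 (.one .base))
 (.fork (.one (.rev 3853))
 (.one .base))))))
 (.fork (.fork (.fork (.fork (.fork (.one (.path 0 [⟨140,[],[(0,false),(1,false),(2,false),(3,false),(5,false),(2,true)]⟩,⟨128,[(55,false),(83,false)],[(1,false),(4,false),(3,false),(2,true),(5,false),(2,false),(4,false),(1,false),(5,false),(4,false)]⟩]))
 (.one (.rev 4237)))
 (.fork (.one (.rev 2189))
 (.one .base)))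
 (.fork (.fork (.one (.rev 1165))
 (.one .base))
 (.fork (.one (.rev 3213))
 (.one .base))))
 (.fork (.fork (.fork (.one (.rev 653))
 (.one .base))
 (.fork (.one (.rev 2701))
 (.one .base)))
 (.fork (.fork (.one (.rev 1677))
 (.one .base))
 (.fork (.one (.rev 3725))
 (.one .base)))))
 (.fork (.fork (.fork (.fork (.one (.rev 397))
 (.one .base))
 (.fork (.one (.rev 2445))
 (.one .base)))
 (.fork (.fork (.one (.rev 1421))
 (.one .base))
 (.fork (.one (.rev 3469))
 (.one .base))))
 (.fork (.fork (.fork (.one (.rev 909))
 (.one .base))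
 (.fork (.one (.rev 2957))
 (.one .base)))
 (.fork (.fork (.one (.rev 1933))
 (.one .base))
 (.fork (.one (.rev 3981))
 (.one .base)))))))

/-- a part of the justifications -/
noncomputable def twJustT58 : BT Just := (.fork (.fork (.fork (.fork (.fork (.fork (.one (.rev 77))
 (.one (.rev 4173)))
 (.fork (.one (.rev 2125))
 (.one .base)))
 (.fork (.fork (.one (.rev 1101))
 (.one .base))
 (.fork (.one (.rev 3149))
 (.one .base))))
 (.fork (.fork (.fork (.one (.rev 589))
 (.one .base))
 (.fork (.one (.rev 2637))
 (.one .base)))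
 (.fork (.fork (.one (.rev 1613))
 (.one .base))
 (.fork (.one (.rev 3661))
 (.one .base)))))
 (.fork (.fork (.fork (.fork (.one (.rev 333))
 (.one .base))
 (.fork (.one (.rev 2381))
 (.one .base)))
 (.fork (.fork (.one (.rev 1357))
 (.one .base))
 (.fork (.one (.rev 3405))
 (.one .base))))
 (.fork (.fork (.fork (.one (.rev 845))
 (.one .base))
 (.fork (.one (.rev 2893))
 (.one .base)))
 (.fork (.fork (.one (.rev 1869))
 (.one .base))
 (.fork (.one (.rev 3917))
 (.one .base))))))
 (.fork (.fork (.fork (.fork (.fork (.one (.rev 205))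
 (.one (.rev 4301)))
 (.fork (.one (.rev 2253))
 (.one .base)))
 (.fork (.fork (.one (.rev 1229))
 (.one .base))
 (.fork (.one (.rev 3277))
 (.one .base))))
 (.fork (.fork (.fork (.one (.rev 717))
 (.one .base))
 (.fork (.one (.rev 2765))
 (.one .base)))
 (.fork (.fork (.one (.rev 1741))
 (.one .base))
 (.fork (.one (.rev 3789))
 (.one .base)))))
 (.fork (.fork (.fork (.fork (.one (.rev 461))
 (.one .base))
 (.fork (.one (.rev 2509))
 (.one .base)))
 (.fork (.fork (.one (.rev 1485))
 (.one .base))
 (.fork (.one (.rev 3533))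
 (.one .base))))
 (.fork (.fork (.fork (.one (.rev 973))
 (.one .base))
 (.fork (.one (.rev 3021))
 (.one .base)))
 (.fork (.fork (.one (.rev 1997))
 (.one .base))
 (.fork (.one (.rev 4045))
 (.one .base)))))))

/-- a part of the justifications -/
noncomputable def twJustT59 : BT Just := (.fork (.fork (.fork (.fork (.fork (.fork (.one (.rev 45))
 (.one (.rev 4141)))
 (.fork (.one (.rev 2093))
 (.one .base)))
 (.fork (.fork (.one (.rev 1069))
 (.one .base))
 (.fork (.one (.rev 3117))
 (.one .base))))
 (.fork (.fork (.fork (.one (.rev 557))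
 (.one .base))
 (.fork (.one (.rev 2605))
 (.one .base)))
 (.fork (.fork (.one (.rev 1581))
 (.one .base))
 (.fork (.one (.rev 3629))
 (.one .base)))))
 (.fork (.fork (.fork (.fork (.one (.rev 301))
 (.one .base))
 (.fork (.one (.rev 2349))
 (.one .base)))
 (.fork (.fork (.one (.rev 1325))
 (.one .base))
 (.fork (.one (.rev 3373))
 (.one .base))))
 (.fork (.fork (.fork (.one (.rev 813))
 (.one .base))
 (.fork (.one (.rev 2861))
 (.one .base)))
 (.fork (.fork (.one (.rev 1837))
 (.one .base))
 (.fork (.one (.rev 3885))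
 (.one .base))))))
 (.fork (.fork (.fork (.fork (.fork (.one (.rev 173))
 (.one (.rev 4269)))
 (.fork (.one (.rev 2221))
 (.one .base)))
 (.fork (.fork (.one (.rev 1197))
 (.one .base))
 (.fork (.one (.rev 3245))
 (.one .base))))
 (.fork (.fork (.fork (.one (.rev 685))
 (.one .base))
 (.fork (.one (.rev 2733))
 (.one .base)))
 (.fork (.fork (.one (.rev 1709))
 (.one .base))
 (.fork (.one (.rev 3757))
 (.one .base)))))
 (.fork (.fork (.fork (.fork (.one (.rev 429))
 (.one .base))
 (.fork (.one (.rev 2477))
 (.one .base)))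
 (.fork (.fork (.one (.rev 1453))
 (.one .base))
 (.fork (.one (.rev 3501))
 (.one .base))))
 (.fork (.fork (.fork (.one (.rev 941))
 (.one .base))
 (.fork (.one (.rev 2989))
 (.one .base)))
 (.fork (.fork (.one (.rev 1965))
 (.one .base))
 (.fork (.one (.rev 4013))
 (.one .base)))))))

/-- a part of the justifications -/
noncomputable def twJustT60 : BT Just := (.fork (.fork (.fork (.fork (.fork (.fork (.one (.lift 1 (wOf 22 0x1354323646323453234542) ⟨107,[(15,false),(11,true),(14,false),(13,false),(14,false),(13,false),(15,false),(13,false),(11,false),(9,false)],[]⟩ ⟨107,[(13,true),(11,false),(14,false),(13,false),(10,false),(13,false),(15,false),(11,true),(14,false),(12,false),(13,false)],[(3,false),(6,false),(4,false)]⟩))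
 (.one (.rev 4205)))
 (.fork (.one (.rev 2157))
 (.one .base)))
 (.fork (.fork (.one (.rev 1133))
 (.one .base))
 (.fork (.one (.rev 3181))
 (.one .base))))
 (.fork (.fork (.fork (.one (.rev 621))
 (.one .base))
 (.fork (.one (.rev 2669))
 (.one .base)))
 (.fork (.fork (.one (.rev 1645))
 (.one .base))
 (.fork (.one (.rev 3693))
 (.one .base)))))
 (.fork (.fork (.fork (.fork (.one (.rev 365))
 (.one .base))
 (.fork (.one (.rev 2413))
 (.one .base)))
 (.fork (.fork (.one (.rev 1389))
 (.one .base))
 (.fork (.one (.rev 3437))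
 (.one .base))))
 (.fork (.fork (.fork (.one (.rev 877))
 (.one .base))
 (.fork (.one (.rev 2925))
 (.one .base)))
 (.fork (.fork (.one (.rev 1901))
 (.one .base))
 (.fork (.one (.rev 3949))
 (.one .base))))))
 (.fork (.fork (.fork (.fork (.fork (.one (.rev 237))
 (.one (.rev 4333)))
 (.fork (.one (.rev 2285))
 (.one .base)))
 (.fork (.fork (.one (.rev 1261))
 (.one .base))
 (.fork (.one (.rev 3309))
 (.one .base))))
 (.fork (.fork (.fork (.one (.rev 749))
 (.one .base))
 (.fork (.one (.rev 2797))
 (.one .base)))
 (.fork (.fork (.one (.rev 1773))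
 (.one .base))
 (.fork (.one (.rev 3821))
 (.one .base)))))
 (.fork (.fork (.fork (.fork (.one (.rev 493))
 (.one .base))
 (.fork (.one (.rev 2541))
 (.one .base)))
 (.fork (.fork (.one (.rev 1517))
 (.one .base))
 (.fork (.one (.rev 3565))
 (.one .base))))
 (.fork (.fork (.fork (.one (.rev 1005))
 (.one .base))
 (.fork (.one (.rev 3053))
 (.one .base)))
 (.fork (.fork (.one (.rev 2029))
 (.one .base))
 (.fork (.one (.rev 4077))
 (.one .base)))))))

/-- a part of the justifications -/
noncomputable def twJustT61 : BT Just := (.fork (.fork (.fork (.fork (.fork (.fork (.one (.rev 29))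
 (.one (.rev 4125)))
 (.fork (.one (.rev 2077))
 (.one .base)))
 (.fork (.fork (.one (.rev 1053))
 (.one .base))
 (.fork (.one (.rev 3101))
 (.one .base))))
 (.fork (.fork (.fork (.one (.rev 541))
 (.one .base))
 (.fork (.one (.rev 2589))
 (.one .base)))
 (.fork (.fork (.one (.rev 1565))
 (.one .base))
 (.fork (.one (.rev 3613))
 (.one .base)))))
 (.fork (.fork (.fork (.fork (.one (.rev 285))
 (.one .base))
 (.fork (.one (.rev 2333))
 (.one .base)))
 (.fork (.fork (.one (.rev 1309))
 (.one .base))
 (.fork (.one (.rev 3357))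
 (.one .base))))
 (.fork (.fork (.fork (.one (.rev 797))
 (.one .base))
 (.fork (.one (.rev 2845))
 (.one .base)))
 (.fork (.fork (.one (.rev 1821))
 (.one .base))
 (.fork (.one (.rev 3869))
 (.one .base))))))
 (.fork (.fork (.fork (.fork (.fork (.one (.lift 2 (wOf 20 0x13432546345523452345) ⟨156,[(49,true),(28,false),(21,false),(49,false),(21,false),(20,false)],[]⟩ ⟨156,[(28,true),(49,false),(24,false),(28,true),(49,true),(26,false),(23,false)],[(6,false)]⟩))
 (.one (.rev 4253)))
 (.fork (.one (.rev 2205))
 (.one .base)))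
 (.fork (.fork (.one (.rev 1181))
 (.one .base))
 (.fork (.one (.rev 3229))
 (.one .base))))
 (.fork (.fork (.fork (.one (.rev 669))
 (.one .base))
 (.fork (.one (.rev 2717))
 (.one .base)))
 (.fork (.fork (.one (.rev 1693))
 (.one .base))
 (.fork (.one (.rev 3741))
 (.one .base)))))
 (.fork (.fork (.fork (.fork (.one (.rev 413))
 (.one .base))
 (.fork (.one (.rev 2461))
 (.one .base)))
 (.fork (.fork (.one (.rev 1437))
 (.one .base))
 (.fork (.one (.rev 3485))
 (.one .base))))
 (.fork (.fork (.fork (.one (.rev 925))
 (.one .base))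
 (.fork (.one (.rev 2973))
 (.one .base)))
 (.fork (.fork (.one (.rev 1949))
 (.one .base))
 (.fork (.one (.rev 3997))
 (.one .base)))))))

/-- a part of the justifications -/
noncomputable def twJustT62 : BT Just := (.fork (.fork (.fork (.fork (.fork (.fork (.one (.path 3 [⟨80,[(83,false)],[(2,false),(4,false),(5,false),(2,false),(4,false),(5,false),(4,false)]⟩,⟨53,[(83,false)],[(1,false),(2,false),(4,false),(5,false),(2,false),(6,false),(4,false),(1,false),(5,false)]⟩,⟨30,[(13,false),(15,false),(11,true),(14,false),(13,false),(14,false),(12,false)],[(0,false),(4,false),(5,false),(4,false),(2,true),(5,false),(2,false)]⟩]))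
 (.one (.rev 4189)))
 (.fork (.one (.rev 2141))
 (.one .base)))
 (.fork (.fork (.one (.rev 1117))
 (.one .base))
 (.fork (.one (.rev 3165))
 (.one .base))))
 (.fork (.fork (.fork (.one (.rev 605))
 (.one .base))
 (.fork (.one (.rev 2653))
 (.one .base)))
 (.fork (.fork (.one (.rev 1629))
 (.one .base))
 (.fork (.one (.rev 3677))
 (.one .base)))))
 (.fork (.fork (.fork (.fork (.one (.rev 349))
 (.one .base))
 (.fork (.one (.rev 2397))
 (.one .base)))
 (.fork (.fork (.one (.rev 1373))
 (.one .base))
 (.fork (.one (.rev 3421))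
 (.one .base))))
 (.fork (.fork (.fork (.one (.rev 861))
 (.one .base))
 (.fork (.one (.rev 2909))
 (.one .base)))
 (.fork (.fork (.one (.rev 1885))
 (.one .base))
 (.fork (.one (.rev 3933))
 (.one .base))))))
 (.fork (.fork (.fork (.fork (.fork (.one (.rev 221))
 (.one (.rev 4317)))
 (.fork (.one (.rev 2269))
 (.one .base)))
 (.fork (.fork (.one (.rev 1245))
 (.one .base))
 (.fork (.one (.rev 3293))
 (.one .base))))
 (.fork (.fork (.fork (.one (.rev 733))
 (.one .base))
 (.fork (.one (.rev 2781))
 (.one .base)))
 (.fork (.fork (.one (.rev 1757))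
 (.one .base))
 (.fork (.one (.rev 3805))
 (.one .base)))))
 (.fork (.fork (.fork (.fork (.one (.rev 477))
 (.one .base))
 (.fork (.one (.rev 2525))
 (.one .base)))
 (.fork (.fork (.one (.rev 1501))
 (.one .base))
 (.fork (.one (.rev 3549))
 (.one .base))))
 (.fork (.fork (.fork (.one (.rev 989))
 (.one .base))
 (.fork (.one (.rev 3037))
 (.one .base)))
 (.fork (.fork (.one (.rev 2013))
 (.one .base))
 (.fork (.one (.rev 4061))
 (.one .base)))))))

/-- a part of the justifications -/
noncomputable def twJustT63 : BT Just := (.fork (.fork (.fork (.fork (.fork (.fork (.one (.rev 61))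
 (.one (.rev 4157)))
 (.fork (.one (.rev 2109))
 (.one .base)))
 (.fork (.fork (.one (.rev 1085))
 (.one .base))
 (.fork (.one (.rev 3133))
 (.one .base))))
 (.fork (.fork (.fork (.one (.rev 573))
 (.one .base))
 (.fork (.one (.rev 2621))
 (.one .base)))
 (.fork (.fork (.one (.rev 1597))
 (.one .base))
 (.fork (.one (.rev 3645))
 (.one .base)))))
 (.fork (.fork (.fork (.fork (.one (.rev 317))
 (.one .base))
 (.fork (.one (.rev 2365))
 (.one .base)))
 (.fork (.fork (.one (.rev 1341))
 (.one .base))
 (.fork (.one (.rev 3389))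
 (.one .base))))
 (.fork (.fork (.fork (.one (.rev 829))
 (.one .base))
 (.fork (.one (.rev 2877))
 (.one .base)))
 (.fork (.fork (.one (.rev 1853))
 (.one .base))
 (.fork (.one (.rev 3901))
 (.one .base))))))
 (.fork (.fork (.fork (.fork (.fork (.one (.rev 189))
 (.one (.rev 4285)))
 (.fork (.one (.rev 2237))
 (.one .base)))
 (.fork (.fork (.one (.rev 1213))
 (.one .base))
 (.fork (.one (.rev 3261))
 (.one .base))))
 (.fork (.fork (.fork (.one (.rev 701))
 (.one .base))
 (.fork (.one (.rev 2749))
 (.one .base)))
 (.fork (.fork (.one (.rev 1725))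
 (.one .base))
 (.fork (.one (.rev 3773))
 (.one .base)))))
 (.fork (.fork (.fork (.fork (.one (.rev 445))
 (.one .base))
 (.fork (.one (.rev 2493))
 (.one .base)))
 (.fork (.fork (.one (.rev 1469))
 (.one .base))
 (.fork (.one (.rev 3517))
 (.one .base))))
 (.fork (.fork (.fork (.one (.rev 957))
 (.one .base))
 (.fork (.one (.rev 3005))
 (.one .base)))
 (.fork (.fork (.one (.rev 1981))
 (.one .base))
 (.fork (.one (.rev 4029))
 (.one .base)))))))

/-- a part of the justifications -/
noncomputable def twJustT64 : BT Just := (.fork (.fork (.fork (.fork (.fork (.fork (.one (.path 8 [⟨62,[(65,false),(72,false)],[(0,false),(6,false),(4,false),(5,false)]⟩,⟨70,[(10,false),(13,false),(11,false),(14,false),(13,false),(11,true),(9,false)],[(1,false),(2,false),(3,false),(4,false),(1,false),(4,false),(5,false),(6,false),(4,false)]⟩,⟨122,[(100,true),(56,false),(83,false)],[(2,false),(4,false),(6,false),(4,false),(1,false),(5,false),(4,false),(1,false),(2,true)]⟩]))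
 (.one (.rev 4221)))
 (.fork (.one (.rev 2173))
 (.one .base)))
 (.fork (.fork (.one (.rev 1149))
 (.one .base))
 (.fork (.one (.rev 3197))
 (.one .base))))
 (.fork (.fork (.fork (.one (.rev 637))
 (.one .base))
 (.fork (.one (.rev 2685))
 (.one .base)))
 (.fork (.fork (.one (.rev 1661))
 (.one .base))
 (.fork (.one (.rev 3709))
 (.one .base)))))
 (.fork (.fork (.fork (.fork (.one (.rev 381))
 (.one .base))
 (.fork (.one (.rev 2429))
 (.one .base)))
 (.fork (.fork (.one (.rev 1405))
 (.one .base))
 (.fork (.one (.rev 3453))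
 (.one .base))))
 (.fork (.fork (.fork (.one (.rev 893))
 (.one .base))
 (.fork (.one (.rev 2941))
 (.one .base)))
 (.fork (.fork (.one (.rev 1917))
 (.one .base))
 (.fork (.one (.rev 3965))
 (.one .base))))))
 (.fork (.fork (.fork (.fork (.fork (.one (.rev 253))
 (.one (.rev 4349)))
 (.fork (.one (.rev 2301))
 (.one .base)))
 (.fork (.fork (.one (.rev 1277))
 (.one .base))
 (.fork (.one (.rev 3325))
 (.one .base))))
 (.fork (.fork (.fork (.one (.rev 765))
 (.one .base))
 (.fork (.one (.rev 2813))
 (.one .base)))
 (.fork (.fork (.one (.rev 1789))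
 (.one .base))
 (.fork (.one (.rev 3837))
 (.one .base)))))
 (.fork (.fork (.fork (.fork (.one (.rev 509))
 (.one .base))
 (.fork (.one (.rev 2557))
 (.one .base)))
 (.fork (.fork (.one (.rev 1533))
 (.one .base))
 (.fork (.one (.rev 3581))
 (.one .base))))
 (.fork (.fork (.fork (.one (.rev 1021))
 (.one .base))
 (.fork (.one (.rev 3069))
 (.one .base)))
 (.fork (.fork (.one (.rev 2045))
 (.one .base))
 (.fork (.one (.rev 4093))
 (.one .base)))))))

/-- a part of the justifications -/
noncomputable def twJustT65 : BT Just := (.fork (.fork (.fork (.fork (.fork (.fork (.one .base)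
 (.one (.path 0 [⟨4038,[(3912,false),(3911,true),(3911,true),(3912,true),(3911,false)],[(5,false),(2,true),(5,false),(4,false),(5,false),(4,false),(6,false)]⟩,⟨1409,[],[(4,false),(5,false),(2,false),(5,false),(6,false),(4,false),(5,false),(4,false),(1,false)]⟩])))
 (.fork (.one (.path 10 [⟨531,[(114,true),(163,true),(113,false)],[(3,false),(4,false),(5,false),(4,false),(6,false),(4,false),(1,false),(4,false),(5,false),(2,true)]⟩,⟨724,[(109,false)],[(5,false),(2,false),(5,false),(4,false),(5,false),(6,false),(4,false),(1,false),(4,false)]⟩,⟨813,[(100,true),(56,false),(54,false)],[(0,false),(5,false),(4,false),(2,true),(5,false),(2,false),(4,false),(5,false),(4,false),(1,false),(4,false)]⟩]))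
 (.one .base)))
 (.fork (.fork (.one (.path 8 [⟨422,[(110,true)],[(0,false),(2,false),(4,false),(1,false),(4,false),(6,false),(4,false),(1,false),(4,false),(5,false),(6,false)]⟩,⟨418,[(114,true),(163,true),(114,false),(113,false)],[(0,false),(4,false),(1,false),(4,false),(6,false),(4,false),(2,true)]⟩,⟨958,[(110,false)],[(5,false),(4,false),(1,false),(5,false),(6,false),(4,false),(5,false),(2,true)]⟩]))
 (.one .base))
 (.fork (.one (.path 0 [⟨2727,[],[(1,false),(2,false),(3,false),(5,false),(2,true)]⟩,⟨2766,[(110,false)],[(3,false),(5,false),(2,false),(4,false),(6,false),(4,false),(5,false),(2,true),(5,false)]⟩]))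
 (.one .base))))
 (.fork (.fork (.fork (.one (.path 6 [⟨294,[(191,true),(63,false)],[(0,false),(2,false),(4,false),(5,false),(2,false),(6,false),(4,false),(1,false),(4,false)]⟩,⟨372,[(137,true),(132,true),(121,false)],[(1,false),(6,false),(2,true),(5,false),(4,false),(5,false),(4,false),(6,false),(2,true),(5,false),(2,false)]⟩,⟨207,[(163,false),(114,false),(163,true)],[(2,false),(4,false),(5,false),(6,false),(4,false),(5,false),(2,false),(4,false),(5,false)]⟩]))
 (.one .base))
 (.fork (.one (.path 4 [⟨2278,[],[(4,false),(5,false),(4,false),(1,false),(6,false),(2,true),(5,false),(4,false)]⟩,⟨1137,[(83,true),(57,false),(100,false)],[(1,false),(6,false),(4,false),(1,false),(5,false),(2,false)]⟩,⟨2013,[(110,false),(109,false)],[(5,false),(6,false),(2,true),(5,false),(4,false),(5,false),(2,true),(5,false),(4,false)]⟩]))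
 (.one .base)))
 (.fork (.fork (.one (.path 1 [⟨1371,[],[(2,true)]⟩,⟨639,[],[(3,false),(6,false),(2,true),(5,false),(2,false),(4,false),(5,false),(2,false),(4,false),(1,false),(6,false)]⟩]))
 (.one .base))
 (.fork (.one (.path 1 [⟨2423,[],[(0,false),(1,false),(2,false),(3,false)]⟩,⟨3541,[(110,true),(109,false)],[(3,false),(4,false),(6,false),(4,false),(2,true),(5,false),(2,false),(4,false),(1,false),(6,false),(4,false)]⟩]))
 (.one .base)))))
 (.fork (.fork (.fork (.fork (.one (.path 1 [⟨210,[(158,false),(204,false),(158,false),(204,false)],[(1,false),(4,false),(1,false),(3,false),(4,false),(5,false),(4,false),(6,false),(4,false),(2,true)]⟩,⟨211,[],[(0,false),(6,false),(4,false),(1,false),(5,false),(4,false),(1,false),(4,false),(6,false),(2,true)]⟩]))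
 (.one (.path 13 [⟨4326,[(4321,true)],[(5,false),(4,false),(5,false),(2,true),(5,false),(4,false),(5,false),(6,false),(2,true)]⟩,⟨2911,[(110,true)],[(3,false),(5,false),(2,false),(4,false),(5,false),(2,false),(6,false),(4,false),(5,false)]⟩,⟨3981,[(110,true)],[(4,false),(6,false),(4,false),(1,false),(4,false),(5,false),(2,true),(5,false),(4,false)]⟩])))
 (.fork (.one (.path 3 [⟨692,[],[(4,false),(1,false),(6,false),(2,true),(5,false),(4,false),(1,false),(5,false),(6,false),(4,false),(2,true)]⟩,⟨394,[(204,true),(158,false)],[(6,false),(4,false),(3,false),(5,false),(4,false),(6,false),(2,true)]⟩,⟨135,[(121,true),(132,true)],[(1,false),(3,false),(6,false),(2,true),(5,false),(4,false),(1,false),(5,false),(6,false),(4,false),(2,true)]⟩]))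
 (.one .base)))
 (.fork (.fork (.one (.path 2 [⟨887,[(158,false),(204,false)],[(6,false),(4,false),(1,false),(4,false),(1,false),(5,false),(6,false),(4,false),(1,false),(4,false),(2,true)]⟩,⟨794,[(163,false)],[(1,false),(3,false),(6,false),(4,false),(2,true),(5,false),(2,false),(4,false),(5,false)]⟩,⟨1097,[(204,true),(158,false),(204,true)],[(3,false),(4,false),(2,true),(5,false),(2,false),(4,false),(5,false),(4,false),(6,false),(4,false)]⟩]))
 (.one .base))
 (.fork (.one (.path 0 [⟨1033,[],[(3,false),(5,false),(4,false),(6,false)]⟩,⟨1649,[],[(0,false),(5,false),(4,false),(1,false),(6,false),(4,false),(1,false)]⟩]))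
 (.one .base))))
 (.fork (.fork (.fork (.one (.path 5 [⟨343,[(137,false),(132,true),(121,true),(137,false)],[(6,false),(4,false),(3,false),(5,false),(2,false),(5,false),(4,false)]⟩,⟨269,[(114,true),(163,true),(114,false),(113,false)],[(1,false),(2,false),(3,false),(4,false),(5,false),(4,false),(1,false),(4,false),(6,false)]⟩,⟨355,[(204,true),(172,false)],[(4,false),(1,false),(3,false),(6,false),(4,false),(2,true),(5,false),(4,false),(2,true)]⟩]))
 (.one .base))
 (.fork (.one (.path 3 [⟨756,[],[(3,false),(4,false),(5,false),(4,false),(5,false),(2,true)]⟩,⟨269,[(114,true),(113,false)],[(4,false),(3,false),(5,false),(2,false),(5,false),(4,false),(1,false),(5,false),(2,false)]⟩,⟨1281,[(204,false),(158,false),(204,false),(158,false),(204,false)],[(1,false),(5,false),(4,false),(1,false),(6,false),(4,false),(1,false),(4,false),(5,false),(4,false)]⟩]))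
 (.one .base)))
 (.fork (.fork (.one (.path 10 [⟨445,[(158,false)],[(0,false),(1,false),(4,false),(6,false),(4,false),(5,false)]⟩,⟨1719,[(114,true),(163,true),(114,false)],[(2,false),(3,false),(4,false),(5,false),(2,true),(5,false),(4,false),(5,false),(4,false),(1,false)]⟩,⟨1692,[(110,false),(109,false)],[(6,false),(4,false),(1,false),(4,false),(5,false),(6,false),(2,true)]⟩]))
 (.one .base))
 (.fork (.one (.path 3 [⟨3461,[(110,false)],[(0,false),(2,false),(4,false),(1,false),(4,false),(5,false),(6,false),(4,false),(1,false),(4,false),(5,false)]⟩,⟨710,[(110,true)],[(1,false),(2,false),(3,false),(5,false),(4,false),(5,false),(4,false),(6,false),(4,false),(2,true)]⟩,⟨3837,[(204,true),(172,false),(158,false),(172,false),(158,false)],[(6,false),(4,false),(1,false),(5,false),(4,false),(5,false),(2,false),(4,false),(6,false),(4,false)]⟩]))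
 (.one .base))))))
 (.fork (.fork (.fork (.fork (.fork (.one (.rev 128))
 (.one (.path 0 [⟨1554,[(110,true)],[(1,false),(4,false),(5,false),(6,false),(2,true),(5,false),(4,false),(1,false),(4,false),(6,false)]⟩,⟨4033,[],[(0,false),(1,false),(2,false),(6,false),(4,false),(5,false),(4,false),(5,false),(2,true),(5,false),(4,false)]⟩])))
 (.fork (.one (.path 13 [⟨2104,[],[(3,false),(5,false),(4,false),(1,false),(4,false),(6,false),(2,true),(5,false),(4,false)]⟩,⟨1356,[],[(6,false),(4,false),(1,false),(4,false),(5,false),(2,false),(5,false),(6,false),(4,false),(1,false)]⟩,⟨582,[],[(0,false),(4,false),(5,false),(4,false),(6,false),(2,true),(5,false),(4,false),(5,false),(2,false)]⟩]))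
 (.one .base)))
 (.fork (.fork (.one (.path 7 [⟨1048,[(110,false),(109,false)],[(1,false),(4,false),(5,false),(2,false),(4,false),(1,false),(5,false),(4,false),(6,false),(2,true)]⟩,⟨833,[(114,true)],[(1,false),(2,false),(5,false),(6,false),(4,false),(1,false),(2,true),(5,false),(4,false),(6,false)]⟩,⟨756,[(110,true),(109,false)],[(1,false),(2,false),(5,false),(4,false),(3,false),(2,true),(5,false),(4,false),(1,false),(4,false),(5,false)]⟩]))
 (.one .base))
 (.fork (.one (.path 0 [⟨2304,[(110,true),(109,false)],[(2,false),(4,false),(5,false),(4,false),(1,false),(4,false),(6,false),(4,false),(2,true)]⟩,⟨2476,[(110,false),(109,false)],[(0,false),(4,false),(1,false),(5,false),(2,false),(4,false)]⟩]))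
 (.one .base))))
 (.fork (.fork (.fork (.one (.path 8 [⟨282,[],[(4,false),(1,false),(3,false),(5,false),(4,false),(2,true),(5,false),(2,true)]⟩,⟨130,[(64,true),(191,true),(65,false)],[(0,false),(1,false),(4,false),(5,false),(2,false),(4,false),(5,false),(2,false),(4,false),(1,false)]⟩,⟨135,[(137,true),(121,false),(137,true),(121,false)],[(1,false),(4,false),(5,false),(6,false),(4,false),(1,false),(4,false),(5,false)]⟩]))
 (.one .base))
 (.fork (.one (.path 4 [⟨2242,[],[(2,false),(5,false),(4,false),(2,true),(5,false),(2,false),(4,false),(1,false),(4,false),(6,false)]⟩,⟨408,[(110,false),(109,false)],[(0,false),(1,false),(2,false),(4,false),(5,false),(6,false),(2,true),(5,false),(4,false),(6,false)]⟩,⟨901,[(58,false),(56,false)],[(5,false),(6,false),(4,false),(1,false),(4,false),(1,false),(5,false),(2,false),(6,false),(4,false),(1,false)]⟩]))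
 (.one .base)))
 (.fork (.fork (.one (.path 4 [⟨844,[(110,false)],[(1,false),(4,false),(6,false),(4,false),(1,false),(4,false),(5,false),(6,false),(4,false),(2,true)]⟩,⟨189,[(114,false),(113,false)],[(6,false),(4,false),(3,false),(2,true),(5,false),(4,false),(6,false),(2,true),(5,false),(4,false)]⟩,⟨619,[(158,false),(204,false),(172,false),(158,false)],[(1,false),(4,false),(1,false),(6,false),(4,false),(5,false),(4,false),(1,false),(2,true),(5,false)]⟩]))
 (.one .base))
 (.fork (.one (.path 0 [⟨3702,[(110,false)],[(5,false),(6,false),(4,false),(5,false),(4,false),(1,false),(4,false),(6,false),(2,true),(5,false)]⟩,⟨2037,[],[(6,false),(4,false),(2,true),(5,false),(2,false),(4,false),(1,false),(4,false),(5,false),(4,false)]⟩]))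
 (.one .base)))))
 (.fork (.fork (.fork (.fork (.one (.path 4 [⟨375,[],[(0,false),(1,false),(2,false),(3,false),(5,false),(2,true)]⟩,⟨287,[(110,true)],[(0,false),(4,false),(1,false),(4,false),(5,false),(2,false),(6,false),(4,false),(1,false),(4,false)]⟩,⟨288,[(26,false),(49,true),(20,false)],[(0,false),(6,false),(4,false),(1,false),(4,false),(1,false),(5,false),(2,false)]⟩]))
 (.one .base))
 (.fork (.one (.path 0 [⟨1160,[],[(1,false),(4,false),(5,false),(4,false),(1,false),(6,false),(4,false),(5,false),(4,false)]⟩,⟨2200,[],[(1,false),(3,false),(6,false),(2,true)]⟩]))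
 (.one .base)))
 (.fork (.fork (.one (.path 1 [⟨273,[],[(0,false),(3,false),(5,false),(2,false),(5,false)]⟩,⟨1377,[(163,false),(114,false)],[(2,true),(5,false),(4,false),(1,false),(6,false),(2,true),(5,false),(4,false),(6,false)]⟩]))
 (.one .base))
 (.fork (.one (.path 0 [⟨1319,[],[(6,false),(2,true)]⟩,⟨2055,[(109,false)],[(0,false),(2,false),(6,false),(4,false),(1,false)]⟩]))
 (.one .base))))
 (.fork (.fork (.fork (.one (.path 0 [⟨709,[],[(0,false),(2,true),(5,false),(2,false)]⟩,⟨532,[],[(3,false),(6,false),(2,true),(5,false),(4,false),(1,false),(5,false),(4,false),(6,false),(2,true)]⟩]))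
 (.one .base))
 (.fork (.one (.path 4 [⟨2412,[(109,false)],[(1,false),(4,false),(1,false),(5,false),(2,false),(4,false),(6,false),(4,false),(1,false),(4,false)]⟩,⟨2114,[(110,false)],[(3,false),(5,false),(4,false),(5,false),(4,false),(1,false),(6,false)]⟩,⟨2506,[(110,false),(109,false)],[(1,false),(4,false),(1,false),(6,false),(4,false),(5,false),(2,false),(4,false),(5,false),(4,false),(1,false)]⟩]))
 (.one .base)))
 (.fork (.fork (.one (.path 6 [⟨1483,[],[(0,false),(1,false),(4,false),(1,false),(6,false),(2,true)]⟩,⟨1288,[(109,false)],[(3,false),(4,false),(5,false),(2,false),(4,false),(5,false),(4,false),(2,true),(5,false),(2,true)]⟩,⟨1261,[(158,false),(204,true),(158,false),(204,true),(158,false)],[(2,false),(5,false),(6,false),(4,false),(2,true),(5,false),(4,false),(5,false),(2,false),(6,false)]⟩]))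
 (.one .base))
 (.fork (.one (.path 5 [⟨1078,[(110,false)],[(5,false),(4,false),(3,false),(2,true),(5,false),(4,false),(1,false),(4,false),(5,false),(4,false)]⟩,⟨393,[(137,false),(132,false),(121,false)],[(0,false),(4,false),(6,false),(4,false),(1,false),(2,true),(5,false),(4,false),(5,false)]⟩,⟨3903,[(158,false),(204,true),(172,false)],[(1,false),(2,false),(5,false),(4,false),(1,false),(6,false),(4,false),(5,false),(2,false),(5,false)]⟩]))
 (.one .base)))))))

/-- a part of the justifications -/
noncomputable def twJustT66 : BT Just := (.fork (.fork (.fork (.fork (.fork (.fork (.one (.lift 1 (wOf 22 0x132164323467453234323) ⟨61,[(13,false),(15,false),(14,false),(11,true),(14,false),(13,false),(14,false),(13,false),(10,false)],[]⟩ ⟨61,[(11,true),(15,false),(10,false),(13,false),(14,false),(11,true),(14,false),(13,false),(15,false),(14,false),(9,false)],[(3,false),(6,false),(4,false),(2,true)]⟩))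
 (.one (.path 0 [⟨4046,[(3912,true),(3911,true),(3911,true),(3912,true)],[(4,false),(5,false),(4,false),(6,false),(4,false),(1,false),(5,false),(2,false),(4,false),(6,false)]⟩,⟨1625,[(158,false),(204,true),(158,false),(172,false),(158,false)],[(1,false),(4,false),(3,false),(5,false),(2,true),(5,false),(4,false),(1,false),(5,false),(4,false)]⟩])))
 (.fork (.one (.path 7 [⟨2077,[(110,true)],[(1,false),(2,false),(6,false),(4,false),(5,false),(4,false),(1,false),(6,false),(4,false),(2,true)]⟩,⟨2052,[],[(2,false),(5,false),(2,false),(4,false),(6,false),(4,false),(5,false),(4,false),(6,false)]⟩,⟨949,[(114,true),(163,true),(114,true)],[(1,false),(4,false),(1,false),(5,false),(4,false),(1,false),(6,false),(4,false),(1,false),(2,true)]⟩]))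
 (.one .base)))
 (.fork (.fork (.one (.path 0 [⟨431,[],[(6,false),(2,true)]⟩,⟨1071,[(114,true),(163,false),(113,false)],[(1,false),(5,false),(4,false),(1,false),(5,false),(2,false),(6,false),(4,false),(5,false),(2,true),(5,false)]⟩]))
 (.one .base))
 (.fork (.one (.path 0 [⟨520,[(109,false)],[(4,false),(1,false),(4,false),(5,false),(2,false),(5,false),(6,false),(4,false),(1,false)]⟩,⟨1059,[],[(4,false),(1,false),(5,false),(4,false),(6,false),(4,false),(2,true),(5,false),(2,true)]⟩]))
 (.one .base))))
 (.fork (.fork (.fork (.one (.path 13 [⟨365,[(110,false),(109,false)],[(0,false),(2,false),(4,false),(6,false),(4,false),(5,false),(4,false),(1,false),(5,false),(2,false),(4,false)]⟩,⟨331,[(57,false),(83,true)],[(1,false),(6,false),(2,true),(5,false),(4,false),(5,false),(2,true),(5,false)]⟩,⟨372,[(137,true),(121,true),(132,true)],[(0,false),(2,false),(6,false),(4,false),(1,false),(4,false),(5,false),(6,false),(2,true),(5,false),(4,false)]⟩]))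
 (.one .base))
 (.fork (.one (.path 1 [⟨614,[(109,false)],[(0,false),(1,false),(2,false),(4,false),(1,false),(6,false),(4,false)]⟩,⟨1627,[],[(4,false),(6,false),(4,false),(1,false),(5,false),(2,true)]⟩]))
 (.one .base)))
 (.fork (.fork (.one (.path 1 [⟨295,[],[(2,false),(4,false),(1,false)]⟩,⟨1571,[(114,false),(163,false),(114,true),(113,false)],[(4,false),(1,false),(5,false),(6,false),(4,false),(5,false),(4,false),(1,false)]⟩]))
 (.one .base))
 (.fork (.one (.path 0 [⟨2311,[],[(5,false),(2,true)]⟩,⟨3288,[(110,true)],[(1,false),(4,false),(1,false),(4,false),(6,false),(4,false),(5,false),(4,false),(1,false)]⟩]))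
 (.one .base)))))
 (.fork (.fork (.fork (.fork (.one (.path 1 [⟨169,[(204,true),(158,false)],[(4,false),(1,false),(4,false),(6,false),(4,false),(2,true),(5,false),(4,false),(1,false),(2,true)]⟩,⟨233,[],[(1,false),(3,false),(4,false),(2,true),(5,false),(4,false),(1,false),(2,true),(5,false)]⟩]))
 (.one .base))
 (.fork (.one (.path 7 [⟨1578,[(109,false)],[(4,false),(3,false),(5,false),(6,false),(4,false),(2,true),(5,false),(4,false),(2,true),(5,false)]⟩,⟨1580,[(163,false),(114,false),(163,true),(113,false)],[(4,false),(5,false),(4,false),(6,false),(4,false),(1,false),(2,true),(5,false),(4,false)]⟩,⟨1585,[(114,true),(163,false)],[(3,false),(4,false),(6,false),(4,false),(5,false),(4,false),(6,false),(2,true),(5,false)]⟩]))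
 (.one .base)))
 (.fork (.fork (.one (.path 3 [⟨735,[],[(0,false),(1,false),(2,false),(3,false),(6,false)]⟩,⟨464,[(110,false),(109,false)],[(2,false),(5,false),(2,false),(4,false),(6,false),(4,false),(5,false),(2,false)]⟩,⟨1309,[(72,true),(191,false),(64,false)],[(1,false),(2,false),(3,false),(5,false),(4,false),(6,false),(4,false),(5,false)]⟩]))
 (.one .base))
 (.fork (.one (.path 0 [⟨3354,[(109,false)],[(2,false),(5,false),(2,false),(4,false),(1,false)]⟩,⟨2296,[(110,false),(109,false)],[(3,false),(5,false),(4,false),(1,false),(5,false)]⟩]))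
 (.one .base))))
 (.fork (.fork (.fork (.one (.path 1 [⟨554,[(163,false),(114,false)],[(5,false),(2,false),(6,false),(4,false),(5,false),(2,false),(4,false),(1,false),(5,false),(6,false)]⟩,⟨555,[],[(2,false),(4,false),(1,false),(6,false),(4,false),(5,false),(4,false),(1,false),(5,false),(6,false)]⟩]))
 (.one .base))
 (.fork (.one (.path 1 [⟨1214,[(110,false)],[(3,false),(4,false),(2,true),(5,false),(4,false),(1,false),(4,false),(1,false),(6,false),(4,false)]⟩,⟨1741,[],[(1,false),(2,false),(3,false),(5,false),(6,false),(4,false),(5,false),(2,true),(5,false),(4,false)]⟩]))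
 (.one .base)))
 (.fork (.fork (.one (.path 13 [⟨1158,[(109,false)],[(4,false),(1,false),(4,false),(5,false),(4,false),(6,false),(4,false),(1,false)]⟩,⟨404,[],[(5,false),(4,false),(5,false),(4,false),(6,false),(4,false),(5,false),(2,false)]⟩,⟨699,[(204,true),(158,false),(204,false),(172,false),(158,false)],[(4,false),(1,false),(4,false),(1,false),(6,false),(4,false),(5,false),(2,false)]⟩]))
 (.one .base))
 (.fork (.one (.path 5 [⟨1449,[(158,false),(204,false),(158,false),(204,false),(172,false)],[(2,false),(6,false),(4,false),(1,false),(3,false),(5,false),(4,false),(5,false),(2,true),(5,false)]⟩,⟨2225,[(110,true)],[(4,false),(3,false),(5,false),(6,false),(4,false),(2,true),(5,false),(2,false)]⟩,⟨3847,[(110,false)],[(3,false),(5,false),(2,false),(6,false),(4,false),(5,false),(4,false),(2,true)]⟩]))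
 (.one .base))))))
 (.fork (.fork (.fork (.fork (.fork (.one (.rev 192))
 (.one (.path 0 [⟨3916,[(3912,false),(3911,true)],[(0,false),(6,false),(2,true),(5,false),(4,false),(1,false),(5,false),(4,false),(2,true),(5,false)]⟩,⟨3839,[(100,true),(58,false),(55,false)],[(4,false),(1,false),(6,false),(4,false),(2,true),(5,false),(4,false),(1,false),(6,false),(2,true)]⟩])))
 (.fork (.one (.path 6 [⟨1175,[],[(1,false),(5,false),(4,false),(3,false),(6,false),(4,false),(1,false)]⟩,⟨282,[],[(1,false),(4,false),(1,false),(5,false),(2,false),(4,false),(1,false),(5,false)]⟩,⟨413,[(72,true),(64,true),(63,false)],[(0,false),(6,false),(4,false),(1,false),(5,false),(4,false),(6,false),(2,true),(5,false)]⟩]))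
 (.one .base)))
 (.fork (.fork (.one (.path 1 [⟨151,[(114,true),(113,false)],[(1,false),(3,false),(5,false),(4,false),(1,false),(4,false),(5,false),(2,false),(4,false)]⟩,⟨663,[],[(1,false),(4,false),(3,false),(5,false),(4,false),(1,false),(4,false),(5,false),(2,false),(4,false)]⟩]))
 (.one .base))
 (.fork (.one (.path 2 [⟨1943,[(110,false),(109,false)],[(4,false),(3,false),(5,false),(2,false)]⟩,⟨728,[(110,true),(109,false)],[(3,false),(5,false),(4,false),(1,false),(4,false),(5,false),(4,false),(2,true),(5,false)]⟩,⟨1469,[(64,false),(191,false),(64,true),(63,false)],[(1,false),(3,false),(5,false),(4,false),(5,false),(2,false),(6,false),(4,false),(5,false),(2,false)]⟩]))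
 (.one .base))))
 (.fork (.fork (.fork (.one (.path 1 [⟨549,[],[(3,false),(4,false)]⟩,⟨405,[(204,false),(158,false),(204,true),(158,false),(172,false)],[(0,false),(5,false),(4,false),(6,false),(4,false),(2,true),(5,false),(4,false),(5,false),(6,false)]⟩]))
 (.one .base))
 (.fork (.one (.path 8 [⟨790,[(110,true)],[(5,false),(2,false),(4,false),(5,false)]⟩,⟨495,[(204,false),(172,false),(158,false),(172,false),(158,false)],[(0,false),(1,false),(4,false),(5,false),(6,false),(2,true),(5,false),(4,false),(1,false),(4,false),(5,false)]⟩,⟨2620,[(110,true),(109,false)],[(0,false),(1,false),(2,false),(4,false),(5,false),(6,false),(4,false),(2,true),(5,false)]⟩]))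
 (.one .base)))
 (.fork (.fork (.one (.path 1 [⟨839,[],[(2,false),(4,false),(3,false),(6,false)]⟩,⟨1633,[(204,true),(172,false),(158,false)],[(0,false),(5,false),(4,false),(5,false),(2,false),(6,false),(4,false),(1,false),(5,false),(4,false),(5,false)]⟩]))
 (.one .base))
 (.fork (.one (.path 0 [⟨1258,[(110,true)],[(6,false),(4,false),(2,true),(5,false),(2,false),(4,false),(5,false),(6,false),(4,false)]⟩,⟨1077,[],[(0,false),(1,false),(4,false),(5,false),(4,false),(2,true),(5,false),(4,false)]⟩]))
 (.one .base)))))
 (.fork (.fork (.fork (.fork (.one (.path 0 [⟨188,[(158,false),(204,true),(158,false),(172,false)],[(1,false),(5,false),(4,false),(5,false),(6,false),(4,false),(1,false),(4,false),(1,false),(6,false),(4,false)]⟩,⟨315,[],[(0,false),(1,false),(4,false),(6,false),(4,false),(2,true),(5,false),(4,false),(1,false),(6,false),(4,false)]⟩]))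
 (.one .base))
 (.fork (.one (.path 3 [⟨1491,[],[(0,false),(4,false),(1,false),(6,false),(4,false)]⟩,⟨2070,[(109,false)],[(0,false),(4,false),(1,false),(5,false),(4,false),(2,true),(5,false),(2,false),(4,false),(6,false)]⟩,⟨2252,[],[(0,false),(1,false),(6,false),(4,false),(2,true),(5,false),(4,false),(1,false),(4,false)]⟩]))
 (.one .base)))
 (.fork (.fork (.one (.path 7 [⟨1262,[],[(0,false),(1,false),(4,false),(5,false),(2,false),(6,false),(4,false),(1,false),(5,false),(2,true)]⟩,⟨991,[(204,true)],[(5,false),(2,false),(4,false),(5,false),(2,false),(4,false),(1,false),(5,false),(6,false)]⟩,⟨928,[(110,false)],[(2,false),(6,false),(4,false),(3,false),(5,false),(2,true),(5,false),(4,false),(5,false),(2,false),(6,false)]⟩]))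
 (.one .base))
 (.fork (.one (.path 0 [⟨2893,[],[(6,false),(4,false)]⟩,⟨3309,[],[(5,false),(2,false),(5,false),(4,false),(5,false),(4,false),(1,false)]⟩]))
 (.one .base))))
 (.fork (.fork (.fork (.one (.path 7 [⟨135,[(132,true),(121,true)],[(5,false),(4,false),(3,false),(2,true),(5,false),(4,false)]⟩,⟨960,[],[(1,false),(2,true),(5,false),(4,false),(1,false),(6,false),(4,false),(1,false),(4,false),(5,false),(2,false)]⟩,⟨855,[(163,false),(114,false)],[(0,false),(1,false),(4,false),(6,false),(4,false),(2,true),(5,false),(2,false),(4,false),(5,false),(6,false)]⟩]))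
 (.one .base))
 (.fork (.one (.path 0 [⟨2219,[],[(0,false),(6,false)]⟩,⟨2417,[(110,false)],[(0,false),(1,false),(2,true),(5,false),(4,false),(5,false),(6,false),(2,true),(5,false)]⟩]))
 (.one .base)))
 (.fork (.fork (.one (.path 2 [⟨1110,[(109,false)],[(1,false),(4,false),(6,false),(4,false),(1,false),(4,false),(5,false),(2,false),(6,false),(4,false)]⟩,⟨1291,[],[(3,false),(2,true),(5,false),(2,false),(4,false),(5,false),(2,false),(4,false),(6,false),(4,false)]⟩,⟨639,[(110,true)],[(1,false),(2,false),(4,false),(1,false),(3,false),(4,false),(6,false),(4,false)]⟩]))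
 (.one .base))
 (.fork (.one (.path 4 [⟨1359,[(114,true),(163,true)],[(4,false),(3,false),(6,false),(4,false),(2,true),(5,false),(2,false),(4,false)]⟩,⟨1163,[(110,false)],[(3,false),(6,false),(4,false),(2,true),(5,false),(4,false),(6,false),(2,true),(5,false),(4,false)]⟩,⟨3955,[(110,false),(109,false)],[(0,false),(4,false),(2,true),(5,false),(2,false),(4,false),(5,false),(6,false),(4,false),(1,false),(5,false)]⟩]))
 (.one .base)))))))

/-- a part of the justifications -/
noncomputable def twJustT67 : BT Just := (.fork (.fork (.fork (.fork (.fork (.fork (.one (.path 1 [⟨31,[],[]⟩,⟨32,[(14,false),(11,false),(14,false)],[(4,false),(5,false),(4,false),(2,true),(5,false),(4,false),(1,false),(4,false),(2,true)]⟩]))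
 (.one (.path 2 [⟨3982,[(3912,true),(3911,false),(3912,true),(3911,false),(3911,false)],[(0,false),(4,false),(6,false),(4,false),(1,false),(5,false),(4,false),(1,false)]⟩,⟨2513,[(110,true),(109,false)],[(1,false),(4,false),(5,false),(2,false),(6,false),(4,false),(5,false),(2,true)]⟩,⟨2996,[],[(1,false),(5,false),(2,false),(4,false),(5,false),(6,false),(4,false),(5,false),(2,true)]⟩])))
 (.fork (.one (.path 0 [⟨1138,[(110,true),(109,false)],[(0,false),(1,false),(4,false),(6,false),(4,false),(1,false),(5,false),(2,false),(4,false),(5,false)]⟩,⟨1137,[(100,true),(57,false),(83,false)],[(2,false),(3,false),(5,false),(4,false),(6,false),(4,false),(1,false),(4,false),(5,false)]⟩]))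
 (.one .base)))
 (.fork (.fork (.one (.path 1 [⟨341,[],[(2,false),(6,false)]⟩,⟨1011,[(204,false),(158,false),(204,true)],[(6,false),(2,true),(5,false),(2,false),(4,false),(5,false),(2,true)]⟩]))
 (.one .base))
 (.fork (.one (.path 0 [⟨2951,[],[(1,false),(2,false)]⟩,⟨2313,[],[(6,false),(4,false),(1,false),(4,false),(5,false),(2,false),(5,false),(6,false),(4,false),(1,false)]⟩]))
 (.one .base))))
 (.fork (.fork (.fork (.one (.path 1 [⟨224,[(204,true),(172,false),(158,false),(172,false),(158,false)],[(2,false),(4,false),(1,false),(4,false),(6,false),(4,false),(1,false),(4,false),(6,false)]⟩,⟨511,[],[(1,false),(2,false),(4,false),(1,false),(4,false),(5,false),(6,false),(4,false),(1,false),(4,false)]⟩]))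
 (.one .base))
 (.fork (.one (.path 0 [⟨1315,[],[(2,false),(3,false),(6,false)]⟩,⟨2047,[],[(2,false),(3,false),(5,false),(4,false),(5,false),(2,false),(6,false),(4,false)]⟩]))
 (.one .base)))
 (.fork (.fork (.one (.path 0 [⟨446,[(114,true),(163,false),(114,false)],[(1,false),(4,false),(1,false),(3,false),(6,false),(2,true)]⟩,⟨1123,[],[(0,false),(5,false),(4,false),(6,false),(2,true),(5,false),(4,false)]⟩]))
 (.one .base))
 (.fork (.one (.path 0 [⟨3518,[],[(0,false),(5,false),(6,false),(4,false),(1,false),(4,false),(5,false),(2,false),(4,false),(1,false)]⟩,⟨1943,[],[(1,false),(5,false),(4,false),(1,false),(5,false),(2,false),(4,false),(6,false),(4,false),(5,false),(2,false)]⟩]))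
 (.one .base)))))
 (.fork (.fork (.fork (.fork (.one (.path 10 [⟨227,[(114,false)],[(2,false),(5,false),(2,false),(6,false),(4,false),(1,false),(5,false),(4,false),(2,true),(5,false)]⟩,⟨224,[(204,false)],[(2,false),(4,false),(6,false),(4,false),(5,false),(2,false),(4,false)]⟩,⟨192,[],[(0,false),(1,false),(6,false),(4,false),(1,false),(4,false),(5,false),(2,false),(4,false),(1,false),(4,false)]⟩]))
 (.one .base))
 (.fork (.one (.path 0 [⟨1823,[],[(0,false),(4,false),(2,true),(5,false),(2,false)]⟩,⟨1344,[(109,false)],[(0,false),(5,false),(2,false),(4,false),(5,false),(4,false),(1,false),(2,true)]⟩]))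
 (.one .base)))
 (.fork (.fork (.one (.path 0 [⟨1177,[],[(2,false),(3,false),(6,false)]⟩,⟨1040,[(110,true),(109,false)],[(0,false),(5,false),(4,false),(1,false),(4,false),(2,true),(5,false),(4,false),(1,false)]⟩]))
 (.one .base))
 (.fork (.one (.path 4 [⟨3325,[],[(4,false),(5,false),(6,false),(2,true)]⟩,⟨3112,[(110,true),(109,false)],[(3,false),(2,true),(5,false),(2,false),(4,false),(5,false),(2,false),(4,false),(1,false),(5,false)]⟩,⟨3331,[],[(0,false),(4,false),(5,false),(6,false),(4,false),(1,false),(4,false),(5,false),(2,false)]⟩]))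
 (.one .base))))
 (.fork (.fork (.fork (.one (.path 0 [⟨394,[(204,false),(158,false),(204,true)],[(0,false),(1,false),(4,false),(1,false),(5,false),(4,false),(6,false),(4,false),(1,false),(4,false),(2,true)]⟩,⟨767,[],[(1,false),(5,false),(2,false),(6,false),(4,false),(5,false),(4,false),(2,true),(5,false),(2,true)]⟩]))
 (.one .base))
 (.fork (.one (.path 4 [⟨2797,[(110,false),(109,false)],[(5,false),(2,false),(4,false),(6,false),(4,false),(1,false),(5,false),(4,false)]⟩,⟨1204,[(110,false),(109,false)],[(2,true),(5,false),(2,false),(4,false),(3,false),(5,false),(6,false),(4,false)]⟩,⟨1723,[(114,false)],[(0,false),(2,false),(5,false),(2,false),(4,false),(5,false),(4,false),(6,false)]⟩]))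
 (.one .base)))
 (.fork (.fork (.one (.path 10 [⟨890,[(110,false)],[(2,false),(4,false),(5,false),(6,false),(4,false),(1,false),(5,false),(4,false),(5,false)]⟩,⟨364,[(204,true),(172,false)],[(0,false),(6,false),(4,false),(1,false),(4,false),(2,true),(5,false),(2,false)]⟩,⟨635,[(64,false),(191,true),(65,false)],[(6,false),(4,false),(1,false),(5,false),(2,false),(4,false),(1,false)]⟩]))
 (.one .base))
 (.fork (.one (.path 13 [⟨1904,[],[(0,false),(6,false),(4,false),(1,false),(4,false),(1,false),(6,false),(4,false),(2,true),(5,false),(2,false)]⟩,⟨3722,[],[(1,false),(6,false),(4,false),(3,false),(5,false),(2,false),(5,false),(4,false),(5,false),(2,false)]⟩,⟨3861,[],[(3,false),(2,true),(5,false),(4,false),(1,false),(6,false)]⟩]))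
 (.one .base))))))
 (.fork (.fork (.fork (.fork (.fork (.one (.path 8 [⟨129,[(114,true)],[(1,false),(3,false),(6,false),(4,false),(2,true),(5,false),(4,false),(1,false),(6,false),(2,true)]⟩,⟨85,[(83,true)],[(4,false),(1,false),(5,false),(2,false),(4,false),(1,false),(4,false),(5,false),(4,false),(5,false),(2,false)]⟩,⟨53,[(100,false),(83,true)],[(0,false),(2,false),(4,false),(5,false),(4,false),(2,true),(5,false),(4,false),(1,false),(2,true)]⟩]))
 (.one (.path 0 [⟨300,[(110,false)],[(2,false),(6,false),(4,false),(5,false),(4,false),(2,true),(5,false),(2,false),(4,false),(5,false)]⟩,⟨3901,[],[(3,false),(5,false),(2,false),(5,false),(4,false),(6,false),(4,false),(5,false),(2,true)]⟩])))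
 (.fork (.one (.path 0 [⟨1112,[(110,true)],[(0,false),(4,false),(5,false),(6,false),(4,false),(5,false),(2,true)]⟩,⟨1629,[],[(3,false),(5,false),(4,false),(1,false),(4,false),(6,false),(2,true),(5,false),(4,false),(1,false),(6,false)]⟩]))
 (.one .base)))
 (.fork (.fork (.one (.path 7 [⟨490,[(109,false)],[(1,false),(4,false),(1,false),(3,false),(5,false),(4,false),(5,false),(6,false),(2,true)]⟩,⟨675,[(137,true),(121,false)],[(1,false),(4,false),(1,false),(5,false),(4,false),(6,false),(4,false),(1,false),(4,false),(5,false),(6,false),(2,true)]⟩,⟨540,[],[(1,false),(3,false),(4,false),(5,false),(4,false),(1,false),(5,false),(2,false),(6,false),(4,false)]⟩]))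
 (.one .base))
 (.fork (.one (.path 2 [⟨2722,[(109,false)],[(2,false),(4,false),(5,false),(6,false),(4,false),(1,false),(4,false),(6,false)]⟩,⟨2081,[(110,false)],[(1,false),(5,false),(2,false),(4,false),(3,false),(5,false),(4,false),(6,false),(2,true),(5,false),(2,true)]⟩,⟨2114,[(110,true)],[(1,false),(3,false),(4,false),(1,false),(5,false),(4,false),(1,false),(4,false),(6,false),(2,true)]⟩]))
 (.one .base))))
 (.fork (.fork (.fork (.one (.path 9 [⟨537,[(121,true),(137,true),(121,true),(132,false)],[(4,false),(6,false),(2,true),(5,false),(2,false),(4,false),(5,false),(2,true),(5,false)]⟩,⟨332,[(121,false),(137,false),(132,false),(121,false)],[(4,false),(5,false),(2,false),(6,false),(4,false),(5,false),(2,false),(4,false),(1,false),(6,false)]⟩,⟨567,[(56,false),(100,false),(56,false)],[(3,false),(5,false),(2,false),(4,false),(5,false),(2,false),(6,false)]⟩]))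
 (.one .base))
 (.fork (.one (.path 0 [⟨1343,[],[(3,false),(6,false),(2,true),(5,false)]⟩,⟨2641,[(110,true),(109,false)],[(0,false),(1,false),(5,false),(2,false),(4,false),(1,false),(6,false),(4,false),(5,false),(2,false)]⟩]))
 (.one .base)))
 (.fork (.fork (.one (.path 10 [⟨802,[],[(1,false),(2,false),(5,false),(4,false),(5,false),(4,false),(1,false),(2,true)]⟩,⟨1279,[],[(2,false),(4,false),(1,false),(4,false),(1,false),(5,false),(4,false),(2,true)]⟩,⟨1507,[(110,false)],[(1,false),(3,false),(5,false),(4,false),(6,false),(4,false),(5,false),(2,true)]⟩]))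
 (.one .base))
 (.fork (.one (.path 0 [⟨3147,[],[(1,false),(4,false)]⟩,⟨3497,[(110,true),(109,false)],[(0,false),(5,false),(4,false),(1,false),(4,false),(5,false),(2,true),(5,false),(4,false),(1,false),(4,false)]⟩]))
 (.one .base)))))
 (.fork (.fork (.fork (.fork (.one (.path 8 [⟨287,[],[(3,false),(5,false),(6,false)]⟩,⟨156,[(28,true),(24,false),(49,true),(21,false)],[(1,false),(3,false),(4,false),(2,true),(5,false),(4,false),(6,false),(2,true),(5,false),(4,false)]⟩,⟨405,[(158,false)],[(2,false),(4,false),(5,false),(4,false),(1,false),(5,false),(2,false),(6,false)]⟩]))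
 (.one .base))
 (.fork (.one (.path 0 [⟨906,[],[(0,false),(4,false),(1,false),(5,false),(2,false),(4,false),(5,false),(6,false),(4,false),(2,true)]⟩,⟨1684,[(100,true),(58,false)],[(4,false),(1,false),(4,false),(6,false),(2,true),(5,false),(4,false),(1,false),(5,false),(2,true)]⟩]))
 (.one .base)))
 (.fork (.fork (.one (.path 3 [⟨1439,[(204,false),(158,false),(204,false),(158,false),(204,false)],[(5,false),(4,false),(6,false),(4,false),(2,true)]⟩,⟨1136,[(110,true)],[(0,false),(1,false),(2,false),(5,false),(4,false),(5,false),(2,true),(5,false),(4,false),(6,false)]⟩,⟨1007,[(158,false),(204,false),(158,false),(204,false),(172,false)],[(1,false),(3,false),(5,false),(2,true)]⟩]))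
 (.one .base))
 (.fork (.one (.path 0 [⟨2269,[],[(0,false),(4,false)]⟩,⟨2917,[(109,false)],[(2,true),(5,false),(4,false),(5,false),(4,false),(2,true),(5,false),(4,false),(1,false),(6,false)]⟩]))
 (.one .base))))
 (.fork (.fork (.fork (.one (.path 1 [⟨274,[(114,true),(163,true)],[(0,false),(2,false),(4,false),(5,false),(6,false),(4,false),(1,false),(5,false),(4,false),(5,false)]⟩,⟨765,[],[(0,false),(2,false),(5,false),(2,false),(6,false),(4,false),(5,false),(2,true),(5,false),(4,false)]⟩]))
 (.one .base))
 (.fork (.one (.path 0 [⟨2377,[],[(2,false),(6,false),(4,false)]⟩,⟨1856,[(110,true)],[(2,false),(3,false),(4,false),(1,false),(5,false),(6,false),(4,false),(1,false),(5,false),(2,false)]⟩]))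
 (.one .base)))
 (.fork (.fork (.one (.path 0 [⟨1720,[],[(1,false),(3,false),(5,false),(2,false),(4,false),(5,false),(2,false),(4,false),(6,false)]⟩,⟨1781,[],[(0,false),(2,true),(5,false),(4,false),(1,false),(5,false),(2,false),(4,false),(6,false)]⟩]))
 (.one .base))
 (.fork (.one (.path 0 [⟨1948,[(110,true),(109,false)],[(4,false),(1,false),(5,false),(2,false),(4,false),(1,false),(6,false),(4,false),(5,false),(2,false)]⟩,⟨3945,[],[(1,false),(4,false),(3,false),(5,false),(6,false),(2,true),(5,false),(4,false)]⟩]))
 (.one .base)))))))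

/-- a part of the justifications -/
noncomputable def twJustT68 : BT Just := (.fork (.fork (.fork (.fork (.fork (.fork (.one (.rev 96))
 (.one (.path 0 [⟨3434,[],[(2,false),(4,false),(5,false),(6,false),(4,false),(1,false),(4,false),(2,true),(5,false),(2,false)]⟩,⟨3973,[],[(1,false),(2,false),(3,false),(4,false),(6,false),(4,false),(5,false),(2,false),(4,false)]⟩])))
 (.fork (.one (.path 15 [⟨920,[(110,false)],[(0,false),(4,false),(5,false),(2,false),(6,false),(4,false),(5,false),(4,false),(5,false)]⟩,⟨2007,[],[(1,false),(3,false),(5,false),(2,false),(4,false),(5,false),(6,false)]⟩,⟨1774,[(110,false),(109,false)],[(2,false),(6,false),(4,false),(5,false),(2,true),(5,false),(4,false),(1,false),(6,false)]⟩,⟨1227,[],[(1,false),(2,false),(3,false),(5,false),(4,false),(5,false),(2,false),(4,false),(5,false),(6,false)]⟩,⟨1416,[(110,true),(109,false)],[(3,false),(4,false),(1,false),(5,false),(2,false),(4,false),(6,false),(4,false),(1,false),(5,false)]⟩,⟨1091,[],[(1,false),(6,false),(4,false),(1,false),(4,false),(5,false),(2,false),(5,false),(4,false)]⟩,⟨1480,[],[(2,false),(5,false),(4,false),(1,false),(6,false),(2,true),(5,false),(4,false),(1,false),(6,false)]⟩]))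
 (.one .base)))
 (.fork (.fork (.one (.path 7 [⟨424,[(204,true),(158,false),(172,false),(158,false)],[(4,false),(5,false),(4,false),(5,false),(6,false),(4,false),(5,false),(2,false)]⟩,⟨475,[(163,false),(114,true),(163,true),(114,false),(113,false)],[(1,false),(2,true),(5,false),(2,false),(4,false),(3,false),(5,false),(4,false),(2,true)]⟩,⟨1105,[(204,false),(158,false),(204,false),(158,false)],[(4,false),(1,false),(3,false),(4,false),(6,false),(4,false),(1,false),(2,true)]⟩]))
 (.one .base))
 (.fork (.one (.path 2 [⟨2845,[(109,false)],[(1,false),(2,false),(6,false),(4,false),(1,false)]⟩,⟨2861,[(109,false)],[(2,false),(5,false),(4,false),(2,true),(5,false),(4,false),(1,false),(4,false),(5,false)]⟩,⟨1159,[(109,false)],[(0,false),(4,false),(1,false),(5,false),(2,false),(4,false),(1,false),(6,false),(4,false),(1,false),(5,false)]⟩]))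
 (.one .base))))
 (.fork (.fork (.fork (.one (.path 9 [⟨135,[(132,false),(121,false)],[(0,false),(5,false),(4,false),(5,false),(6,false),(2,true)]⟩,⟨369,[(110,true)],[(5,false),(6,false),(4,false),(5,false),(2,false),(4,false)]⟩,⟨495,[(204,true),(172,false),(158,false),(172,false)],[(1,false),(2,false),(3,false),(5,false),(6,false),(4,false),(5,false),(2,false),(5,false),(4,false)]⟩]))
 (.one .base))
 (.fork (.one (.path 0 [⟨2437,[],[(0,false),(3,false),(5,false)]⟩,⟨1509,[],[(2,false),(3,false),(5,false),(2,false),(4,false),(5,false),(2,true),(5,false)]⟩]))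
 (.one .base)))
 (.fork (.fork (.one (.path 6 [⟨625,[(204,false),(158,false),(204,false)],[(3,false),(4,false),(5,false),(6,false),(4,false),(2,true),(5,false)]⟩,⟨680,[],[(5,false),(4,false),(5,false),(6,false),(4,false),(1,false),(4,false),(2,true),(5,false),(2,true)]⟩,⟨807,[(204,false),(158,false),(204,true),(158,false),(172,false)],[(0,false),(1,false),(6,false),(2,true),(5,false),(2,false),(4,false),(5,false),(2,true)]⟩]))
 (.one .base))
 (.fork (.one (.path 0 [⟨2413,[],[(4,false),(3,false),(6,false),(2,true)]⟩,⟨2976,[(110,true)],[(1,false),(4,false),(1,false),(4,false),(5,false),(6,false),(4,false),(5,false),(4,false)]⟩]))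
 (.one .base)))))
 (.fork (.fork (.fork (.fork (.one (.path 3 [⟨193,[(204,true),(172,false),(158,false),(172,false),(158,false)],[(0,false),(2,false),(5,false),(2,false),(6,false),(4,false),(5,false)]⟩,⟨263,[(55,false),(83,true)],[(0,false),(2,false),(4,false),(1,false),(6,false),(4,false)]⟩,⟨169,[(204,true),(158,false),(204,true)],[(0,false),(1,false),(4,false),(6,false),(4,false),(1,false),(4,false),(1,false),(2,true)]⟩]))
 (.one .base))
 (.fork (.one (.path 7 [⟨2327,[],[(4,false),(6,false),(4,false)]⟩,⟨950,[],[(2,false),(3,false),(5,false),(4,false),(1,false),(4,false),(2,true)]⟩,⟨1045,[(114,false),(113,false)],[(0,false),(5,false),(6,false),(2,true),(5,false),(4,false),(1,false)]⟩]))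
 (.one .base)))
 (.fork (.fork (.one (.path 7 [⟨390,[(114,false),(163,true),(114,false)],[(5,false),(4,false),(5,false),(6,false),(4,false),(2,true),(5,false),(4,false)]⟩,⟨474,[(121,true),(137,false),(132,false),(121,false)],[(2,false),(6,false),(4,false),(3,false),(5,false),(4,false),(1,false),(6,false),(4,false),(5,false)]⟩,⟨833,[(163,true),(114,true)],[(0,false),(2,true),(5,false),(4,false),(1,false),(6,false)]⟩]))
 (.one .base))
 (.fork (.one (.path 0 [⟨844,[(110,false)],[(1,false),(2,false),(4,false),(6,false),(4,false),(1,false),(4,false),(5,false),(2,false)]⟩,⟨1751,[],[(0,false),(2,false),(6,false),(4,false),(5,false),(2,false),(4,false),(5,false),(6,false),(2,true)]⟩]))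
 (.one .base))))
 (.fork (.fork (.fork (.one (.path 0 [⟨336,[(132,true),(121,false),(137,false)],[(4,false),(1,false),(6,false),(4,false),(5,false),(2,false),(4,false),(1,false),(5,false)]⟩,⟨725,[],[(1,false),(6,false),(4,false),(2,true),(5,false),(4,false),(1,false),(2,true),(5,false)]⟩]))
 (.one .base))
 (.fork (.one (.path 8 [⟨892,[(110,false)],[(4,false),(6,false),(4,false),(5,false),(4,false),(1,false),(4,false),(1,false),(6,false)]⟩,⟨1451,[(172,false),(158,false),(172,false),(158,false)],[(0,false),(6,false),(4,false),(2,true),(5,false),(4,false),(1,false),(4,false),(1,false)]⟩,⟨2465,[],[(0,false),(2,true),(5,false),(4,false),(2,true),(5,false),(4,false),(6,false)]⟩]))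
 (.one .base)))
 (.fork (.fork (.one (.path 5 [⟨1377,[(114,false),(163,true),(114,false)],[(2,false),(4,false),(1,false),(5,false),(6,false),(4,false),(2,true),(5,false),(2,false)]⟩,⟨1760,[(110,false),(109,false)],[(4,false),(6,false),(4,false),(1,false),(5,false),(4,false),(2,true),(5,false),(2,false)]⟩,⟨833,[(163,true),(114,true)],[(0,false),(6,false),(4,false),(5,false),(2,false),(4,false),(5,false),(2,true),(5,false)]⟩]))
 (.one .base))
 (.fork (.one (.path 4 [⟨731,[(110,false),(109,false)],[(4,false),(1,false),(3,false),(6,false)]⟩,⟨2194,[(110,false),(109,false)],[(1,false),(2,false),(5,false),(4,false),(3,false),(6,false),(4,false),(2,true),(5,false),(2,false)]⟩,⟨3843,[(110,true),(109,false)],[(5,false),(6,false),(2,true),(5,false),(4,false),(1,false),(5,false),(4,false),(6,false),(2,true)]⟩]))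
 (.one .base))))))
 (.fork (.fork (.fork (.fork (.fork (.one (.path 7 [⟨123,[],[(1,false),(4,false),(3,false),(5,false),(4,false),(1,false),(4,false),(5,false),(4,false),(2,true)]⟩,⟨71,[(100,false),(83,true)],[(6,false),(4,false),(5,false),(2,false),(4,false),(5,false),(2,true),(5,false),(4,false),(6,false)]⟩,⟨70,[(13,false),(10,false),(13,false),(15,false),(14,false),(13,false),(10,false),(13,false),(11,false),(9,false)],[(4,false),(3,false),(6,false),(4,false),(1,false),(5,false),(2,false)]⟩]))
 (.one (.lift 3 (wOf 14 0x55312345432345) ⟨4319,[(58,false),(57,false),(54,false)],[]⟩ ⟨4319,[(100,false),(100,false),(83,false),(55,false)],[(0,false),(5,false),(2,false),(4,false),(1,false),(4,false),(5,false),(2,false),(4,false),(1,false),(4,false)]⟩)))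
 (.fork (.one (.path 0 [⟨1386,[(110,true),(109,false)],[(0,false),(5,false),(2,false),(6,false),(4,false),(1,false),(4,false),(5,false),(4,false),(6,false)]⟩,⟨957,[],[(0,false),(1,false),(5,false),(2,false),(4,false),(5,false),(6,false),(4,false),(5,false),(2,true),(5,false)]⟩]))
 (.one .base)))
 (.fork (.fork (.one (.path 1 [⟨526,[(137,false),(121,true),(137,false)],[(0,false),(5,false),(2,false),(6,false),(4,false),(1,false),(4,false),(5,false),(6,false),(4,false)]⟩,⟨1201,[],[(2,true),(5,false),(4,false),(1,false),(4,false),(1,false),(6,false),(4,false),(1,false)]⟩]))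
 (.one .base))
 (.fork (.one (.path 0 [⟨2388,[],[(0,false),(6,false),(4,false),(5,false),(2,true),(5,false),(4,false),(5,false),(4,false),(1,false)]⟩,⟨1677,[],[(1,false),(5,false),(2,false),(6,false),(4,false),(5,false),(4,false),(5,false),(2,true),(5,false),(4,false)]⟩]))
 (.one .base))))
 (.fork (.fork (.fork (.one (.path 1 [⟨230,[],[(0,false),(2,false),(4,false),(1,false),(5,false),(4,false),(1,false)]⟩,⟨277,[],[(1,false),(2,false),(3,false),(5,false),(4,false),(1,false),(5,false)]⟩]))
 (.one .base))
 (.fork (.one (.path 2 [⟨2274,[(110,false)],[(0,false),(1,false),(5,false),(6,false),(4,false),(5,false),(2,false),(5,false),(4,false),(5,false),(2,true)]⟩,⟨1440,[(110,false)],[(2,true),(5,false),(4,false),(1,false),(4,false),(1,false),(6,false)]⟩,⟨1453,[(204,false),(158,false),(204,true)],[(1,false),(2,false),(3,false),(4,false),(5,false),(4,false),(1,false),(6,false),(2,true),(5,false)]⟩]))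
 (.one .base)))
 (.fork (.fork (.one (.path 6 [⟨1591,[],[(5,false),(2,false),(6,false)]⟩,⟨1592,[(109,false)],[(2,false),(5,false),(4,false),(1,false),(5,false),(2,false),(4,false),(1,false),(6,false),(4,false)]⟩,⟨1316,[(114,false),(163,true),(114,true),(113,false)],[(0,false),(6,false),(4,false),(1,false),(4,false),(5,false),(2,false),(4,false),(5,false),(2,false)]⟩]))
 (.one .base))
 (.fork (.one (.path 0 [⟨2964,[],[(3,false),(4,false),(2,true),(5,false),(4,false),(2,true),(5,false),(2,false),(4,false),(5,false),(2,true)]⟩,⟨3180,[(110,true)],[(6,false),(2,true),(5,false),(4,false),(1,false),(5,false),(4,false),(1,false),(6,false)]⟩]))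
 (.one .base)))))
 (.fork (.fork (.fork (.fork (.one (.path 6 [⟨382,[(137,true),(132,true),(121,false)],[(0,false),(2,true),(5,false),(4,false),(1,false),(6,false),(4,false),(1,false),(4,false),(6,false),(2,true)]⟩,⟨406,[(114,true),(163,true),(114,true)],[(6,false),(4,false),(5,false),(4,false),(5,false),(2,false),(5,false),(6,false)]⟩,⟨259,[(158,false),(204,false),(172,false)],[(5,false),(2,false),(6,false),(4,false),(1,false),(3,false),(4,false),(5,false),(6,false)]⟩]))
 (.one .base))
 (.fork (.one (.path 1 [⟨2307,[],[(3,false),(2,true),(5,false),(2,false)]⟩,⟨2244,[(110,false),(109,false)],[(0,false),(2,false),(4,false),(1,false),(6,false),(4,false),(5,false),(2,true),(5,false)]⟩]))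
 (.one .base)))
 (.fork (.fork (.one (.path 1 [⟨1356,[],[(4,false),(1,false),(3,false),(5,false),(4,false),(6,false),(2,true),(5,false),(4,false),(2,true)]⟩,⟨1403,[],[(0,false),(2,false),(5,false),(2,false),(6,false),(4,false),(5,false),(4,false),(1,false),(4,false)]⟩]))
 (.one .base))
 (.fork (.one (.path 0 [⟨2640,[(110,true),(109,false)],[(0,false),(6,false),(4,false),(1,false),(4,false),(1,false),(5,false),(4,false),(6,false),(4,false)]⟩,⟨2969,[],[(0,false),(2,false),(5,false),(6,false),(4,false),(5,false),(4,false),(1,false),(4,false),(6,false)]⟩]))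
 (.one .base))))
 (.fork (.fork (.fork (.one (.path 8 [⟨259,[],[(2,false),(3,false),(4,false),(5,false),(6,false),(2,true),(5,false)]⟩,⟨608,[(109,false)],[(4,false),(3,false),(6,false),(4,false),(5,false),(2,false),(4,false),(1,false),(4,false)]⟩,⟨977,[(137,true),(121,false),(137,true),(132,false)],[(1,false),(2,false),(5,false),(4,false),(6,false),(2,true),(5,false),(2,false),(4,false),(1,false)]⟩]))
 (.one .base))
 (.fork (.one (.path 4 [⟨1140,[],[(5,false),(4,false),(5,false),(2,false),(4,false),(5,false),(4,false),(5,false),(6,false)]⟩,⟨1139,[(83,false),(58,false),(100,true)],[(5,false),(4,false),(5,false),(6,false),(2,true),(5,false),(4,false),(1,false),(5,false),(2,true)]⟩,⟨2059,[],[(1,false),(4,false),(5,false),(2,false),(5,false),(6,false),(4,false),(1,false),(4,false),(6,false)]⟩]))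
 (.one .base)))
 (.fork (.fork (.one (.path 5 [⟨964,[(109,false)],[(0,false),(6,false),(2,true),(5,false),(4,false),(1,false),(4,false),(1,false),(5,false),(2,false),(6,false)]⟩,⟨1789,[(121,true),(132,true),(121,false),(132,false)],[(0,false),(2,true),(5,false),(4,false),(5,false),(2,false),(6,false),(4,false),(1,false),(5,false),(2,true)]⟩,⟨1709,[(110,false),(109,false)],[(1,false),(3,false),(4,false),(5,false),(6,false),(4,false),(2,true),(5,false),(2,false),(4,false)]⟩]))
 (.one .base))
 (.fork (.one (.path 1 [⟨3992,[(3911,true),(3911,true),(3912,true),(3911,false)],[(1,false),(2,false),(6,false),(4,false),(3,false),(5,false),(2,true),(5,false),(4,false),(5,false)]⟩,⟨4058,[(110,false),(109,false)],[(0,false),(1,false),(5,false),(6,false),(4,false),(1,false),(5,false),(4,false),(2,true)]⟩]))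
 (.one .base)))))))

/-- a part of the justifications -/
noncomputable def twJustT69 : BT Just := (.fork (.fork (.fork (.fork (.fork (.fork (.one (.rev 16))
 (.one (.path 0 [⟨3946,[(3911,true),(3912,false),(3911,false),(3911,false)],[(3,false),(6,false),(2,true),(5,false),(4,false),(5,false),(2,true)]⟩,⟨3661,[],[(1,false),(3,false),(4,false),(5,false),(2,false),(4,false),(1,false),(6,false),(4,false),(5,false)]⟩])))
 (.fork (.one (.path 0 [⟨1942,[(109,false)],[(1,false),(3,false),(4,false),(1,false),(5,false),(6,false),(4,false)]⟩,⟨2007,[],[(0,false),(1,false),(6,false),(2,true),(5,false),(4,false),(5,false)]⟩]))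
 (.one .base)))
 (.fork (.fork (.one (.path 1 [⟨888,[(163,false),(114,true),(113,false)],[(2,false),(5,false),(2,false),(6,false),(4,false),(1,false),(5,false),(4,false),(5,false)]⟩,⟨495,[],[(0,false),(4,false),(1,false),(6,false),(4,false),(1,false),(2,true),(5,false),(4,false)]⟩]))
 (.one .base))
 (.fork (.one (.path 0 [⟨1500,[],[(2,false),(4,false),(5,false),(4,false),(1,false),(4,false),(1,false),(6,false),(4,false)]⟩,⟨1968,[],[(2,true),(5,false),(4,false),(5,false),(2,false),(5,false),(4,false),(6,false),(4,false)]⟩]))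
 (.one .base))))
 (.fork (.fork (.fork (.one (.path 10 [⟨385,[(114,false),(113,false)],[(5,false),(4,false),(1,false),(3,false),(5,false),(2,false)]⟩,⟨287,[],[(2,false),(4,false),(1,false),(3,false),(4,false),(6,false),(4,false),(5,false),(4,false),(1,false)]⟩,⟨119,[],[(1,false),(3,false),(5,false),(4,false),(6,false),(4,false),(1,false),(5,false)]⟩]))
 (.one .base))
 (.fork (.one (.path 1 [⟨1588,[(109,false)],[(0,false),(1,false),(5,false),(4,false),(5,false),(2,false),(6,false),(4,false),(5,false),(2,false)]⟩,⟨931,[],[(2,false),(5,false),(2,false),(4,false),(5,false),(2,false),(6,false),(4,false),(5,false),(2,false)]⟩]))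
 (.one .base)))
 (.fork (.fork (.one (.path 0 [⟨937,[],[(0,false),(5,false),(2,false)]⟩,⟨1267,[(204,true),(158,false),(204,false)],[(2,true),(5,false),(2,false),(4,false),(1,false),(3,false),(4,false),(6,false),(4,false),(1,false)]⟩]))
 (.one .base))
 (.fork (.one (.path 0 [⟨3563,[],[(5,false),(2,false)]⟩,⟨2105,[(109,false)],[(0,false),(6,false),(4,false),(1,false),(5,false),(4,false),(1,false),(5,false),(2,true)]⟩]))
 (.one .base)))))
 (.fork (.fork (.fork (.fork (.one (.path 6 [⟨131,[(137,false),(121,false),(137,false)],[(3,false),(6,false),(2,true),(5,false),(4,false),(1,false),(6,false),(2,true)]⟩,⟨62,[(65,true),(72,true)],[(1,false),(4,false),(1,false),(2,true),(5,false),(4,false),(1,false),(6,false),(4,false)]⟩,⟨111,[(13,false),(12,false),(10,false),(13,false),(11,false),(14,false),(10,false)],[(0,false),(1,false),(4,false),(6,false),(4,false),(1,false),(4,false),(5,false),(2,false),(6,false)]⟩]))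
 (.one .base))
 (.fork (.one (.path 0 [⟨1642,[(110,true),(109,false)],[(1,false),(4,false),(5,false),(2,false),(4,false),(1,false),(4,false),(5,false),(4,false)]⟩,⟨569,[],[(0,false),(6,false),(4,false),(5,false),(4,false),(1,false),(4,false),(2,true),(5,false),(2,false),(4,false)]⟩]))
 (.one .base)))
 (.fork (.fork (.one (.path 5 [⟨201,[(204,true),(172,false),(158,false),(172,false),(158,false)],[(2,false),(5,false),(4,false),(3,false),(5,false),(6,false),(4,false),(1,false)]⟩,⟨600,[],[(1,false),(3,false),(5,false),(4,false),(1,false),(5,false),(4,false),(6,false),(4,false),(1,false)]⟩,⟨979,[(121,true),(132,false),(121,false),(132,false)],[(1,false),(4,false),(6,false),(4,false),(2,true),(5,false),(2,false),(4,false),(1,false)]⟩]))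
 (.one .base))
 (.fork (.one (.path 0 [⟨2522,[(109,false)],[(0,false),(1,false),(5,false),(6,false),(4,false),(5,false),(2,false)]⟩,⟨2548,[],[(1,false),(4,false),(5,false),(2,false),(4,false),(1,false),(6,false),(4,false),(5,false),(2,true)]⟩]))
 (.one .base))))
 (.fork (.fork (.fork (.one (.path 2 [⟨592,[(172,false),(158,false),(204,true),(158,false)],[(0,false),(2,false),(4,false),(5,false),(6,false),(4,false),(1,false),(5,false),(2,false)]⟩,⟨761,[(163,false),(114,false),(113,false)],[(4,false),(1,false),(3,false),(6,false)]⟩,⟨419,[(110,true)],[(1,false),(5,false),(4,false),(5,false),(2,false),(6,false),(4,false)]⟩]))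
 (.one .base))
 (.fork (.one (.path 1 [⟨2754,[],[(1,false),(2,false),(4,false),(1,false),(5,false),(6,false),(4,false),(1,false),(2,true)]⟩,⟨2431,[],[(1,false),(3,false),(4,false),(6,false),(4,false),(1,false),(4,false)]⟩]))
 (.one .base)))
 (.fork (.fork (.one (.path 0 [⟨804,[(110,false)],[(1,false),(2,true),(5,false),(4,false),(5,false),(6,false),(4,false)]⟩,⟨1261,[],[(2,false),(5,false),(2,false),(4,false),(1,false),(3,false),(6,false),(4,false),(5,false)]⟩]))
 (.one .base))
 (.fork (.one (.path 0 [⟨2540,[(110,false)],[(4,false),(1,false),(4,false),(5,false),(2,false),(4,false),(1,false),(4,false),(6,false)]⟩,⟨3849,[],[(4,false),(1,false),(4,false),(5,false),(2,false),(6,false),(4,false),(1,false),(4,false),(1,false)]⟩]))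
 (.one .base))))))
 (.fork (.fork (.fork (.fork (.fork (.one (.rev 144))
 (.one (.path 1 [⟨2023,[],[(0,false),(1,false),(2,true)]⟩,⟨3873,[(110,true),(109,false)],[(5,false),(4,false),(5,false),(2,false),(4,false),(5,false),(4,false),(1,false),(5,false),(2,false)]⟩])))
 (.fork (.one (.path 0 [⟨1776,[(110,false)],[(1,false),(4,false),(1,false),(6,false),(4,false),(1,false),(4,false),(5,false),(4,false),(2,true)]⟩,⟨1197,[],[(4,false),(1,false),(5,false),(2,false),(6,false),(4,false),(1,false),(4,false)]⟩]))
 (.one .base)))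
 (.fork (.fork (.one (.path 10 [⟨604,[(110,true),(109,false)],[(0,false),(4,false),(6,false),(4,false),(5,false),(4,false),(1,false),(5,false),(4,false)]⟩,⟨611,[(137,false),(121,true),(137,false)],[(2,false),(5,false),(4,false),(1,false),(6,false),(2,true),(5,false),(4,false),(5,false),(2,false)]⟩,⟨986,[(109,false)],[(0,false),(2,false),(6,false),(4,false),(5,false),(4,false),(6,false),(2,true),(5,false)]⟩]))
 (.one .base))
 (.fork (.one (.path 0 [⟨2081,[],[(0,false)]⟩,⟨1998,[],[(0,false),(4,false),(5,false),(2,false),(4,false),(6,false),(4,false),(1,false),(4,false)]⟩]))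
 (.one .base))))
 (.fork (.fork (.fork (.one (.path 0 [⟨387,[],[(0,false)]⟩,⟨595,[(114,false),(163,false),(114,true),(113,false)],[(1,false),(3,false),(4,false),(5,false),(2,false),(4,false),(1,false)]⟩]))
 (.one .base))
 (.fork (.one (.path 1 [⟨2079,[],[(0,false),(5,false),(2,false)]⟩,⟨1675,[(109,false)],[(1,false),(3,false),(6,false),(2,true),(5,false),(4,false)]⟩]))
 (.one .base)))
 (.fork (.fork (.one (.path 0 [⟨1100,[(110,true),(109,false)],[(3,false),(4,false),(1,false),(4,false)]⟩,⟨677,[],[(2,false),(3,false),(4,false),(5,false),(4,false)]⟩]))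
 (.one .base))
 (.fork (.one (.path 0 [⟨2949,[],[]⟩,⟨2983,[(110,false)],[(2,false),(6,false),(4,false),(5,false),(4,false),(2,true),(5,false),(2,false),(4,false)]⟩]))
 (.one .base)))))
 (.fork (.fork (.fork (.fork (.one (.path 1 [⟨166,[],[(0,false),(2,false)]⟩,⟨370,[],[(3,false),(4,false),(1,false),(5,false),(2,false),(4,false),(1,false),(5,false),(6,false),(4,false)]⟩]))
 (.one .base))
 (.fork (.one (.path 5 [⟨2368,[(110,true),(109,false)],[(3,false),(5,false),(4,false),(1,false),(2,true),(5,false),(4,false),(5,false),(6,false),(2,true)]⟩,⟨2039,[(110,true)],[(1,false),(6,false),(4,false),(3,false),(5,false),(2,true)]⟩,⟨1912,[(109,false)],[(5,false),(4,false),(1,false),(6,false),(4,false),(1,false),(4,false),(2,true),(5,false),(2,false)]⟩]))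
 (.one .base)))
 (.fork (.fork (.one (.path 11 [⟨977,[(137,true),(121,false)],[(4,false),(1,false),(5,false),(4,false),(5,false),(6,false),(4,false),(1,false),(2,true),(5,false)]⟩,⟨1320,[],[(2,true),(5,false),(4,false),(1,false),(5,false),(6,false),(2,true)]⟩,⟨1168,[(110,false)],[(0,false),(5,false),(4,false),(1,false),(5,false),(4,false),(6,false),(4,false),(5,false),(2,false)]⟩]))
 (.one .base))
 (.fork (.one (.path 0 [⟨452,[(110,true)],[(5,false),(4,false),(2,true),(5,false),(2,false),(4,false),(5,false),(2,true),(5,false)]⟩,⟨359,[],[(1,false),(5,false),(4,false),(5,false),(2,false),(5,false),(4,false),(1,false),(5,false),(2,false)]⟩]))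
 (.one .base))))
 (.fork (.fork (.fork (.one (.path 1 [⟨668,[(110,false),(109,false)],[(1,false),(5,false),(4,false),(3,false),(6,false),(4,false),(1,false),(4,false)]⟩,⟨605,[],[(0,false),(4,false),(5,false),(2,true),(5,false),(4,false),(1,false),(5,false),(6,false),(2,true)]⟩]))
 (.one .base))
 (.fork (.one (.path 0 [⟨326,[(110,true)],[(4,false),(1,false),(4,false),(1,false),(6,false),(4,false),(5,false),(4,false),(2,true)]⟩,⟨407,[],[(0,false),(5,false),(6,false),(4,false),(1,false),(5,false),(4,false),(5,false),(2,true),(5,false)]⟩]))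
 (.one .base)))
 (.fork (.fork (.one (.path 4 [⟨1112,[(110,true)],[(4,false),(6,false),(4,false),(5,false),(2,false),(4,false),(5,false),(2,false),(6,false)]⟩,⟨1435,[(158,false)],[(0,false),(5,false),(6,false),(2,true),(5,false),(4,false),(5,false),(4,false),(6,false)]⟩,⟨1168,[(109,false)],[(1,false),(5,false),(6,false),(4,false),(2,true),(5,false)]⟩]))
 (.one .base))
 (.fork (.one (.path 0 [⟨778,[(109,false)],[(0,false),(4,false),(5,false),(6,false),(4,false),(1,false),(4,false),(1,false),(6,false)]⟩,⟨3901,[],[(2,false),(4,false),(5,false),(4,false),(1,false),(4,false),(5,false),(4,false)]⟩]))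
 (.one .base)))))))

/-- a part of the justifications -/
noncomputable def twJustT70 : BT Just := (.fork (.fork (.fork (.fork (.fork (.fork (.one (.path 0 [⟨71,[],[(3,false),(4,false),(5,false),(2,false),(4,false),(5,false),(6,false),(4,false),(5,false)]⟩,⟨52,[(11,false)],[(0,false),(2,false),(4,false),(5,false),(2,false),(4,false),(5,false),(6,false),(4,false)]⟩]))
 (.one (.path 1 [⟨2290,[(110,true),(109,false)],[(0,false),(4,false),(1,false),(4,false),(5,false),(2,true),(5,false),(4,false),(5,false)]⟩,⟨4173,[],[(1,false),(2,false),(4,false),(6,false),(4,false),(5,false),(4,false),(6,false),(2,true),(5,false)]⟩])))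
 (.fork (.one (.path 13 [⟨1112,[(110,true)],[(2,false),(5,false),(4,false),(1,false),(4,false),(5,false),(4,false)]⟩,⟨499,[(158,false)],[(1,false),(2,true),(5,false),(4,false),(5,false),(2,true),(5,false),(4,false),(1,false),(6,false)]⟩,⟨1351,[(163,true),(114,false),(113,false)],[(0,false),(5,false),(4,false),(1,false),(4,false),(2,true),(5,false),(4,false),(1,false)]⟩]))
 (.one .base)))
 (.fork (.fork (.one (.path 1 [⟨677,[],[(2,false),(3,false)]⟩,⟨533,[],[(1,false),(5,false),(2,false),(4,false),(1,false),(4,false),(5,false)]⟩]))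
 (.one .base))
 (.fork (.one (.path 11 [⟨1486,[(110,false),(109,false)],[(2,false),(3,false),(4,false),(6,false),(4,false),(1,false),(4,false),(5,false),(6,false)]⟩,⟨2330,[],[(2,false),(3,false),(5,false),(4,false),(1,false)]⟩,⟨1968,[(109,false)],[(0,false),(4,false),(1,false),(5,false),(4,false),(2,true),(5,false),(2,true)]⟩]))
 (.one .base))))
 (.fork (.fork (.fork (.one (.path 4 [⟨432,[(163,true),(114,true),(113,false)],[(0,false),(2,false),(4,false),(6,false),(4,false),(1,false),(4,false),(5,false),(4,false),(5,false)]⟩,⟨485,[(137,false),(132,true),(121,false),(137,false)],[(1,false),(3,false),(4,false),(1,false),(6,false),(4,false),(2,true),(5,false),(2,false)]⟩,⟨249,[(163,false)],[(0,false),(4,false),(1,false),(6,false),(4,false),(1,false),(4,false),(5,false),(4,false),(2,true),(5,false)]⟩]))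
 (.one .base))
 (.fork (.one (.path 1 [⟨2325,[],[(1,false),(3,false),(6,false)]⟩,⟨2524,[(110,false)],[(1,false),(2,false),(5,false),(4,false),(3,false),(5,false),(2,false),(5,false),(4,false),(1,false),(4,false)]⟩]))
 (.one .base)))
 (.fork (.fork (.one (.path 6 [⟨879,[(158,false),(204,true),(158,false),(204,true),(172,false)],[(2,true),(5,false),(4,false),(1,false),(4,false),(6,false),(4,false),(5,false)]⟩,⟨870,[],[(0,false),(2,false),(5,false),(2,false),(6,false),(4,false),(1,false),(5,false),(4,false)]⟩,⟨395,[(137,true),(132,true)],[(1,false),(6,false),(4,false),(1,false),(4,false),(5,false),(4,false),(5,false),(6,false),(2,true),(5,false)]⟩]))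
 (.one .base))
 (.fork (.one (.path 0 [⟨2933,[],[(2,false)]⟩,⟨2399,[],[(5,false),(4,false),(1,false),(6,false),(4,false),(5,false),(4,false)]⟩]))
 (.one .base)))))
 (.fork (.fork (.fork (.fork (.one (.path 3 [⟨117,[],[(0,false),(1,false),(2,false),(5,false)]⟩,⟨214,[(163,true)],[(5,false),(2,false),(4,false),(1,false),(4,false),(6,false),(4,false),(1,false),(4,false)]⟩,⟨315,[],[(0,false),(2,false),(5,false),(6,false),(4,false),(1,false),(4,false),(1,false),(6,false),(4,false)]⟩]))
 (.one .base))
 (.fork (.one (.path 4 [⟨2293,[(110,false),(109,false)],[(4,false),(1,false),(3,false),(6,false),(2,true),(5,false)]⟩,⟨2205,[],[(4,false),(1,false),(5,false),(2,false),(4,false),(5,false),(4,false),(6,false),(2,true)]⟩,⟨1924,[(110,true)],[(4,false),(1,false),(3,false),(5,false),(4,false),(5,false),(2,true),(5,false),(4,false),(5,false)]⟩]))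
 (.one .base)))
 (.fork (.fork (.one (.path 7 [⟨837,[(114,false),(113,false)],[(0,false),(4,false),(1,false),(4,false),(2,true)]⟩,⟨658,[(110,true),(109,false)],[(1,false),(5,false),(4,false),(5,false),(2,false),(4,false),(6,false),(4,false),(1,false),(4,false)]⟩,⟨1197,[(163,false)],[(2,true),(5,false),(4,false),(1,false),(4,false),(6,false),(4,false),(1,false),(5,false),(4,false)]⟩]))
 (.one .base))
 (.fork (.one (.path 0 [⟨2498,[(110,true),(109,false)],[(5,false),(2,false),(4,false),(1,false),(4,false),(1,false),(5,false),(4,false)]⟩,⟨2906,[],[(1,false),(2,false),(5,false),(4,false),(2,true),(5,false),(2,false),(4,false),(6,false)]⟩]))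
 (.one .base))))
 (.fork (.fork (.fork (.one (.path 4 [⟨616,[(114,true),(163,true),(114,false),(113,false)],[(2,false),(3,false),(6,false),(4,false),(5,false),(4,false),(1,false),(2,true),(5,false)]⟩,⟨353,[(158,false)],[(2,false),(4,false),(5,false),(2,false),(4,false),(5,false),(2,true),(5,false),(4,false),(1,false)]⟩,⟨413,[(63,false),(191,false),(63,false)],[(1,false),(3,false),(5,false),(6,false),(4,false),(2,true),(5,false)]⟩]))
 (.one .base))
 (.fork (.one (.path 1 [⟨577,[],[(0,false),(2,false),(4,false)]⟩,⟨1899,[(114,true),(163,true),(113,false)],[(1,false),(6,false),(4,false),(3,false),(5,false),(2,true),(5,false),(4,false),(5,false),(2,true)]⟩]))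
 (.one .base)))
 (.fork (.fork (.one (.path 0 [⟨322,[],[(1,false),(2,false),(4,false),(1,false),(3,false),(5,false),(4,false),(6,false),(2,true),(5,false)]⟩,⟨323,[],[(0,false),(2,false),(6,false),(4,false),(1,false),(5,false),(4,false),(1,false),(6,false),(2,true),(5,false)]⟩]))
 (.one .base))
 (.fork (.one (.path 4 [⟨1798,[(110,false)],[(2,false),(4,false),(5,false),(2,false),(6,false),(4,false),(5,false),(4,false),(5,false)]⟩,⟨362,[(204,true),(158,false),(204,false),(158,false)],[(1,false),(4,false),(3,false),(6,false),(4,false),(1,false),(5,false),(2,false),(4,false),(1,false)]⟩,⟨3829,[(65,true),(191,false),(72,false),(63,false)],[(3,false),(4,false),(1,false),(5,false),(2,false),(4,false),(1,false),(4,false),(6,false)]⟩]))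
 (.one .base))))))
 (.fork (.fork (.fork (.fork (.fork (.one (.path 0 [⟨195,[],[(1,false),(3,false),(4,false),(1,false),(5,false),(4,false),(1,false),(4,false),(2,true),(5,false)]⟩,⟨159,[],[(4,false),(5,false),(2,false),(6,false),(4,false),(5,false),(4,false),(1,false),(6,false)]⟩]))
 (.one (.path 0 [⟨4176,[(3912,true),(3911,false),(3912,true)],[(1,false),(2,false),(3,false),(4,false),(1,false),(4,false),(5,false),(4,false),(1,false),(4,false),(2,true)]⟩,⟨4110,[],[(0,false),(6,false),(4,false),(2,true),(5,false),(4,false),(6,false),(2,true),(5,false),(2,false)]⟩])))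
 (.fork (.one (.path 0 [⟨942,[(110,false),(109,false)],[(1,false),(4,false),(6,false),(4,false),(1,false),(4,false),(1,false),(6,false),(2,true)]⟩,⟨1387,[],[(3,false),(2,true),(5,false),(4,false),(5,false)]⟩]))
 (.one .base)))
 (.fork (.fork (.one (.path 2 [⟨943,[(114,false),(113,false)],[(4,false),(1,false)]⟩,⟨662,[],[(0,false),(4,false),(5,false),(2,true),(5,false),(4,false),(5,false),(6,false),(4,false),(2,true)]⟩,⟨135,[(132,false),(121,false),(137,false),(121,false)],[(1,false),(2,false),(3,false),(4,false),(1,false),(4,false),(5,false),(4,false)]⟩]))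
 (.one .base))
 (.fork (.one (.path 0 [⟨3204,[(109,false)],[(2,false),(5,false),(2,false),(4,false),(5,false),(4,false),(6,false),(2,true),(5,false),(4,false)]⟩,⟨1914,[(110,false)],[(0,false),(5,false),(4,false),(2,true),(5,false),(4,false),(6,false),(2,true),(5,false),(2,false)]⟩]))
 (.one .base))))
 (.fork (.fork (.fork (.one (.path 6 [⟨235,[(57,false),(83,false)],[(2,false),(3,false),(4,false),(5,false),(2,false),(6,false),(4,false),(5,false),(2,false),(4,false)]⟩,⟨251,[(114,true)],[(5,false),(2,true),(5,false),(4,false)]⟩,⟨681,[(158,false),(204,true),(172,false),(158,false)],[(0,false),(4,false),(5,false),(4,false),(6,false),(2,true),(5,false),(4,false),(1,false)]⟩]))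
 (.one .base))
 (.fork (.one (.path 4 [⟨2672,[(110,false)],[(4,false),(5,false),(2,true),(5,false),(4,false)]⟩,⟨2244,[(109,false)],[(6,false),(4,false),(5,false),(4,false),(5,false),(2,false),(5,false),(6,false)]⟩,⟨2719,[],[(1,false),(3,false),(4,false),(1,false),(4,false),(5,false),(6,false),(4,false),(1,false),(5,false)]⟩]))
 (.one .base)))
 (.fork (.fork (.one (.path 3 [⟨1723,[(163,true),(114,false),(163,false),(113,false)],[(0,false),(2,false),(5,false),(6,false),(4,false),(5,false),(4,false),(1,false),(6,false),(2,true)]⟩,⟨1586,[],[(1,false),(5,false),(4,false),(6,false),(4,false),(5,false),(2,true)]⟩,⟨1393,[(163,false),(114,true),(113,false)],[(1,false),(2,false),(3,false),(5,false),(4,false),(1,false),(2,true),(5,false),(4,false),(5,false)]⟩]))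
 (.one .base))
 (.fork (.one (.path 0 [⟨3038,[],[(0,false),(1,false),(5,false),(4,false),(6,false),(4,false),(1,false),(5,false),(4,false),(1,false),(5,false),(6,false)]⟩,⟨1166,[(109,false)],[(2,false),(5,false),(4,false),(1,false),(5,false),(6,false),(4,false),(5,false),(2,true)]⟩]))
 (.one .base)))))
 (.fork (.fork (.fork (.fork (.one (.path 0 [⟨402,[],[(1,false),(4,false),(3,false),(6,false),(4,false),(1,false),(5,false),(4,false),(6,false)]⟩,⟨166,[(121,false)],[(3,false),(4,false),(1,false),(6,false),(2,true),(5,false),(4,false),(6,false)]⟩]))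
 (.one .base))
 (.fork (.one (.path 10 [⟨1147,[],[(0,false),(3,false),(5,false),(6,false),(2,true),(5,false)]⟩,⟨1184,[(110,true)],[(4,false),(6,false),(4,false),(1,false),(5,false),(2,false),(4,false),(5,false)]⟩,⟨927,[(110,false),(109,false)],[(5,false),(2,false),(4,false),(3,false),(5,false),(6,false),(2,true),(5,false),(4,false)]⟩]))
 (.one .base)))
 (.fork (.fork (.one (.path 13 [⟨756,[(110,false),(109,false)],[(2,false),(4,false),(1,false),(5,false),(4,false),(6,false),(2,true)]⟩,⟨346,[(114,false),(163,true),(114,true)],[(0,false),(4,false),(1,false),(5,false),(2,false),(4,false),(1,false),(6,false),(4,false),(1,false)]⟩,⟨1091,[(132,false),(121,false),(121,false)],[(2,false),(4,false),(3,false),(6,false),(4,false),(1,false),(4,false),(5,false),(6,false),(2,true)]⟩]))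
 (.one .base))
 (.fork (.one (.path 0 [⟨1922,[(110,false),(109,false)],[(1,false),(5,false),(2,false),(6,false),(4,false),(1,false),(3,false)]⟩,⟨3350,[],[(3,false),(6,false),(4,false),(5,false),(4,false),(6,false),(2,true)]⟩]))
 (.one .base))))
 (.fork (.fork (.fork (.one (.path 7 [⟨485,[(132,true)],[(1,false),(3,false),(4,false),(1,false),(5,false),(2,false),(4,false),(5,false),(4,false),(6,false)]⟩,⟨296,[(163,false)],[(2,false),(4,false),(1,false),(5,false),(6,false),(4,false),(1,false),(5,false),(4,false)]⟩,⟨771,[],[(0,false),(2,false),(5,false),(4,false),(5,false),(2,true),(5,false),(4,false)]⟩]))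
 (.one .base))
 (.fork (.one (.path 1 [⟨2050,[(110,true)],[(1,false),(5,false),(4,false),(3,false),(5,false),(2,false),(5,false),(4,false),(1,false),(6,false)]⟩,⟨2047,[],[(3,false),(4,false),(5,false),(6,false),(2,true),(5,false),(4,false),(1,false),(4,false)]⟩]))
 (.one .base)))
 (.fork (.fork (.one (.path 7 [⟨1122,[(109,false)],[(1,false),(4,false),(3,false),(5,false),(4,false),(1,false),(6,false),(4,false),(5,false),(2,true)]⟩,⟨689,[(204,false),(172,false),(158,false),(204,false),(158,false)],[(3,false),(4,false),(1,false),(6,false),(4,false),(5,false),(2,true)]⟩,⟨1964,[(110,false),(109,false)],[(1,false),(3,false),(5,false),(4,false),(5,false),(2,false),(6,false),(4,false)]⟩]))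
 (.one .base))
 (.fork (.one (.path 7 [⟨3904,[(3912,false),(3911,true)],[(0,false),(1,false),(4,false),(1,false),(6,false),(4,false),(1,false),(5,false),(2,false),(4,false),(6,false)]⟩,⟨627,[],[(5,false),(4,false),(1,false),(4,false),(1,false),(5,false),(2,false)]⟩,⟨2039,[(109,false)],[(0,false),(4,false),(6,false),(4,false),(5,false),(2,false),(4,false),(5,false),(2,true),(5,false)]⟩]))
 (.one .base)))))))

/-- a part of the justifications -/
noncomputable def twJustT71 : BT Just := (.fork (.fork (.fork (.fork (.fork (.fork (.one (.loop 5 [4,3,6,4,3,2] [⟨33,[],[(1,false),(3,false)]⟩,⟨43,[],[(5,false),(2,true),(5,false),(4,false),(5,false),(2,true)]⟩,⟨16,[(11,false)],[(3,false),(4,false),(5,false),(4,false),(5,false),(6,false),(4,false),(1,false)]⟩,⟨32,[(14,false)],[(2,false),(5,false),(4,false),(2,true),(5,false),(2,false),(4,false),(5,false),(4,false),(5,false)]⟩]))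
 (.one (.path 2 [⟨3904,[(3912,false),(3911,true)],[(4,false),(6,false),(4,false),(1,false),(5,false),(4,false),(6,false)]⟩,⟨627,[],[(5,false),(4,false),(1,false),(4,false),(1,false),(5,false),(6,false),(4,false),(1,false),(4,false),(2,true)]⟩,⟨1807,[(110,false)],[(5,false),(2,false),(4,false),(3,false),(6,false),(4,false),(1,false)]⟩])))
 (.fork (.one (.path 8 [⟨1328,[(110,false)],[(1,false),(6,false),(4,false),(1,false),(4,false),(5,false),(4,false),(1,false),(6,false)]⟩,⟨1898,[(110,false)],[(1,false),(5,false),(4,false),(5,false),(2,false),(6,false),(4,false),(1,false),(4,false),(5,false)]⟩,⟨1227,[(114,false),(163,true),(114,false)],[(1,false),(4,false),(1,false),(6,false),(4,false),(1,false),(5,false),(2,false),(4,false),(1,false)]⟩]))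
 (.one .base)))
 (.fork (.fork (.one (.path 1 [⟨389,[],[(3,false),(6,false)]⟩,⟨1057,[(163,false),(114,true),(163,true)],[(2,false),(6,false),(4,false),(1,false),(4,false),(1,false),(6,false),(4,false),(1,false),(5,false),(2,true)]⟩]))
 (.one .base))
 (.fork (.one (.path 0 [⟨2533,[],[(1,false)]⟩,⟨2923,[],[(0,false),(5,false),(2,false),(6,false),(4,false),(5,false),(2,true),(5,false),(4,false),(5,false),(6,false)]⟩]))
 (.one .base))))
 (.fork (.fork (.fork (.one (.path 7 [⟨327,[(55,false),(100,false),(58,false)],[(3,false),(5,false),(4,false),(5,false),(2,false),(6,false),(4,false)]⟩,⟨180,[(204,true),(158,false),(172,false),(158,false)],[(0,false),(2,false),(6,false),(4,false),(1,false),(4,false),(5,false),(6,false),(4,false)]⟩,⟨385,[(114,true),(163,false)],[(2,false),(5,false),(6,false),(4,false),(1,false),(2,true),(5,false),(4,false),(5,false)]⟩]))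
 (.one .base))
 (.fork (.one (.path 1 [⟨1226,[(110,false)],[(1,false),(6,false),(4,false),(5,false),(2,false),(4,false),(1,false),(5,false),(4,false)]⟩,⟨1781,[],[(3,false),(4,false),(2,true),(5,false),(4,false),(6,false),(2,true),(5,false),(4,false),(2,true)]⟩]))
 (.one .base)))
 (.fork (.fork (.one (.path 7 [⟨1063,[(163,false),(114,true),(163,true),(114,false),(113,false)],[(1,false),(4,false),(2,true),(5,false),(2,false),(4,false),(1,false),(5,false),(6,false),(4,false),(2,true)]⟩,⟨127,[(110,false),(109,false)],[(1,false),(2,false),(3,false),(4,false),(5,false),(4,false),(5,false),(2,true),(5,false),(4,false)]⟩,⟨1469,[(63,true),(191,false),(72,false),(63,true)],[(2,false),(3,false),(5,false),(2,false),(4,false),(5,false),(4,false),(2,true),(5,false),(2,false)]⟩]))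
 (.one .base))
 (.fork (.one (.path 0 [⟨3055,[],[(1,false),(2,false),(4,false)]⟩,⟨2990,[(110,false),(109,false)],[(0,false),(1,false),(2,false),(5,false),(6,false),(4,false),(2,true),(5,false),(4,false),(1,false),(6,false)]⟩]))
 (.one .base)))))
 (.fork (.fork (.fork (.fork (.one (.path 10 [⟨264,[(204,false),(158,false),(204,true),(172,false)],[(2,false),(3,false),(5,false),(4,false),(2,true),(5,false),(2,false),(4,false),(5,false),(2,false),(6,false)]⟩,⟨159,[(83,true)],[(2,false),(3,false),(5,false),(6,false),(4,false),(1,false),(4,false),(2,true)]⟩,⟨245,[(204,true),(158,false)],[(4,false),(1,false),(4,false),(5,false),(2,true),(5,false),(4,false),(1,false),(5,false)]⟩]))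
 (.one .base))
 (.fork (.one (.path 9 [⟨2269,[(110,false),(109,false)],[(3,false),(5,false),(2,false),(4,false),(1,false),(4,false),(5,false),(6,false)]⟩,⟨800,[(110,false),(109,false)],[(5,false),(4,false),(1,false),(4,false),(1,false),(5,false),(2,false),(6,false),(4,false),(1,false),(4,false)]⟩,⟨1269,[(204,false),(158,false),(204,true),(172,false),(158,false)],[(4,false),(5,false),(2,false),(5,false),(4,false),(5,false)]⟩]))
 (.one .base)))
 (.fork (.fork (.one (.path 1 [⟨906,[],[(0,false),(4,false),(6,false),(4,false),(1,false),(4,false),(2,true),(5,false),(4,false),(6,false)]⟩,⟨407,[],[(1,false),(5,false),(4,false),(1,false),(4,false),(6,false),(2,true),(5,false),(4,false),(1,false),(6,false)]⟩]))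
 (.one .base))
 (.fork (.one (.path 1 [⟨1709,[],[(3,false),(4,false)]⟩,⟨2494,[(110,true),(109,false)],[(1,false),(2,false),(4,false),(3,false),(6,false),(4,false),(5,false),(2,false),(4,false),(6,false)]⟩]))
 (.one .base))))
 (.fork (.fork (.fork (.one (.path 0 [⟨457,[],[(0,false),(2,true),(5,false),(4,false)]⟩,⟨761,[(163,false),(114,false)],[(2,false),(4,false),(5,false),(4,false),(6,false),(4,false),(1,false),(4,false),(5,false),(2,true)]⟩]))
 (.one .base))
 (.fork (.one (.path 1 [⟨1802,[(110,false)],[(4,false),(1,false),(3,false),(4,false),(5,false),(4,false),(6,false),(4,false)]⟩,⟨613,[],[(3,false),(5,false),(2,false),(4,false),(1,false),(6,false),(4,false),(5,false),(2,true)]⟩]))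
 (.one .base)))
 (.fork (.fork (.one (.path 2 [⟨680,[],[(1,false),(4,false),(5,false),(4,false),(6,false),(4,false),(5,false),(4,false),(5,false),(2,true)]⟩,⟨199,[(204,true),(172,false),(158,false),(172,false),(158,false)],[(0,false),(2,false),(3,false),(5,false),(6,false)]⟩,⟨411,[(64,true),(191,false),(65,false),(63,true)],[(1,false),(2,false),(6,false),(4,false),(5,false),(4,false),(2,true),(5,false),(4,false),(1,false)]⟩]))
 (.one .base))
 (.fork (.one (.path 7 [⟨401,[(137,true),(132,true),(121,false),(132,false)],[(1,false),(2,true),(5,false),(4,false),(1,false),(5,false),(4,false),(6,false),(4,false),(1,false),(5,false)]⟩,⟨3137,[(110,true)],[(0,false),(5,false),(6,false),(4,false),(1,false),(4,false),(2,true),(5,false),(4,false)]⟩,⟨3849,[(109,false)],[(0,false),(1,false),(4,false),(2,true),(5,false),(2,false),(4,false),(1,false),(5,false),(4,false)]⟩]))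
 (.one .base))))))
 (.fork (.fork (.fork (.fork (.fork (.one (.path 1 [⟨141,[(83,true),(55,false)],[(0,false),(6,false),(2,true),(5,false),(4,false),(1,false),(4,false),(1,false),(5,false),(2,true)]⟩,⟨168,[],[(1,false),(4,false),(5,false),(4,false),(2,true),(5,false),(4,false),(1,false),(4,false),(6,false)]⟩]))
 (.one (.path 0 [⟨1549,[],[(5,false)]⟩,⟨4253,[(110,false)],[(2,false),(5,false),(4,false),(3,false),(6,false),(4,false),(1,false)]⟩])))
 (.fork (.one (.path 10 [⟨1038,[],[(2,false),(3,false),(5,false),(2,false),(4,false),(1,false),(5,false)]⟩,⟨446,[(114,true),(163,false),(114,true),(113,false)],[(2,false),(5,false),(4,false),(1,false),(3,false),(6,false),(4,false),(2,true),(5,false)]⟩,⟨707,[],[(2,false),(3,false),(5,false),(4,false),(5,false),(2,false),(4,false),(5,false),(4,false),(2,true)]⟩]))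
 (.one .base)))
 (.fork (.fork (.one (.path 8 [⟨179,[(163,true)],[(2,false),(6,false),(4,false),(1,false),(5,false),(4,false),(1,false),(6,false),(2,true),(5,false)]⟩,⟨709,[(204,true),(158,false),(172,false),(158,false)],[(1,false),(2,false),(4,false),(5,false),(2,false),(4,false),(1,false),(5,false)]⟩,⟨920,[(110,true),(109,false)],[(0,false),(2,false),(4,false),(1,false),(6,false),(4,false),(5,false),(4,false),(5,false),(6,false)]⟩]))
 (.one .base))
 (.fork (.one (.path 5 [⟨1238,[],[(5,false),(4,false),(1,false),(4,false),(1,false),(5,false),(6,false),(4,false)]⟩,⟨251,[],[(0,false),(5,false),(6,false),(4,false),(5,false)]⟩,⟨1797,[(204,true),(172,false),(158,false),(204,false)],[(1,false),(3,false),(5,false),(4,false),(5,false),(2,false),(5,false),(4,false),(5,false)]⟩]))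
 (.one .base))))
 (.fork (.fork (.fork (.one (.path 2 [⟨555,[(158,false)],[(4,false),(1,false),(3,false),(4,false),(2,true)]⟩,⟨365,[(110,true),(109,false)],[(1,false),(4,false),(1,false),(3,false),(4,false),(6,false),(4,false),(1,false),(2,true),(5,false)]⟩,⟨565,[(58,false),(55,false),(100,true)],[(0,false),(4,false),(5,false),(2,false),(4,false),(5,false),(4,false),(2,true)]⟩]))
 (.one .base))
 (.fork (.one (.path 2 [⟨2411,[],[(1,false)]⟩,⟨490,[],[(3,false),(4,false),(6,false),(2,true),(5,false),(4,false),(5,false),(6,false),(2,true)]⟩,⟨1975,[(121,false),(137,false)],[(1,false),(2,false),(3,false),(4,false),(5,false),(4,false),(6,false),(2,true),(5,false)]⟩]))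
 (.one .base)))
 (.fork (.fork (.one (.path 0 [⟨390,[(163,false),(114,false),(163,true)],[(0,false),(4,false),(5,false),(6,false),(4,false),(5,false),(2,false),(4,false),(6,false)]⟩,⟨1407,[],[(5,false),(4,false),(5,false),(6,false),(4,false),(5,false),(2,true),(5,false)]⟩]))
 (.one .base))
 (.fork (.one (.path 0 [⟨3357,[],[(2,false),(5,false),(2,false),(4,false)]⟩,⟨2107,[(109,false)],[(2,false),(4,false),(5,false),(4,false),(1,false),(5,false),(2,false),(6,false),(4,false)]⟩]))
 (.one .base)))))
 (.fork (.fork (.fork (.fork (.one (.path 1 [⟨155,[(137,false),(121,false),(137,true),(121,false)],[(1,false),(2,false),(6,false),(4,false),(1,false),(5,false),(4,false),(1,false),(6,false),(2,true),(5,false)]⟩,⟨307,[],[(6,false),(4,false),(2,true),(5,false),(2,false),(4,false),(5,false),(2,false),(6,false)]⟩]))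
 (.one .base))
 (.fork (.one (.path 0 [⟨1064,[(110,false)],[(2,true),(5,false),(2,false),(4,false),(1,false),(6,false),(4,false),(5,false)]⟩,⟨1545,[],[(3,false),(4,false),(1,false),(6,false)]⟩]))
 (.one .base)))
 (.fork (.fork (.one (.path 6 [⟨159,[(100,false),(55,false)],[(3,false),(6,false),(4,false),(1,false),(5,false),(4,false),(6,false)]⟩,⟨203,[(204,true),(158,false),(204,true),(158,false)],[(5,false),(4,false),(1,false),(5,false),(2,false),(4,false),(5,false)]⟩,⟨1351,[(163,false),(114,false)],[(0,false),(2,false),(6,false),(4,false),(1,false),(4,false),(6,false)]⟩]))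
 (.one .base))
 (.fork (.one (.path 8 [⟨524,[(109,false)],[(0,false),(2,false),(6,false),(4,false),(1,false),(5,false),(4,false),(5,false),(2,false),(6,false)]⟩,⟨1365,[(114,true),(163,false),(114,true)],[(2,false),(4,false),(1,false),(6,false),(4,false),(5,false),(4,false),(5,false),(2,false),(6,false)]⟩,⟨3383,[],[(1,false),(2,true),(5,false),(4,false),(5,false),(2,false),(4,false),(1,false),(6,false)]⟩]))
 (.one .base))))
 (.fork (.fork (.fork (.one (.path 4 [⟨544,[(163,true),(114,true),(163,false),(114,false)],[(0,false),(1,false),(2,false),(5,false),(6,false),(4,false),(1,false),(2,true),(5,false)]⟩,⟨526,[(132,true),(121,true)],[(4,false),(1,false),(4,false),(1,false),(6,false),(2,true),(5,false),(4,false),(5,false),(6,false)]⟩,⟨655,[(114,true)],[(2,false),(3,false),(5,false),(6,false),(4,false),(2,true),(5,false),(4,false),(2,true)]⟩]))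
 (.one .base))
 (.fork (.one (.path 1 [⟨2427,[],[(1,false)]⟩,⟨2244,[(110,false),(109,false)],[(1,false),(3,false),(5,false),(2,false),(4,false),(5,false),(4,false),(1,false),(6,false)]⟩]))
 (.one .base)))
 (.fork (.fork (.one (.path 1 [⟨1391,[],[(5,false),(4,false),(1,false),(6,false)]⟩,⟨1960,[(110,true)],[(0,false),(1,false),(4,false),(2,true),(5,false),(4,false),(6,false)]⟩]))
 (.one .base))
 (.fork (.one (.path 13 [⟨2398,[(110,false)],[(3,false),(4,false),(5,false),(4,false),(1,false),(2,true)]⟩,⟨950,[(110,false),(109,false)],[(2,false),(4,false),(5,false),(4,false),(5,false),(2,false),(6,false),(4,false),(5,false)]⟩,⟨3875,[(163,true),(114,false),(113,false)],[(6,false),(4,false),(5,false),(2,false),(4,false)]⟩]))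
 (.one .base)))))))

/-- a part of the justifications -/
noncomputable def twJustT72 : BT Just := (.fork (.fork (.fork (.fork (.fork (.fork (.one (.lift 1 (wOf 19 0x1035743234512301234) ⟨111,[(13,false),(15,false),(11,false),(14,false),(10,false),(13,false),(14,false),(11,true),(10,false),(9,false)],[]⟩ ⟨111,[(14,true),(11,false),(14,false),(13,false),(10,false),(13,false),(15,false),(11,true),(14,false),(12,false),(13,false)],[(0,false),(4,false)]⟩))
 (.one (.path 4 [⟨4160,[(109,false)],[(0,false),(2,false),(5,false),(2,false),(4,false),(1,false),(5,false),(4,false),(6,false),(4,false)]⟩,⟨3890,[(3911,true),(3911,true)],[(1,false),(2,true),(5,false),(4,false),(1,false),(3,false),(5,false),(2,false),(6,false),(4,false),(1,false)]⟩,⟨3895,[(121,true),(137,true),(132,false)],[(1,false),(5,false),(4,false),(5,false),(4,false),(6,false),(4,false)]⟩])))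
 (.fork (.one (.path 11 [⟨1147,[],[(0,false),(2,true),(5,false)]⟩,⟨708,[],[(4,false),(1,false),(5,false),(4,false),(1,false),(6,false),(4,false),(1,false),(2,true),(5,false)]⟩,⟨1121,[(158,false),(204,false),(172,false)],[(0,false),(2,false),(5,false),(6,false),(4,false),(1,false),(4,false),(5,false),(4,false)]⟩]))
 (.one .base)))
 (.fork (.fork (.one (.path 10 [⟨263,[(57,false),(56,false),(55,false),(54,false)],[(2,false),(3,false),(5,false),(6,false)]⟩,⟨807,[(204,false)],[(4,false),(1,false),(5,false),(4,false),(5,false),(2,false),(4,false),(6,false),(4,false),(1,false)]⟩,⟨827,[(110,false)],[(4,false),(5,false),(6,false),(4,false),(1,false),(4,false),(1,false),(5,false),(6,false),(2,true)]⟩]))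
 (.one .base))
 (.fork (.one (.path 0 [⟨2468,[(110,true)],[(0,false),(4,false),(1,false),(4,false),(5,false),(6,false),(4,false),(1,false),(5,false),(4,false)]⟩,⟨2831,[],[(0,false),(4,false),(1,false),(4,false),(5,false),(2,false),(4,false),(5,false),(6,false),(2,true)]⟩]))
 (.one .base))))
 (.fork (.fork (.fork (.one (.path 1 [⟨364,[(204,true),(158,false),(204,true)],[(6,false),(2,true),(5,false),(4,false),(1,false),(5,false),(6,false),(4,false),(1,false)]⟩,⟨463,[],[(1,false),(4,false),(5,false),(6,false),(4,false),(1,false),(4,false),(1,false),(2,true),(5,false)]⟩]))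
 (.one .base))
 (.fork (.one (.path 0 [⟨1286,[(109,false)],[(6,false),(2,true),(5,false),(4,false),(5,false),(4,false),(1,false),(4,false),(6,false),(2,true)]⟩,⟨503,[],[(0,false),(1,false),(5,false),(4,false),(1,false),(6,false),(4,false),(1,false),(5,false),(2,false)]⟩]))
 (.one .base)))
 (.fork (.fork (.one (.path 0 [⟨1062,[],[(2,false),(4,false),(5,false),(6,false),(4,false),(1,false),(5,false),(2,false)]⟩,⟨1553,[],[(2,false),(4,false),(5,false),(6,false),(4,false),(5,false),(2,true),(5,false)]⟩]))
 (.one .base))
 (.fork (.one (.path 0 [⟨1150,[(110,true),(109,false)],[(4,false),(1,false),(6,false),(4,false),(1,false),(4,false),(2,true)]⟩,⟨2272,[(110,false)],[(1,false),(3,false),(6,false),(2,true),(5,false),(2,false),(4,false),(5,false),(2,false),(6,false)]⟩]))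
 (.one .base)))))
 (.fork (.fork (.fork (.fork (.one (.path 0 [⟨287,[],[(2,true)]⟩,⟨156,[(21,false),(28,true),(27,false),(23,false)],[(0,false),(1,false),(5,false),(4,false),(6,false),(4,false),(2,true),(5,false),(2,false),(4,false)]⟩]))
 (.one .base))
 (.fork (.one (.path 7 [⟨300,[(110,true)],[(0,false),(2,true),(5,false),(2,false),(4,false),(5,false),(6,false),(2,true),(5,false),(4,false),(5,false)]⟩,⟨431,[(137,false),(121,true),(137,true)],[(3,false),(2,true),(5,false),(4,false),(6,false),(2,true),(5,false),(4,false),(6,false),(2,true)]⟩,⟨2047,[(163,false),(114,true)],[(2,false),(4,false),(3,false),(5,false),(2,false),(4,false),(5,false),(4,false),(6,false),(4,false)]⟩]))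
 (.one .base)))
 (.fork (.fork (.one (.path 1 [⟨371,[],[(0,false),(1,false),(5,false),(2,true)]⟩,⟨1251,[(121,false),(137,true),(121,false),(132,false)],[(1,false),(5,false),(4,false),(1,false),(5,false),(6,false),(4,false)]⟩]))
 (.one .base))
 (.fork (.one (.path 1 [⟨1012,[(110,true)],[(4,false),(1,false),(5,false),(4,false),(1,false),(2,true)]⟩,⟨1273,[],[(1,false),(3,false),(2,true),(5,false),(4,false),(5,false),(4,false),(2,true)]⟩]))
 (.one .base))))
 (.fork (.fork (.fork (.one (.path 0 [⟨549,[],[]⟩,⟨797,[(204,false),(158,false),(204,true),(158,false),(172,false)],[(4,false),(1,false),(6,false),(4,false),(1,false),(4,false),(6,false),(2,true),(5,false),(4,false)]⟩]))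
 (.one .base))
 (.fork (.one (.path 1 [⟨2838,[],[(2,false),(5,false),(6,false),(4,false),(5,false),(4,false),(6,false),(2,true)]⟩,⟨1491,[],[(2,false),(3,false),(4,false),(6,false),(4,false),(1,false),(4,false),(6,false)]⟩]))
 (.one .base)))
 (.fork (.fork (.one (.path 0 [⟨1570,[(110,true)],[(0,false),(4,false),(5,false),(6,false),(4,false),(5,false),(2,false),(5,false)]⟩,⟨527,[],[(2,false),(5,false),(2,false),(6,false),(4,false),(5,false),(2,false)]⟩]))
 (.one .base))
 (.fork (.one (.path 6 [⟨1479,[(110,false),(109,false)],[(4,false),(3,false),(2,true),(5,false),(2,true)]⟩,⟨1949,[(110,false),(109,false)],[(1,false),(2,false),(4,false),(5,false),(4,false),(2,true),(5,false),(4,false),(6,false)]⟩,⟨3919,[(110,false),(109,false)],[(2,false),(4,false),(3,false),(5,false),(2,false),(4,false),(5,false),(2,false)]⟩]))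
 (.one .base))))))
 (.fork (.fork (.fork (.fork (.fork (.one (.path 4 [⟨221,[(121,true),(121,true)],[(1,false),(3,false),(2,true)]⟩,⟨129,[],[(2,false),(5,false),(6,false),(4,false),(5,false),(2,true),(5,false),(4,false),(5,false),(6,false)]⟩,⟨231,[(56,false)],[(2,false),(5,false),(6,false),(4,false),(1,false),(3,false),(2,true),(5,false),(4,false),(6,false)]⟩]))
 (.one (.path 2 [⟨4155,[(3912,false),(3911,true)],[(0,false),(2,false),(5,false),(2,false),(4,false),(5,false),(4,false),(2,true),(5,false),(2,false),(4,false)]⟩,⟨3615,[],[(1,false),(6,false),(4,false),(1,false),(2,true)]⟩,⟨4331,[(110,false)],[(5,false),(6,false),(4,false),(3,false),(2,true),(5,false),(4,false),(6,false)]⟩])))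
 (.fork (.one (.path 12 [⟨994,[],[(3,false),(2,true),(5,false),(4,false),(5,false),(4,false),(6,false),(4,false),(2,true)]⟩,⟨625,[(204,false),(158,false),(204,false)],[(1,false),(6,false),(4,false),(2,true),(5,false),(2,false),(4,false)]⟩,⟨1980,[(110,true)],[(0,false),(1,false),(5,false),(4,false),(5,false),(2,false),(6,false),(4,false),(1,false),(5,false)]⟩]))
 (.one .base)))
 (.fork (.fork (.one (.path 5 [⟨246,[(204,true),(172,false),(158,false),(172,false),(158,false)],[(4,false),(2,true),(5,false),(4,false),(1,false),(5,false),(6,false),(4,false),(5,false)]⟩,⟨394,[(172,false),(158,false),(204,false)],[(0,false),(4,false),(6,false),(4,false),(2,true),(5,false),(4,false),(1,false),(4,false),(1,false),(6,false)]⟩,⟨977,[(121,true),(121,true)],[(3,false),(4,false),(2,true),(5,false),(2,false),(4,false),(5,false),(4,false),(2,true),(5,false)]⟩]))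
 (.one .base))
 (.fork (.one (.path 0 [⟨1917,[],[(6,false)]⟩,⟨2110,[(110,false),(109,false)],[(5,false),(2,false),(4,false),(1,false),(5,false),(6,false),(4,false),(2,true),(5,false),(2,true)]⟩]))
 (.one .base))))
 (.fork (.fork (.fork (.one (.path 0 [⟨428,[(114,true),(163,true)],[(4,false),(5,false),(2,false),(4,false),(5,false),(6,false),(2,true),(5,false)]⟩,⟨243,[],[(1,false),(2,false),(4,false),(1,false),(5,false),(4,false),(6,false),(2,true),(5,false),(2,false)]⟩]))
 (.one .base))
 (.fork (.one (.path 2 [⟨728,[(110,true),(109,false)],[(0,false),(4,false),(5,false),(4,false),(2,true),(5,false),(2,false),(4,false),(5,false),(6,false)]⟩,⟨283,[(64,true),(63,false)],[(3,false),(4,false),(5,false),(4,false),(1,false),(4,false),(6,false),(4,false),(5,false)]⟩,⟨1755,[(114,true),(163,false),(113,false)],[(3,false),(6,false),(4,false),(1,false),(4,false),(2,true),(5,false),(2,false),(4,false)]⟩]))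
 (.one .base)))
 (.fork (.fork (.one (.path 2 [⟨1399,[(114,false),(163,true),(114,true)],[(1,false),(4,false),(5,false),(4,false),(5,false),(6,false),(2,true)]⟩,⟨1354,[(110,true)],[(2,false),(6,false),(4,false),(1,false),(5,false),(2,true)]⟩,⟨655,[(114,true),(163,false)],[(5,false),(4,false),(1,false),(5,false),(2,false),(4,false),(6,false)]⟩]))
 (.one .base))
 (.fork (.one (.path 0 [⟨3078,[],[(0,false),(4,false),(6,false),(4,false),(5,false),(2,true),(5,false),(4,false),(5,false),(6,false)]⟩,⟨3227,[],[(0,false),(4,false),(1,false),(5,false),(2,false),(4,false),(6,false),(4,false),(1,false),(5,false)]⟩]))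
 (.one .base)))))
 (.fork (.fork (.fork (.fork (.one (.path 5 [⟨252,[(204,false),(158,false),(172,false)],[(4,false),(1,false),(4,false),(6,false),(4,false),(2,true),(5,false),(2,false),(4,false),(5,false)]⟩,⟨215,[(163,false),(114,false),(163,true)],[(0,false),(2,false),(5,false),(4,false),(6,false),(4,false),(5,false),(2,true)]⟩,⟨370,[(204,true),(172,false),(158,false),(204,true)],[(0,false),(4,false),(1,false),(4,false),(6,false),(4,false),(1,false),(4,false),(6,false),(2,true)]⟩]))
 (.one .base))
 (.fork (.one (.path 7 [⟨1157,[],[(0,false),(2,false),(5,false),(2,false),(4,false)]⟩,⟨1847,[(109,false)],[(0,false),(2,false),(4,false),(1,false),(5,false),(6,false),(4,false),(2,true),(5,false),(2,false),(4,false)]⟩,⟨2351,[(110,true),(109,false)],[(4,false),(1,false),(5,false),(2,false),(4,false),(5,false),(4,false),(2,true),(5,false),(2,true)]⟩]))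
 (.one .base)))
 (.fork (.fork (.one (.path 13 [⟨1238,[],[(2,false),(4,false),(5,false),(4,false),(1,false),(4,false),(6,false),(2,true),(5,false)]⟩,⟨390,[(113,false)],[(0,false),(5,false),(4,false),(6,false),(4,false),(5,false),(4,false),(5,false),(2,true),(5,false)]⟩,⟨859,[(137,true),(121,true),(137,true),(121,true)],[(0,false),(6,false),(4,false),(1,false),(4,false),(1,false),(6,false),(4,false),(2,true)]⟩]))
 (.one .base))
 (.fork (.one (.path 0 [⟨558,[],[(0,false),(5,false),(4,false),(5,false),(2,false),(6,false),(4,false),(5,false),(4,false)]⟩,⟨683,[],[(3,false),(5,false),(6,false),(2,true),(5,false),(4,false),(1,false),(5,false),(6,false),(2,true)]⟩]))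
 (.one .base))))
 (.fork (.fork (.fork (.one (.path 5 [⟨290,[(204,true),(172,false),(158,false),(204,false),(158,false)],[(3,false),(5,false),(2,false),(6,false),(4,false),(1,false),(5,false),(4,false),(5,false)]⟩,⟨334,[(163,true),(114,false),(113,false)],[(1,false),(5,false),(2,false),(6,false),(4,false),(5,false),(4,false),(1,false),(5,false),(6,false)]⟩,⟨819,[(83,true),(100,false),(57,false),(55,false)],[(2,false),(3,false),(4,false),(5,false),(4,false),(2,true),(5,false),(4,false),(5,false)]⟩]))
 (.one .base))
 (.fork (.one (.path 0 [⟨2518,[(109,false)],[(5,false),(4,false),(1,false),(6,false),(4,false),(5,false),(4,false),(5,false)]⟩,⟨827,[],[(0,false),(1,false),(5,false),(4,false),(6,false),(4,false),(1,false),(5,false),(4,false),(1,false),(4,false)]⟩]))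
 (.one .base)))
 (.fork (.fork (.one (.path 1 [⟨1768,[(110,true)],[(4,false),(3,false),(2,true),(5,false),(4,false),(1,false),(6,false),(4,false),(5,false),(4,false)]⟩,⟨1381,[],[(4,false),(5,false),(2,false),(4,false),(5,false),(6,false),(4,false),(2,true),(5,false),(4,false),(2,true)]⟩]))
 (.one .base))
 (.fork (.one (.path 2 [⟨4061,[(3911,true),(3912,true),(3911,true)],[(5,false),(4,false),(1,false),(3,false),(5,false),(4,false)]⟩,⟨3946,[],[(4,false),(1,false),(2,true),(5,false),(4,false),(1,false),(5,false),(2,false),(6,false),(4,false),(5,false)]⟩,⟨3195,[(110,false),(109,false)],[(4,false),(5,false),(4,false),(6,false),(2,true),(5,false),(4,false),(1,false),(6,false)]⟩]))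
 (.one .base)))))))

/-- a part of the justifications -/
noncomputable def twJustT73 : BT Just := (.fork (.fork (.fork (.fork (.fork (.fork (.one (.ubase [(0,false)]))
 (.one (.path 1 [⟨4077,[],[(5,false)]⟩,⟨1348,[(110,true),(109,false)],[(1,false),(2,false),(6,false),(4,false),(5,false),(2,true),(5,false),(4,false),(5,false),(4,false)]⟩])))
 (.fork (.one (.path 3 [⟨2048,[(109,false)],[(1,false),(6,false),(4,false),(1,false),(5,false),(4,false),(1,false),(2,true)]⟩,⟨266,[(163,false),(114,false),(113,false)],[(0,false),(5,false),(6,false),(4,false),(2,true),(5,false),(4,false),(5,false),(2,false),(5,false)]⟩,⟨1013,[(83,true)],[(5,false),(2,false),(5,false),(4,false),(6,false),(4,false),(1,false),(4,false),(5,false),(6,false)]⟩]))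
 (.one .base)))
 (.fork (.fork (.one (.path 10 [⟨434,[],[(5,false),(2,false),(4,false),(5,false),(4,false),(1,false),(5,false),(2,false),(6,false)]⟩,⟨336,[(132,false),(121,false),(132,false)],[(4,false),(5,false),(4,false),(1,false),(5,false),(6,false),(4,false),(1,false),(4,false),(2,true)]⟩,⟨725,[(63,true),(191,true),(63,false)],[(1,false),(2,false),(6,false),(4,false),(3,false),(5,false),(4,false),(1,false)]⟩]))
 (.one .base))
 (.fork (.one (.path 0 [⟨960,[(110,false),(109,false)],[(6,false),(4,false),(5,false),(2,false),(4,false),(1,false),(4,false),(1,false),(6,false),(4,false)]⟩,⟨943,[],[(0,false),(2,false),(4,false),(6,false),(4,false),(5,false),(2,false),(4,false),(1,false),(5,false)]⟩]))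
 (.one .base))))
 (.fork (.fork (.fork (.one (.path 7 [⟨249,[(114,true),(163,false)],[(0,false),(2,false),(3,false),(5,false),(2,true)]⟩,⟨310,[],[(0,false),(2,false),(4,false),(1,false),(6,false),(4,false),(1,false),(5,false),(4,false)]⟩,⟨513,[(63,false),(191,true),(64,true)],[(0,false),(4,false),(5,false),(2,false),(5,false),(4,false),(6,false),(4,false),(5,false),(2,true)]⟩]))
 (.one .base))
 (.fork (.one (.path 0 [⟨1444,[],[(4,false),(1,false),(4,false),(5,false),(2,false),(4,false),(1,false),(4,false)]⟩,⟨1291,[],[(2,false),(3,false),(4,false),(5,false),(2,false),(4,false),(5,false),(4,false),(2,true),(5,false),(4,false)]⟩]))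
 (.one .base)))
 (.fork (.fork (.one (.path 0 [⟨953,[],[(0,false),(1,false),(5,false),(6,false),(2,true)]⟩,⟨1341,[(110,false)],[(2,false),(3,false),(4,false),(5,false),(4,false)]⟩]))
 (.one .base))
 (.fork (.one (.path 1 [⟨2075,[],[(0,false),(6,false),(2,true),(5,false),(2,false)]⟩,⟨3335,[(109,false)],[(1,false),(4,false),(6,false),(4,false),(1,false),(4,false),(1,false),(2,true)]⟩]))
 (.one .base)))))
 (.fork (.fork (.fork (.fork (.one (.path 6 [⟨159,[(57,false),(100,false),(56,false)],[(6,false),(4,false),(1,false),(3,false),(5,false),(2,false),(4,false),(5,false),(6,false),(2,true)]⟩,⟨245,[(204,true),(158,false)],[(3,false),(4,false),(1,false),(4,false),(2,true),(5,false),(4,false),(2,true),(5,false),(2,false)]⟩,⟨190,[(204,false),(158,false),(204,true)],[(6,false),(4,false),(1,false),(3,false),(5,false),(4,false),(5,false),(6,false),(2,true)]⟩]))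
 (.one .base))
 (.fork (.one (.path 1 [⟨1882,[(110,false)],[(1,false),(2,false),(5,false),(6,false),(4,false),(1,false),(4,false),(6,false),(2,true),(5,false),(2,true)]⟩,⟨1763,[],[(1,false),(4,false),(2,true),(5,false),(4,false),(2,true),(5,false),(4,false),(1,false),(4,false)]⟩]))
 (.one .base)))
 (.fork (.fork (.one (.path 1 [⟨290,[(204,true),(172,false),(158,false),(204,false),(158,false)],[(2,false),(4,false),(1,false),(4,false),(6,false),(4,false),(5,false),(4,false),(5,false)]⟩,⟨953,[],[(1,false),(4,false),(5,false),(2,false),(5,false),(4,false),(5,false),(2,false)]⟩]))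
 (.one .base))
 (.fork (.one (.path 1 [⟨2584,[(109,false)],[(0,false),(1,false),(6,false),(4,false),(2,true),(5,false),(4,false),(5,false),(2,false),(5,false)]⟩,⟨2416,[],[(2,false),(3,false),(6,false),(4,false),(5,false),(2,false),(4,false),(5,false),(2,false),(4,false)]⟩]))
 (.one .base))))
 (.fork (.fork (.fork (.one (.path 13 [⟨661,[],[(3,false),(2,true),(5,false),(2,false),(4,false),(5,false),(2,false),(4,false),(1,false),(4,false)]⟩,⟨472,[(110,false),(109,false)],[(0,false),(1,false),(2,false)]⟩,⟨519,[(114,false),(163,false),(113,false)],[(1,false),(4,false),(5,false),(4,false),(6,false),(4,false),(1,false),(2,true),(5,false)]⟩]))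
 (.one .base))
 (.fork (.one (.path 0 [⟨1643,[],[(6,false)]⟩,⟨2545,[],[(0,false),(4,false),(2,true),(5,false),(4,false),(2,true),(5,false)]⟩]))
 (.one .base)))
 (.fork (.fork (.one (.path 0 [⟨883,[],[(2,true)]⟩,⟨1749,[(163,false),(114,true),(163,true),(114,false)],[(0,false),(4,false),(1,false),(4,false),(6,false),(2,true),(5,false),(4,false),(1,false),(4,false),(6,false)]⟩]))
 (.one .base))
 (.fork (.one (.path 0 [⟨174,[(109,false)],[(1,false),(6,false),(4,false),(1,false),(5,false),(4,false),(5,false),(6,false),(4,false),(5,false),(2,true)]⟩,⟨3829,[(64,true),(191,true),(72,true),(64,true)],[(2,false),(3,false),(4,false),(6,false),(4,false),(5,false),(4,false),(2,true),(5,false),(4,false)]⟩]))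
 (.one .base))))))
 (.fork (.fork (.fork (.fork (.fork (.one (.lift 4 (wOf 18 0x12832341232343121) ⟨133,[(65,false),(72,true)],[]⟩ ⟨133,[(72,true),(65,true),(72,true)],[(0,false),(1,false),(2,false),(4,false),(1,false),(6,false)]⟩))
 (.one (.path 0 [⟨1989,[],[(4,false),(2,true)]⟩,⟨3999,[(110,true)],[(4,false),(1,false),(3,false),(4,false),(5,false),(6,false),(2,true),(5,false),(4,false),(1,false),(4,false),(5,false)]⟩])))
 (.fork (.one (.path 0 [⟨434,[],[(4,false),(1,false),(4,false),(5,false),(2,false),(4,false),(1,false),(5,false),(4,false),(2,true)]⟩,⟨351,[],[(6,false),(2,true),(5,false),(4,false),(5,false),(2,false),(4,false),(5,false),(6,false)]⟩]))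
 (.one .base)))
 (.fork (.fork (.one (.path 3 [⟨311,[],[(2,false),(5,false),(6,false),(4,false),(3,false),(2,true)]⟩,⟨330,[(83,true),(54,false)],[(0,false),(4,false),(1,false),(6,false),(2,true),(5,false),(4,false),(5,false),(4,false)]⟩,⟨717,[(83,false),(56,false),(55,false),(54,false)],[(5,false),(2,false),(4,false),(6,false),(4,false),(1,false),(5,false),(4,false)]⟩]))
 (.one .base))
 (.fork (.one (.path 1 [⟨2275,[],[(1,false),(2,false),(4,false)]⟩,⟨2769,[(110,true),(109,false)],[(0,false),(4,false),(5,false),(2,false),(6,false),(4,false),(1,false),(5,false),(4,false),(2,true)]⟩]))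
 (.one .base))))
 (.fork (.fork (.fork (.one (.path 7 [⟨129,[(114,false),(163,false),(114,true)],[(1,false),(2,false),(5,false),(6,false),(4,false),(5,false),(2,false),(4,false),(1,false),(6,false)]⟩,⟨192,[(55,false)],[(1,false),(2,false),(3,false),(4,false),(6,false),(4,false),(1,false),(5,false),(4,false),(1,false),(2,true)]⟩,⟨275,[(158,false),(204,true),(158,false),(204,true),(172,false)],[(1,false),(2,false),(3,false),(6,false),(4,false),(5,false),(4,false),(1,false),(6,false),(2,true)]⟩]))
 (.one .base))
 (.fork (.one (.path 2 [⟨2293,[],[(1,false),(5,false),(6,false)]⟩,⟨1711,[(109,false)],[(0,false),(4,false),(1,false),(6,false),(2,true),(5,false),(4,false),(5,false)]⟩,⟨875,[(137,true),(121,false),(137,true),(121,false)],[(6,false),(4,false),(1,false),(2,true),(5,false),(4,false),(5,false),(4,false),(2,true),(5,false)]⟩]))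
 (.one .base)))
 (.fork (.fork (.one (.path 0 [⟨1204,[],[(2,false),(4,false),(1,false),(5,false),(4,false),(2,true),(5,false),(2,false),(4,false),(5,false)]⟩,⟨1367,[],[(5,false),(2,false),(4,false),(3,false),(5,false),(4,false),(1,false),(4,false),(5,false)]⟩]))
 (.one .base))
 (.fork (.one (.path 1 [⟨3597,[],[]⟩,⟨2496,[],[(3,false),(4,false),(2,true),(5,false),(4,false),(6,false),(2,true),(5,false),(2,true)]⟩]))
 (.one .base)))))
 (.fork (.fork (.fork (.fork (.one (.path 1 [⟨389,[],[(0,false),(2,false),(6,false)]⟩,⟨341,[(163,false),(114,true),(163,true)],[(1,false),(4,false),(1,false),(3,false),(5,false),(4,false),(5,false),(6,false),(4,false)]⟩]))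
 (.one .base))
 (.fork (.one (.path 2 [⟨2015,[(110,true),(109,false)],[(0,false),(2,false),(4,false),(1,false),(5,false),(4,false),(6,false),(2,true),(5,false),(4,false)]⟩,⟨417,[(110,false)],[(0,false),(2,false),(5,false),(2,false),(4,false),(5,false),(2,false),(6,false),(4,false),(1,false),(5,false)]⟩,⟨1569,[(163,true),(114,true),(163,false),(114,false),(113,false)],[(5,false),(2,true),(5,false),(4,false),(1,false),(6,false),(4,false),(1,false),(4,false)]⟩]))
 (.one .base)))
 (.fork (.fork (.one (.path 3 [⟨435,[(137,true),(121,true),(132,true)],[(4,false),(5,false),(4,false),(1,false),(4,false),(6,false),(4,false),(2,true),(5,false)]⟩,⟨935,[(163,true)],[(6,false),(4,false),(1,false),(4,false),(6,false),(2,true)]⟩,⟨1150,[(110,false),(109,false)],[(1,false),(4,false),(2,true),(5,false),(4,false),(2,true),(5,false)]⟩]))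
 (.one .base))
 (.fork (.one (.path 1 [⟨3287,[],[(2,false)]⟩,⟨2461,[],[(1,false),(2,false),(4,false),(5,false),(4,false),(1,false),(5,false)]⟩]))
 (.one .base))))
 (.fork (.fork (.fork (.one (.path 5 [⟨144,[(58,false),(57,false),(55,false)],[(2,false),(4,false),(5,false),(6,false),(2,true)]⟩,⟨393,[(121,true),(137,true),(132,true),(121,false)],[(2,false),(3,false),(5,false),(4,false),(6,false),(2,true),(5,false),(4,false),(6,false),(2,true)]⟩,⟨789,[(204,true),(172,false),(158,false),(204,true)],[(0,false),(5,false),(2,false),(4,false),(6,false),(4,false),(5,false),(4,false),(6,false),(2,true)]⟩]))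
 (.one .base))
 (.fork (.one (.path 1 [⟨2895,[],[(2,false)]⟩,⟨2651,[],[(6,false),(4,false),(1,false),(3,false),(5,false),(4,false),(2,true),(5,false),(2,false),(4,false)]⟩]))
 (.one .base)))
 (.fork (.fork (.one (.path 13 [⟨1212,[(110,true),(109,false)],[(0,false),(5,false),(2,false),(5,false),(6,false),(4,false),(5,false),(2,false),(4,false)]⟩,⟨670,[(163,true),(114,true),(163,false),(114,false),(113,false)],[(1,false),(2,false),(4,false),(3,false),(5,false),(2,true),(5,false),(4,false),(1,false),(5,false),(6,false)]⟩,⟨1411,[(121,false),(137,false),(132,false),(121,false)],[(2,false),(4,false),(5,false),(4,false),(5,false),(6,false),(4,false),(5,false),(4,false)]⟩]))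
 (.one .base))
 (.fork (.one (.path 5 [⟨3667,[],[(1,false),(2,false),(5,false),(6,false)]⟩,⟨3037,[(110,false)],[(5,false),(4,false),(6,false),(2,true),(5,false),(2,false),(4,false),(1,false)]⟩,⟨3859,[(110,true),(109,false)],[(0,false),(4,false),(1,false),(6,false),(4,false),(1,false),(4,false),(5,false),(4,false),(1,false)]⟩]))
 (.one .base)))))))

/-- a part of the justifications -/
noncomputable def twJustT74 : BT Just := (.fork (.fork (.fork (.fork (.fork (.fork (.one (.path 1 [⟨67,[],[(1,false),(5,false),(4,false),(6,false),(4,false),(5,false),(4,false),(1,false),(5,false)]⟩,⟨66,[(28,false)],[(1,false),(4,false),(1,false),(5,false),(2,false),(6,false),(4,false),(1,false),(4,false),(5,false)]⟩]))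
 (.one (.path 3 [⟨2913,[(110,false)],[(1,false),(4,false),(6,false),(4,false),(1,false),(4,false),(2,true),(5,false),(4,false),(5,false)]⟩,⟨3597,[(110,false)],[(0,false),(4,false),(5,false),(4,false),(6,false),(2,true),(5,false),(4,false),(1,false),(6,false)]⟩,⟨3863,[(109,false)],[(4,false),(6,false),(2,true),(5,false),(4,false),(1,false),(5,false),(2,false)]⟩])))
 (.fork (.one (.path 1 [⟨728,[(110,true),(109,false)],[(0,false),(5,false),(2,false),(6,false),(4,false),(1,false),(4,false),(5,false),(6,false),(4,false)]⟩,⟨569,[],[(0,false),(2,true),(5,false),(2,false),(4,false),(1,false),(6,false),(4,false),(1,false),(4,false),(6,false)]⟩]))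
 (.one .base)))
 (.fork (.fork (.one (.path 5 [⟨362,[(158,false)],[(4,false),(5,false),(2,false),(5,false),(6,false),(4,false),(1,false),(4,false)]⟩,⟨335,[(191,false),(191,false)],[(5,false),(2,true),(5,false),(4,false),(1,false),(3,false),(6,false)]⟩,⟨605,[(137,false),(121,false),(137,true),(121,false)],[(0,false),(4,false),(2,true),(5,false),(4,false),(2,true),(5,false),(2,false),(4,false),(5,false),(2,true)]⟩]))
 (.one .base))
 (.fork (.one (.path 0 [⟨2142,[(109,false)],[(1,false),(3,false),(6,false),(4,false),(1,false),(2,true)]⟩,⟨2584,[(109,false)],[(6,false),(4,false),(3,false),(2,true),(5,false),(2,true)]⟩]))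
 (.one .base))))
 (.fork (.fork (.fork (.one (.path 1 [⟨379,[],[(2,false),(5,false),(2,true)]⟩,⟨576,[],[(0,false),(1,false),(2,false),(6,false),(4,false),(5,false),(4,false),(6,false),(2,true),(5,false)]⟩]))
 (.one .base))
 (.fork (.one (.path 12 [⟨2453,[(110,true)],[(2,false),(5,false),(4,false),(1,false),(3,false),(5,false)]⟩,⟨1991,[(110,false),(109,false)],[(1,false),(2,false),(4,false),(1,false),(3,false),(5,false),(4,false),(5,false)]⟩,⟨2176,[(109,false)],[(0,false),(2,false),(6,false),(4,false),(5,false),(4,false)]⟩]))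
 (.one .base)))
 (.fork (.fork (.one (.path 2 [⟨617,[(204,true)],[(0,false),(4,false),(1,false),(4,false),(6,false),(4,false),(5,false),(2,false),(4,false)]⟩,⟨1424,[(163,false),(113,false)],[(0,false),(4,false),(1,false),(5,false),(6,false),(4,false),(5,false),(2,false)]⟩,⟨763,[(132,false),(121,false),(121,false)],[(1,false),(4,false),(3,false),(6,false),(4,false),(5,false),(4,false),(2,true),(5,false),(2,false)]⟩]))
 (.one .base))
 (.fork (.one (.path 0 [⟨2790,[(110,true),(109,false)],[(2,true),(5,false),(4,false),(3,false),(2,true),(5,false),(4,false),(6,false)]⟩,⟨2453,[],[(0,false),(2,false),(5,false),(6,false),(4,false),(1,false),(5,false),(4,false),(6,false)]⟩]))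
 (.one .base)))))
 (.fork (.fork (.fork (.fork (.one (.path 6 [⟨312,[(83,true),(56,false)],[(3,false),(6,false),(2,true),(5,false),(2,false),(4,false),(1,false),(4,false),(6,false)]⟩,⟨208,[],[(4,false),(1,false),(3,false),(5,false),(4,false),(5,false),(2,true),(5,false)]⟩,⟨266,[(114,false),(163,false),(114,false),(113,false)],[(0,false),(1,false),(4,false),(5,false),(2,false),(6,false),(4,false),(1,false),(4,false)]⟩]))
 (.one .base))
 (.fork (.one (.path 5 [⟨575,[(110,true)],[(3,false),(6,false),(2,true),(5,false),(4,false),(5,false),(6,false),(2,true)]⟩,⟨1080,[],[(2,false),(4,false),(1,false),(3,false),(5,false),(4,false),(6,false),(4,false)]⟩,⟨861,[(137,false)],[(1,false),(4,false),(6,false),(4,false),(1,false),(2,true),(5,false),(4,false),(5,false),(2,false)]⟩]))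
 (.one .base)))
 (.fork (.fork (.one (.path 2 [⟨334,[(114,false),(113,false)],[(3,false),(5,false),(2,false),(4,false),(6,false),(4,false),(5,false),(2,false),(4,false)]⟩,⟨817,[(58,false),(57,false),(55,false)],[(1,false),(2,false),(4,false),(3,false),(5,false),(4,false),(2,true),(5,false),(2,true)]⟩,⟨924,[(110,true)],[(1,false),(6,false),(2,true),(5,false),(2,false),(4,false)]⟩]))
 (.one .base))
 (.fork (.one (.path 0 [⟨514,[],[(1,false),(4,false),(1,false),(3,false),(4,false),(6,false),(4,false)]⟩,⟨513,[(64,true),(191,false),(65,false),(63,false)],[(1,false),(5,false),(4,false),(2,true),(5,false),(2,false),(4,false),(5,false),(2,false),(4,false),(6,false)]⟩]))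
 (.one .base))))
 (.fork (.fork (.fork (.one (.path 0 [⟨189,[],[(2,true),(5,false)]⟩,⟨787,[(158,false),(204,true),(158,false),(172,false),(158,false)],[(3,false),(4,false),(5,false),(4,false),(1,false),(5,false),(6,false),(4,false),(1,false)]⟩]))
 (.one .base))
 (.fork (.one (.path 4 [⟨1321,[],[(0,false),(3,false),(2,true)]⟩,⟨2514,[(110,false)],[(2,false),(4,false),(5,false),(4,false),(6,false),(2,true),(5,false),(2,false),(4,false),(5,false)]⟩,⟨2593,[],[(2,true),(5,false),(4,false),(1,false),(3,false),(2,true)]⟩]))
 (.one .base)))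
 (.fork (.fork (.one (.path 1 [⟨1194,[],[(0,false),(4,false),(1,false),(4,false),(5,false),(6,false),(4,false),(2,true),(5,false),(2,false)]⟩,⟨1395,[],[(0,false),(1,false),(6,false),(4,false),(5,false),(4,false),(5,false)]⟩]))
 (.one .base))
 (.fork (.one (.path 1 [⟨1137,[],[(2,false),(6,false)]⟩,⟨3871,[(110,true),(109,false)],[(3,false),(5,false),(2,true),(5,false),(4,false),(1,false),(5,false),(6,false),(4,false)]⟩]))
 (.one .base))))))
 (.fork (.fork (.fork (.fork (.fork (.one (.rev 200))
 (.one (.path 0 [⟨4238,[(3912,true),(3911,true),(3912,false),(3911,false),(3911,false)],[(0,false),(6,false),(2,true),(5,false),(4,false),(1,false),(4,false),(1,false),(6,false),(4,false)]⟩,⟨4193,[],[(5,false),(4,false),(1,false),(4,false),(1,false),(2,true)]⟩])))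
 (.fork (.one (.path 9 [⟨1412,[(110,true)],[(0,false),(1,false),(2,false),(6,false),(4,false),(5,false),(4,false),(5,false),(2,false)]⟩,⟨1247,[],[(1,false),(5,false),(6,false),(4,false),(2,true),(5,false),(4,false),(5,false),(2,true),(5,false)]⟩,⟨2178,[(110,false)],[(1,false),(4,false),(3,false),(5,false),(6,false),(2,true)]⟩]))
 (.one .base)))
 (.fork (.fork (.one (.path 2 [⟨125,[(114,true)],[(2,false),(4,false),(3,false),(6,false),(4,false),(5,false)]⟩,⟨265,[(56,false),(83,false),(58,false),(54,false)],[(0,false),(5,false),(4,false),(1,false),(5,false),(2,false),(4,false),(6,false)]⟩,⟨531,[(163,false),(114,true),(163,true),(114,false),(113,false)],[(0,false),(5,false),(4,false),(6,false),(4,false),(5,false),(2,false),(4,false),(1,false),(5,false)]⟩]))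
 (.one .base))
 (.fork (.one (.path 0 [⟨2039,[],[(1,false),(5,false),(2,false)]⟩,⟨2544,[],[(2,false),(5,false),(2,false),(6,false),(4,false),(1,false),(4,false),(1,false),(5,false),(6,false),(2,true)]⟩]))
 (.one .base))))
 (.fork (.fork (.fork (.one (.path 1 [⟨216,[(204,true),(158,false)],[(6,false),(4,false),(1,false),(3,false),(5,false),(4,false),(5,false),(6,false),(2,true)]⟩,⟨317,[],[(2,false),(6,false),(4,false),(5,false),(4,false),(1,false),(6,false),(2,true)]⟩]))
 (.one .base))
 (.fork (.one (.path 1 [⟨766,[],[(2,false),(5,false),(4,false),(5,false),(4,false),(6,false),(4,false),(5,false),(2,false)]⟩,⟨665,[],[(6,false),(4,false),(1,false),(4,false),(5,false),(2,false),(4,false),(5,false),(2,true)]⟩]))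
 (.one .base)))
 (.fork (.fork (.one (.path 2 [⟨759,[],[(0,false)]⟩,⟨427,[],[(0,false),(1,false),(4,false),(5,false),(2,false),(5,false),(6,false)]⟩,⟨1549,[(114,true),(163,false),(114,true),(113,false)],[(2,true),(5,false),(2,false),(4,false),(5,false),(6,false),(4,false),(1,false)]⟩]))
 (.one .base))
 (.fork (.one (.path 0 [⟨1683,[],[(3,false),(2,true)]⟩,⟨815,[(58,false),(100,false)],[(5,false),(2,true),(5,false),(4,false),(1,false),(3,false),(5,false)]⟩]))
 (.one .base)))))
 (.fork (.fork (.fork (.fork (.one (.path 13 [⟨177,[],[(5,false),(4,false),(3,false),(2,true),(5,false),(2,false),(4,false),(1,false),(4,false)]⟩,⟨447,[(204,true),(172,false),(158,false),(204,false)],[(0,false),(1,false),(6,false),(4,false),(2,true),(5,false),(2,false),(4,false),(1,false),(6,false)]⟩,⟨376,[(110,false)],[(5,false),(4,false),(1,false),(5,false),(2,false),(4,false),(5,false),(4,false),(6,false)]⟩]))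
 (.one .base))
 (.fork (.one (.path 7 [⟨2258,[(110,false)],[(3,false),(4,false),(5,false),(4,false),(1,false),(5,false)]⟩,⟨2127,[(109,false)],[(4,false),(6,false),(4,false),(5,false),(4,false),(1,false),(6,false),(4,false),(5,false),(2,false)]⟩,⟨2493,[(109,false)],[(4,false),(6,false),(2,true),(5,false),(4,false),(1,false),(4,false),(2,true),(5,false),(4,false)]⟩]))
 (.one .base)))
 (.fork (.fork (.one (.path 3 [⟨726,[],[(4,false),(1,false),(4,false),(6,false),(2,true),(5,false),(2,false),(4,false),(6,false)]⟩,⟨363,[(64,false),(191,true),(65,true),(64,false)],[(4,false),(1,false),(5,false),(2,false),(4,false),(5,false),(2,false),(4,false),(1,false)]⟩,⟨1289,[(204,false),(158,false),(204,false),(158,false)],[(0,false),(2,true),(5,false),(4,false),(1,false),(6,false),(2,true),(5,false),(4,false),(1,false),(5,false)]⟩]))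
 (.one .base))
 (.fork (.one (.path 1 [⟨3319,[],[(0,false),(5,false)]⟩,⟨3176,[(110,false),(109,false)],[(0,false),(4,false),(1,false),(5,false),(2,false),(4,false),(5,false),(6,false),(2,true)]⟩]))
 (.one .base))))
 (.fork (.fork (.fork (.one (.path 7 [⟨181,[(121,true),(137,true)],[(1,false),(5,false),(4,false),(5,false),(4,false),(2,true),(5,false),(2,false),(4,false),(1,false)]⟩,⟨246,[(204,true),(158,false),(204,true),(158,false)],[(0,false),(2,true),(5,false),(2,false),(4,false),(5,false),(6,false),(4,false),(1,false),(4,false),(1,false)]⟩,⟨912,[(204,false),(158,false),(204,false),(158,false),(204,false),(158,false)],[(0,false),(2,false),(4,false),(5,false),(6,false),(4,false),(5,false),(4,false),(6,false),(2,true),(5,false)]⟩]))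
 (.one .base))
 (.fork (.one (.path 1 [⟨2376,[],[(1,false),(4,false),(6,false),(4,false),(1,false),(2,true),(5,false),(4,false),(5,false),(6,false)]⟩,⟨2466,[],[(3,false),(5,false),(4,false),(6,false),(2,true),(5,false),(4,false),(5,false),(2,true)]⟩]))
 (.one .base)))
 (.fork (.fork (.one (.path 4 [⟨1220,[(110,true)],[(5,false),(4,false),(1,false),(3,false),(5,false),(6,false),(2,true)]⟩,⟨1741,[(114,false),(163,true),(113,false)],[(1,false),(4,false),(5,false),(4,false),(5,false),(2,false),(5,false),(6,false),(4,false)]⟩,⟨830,[(110,false)],[(4,false),(1,false),(6,false),(2,true),(5,false),(4,false),(5,false),(2,false),(5,false)]⟩]))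
 (.one .base))
 (.fork (.one (.path 0 [⟨252,[(204,true),(172,false)],[(1,false),(5,false),(6,false),(4,false),(1,false),(2,true),(5,false),(4,false),(5,false),(6,false),(2,true)]⟩,⟨4023,[(114,true),(163,false)],[(3,false),(5,false),(2,false),(5,false),(4,false),(5,false),(6,false),(2,true)]⟩]))
 (.one .base)))))))

/-- a part of the justifications -/
noncomputable def twJustT75 : BT Just := (.fork (.fork (.fork (.fork (.fork (.fork (.one (.path 13 [⟨19,[],[(4,false),(3,false),(5,false),(2,false),(4,false),(1,false),(4,false)]⟩,⟨32,[(11,false),(10,false)],[(1,false),(5,false),(2,false),(6,false),(4,false),(3,false),(5,false),(4,false),(1,false),(6,false)]⟩,⟨31,[(28,true)],[(4,false),(3,false),(2,true),(5,false),(4,false),(1,false),(4,false),(2,true),(5,false),(4,false)]⟩]))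
 (.one (.path 0 [⟨3930,[(3912,false),(3911,true)],[(2,false),(4,false),(1,false),(5,false),(4,false),(6,false),(4,false),(1,false),(5,false),(2,true)]⟩,⟨2633,[],[(2,false),(3,false),(5,false),(6,false),(4,false),(2,true),(5,false),(4,false),(1,false),(4,false)]⟩])))
 (.fork (.one (.path 3 [⟨1726,[(110,false),(109,false)],[(0,false),(2,false),(4,false),(6,false),(4,false),(5,false),(4,false),(1,false),(4,false),(2,true)]⟩,⟨1575,[(114,false),(163,false),(114,true)],[(1,false),(4,false),(1,false),(6,false),(4,false),(1,false),(5,false),(4,false),(5,false)]⟩,⟨1926,[(110,true),(109,false)],[(0,false),(1,false),(4,false),(1,false),(6,false),(4,false),(1,false),(5,false),(4,false),(1,false)]⟩]))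
 (.one .base)))
 (.fork (.fork (.one (.path 0 [⟨618,[(114,true),(163,true),(113,false)],[(4,false),(1,false),(4,false),(2,true),(5,false),(2,false),(4,false),(1,false),(5,false),(2,true)]⟩,⟨685,[],[(3,false),(5,false),(2,false),(4,false),(1,false),(4,false),(5,false)]⟩]))
 (.one .base))
 (.fork (.one (.path 2 [⟨1590,[(110,false)],[(0,false),(4,false),(5,false),(2,false),(6,false),(4,false),(5,false),(2,false),(4,false),(1,false)]⟩,⟨578,[(114,false),(163,false)],[(4,false),(1,false),(5,false),(4,false),(6,false),(2,true),(5,false),(2,false)]⟩,⟨826,[(109,false)],[(1,false),(2,false),(4,false),(5,false),(6,false),(4,false),(1,false),(4,false),(6,false)]⟩]))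
 (.one .base))))
 (.fork (.fork (.fork (.one (.path 9 [⟨255,[],[(3,false),(2,true),(5,false),(2,true)]⟩,⟨406,[(163,false),(114,true),(163,true),(114,false)],[(0,false),(5,false),(4,false),(1,false),(4,false),(6,false),(4,false),(1,false),(5,false)]⟩,⟨547,[(158,false),(204,false),(158,false),(204,true)],[(0,false),(2,false),(5,false),(2,false),(4,false),(1,false),(5,false),(6,false),(2,true)]⟩]))
 (.one .base))
 (.fork (.one (.path 3 [⟨1479,[(110,false),(109,false)],[(2,false),(3,false),(4,false),(5,false),(6,false),(4,false),(2,true)]⟩,⟨1927,[(110,true),(109,false)],[(0,false),(1,false),(2,false),(6,false),(4,false),(5,false),(4,false),(6,false),(2,true),(5,false),(4,false)]⟩,⟨2094,[(110,false),(109,false)],[(1,false),(2,false),(6,false),(4,false),(5,false),(4,false),(1,false),(6,false),(4,false),(5,false),(4,false)]⟩]))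
 (.one .base)))
 (.fork (.fork (.one (.path 0 [⟨672,[(163,true),(114,true),(163,false),(114,false)],[(1,false),(4,false),(6,false),(4,false),(5,false),(2,true),(5,false),(4,false),(1,false),(4,false)]⟩,⟨1093,[],[(0,false),(4,false),(6,false),(2,true),(5,false),(2,false),(4,false),(1,false),(4,false)]⟩]))
 (.one .base))
 (.fork (.one (.path 0 [⟨2521,[],[(1,false),(5,false),(2,false)]⟩,⟨2713,[(109,false)],[(3,false),(4,false),(1,false),(4,false),(5,false),(2,true),(5,false),(4,false),(5,false),(4,false)]⟩]))
 (.one .base)))))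
 (.fork (.fork (.fork (.fork (.one (.path 4 [⟨166,[(137,true),(121,false),(132,false)],[(2,false),(4,false),(5,false),(4,false),(1,false),(4,false),(5,false),(2,false),(6,false)]⟩,⟨261,[(204,false),(172,false),(158,false),(204,true)],[(0,false),(4,false),(1,false),(4,false),(5,false),(6,false),(4,false),(1,false),(2,true),(5,false)]⟩,⟨199,[(204,false)],[(3,false),(5,false),(4,false),(2,true),(5,false),(2,false),(4,false),(5,false),(4,false)]⟩]))
 (.one .base))
 (.fork (.one (.path 0 [⟨1108,[(110,true)],[(3,false),(2,true),(5,false),(4,false),(2,true),(5,false),(4,false)]⟩,⟨893,[],[(5,false),(2,true),(5,false),(4,false),(1,false),(5,false),(4,false),(1,false)]⟩]))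
 (.one .base)))
 (.fork (.fork (.one (.path 0 [⟨490,[(109,false)],[(1,false),(5,false),(2,false),(4,false),(3,false),(5,false),(2,false),(4,false),(5,false),(6,false)]⟩,⟨1087,[],[(0,false),(1,false),(5,false),(2,false),(4,false),(1,false),(5,false),(6,false)]⟩]))
 (.one .base))
 (.fork (.one (.path 0 [⟨2958,[(110,false)],[(1,false),(5,false),(2,false),(4,false),(3,false),(5,false),(2,false),(6,false),(4,false),(1,false)]⟩,⟨3172,[(110,false)],[(6,false),(4,false),(3,false),(2,true),(5,false),(4,false),(6,false),(2,true)]⟩]))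
 (.one .base))))
 (.fork (.fork (.fork (.one (.path 8 [⟨353,[(172,false),(158,false),(204,false)],[(1,false),(6,false),(4,false),(5,false),(4,false),(2,true),(5,false),(2,false),(4,false),(5,false),(4,false)]⟩,⟨335,[(64,true),(72,true),(65,true)],[(3,false),(4,false),(6,false),(4,false),(5,false),(4,false),(2,true),(5,false)]⟩,⟨675,[(121,true),(137,false),(121,false)],[(2,false),(4,false),(5,false),(2,false),(4,false),(5,false),(2,false),(6,false),(4,false),(5,false)]⟩]))
 (.one .base))
 (.fork (.one (.path 1 [⟨2710,[(109,false)],[(1,false),(4,false),(3,false),(5,false),(2,false),(4,false),(1,false)]⟩,⟨2601,[],[(2,false),(4,false),(5,false),(4,false)]⟩]))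
 (.one .base)))
 (.fork (.fork (.one (.path 1 [⟨516,[],[(2,false),(4,false),(6,false),(4,false),(5,false),(4,false),(1,false),(6,false),(2,true),(5,false)]⟩,⟨727,[],[(1,false),(3,false),(4,false),(5,false),(2,false),(4,false),(1,false),(4,false)]⟩]))
 (.one .base))
 (.fork (.one (.path 4 [⟨227,[(163,false),(114,false)],[(2,false),(6,false),(4,false),(5,false),(2,false),(4,false)]⟩,⟨801,[(204,false),(158,false),(204,false),(172,false)],[(0,false),(2,true),(5,false),(4,false),(1,false),(5,false),(2,false),(4,false),(6,false)]⟩,⟨3869,[(110,true)],[(0,false),(4,false),(6,false),(4,false),(1,false),(4,false),(5,false),(4,false),(1,false),(2,true)]⟩]))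
 (.one .base))))))
 (.fork (.fork (.fork (.fork (.fork (.one (.rev 168))
 (.one (.path 1 [⟨1528,[(110,true)],[(1,false),(3,false),(4,false),(6,false),(2,true),(5,false),(4,false),(1,false),(2,true),(5,false)]⟩,⟨3953,[],[(4,false),(5,false),(6,false),(4,false),(5,false),(4,false),(2,true),(5,false)]⟩])))
 (.fork (.one (.path 0 [⟨1544,[],[(0,false),(5,false),(2,false),(5,false),(4,false),(6,false),(4,false),(5,false),(4,false),(6,false)]⟩,⟨1537,[],[(5,false),(2,false),(5,false),(4,false),(3,false),(6,false),(4,false),(1,false),(4,false),(6,false)]⟩]))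
 (.one .base)))
 (.fork (.fork (.one (.path 6 [⟨1187,[],[(2,true),(5,false),(2,true)]⟩,⟨1064,[(109,false)],[(3,false),(6,false),(4,false),(1,false),(5,false),(4,false),(1,false),(6,false)]⟩,⟨1191,[(163,false),(114,false),(163,true)],[(2,false),(4,false),(5,false),(4,false),(5,false),(6,false),(2,true)]⟩]))
 (.one .base))
 (.fork (.one (.path 1 [⟨2048,[(109,false)],[(0,false),(1,false),(6,false),(4,false),(1,false),(5,false),(4,false),(1,false),(4,false),(2,true)]⟩,⟨1761,[],[(5,false),(4,false),(1,false),(3,false),(4,false),(5,false),(2,false),(6,false),(4,false)]⟩]))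
 (.one .base))))
 (.fork (.fork (.fork (.one (.path 6 [⟨617,[],[(1,false),(3,false)]⟩,⟨289,[(163,false),(114,true),(113,false)],[(0,false),(2,false),(5,false),(6,false),(4,false),(5,false),(4,false),(1,false)]⟩,⟨629,[(158,false),(172,false),(158,false)],[(5,false),(2,false),(6,false),(4,false),(1,false),(4,false),(5,false),(6,false),(2,true)]⟩]))
 (.one .base))
 (.fork (.one (.path 1 [⟨808,[(110,false)],[(1,false),(2,false),(4,false),(1,false),(5,false),(4,false),(5,false),(4,false),(6,false),(4,false),(2,true)]⟩,⟨999,[],[(1,false),(3,false),(4,false),(5,false),(2,false),(5,false),(6,false),(4,false),(1,false),(4,false)]⟩]))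
 (.one .base)))
 (.fork (.fork (.one (.path 11 [⟨1120,[(110,true),(109,false)],[(0,false),(6,false),(4,false),(1,false),(5,false),(4,false),(5,false),(2,true),(5,false)]⟩,⟨550,[(204,false),(158,false)],[(1,false),(3,false),(4,false),(1,false),(2,true),(5,false),(4,false),(1,false),(6,false),(4,false)]⟩,⟨1441,[(204,false),(158,false),(204,true),(172,false),(158,false)],[(0,false),(1,false),(5,false),(4,false),(5,false),(2,false),(6,false),(4,false),(1,false),(4,false)]⟩]))
 (.one .base))
 (.fork (.one (.path 0 [⟨2136,[(109,false)],[(2,false),(5,false),(4,false),(3,false),(2,true),(5,false),(4,false)]⟩,⟨2108,[(110,true),(109,false)],[(1,false),(6,false),(2,true),(5,false),(4,false),(5,false),(2,true),(5,false),(4,false)]⟩]))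
 (.one .base)))))
 (.fork (.fork (.fork (.fork (.one (.path 7 [⟨391,[(121,true),(132,false),(121,false)],[(3,false),(4,false),(2,true)]⟩,⟨165,[],[(4,false),(5,false),(4,false),(1,false),(4,false),(2,true),(5,false),(4,false)]⟩,⟨207,[],[(0,false),(5,false),(2,false),(5,false),(6,false),(4,false),(1,false),(4,false),(5,false),(2,false),(6,false)]⟩]))
 (.one .base))
 (.fork (.one (.path 5 [⟨1594,[(110,false)],[(5,false),(4,false),(6,false),(4,false),(1,false),(4,false),(5,false)]⟩,⟨458,[(163,false),(114,true),(163,true),(113,false)],[(1,false),(4,false),(1,false),(3,false),(4,false),(5,false),(2,false)]⟩,⟨407,[(57,false),(83,true),(54,false)],[(2,false),(5,false),(4,false),(5,false),(6,false),(4,false),(1,false),(2,true),(5,false)]⟩]))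
 (.one .base)))
 (.fork (.fork (.one (.path 0 [⟨677,[],[(3,false),(2,true)]⟩,⟨1361,[],[(3,false),(4,false),(6,false),(2,true),(5,false),(4,false),(1,false),(4,false),(6,false),(4,false)]⟩]))
 (.one .base))
 (.fork (.one (.path 0 [⟨2872,[(110,true),(109,false)],[(3,false),(4,false),(1,false),(5,false),(4,false),(1,false),(6,false),(4,false),(5,false),(2,false)]⟩,⟨2195,[],[(2,false),(4,false),(6,false),(4,false),(5,false),(4,false),(5,false),(2,false),(6,false)]⟩]))
 (.one .base))))
 (.fork (.fork (.fork (.one (.path 10 [⟨125,[(114,true)],[(3,false),(4,false),(6,false),(4,false)]⟩,⟨333,[(58,false),(56,false),(54,false)],[(0,false),(5,false),(4,false),(6,false),(4,false),(1,false),(4,false),(6,false),(2,true)]⟩,⟨749,[(114,true),(163,true),(114,true)],[(4,false),(6,false),(4,false),(1,false),(4,false),(2,true),(5,false),(4,false),(6,false),(2,true)]⟩]))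
 (.one .base))
 (.fork (.one (.path 0 [⟨1772,[],[(4,false),(1,false),(5,false),(6,false),(4,false),(2,true),(5,false),(4,false),(6,false),(2,true)]⟩,⟨1561,[],[(2,false),(5,false),(4,false),(1,false)]⟩]))
 (.one .base)))
 (.fork (.fork (.one (.path 0 [⟨450,[],[(1,false),(4,false),(1,false),(5,false),(6,false),(4,false),(1,false),(4,false),(6,false),(2,true)]⟩,⟨229,[],[(1,false),(2,false),(4,false),(5,false),(6,false),(4,false),(1,false),(4,false),(6,false),(2,true)]⟩]))
 (.one .base))
 (.fork (.one (.path 5 [⟨966,[],[(1,false),(3,false),(4,false),(6,false),(4,false),(1,false),(5,false),(4,false),(1,false),(2,true)]⟩,⟨425,[(137,true),(121,false),(137,true),(121,false)],[(5,false),(4,false),(1,false),(3,false),(4,false),(5,false),(4,false),(6,false)]⟩,⟨3939,[(110,true)],[(3,false),(6,false),(4,false)]⟩]))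
 (.one .base)))))))

/-- a part of the justifications -/
noncomputable def twJustT76 : BT Just := (.fork (.fork (.fork (.fork (.fork (.fork (.one (.path 1 [⟨104,[(83,true)],[(6,false),(4,false),(3,false),(2,true),(5,false),(4,false),(6,false),(2,true)]⟩,⟨76,[(100,true)],[(4,false),(1,false),(6,false),(4,false),(1,false),(4,false),(6,false),(2,true),(5,false),(4,false)]⟩]))
 (.one (.path 0 [⟨1702,[(110,true)],[(0,false),(5,false),(4,false),(5,false),(6,false),(4,false),(1,false),(5,false),(4,false)]⟩,⟨3931,[],[(0,false),(5,false),(2,false),(4,false),(5,false),(4,false),(2,true),(5,false),(2,false),(4,false),(6,false)]⟩])))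
 (.fork (.one (.path 6 [⟨792,[(110,false),(109,false)],[(4,false),(5,false),(4,false),(5,false),(2,false),(5,false),(6,false),(4,false),(5,false),(2,true)]⟩,⟨1433,[(172,false),(158,false),(204,true),(158,false),(172,false)],[(1,false),(4,false),(5,false),(2,false),(4,false),(5,false),(4,false),(6,false),(4,false)]⟩,⟨1941,[(110,true)],[(3,false),(4,false),(5,false),(2,false),(6,false),(4,false),(1,false),(5,false),(4,false),(2,true)]⟩]))
 (.one .base)))
 (.fork (.fork (.one (.path 7 [⟨623,[(172,false),(158,false),(204,false),(158,false)],[(2,true),(5,false),(4,false),(1,false),(3,false),(2,true),(5,false),(4,false)]⟩,⟨750,[],[(0,false),(4,false),(1,false),(2,true),(5,false),(4,false),(5,false),(6,false),(4,false)]⟩,⟨922,[(114,false),(163,true),(114,false),(113,false)],[(0,false),(5,false),(2,false),(4,false),(1,false),(6,false),(4,false),(1,false),(5,false),(4,false)]⟩]))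
 (.one .base))
 (.fork (.one (.path 0 [⟨2321,[],[(2,false),(3,false)]⟩,⟨2005,[(109,false)],[(2,false),(3,false),(5,false),(4,false),(6,false),(2,true),(5,false),(2,false),(4,false)]⟩]))
 (.one .base))))
 (.fork (.fork (.fork (.one (.path 3 [⟨357,[],[(6,false),(4,false),(2,true),(5,false),(2,true)]⟩,⟨289,[(163,false),(114,true),(113,false)],[(6,false),(4,false)]⟩,⟨357,[(204,true),(172,false),(158,false),(204,false)],[(0,false),(4,false),(1,false),(4,false),(5,false),(2,false),(6,false),(4,false),(5,false),(2,true)]⟩]))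
 (.one .base))
 (.fork (.one (.path 0 [⟨1392,[(110,true),(109,false)],[(1,false),(4,false),(1,false),(4,false),(6,false),(4,false),(2,true),(5,false),(2,true)]⟩,⟨755,[],[(0,false),(5,false),(2,false),(5,false),(6,false),(4,false),(5,false),(2,false)]⟩]))
 (.one .base)))
 (.fork (.fork (.one (.path 2 [⟨1309,[(191,false),(64,true),(191,true),(64,false)],[(0,false),(4,false),(6,false),(4,false),(5,false),(4,false),(2,true),(5,false),(2,false)]⟩,⟨1346,[],[(1,false),(6,false),(4,false),(5,false),(2,false),(5,false),(4,false),(1,false),(6,false)]⟩,⟨927,[],[(2,false),(4,false),(3,false),(5,false),(4,false),(1,false),(4,false),(5,false),(4,false)]⟩]))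
 (.one .base))
 (.fork (.one (.path 0 [⟨1542,[(110,true)],[(1,false),(2,false),(5,false),(4,false),(5,false),(2,false),(6,false),(4,false),(5,false)]⟩,⟨1745,[],[(0,false),(5,false),(2,false),(4,false),(5,false),(2,false),(4,false),(6,false),(4,false)]⟩]))
 (.one .base)))))
 (.fork (.fork (.fork (.fork (.one (.path 3 [⟨130,[],[(0,false),(5,false),(6,false),(2,true)]⟩,⟨273,[(121,false),(132,false),(121,false),(137,false)],[(2,false),(3,false)]⟩,⟨358,[],[(5,false),(2,false),(4,false),(5,false),(2,true),(5,false),(4,false),(5,false),(6,false)]⟩]))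
 (.one .base))
 (.fork (.one (.path 2 [⟨1588,[(109,false)],[(0,false),(1,false),(5,false),(4,false),(5,false),(6,false),(4,false),(5,false),(2,true),(5,false)]⟩,⟨1199,[(114,true),(163,true),(113,false)],[(1,false),(2,false),(6,false),(4,false),(1,false),(4,false),(5,false),(4,false),(6,false),(2,true)]⟩,⟨1333,[(110,true),(109,false)],[(0,false),(2,false),(6,false),(4,false),(5,false),(4,false),(2,true),(5,false),(4,false),(1,false)]⟩]))
 (.one .base)))
 (.fork (.fork (.one (.path 0 [⟨544,[(163,true),(114,true),(163,false)],[(2,false),(5,false),(4,false),(5,false),(4,false),(2,true),(5,false),(2,false),(4,false),(5,false),(6,false)]⟩,⟨483,[],[(0,false),(4,false),(1,false),(6,false),(4,false),(1,false),(4,false),(2,true),(5,false),(4,false),(5,false)]⟩]))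
 (.one .base))
 (.fork (.one (.path 0 [⟨2208,[(110,false)],[(0,false),(5,false),(4,false),(1,false),(5,false),(4,false),(6,false),(2,true),(5,false)]⟩,⟨2984,[(110,true),(109,false)],[(1,false),(2,false),(5,false),(4,false),(3,false),(6,false),(4,false)]⟩]))
 (.one .base))))
 (.fork (.fork (.fork (.one (.path 0 [⟨150,[],[(2,false),(3,false),(4,false)]⟩,⟨593,[(114,true),(113,false)],[(2,false),(3,false),(4,false),(5,false),(4,false),(1,false),(4,false),(5,false),(2,false)]⟩]))
 (.one .base))
 (.fork (.one (.path 4 [⟨2909,[],[(0,false),(5,false),(6,false),(4,false),(2,true)]⟩,⟨2733,[(110,true)],[(4,false),(5,false),(2,true),(5,false),(4,false),(5,false),(6,false)]⟩,⟨2769,[(109,false)],[(0,false),(5,false),(2,false),(5,false),(4,false),(5,false),(6,false),(2,true)]⟩]))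
 (.one .base)))
 (.fork (.fork (.one (.path 13 [⟨591,[],[(1,false),(4,false),(3,false),(6,false),(2,true),(5,false),(4,false),(1,false),(6,false),(2,true),(5,false)]⟩,⟨1801,[(204,false),(158,false),(172,false)],[(1,false),(3,false),(4,false),(1,false),(6,false),(4,false),(2,true),(5,false),(2,false),(4,false),(6,false)]⟩,⟨1317,[(110,false)],[(1,false),(2,false),(6,false),(4,false),(3,false),(5,false),(2,true),(5,false)]⟩]))
 (.one .base))
 (.fork (.one (.path 4 [⟨3275,[],[(0,false),(1,false),(2,false),(3,false),(6,false)]⟩,⟨3144,[(109,false)],[(1,false),(2,false),(3,false)]⟩,⟨3939,[],[(0,false),(1,false),(3,false)]⟩]))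
 (.one .base))))))
 (.fork (.fork (.fork (.fork (.fork (.one (.path 0 [⟨140,[],[(2,false),(3,false),(6,false)]⟩,⟨231,[(55,false),(83,false)],[(0,false),(1,false),(6,false),(2,true),(5,false),(4,false),(1,false),(6,false),(4,false),(1,false)]⟩]))
 (.one (.path 0 [⟨3682,[],[(2,false),(3,false),(5,false),(4,false),(1,false),(4,false),(6,false),(2,true),(5,false),(2,true)]⟩,⟨4327,[],[(4,false),(6,false),(4,false),(1,false),(4,false),(1,false),(5,false),(6,false),(4,false),(5,false)]⟩])))
 (.fork (.one (.path 2 [⟨2260,[],[(1,false),(4,false),(6,false),(2,true),(5,false),(2,false),(4,false),(5,false)]⟩,⟨1766,[],[(4,false),(1,false),(5,false),(4,false),(1,false),(6,false),(2,true),(5,false),(4,false)]⟩,⟨1883,[(114,false),(113,false)],[(2,false),(4,false),(5,false),(4,false),(1,false),(2,true),(5,false),(4,false),(5,false),(2,true)]⟩]))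
 (.one .base)))
 (.fork (.fork (.one (.path 13 [⟨979,[(121,true)],[(1,false),(4,false),(5,false),(6,false),(4,false),(5,false),(2,false),(4,false),(1,false)]⟩,⟨367,[(110,false),(109,false)],[(1,false),(4,false),(1,false),(6,false),(4,false),(1,false)]⟩,⟨527,[(163,false),(114,true),(163,true),(114,false),(113,false)],[(2,true),(5,false),(4,false),(1,false),(6,false),(4,false),(5,false),(2,false),(4,false)]⟩]))
 (.one .base))
 (.fork (.one (.path 0 [⟨1869,[],[(0,false),(5,false),(2,false),(4,false)]⟩,⟨2276,[(109,false)],[(5,false),(4,false),(2,true),(5,false),(2,false),(4,false),(5,false),(4,false),(6,false),(4,false)]⟩]))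
 (.one .base))))
 (.fork (.fork (.fork (.one (.path 0 [⟨587,[],[(2,false)]⟩,⟨711,[(204,true),(158,false),(204,false),(172,false),(158,false)],[(5,false),(2,false),(4,false),(3,false),(5,false),(4,false),(2,true),(5,false),(2,false),(4,false)]⟩]))
 (.one .base))
 (.fork (.one (.path 10 [⟨610,[(110,true),(109,false)],[(3,false),(4,false),(2,true),(5,false),(4,false),(5,false),(2,true),(5,false),(4,false),(1,false),(4,false)]⟩,⟨1073,[(132,false),(121,false),(132,false),(121,false)],[(2,false),(4,false),(3,false),(5,false),(4,false),(2,true),(5,false),(4,false),(1,false),(4,false),(2,true)]⟩,⟨2444,[(110,false),(109,false)],[(0,false),(1,false),(4,false),(5,false),(2,false),(6,false)]⟩]))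
 (.one .base)))
 (.fork (.fork (.one (.path 1 [⟨1102,[(114,true),(113,false)],[(1,false),(4,false),(3,false),(2,true),(5,false),(2,false),(4,false),(6,false)]⟩,⟨1003,[],[(3,false),(6,false),(4,false),(1,false),(4,false),(5,false),(4,false),(6,false)]⟩]))
 (.one .base))
 (.fork (.one (.path 0 [⟨2815,[],[(0,false),(3,false),(5,false),(2,false)]⟩,⟨2817,[(110,false),(109,false)],[(1,false),(4,false),(1,false),(5,false),(2,false),(6,false),(4,false),(5,false),(4,false)]⟩]))
 (.one .base)))))
 (.fork (.fork (.fork (.fork (.one (.path 3 [⟨135,[(121,true),(132,true),(121,false)],[(0,false),(5,false),(6,false)]⟩,⟨174,[],[(3,false),(4,false),(6,false),(4,false),(2,true),(5,false),(2,false),(4,false),(6,false)]⟩,⟨337,[(191,false),(191,false),(64,false)],[(1,false),(3,false),(4,false),(1,false),(6,false),(4,false),(2,true),(5,false)]⟩]))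
 (.one .base))
 (.fork (.one (.path 6 [⟨1550,[(110,true)],[(0,false),(1,false),(4,false),(6,false),(4,false),(1,false),(4,false),(1,false),(2,true)]⟩,⟨1225,[(163,false),(114,true),(163,true)],[(4,false),(5,false),(4,false),(6,false)]⟩,⟨583,[],[(1,false),(2,false),(6,false),(4,false),(5,false),(2,false),(4,false),(5,false),(6,false),(4,false)]⟩]))
 (.one .base)))
 (.fork (.fork (.one (.path 4 [⟨1394,[(109,false)],[(3,false),(5,false),(4,false),(5,false),(6,false),(4,false),(2,true),(5,false),(2,true)]⟩,⟨486,[(114,false),(163,true),(113,false)],[(0,false),(4,false),(5,false),(2,false),(4,false),(1,false),(4,false),(6,false),(4,false),(1,false)]⟩,⟨474,[(137,true),(121,false),(132,false),(121,false)],[(1,false),(4,false),(1,false),(4,false),(5,false),(6,false),(4,false),(2,true),(5,false),(2,true)]⟩]))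
 (.one .base))
 (.fork (.one (.path 0 [⟨2559,[],[(0,false),(5,false),(2,false)]⟩,⟨2527,[(110,false),(109,false)],[(4,false),(1,false),(4,false),(1,false),(6,false),(4,false),(2,true),(5,false),(4,false),(2,true)]⟩]))
 (.one .base))))
 (.fork (.fork (.fork (.one (.path 0 [⟨588,[(204,true),(158,false),(204,false),(172,false),(158,false)],[(1,false),(4,false),(1,false),(3,false),(4,false),(2,true),(5,false),(2,false),(4,false),(1,false),(4,false)]⟩,⟨955,[],[(5,false),(2,false),(4,false),(3,false),(5,false),(4,false),(2,true),(5,false),(4,false),(1,false)]⟩]))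
 (.one .base))
 (.fork (.one (.path 1 [⟨2630,[(110,false),(109,false)],[(0,false),(1,false),(4,false),(5,false),(2,false),(4,false),(1,false),(4,false)]⟩,⟨2599,[],[(3,false),(4,false),(5,false),(2,false),(4,false),(5,false),(2,false),(4,false),(1,false),(4,false)]⟩]))
 (.one .base)))
 (.fork (.fork (.one (.path 8 [⟨1116,[(110,false),(109,false)],[(0,false),(6,false),(2,true),(5,false),(4,false),(2,true),(5,false),(2,false),(4,false),(6,false)]⟩,⟨625,[(204,false),(172,false),(158,false)],[(6,false),(4,false),(1,false),(5,false),(4,false),(5,false),(2,false),(5,false),(4,false)]⟩,⟨1688,[(110,true),(109,false)],[(2,false),(3,false),(4,false),(1,false),(4,false),(5,false),(2,false),(4,false)]⟩]))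
 (.one .base))
 (.fork (.one (.path 4 [⟨3896,[(3911,true),(3912,false),(3911,false)],[(2,false),(5,false),(4,false),(1,false),(3,false),(6,false),(4,false),(2,true),(5,false)]⟩,⟨393,[(137,true),(132,false),(121,false),(121,false)],[(1,false),(2,true),(5,false),(2,false),(4,false),(1,false),(4,false),(6,false),(4,false)]⟩,⟨4039,[(204,false),(158,false),(204,true)],[(2,true),(5,false),(4,false),(5,false),(2,true),(5,false),(4,false),(1,false),(4,false)]⟩]))
 (.one .base)))))))

/-- a part of the justifications -/
noncomputable def twJustT77 : BT Just := (.fork (.fork (.fork (.fork (.fork (.fork (.one (.lift 1 (wOf 19 0x3543572343231230123) ⟨18,[(13,false),(15,false),(11,true),(14,false)],[]⟩ ⟨18,[(15,true),(13,false),(15,false),(11,true),(14,false)],[(0,false),(5,false),(4,false),(5,false),(6,false),(4,false),(1,false),(4,false),(6,false)]⟩))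
 (.one (.path 2 [⟨4109,[(3911,false),(3911,false),(3911,false)],[(5,false),(6,false),(2,true),(5,false),(4,false),(5,false),(2,true),(5,false),(4,false),(5,false)]⟩,⟨3242,[(110,true),(109,false)],[(0,false),(1,false),(6,false),(2,true),(5,false),(4,false),(5,false),(4,false),(1,false),(4,false)]⟩,⟨3965,[(110,false),(109,false)],[(4,false),(5,false),(4,false),(2,true),(5,false),(4,false),(5,false),(2,true)]⟩])))
 (.fork (.one (.path 0 [⟨984,[],[(0,false),(1,false),(4,false),(6,false),(2,true),(5,false),(2,false),(4,false),(1,false)]⟩,⟨1293,[],[(2,true),(5,false),(4,false),(6,false),(2,true),(5,false),(4,false),(2,true)]⟩]))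
 (.one .base)))
 (.fork (.fork (.one (.path 0 [⟨959,[],[(5,false),(2,true),(5,false)]⟩,⟨386,[(110,true)],[(0,false),(4,false),(6,false),(4,false),(5,false),(4,false),(6,false),(2,true)]⟩]))
 (.one .base))
 (.fork (.one (.path 3 [⟨602,[(110,false),(109,false)],[(4,false),(1,false),(4,false),(1,false),(5,false),(6,false),(4,false),(1,false),(2,true)]⟩,⟨779,[(132,true),(121,false),(137,false),(121,false)],[(1,false),(4,false),(1,false),(5,false),(4,false),(5,false),(2,true),(5,false),(4,false),(5,false),(2,false)]⟩,⟨2117,[(109,false)],[(3,false),(5,false),(4,false),(5,false),(6,false),(4,false),(1,false),(2,true)]⟩]))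
 (.one .base))))
 (.fork (.fork (.fork (.one (.path 1 [⟨343,[],[(2,false),(4,false),(1,false),(3,false),(5,false),(2,true)]⟩,⟨381,[(114,false),(163,false),(114,true),(113,false)],[(3,false),(4,false),(6,false),(2,true),(5,false),(4,false),(1,false),(4,false),(6,false),(4,false)]⟩]))
 (.one .base))
 (.fork (.one (.path 2 [⟨2366,[(110,false),(109,false)],[(4,false),(5,false),(2,true),(5,false),(4,false),(1,false),(5,false),(4,false),(6,false),(4,false)]⟩,⟨1052,[(110,false),(109,false)],[(1,false),(5,false),(2,false),(4,false),(5,false),(6,false),(4,false),(1,false),(5,false),(2,true)]⟩,⟨1741,[(114,false),(113,false)],[(4,false),(1,false),(5,false),(4,false),(6,false),(2,true),(5,false),(4,false),(5,false)]⟩]))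
 (.one .base)))
 (.fork (.fork (.one (.path 0 [⟨1424,[(114,true),(163,false),(113,false)],[(0,false),(4,false),(6,false),(4,false),(2,true),(5,false),(4,false),(1,false),(5,false),(6,false)]⟩,⟨429,[],[(1,false),(2,false),(3,false),(5,false),(4,false),(1,false),(4,false),(6,false),(4,false),(1,false)]⟩]))
 (.one .base))
 (.fork (.one (.path 0 [⟨3240,[],[(4,false),(1,false),(5,false),(4,false),(6,false),(4,false),(1,false),(5,false),(4,false),(1,false)]⟩,⟨2936,[(110,true)],[(1,false),(2,false),(3,false),(5,false),(4,false),(6,false),(2,true),(5,false),(4,false),(2,true)]⟩]))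
 (.one .base)))))
 (.fork (.fork (.fork (.fork (.one (.path 3 [⟨140,[(63,true)],[(1,false),(5,false)]⟩,⟨192,[(83,false),(54,false)],[(5,false),(4,false),(1,false),(4,false),(5,false),(4,false),(2,true),(5,false),(4,false),(1,false)]⟩,⟨277,[(158,false),(204,false)],[(1,false),(2,false),(5,false),(4,false),(3,false),(5,false),(2,true),(5,false),(4,false),(5,false)]⟩]))
 (.one .base))
 (.fork (.one (.path 0 [⟨1744,[],[(1,false),(4,false),(2,true),(5,false),(4,false),(2,true),(5,false),(4,false),(2,true),(5,false)]⟩,⟨1047,[],[(4,false),(6,false),(4,false),(5,false),(2,false),(4,false),(6,false)]⟩]))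
 (.one .base)))
 (.fork (.fork (.one (.path 4 [⟨1135,[(158,false)],[(3,false),(4,false),(6,false)]⟩,⟨504,[(110,false),(109,false)],[(1,false),(4,false),(6,false),(2,true),(5,false),(4,false),(6,false)]⟩,⟨1001,[(204,true),(158,false),(172,false)],[(4,false),(1,false),(5,false),(4,false),(6,false),(4,false),(1,false),(5,false),(4,false),(1,false),(2,true)]⟩]))
 (.one .base))
 (.fork (.one (.path 2 [⟨2662,[(109,false)],[(2,false),(3,false),(4,false),(5,false),(2,false),(4,false),(5,false),(2,true),(5,false),(4,false)]⟩,⟨2536,[(110,false),(109,false)],[(6,false),(2,true),(5,false),(4,false),(2,true),(5,false),(4,false),(1,false),(2,true),(5,false)]⟩,⟨2111,[],[(3,false),(5,false),(4,false),(1,false),(4,false),(5,false),(4,false)]⟩]))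
 (.one .base))))
 (.fork (.fork (.fork (.one (.path 3 [⟨405,[(158,false),(172,false),(158,false),(204,false),(158,false)],[(0,false),(2,false),(4,false),(5,false),(6,false)]⟩,⟨371,[(114,false),(163,false),(114,true),(113,false)],[(1,false),(2,false),(3,false),(6,false),(4,false),(5,false),(4,false),(1,false),(6,false),(2,true)]⟩,⟨217,[],[(2,false),(4,false),(3,false),(5,false),(6,false),(4,false),(2,true),(5,false),(4,false),(1,false)]⟩]))
 (.one .base))
 (.fork (.one (.path 7 [⟨2721,[(110,false)],[(1,false),(6,false),(4,false),(1,false),(5,false),(4,false),(6,false),(2,true),(5,false)]⟩,⟨2434,[(110,false),(109,false)],[(0,false),(4,false),(1,false),(6,false),(4,false),(1,false),(5,false),(4,false),(2,true),(5,false)]⟩,⟨2266,[(109,false)],[(4,false),(3,false),(6,false),(4,false),(5,false),(2,false),(4,false),(1,false),(5,false),(6,false)]⟩]))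
 (.one .base)))
 (.fork (.fork (.one (.path 7 [⟨1568,[],[(0,false),(2,false),(5,false),(6,false),(4,false),(2,true),(5,false),(4,false),(5,false),(2,false)]⟩,⟨1391,[(114,false),(163,false),(113,false)],[(5,false),(2,false),(5,false),(6,false),(4,false),(5,false),(4,false),(1,false),(4,false),(6,false)]⟩,⟨1158,[(110,true)],[(4,false),(1,false),(6,false),(4,false),(1,false),(5,false),(4,false),(2,true),(5,false)]⟩]))
 (.one .base))
 (.fork (.one (.path 0 [⟨2868,[(110,false)],[(1,false),(6,false),(4,false),(2,true),(5,false),(4,false),(1,false),(6,false),(2,true)]⟩,⟨3857,[],[(2,true),(5,false),(4,false),(2,true),(5,false),(2,false),(4,false),(5,false),(6,false)]⟩]))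
 (.one .base))))))
 (.fork (.fork (.fork (.fork (.fork (.one (.rev 152))
 (.one (.path 0 [⟨2139,[],[(1,false),(5,false),(6,false),(2,true)]⟩,⟨3925,[(109,false)],[(0,false),(6,false),(4,false),(1,false),(2,true),(5,false),(4,false),(1,false),(6,false),(4,false)]⟩])))
 (.fork (.one (.path 0 [⟨1282,[(110,true),(109,false)],[(0,false),(5,false),(4,false),(1,false),(2,true),(5,false),(4,false),(1,false),(6,false),(4,false)]⟩,⟨1109,[],[(6,false),(2,true),(5,false),(4,false),(2,true),(5,false),(4,false),(6,false),(2,true)]⟩]))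
 (.one .base)))
 (.fork (.fork (.one (.path 7 [⟨846,[(110,true),(109,false)],[(3,false),(5,false),(2,false),(4,false),(5,false),(6,false),(4,false),(1,false),(5,false),(2,true)]⟩,⟨618,[(163,false),(114,true)],[(0,false),(1,false),(2,true),(5,false),(4,false),(5,false),(2,false),(5,false),(4,false)]⟩,⟨987,[(158,false)],[(1,false),(4,false),(5,false),(4,false),(2,true),(5,false),(4,false),(1,false),(2,true)]⟩]))
 (.one .base))
 (.fork (.one (.path 0 [⟨1318,[(110,false)],[(2,false),(5,false),(6,false),(4,false),(5,false),(4,false),(1,false),(6,false),(2,true)]⟩,⟨2613,[],[(2,false),(4,false),(5,false),(4,false),(5,false),(2,false),(5,false),(6,false)]⟩]))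
 (.one .base))))
 (.fork (.fork (.fork (.one (.path 7 [⟨241,[(121,true),(137,true),(121,false)],[(0,false),(5,false),(6,false),(4,false),(1,false),(2,true),(5,false),(4,false),(1,false),(6,false),(4,false)]⟩,⟨422,[],[(2,true),(5,false),(2,false),(4,false),(5,false),(4,false),(5,false),(6,false),(4,false),(5,false)]⟩,⟨578,[(114,false),(163,false),(114,false)],[(0,false),(4,false),(5,false),(6,false),(4,false),(1,false),(4,false),(1,false),(5,false),(4,false)]⟩]))
 (.one .base))
 (.fork (.one (.path 10 [⟨498,[],[(5,false),(2,false),(4,false),(3,false),(5,false),(6,false),(2,true),(5,false),(4,false),(1,false)]⟩,⟨1277,[(204,true),(158,false),(204,true),(158,false),(204,true)],[(0,false),(4,false),(1,false),(5,false),(4,false),(1,false),(6,false),(4,false),(1,false),(4,false)]⟩,⟨2452,[(110,false),(109,false)],[(0,false),(2,false),(5,false),(4,false),(6,false),(4,false),(2,true),(5,false),(2,false),(4,false)]⟩]))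
 (.one .base)))
 (.fork (.fork (.one (.path 7 [⟨230,[],[(2,false),(4,false),(1,false),(4,false),(5,false),(4,false),(5,false)]⟩,⟨261,[(204,false),(172,false),(158,false),(172,false)],[(4,false),(3,false),(5,false),(4,false),(6,false),(4,false)]⟩,⟨997,[(158,false),(204,true),(172,false),(158,false)],[(1,false),(5,false),(4,false),(1,false),(3,false),(6,false)]⟩]))
 (.one .base))
 (.fork (.one (.path 2 [⟨3123,[(110,true),(109,false)],[(1,false),(5,false),(2,false),(4,false),(1,false),(4,false),(5,false),(6,false)]⟩,⟨3513,[(110,true),(109,false)],[(3,false),(5,false),(4,false),(6,false),(2,true),(5,false),(4,false),(1,false),(4,false)]⟩,⟨2496,[(110,true),(109,false)],[(1,false),(3,false),(4,false),(1,false),(6,false),(2,true),(5,false),(4,false),(5,false),(2,false)]⟩]))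
 (.one .base)))))
 (.fork (.fork (.fork (.fork (.one (.path 0 [⟨331,[],[(5,false),(6,false),(4,false),(3,false),(5,false)]⟩,⟨299,[(137,true),(132,true),(121,false),(132,false)],[(2,false),(4,false),(3,false),(5,false),(4,false),(6,false),(2,true),(5,false),(4,false),(1,false)]⟩]))
 (.one .base))
 (.fork (.one (.path 4 [⟨1596,[(110,false)],[(0,false),(4,false),(1,false),(4,false),(5,false),(2,true),(5,false),(4,false),(1,false),(5,false),(2,true)]⟩,⟨1885,[],[(0,false),(4,false),(5,false),(4,false),(2,true),(5,false),(2,false),(4,false)]⟩,⟨1922,[(110,false),(109,false)],[(1,false),(2,false),(6,false),(4,false),(5,false),(4,false),(5,false),(2,false),(5,false),(6,false)]⟩]))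
 (.one .base)))
 (.fork (.fork (.one (.path 13 [⟨687,[(204,true),(172,false),(158,false),(204,false),(158,false)],[(4,false),(6,false),(2,true),(5,false),(2,false),(4,false),(1,false),(6,false),(4,false),(1,false)]⟩,⟨1046,[(110,true),(109,false)],[(1,false),(4,false),(6,false),(4,false),(1,false),(5,false),(4,false),(1,false),(5,false)]⟩,⟨931,[(114,false),(163,false)],[(1,false),(4,false),(3,false),(5,false),(6,false),(4,false),(2,true),(5,false),(4,false),(1,false)]⟩]))
 (.one .base))
 (.fork (.one (.path 0 [⟨1762,[(110,true),(109,false)],[(4,false),(6,false),(2,true),(5,false),(4,false),(1,false),(5,false),(4,false),(1,false),(2,true)]⟩,⟨1316,[],[(1,false),(2,false),(5,false),(6,false),(4,false),(5,false),(2,false),(5,false)]⟩]))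
 (.one .base))))
 (.fork (.fork (.fork (.one (.path 0 [⟨276,[(110,false)],[(4,false),(3,false),(6,false),(4,false),(5,false),(2,false)]⟩,⟨553,[],[(5,false),(4,false),(3,false),(5,false),(2,false),(6,false),(4,false),(5,false),(2,true)]⟩]))
 (.one .base))
 (.fork (.one (.path 1 [⟨2440,[(109,false)],[(1,false),(6,false),(4,false),(1,false),(5,false),(4,false),(5,false),(2,false)]⟩,⟨2337,[],[(1,false),(6,false),(2,true),(5,false),(2,false),(4,false),(5,false),(2,false),(4,false)]⟩]))
 (.one .base)))
 (.fork (.fork (.one (.path 1 [⟨1066,[(109,false)],[(3,false),(5,false),(2,true),(5,false),(4,false)]⟩,⟨1351,[],[(3,false),(2,true),(5,false),(4,false),(2,true),(5,false),(4,false),(2,true),(5,false)]⟩]))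
 (.one .base))
 (.fork (.one (.path 4 [⟨2323,[],[(2,false),(3,false),(5,false),(6,false),(2,true)]⟩,⟨1412,[(110,false),(109,false)],[(5,false),(4,false),(5,false),(4,false),(1,false),(6,false),(4,false),(1,false),(2,true)]⟩,⟨3895,[(137,false),(121,true),(137,true),(121,false)],[(0,false),(5,false),(4,false),(5,false),(6,false),(4,false),(1,false),(5,false),(2,true)]⟩]))
 (.one .base)))))))

/-- a part of the justifications -/
noncomputable def twJustT78 : BT Just := (.fork (.fork (.fork (.fork (.fork (.fork (.one (.rev 88))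
 (.one (.path 0 [⟨1511,[],[(4,false),(1,false),(3,false),(2,true),(5,false)]⟩,⟨4144,[(110,true)],[(6,false),(4,false),(1,false),(2,true),(5,false),(4,false),(5,false),(2,false),(4,false)]⟩])))
 (.fork (.one (.path 10 [⟨1082,[(110,false),(109,false)],[(3,false),(6,false),(4,false),(5,false),(4,false),(1,false),(4,false)]⟩,⟨425,[(137,true),(121,false),(132,false)],[(1,false),(5,false),(4,false),(5,false),(2,false),(5,false),(6,false),(4,false),(5,false),(2,true)]⟩,⟨2079,[(110,true),(109,false)],[(1,false),(4,false),(1,false),(4,false),(2,true),(5,false),(4,false),(1,false),(4,false),(6,false)]⟩]))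
 (.one .base)))
 (.fork (.fork (.one (.path 6 [⟨679,[],[(3,false),(2,true)]⟩,⟨676,[],[(0,false),(1,false),(6,false),(4,false),(1,false),(5,false),(4,false),(2,true),(5,false),(4,false)]⟩,⟨667,[(132,false),(121,false),(137,false)],[(4,false),(2,true),(5,false),(2,false),(4,false),(1,false),(5,false),(4,false),(1,false)]⟩]))
 (.one .base))
 (.fork (.one (.path 3 [⟨2622,[(110,false),(109,false)],[(1,false),(3,false),(4,false),(1,false),(5,false),(6,false),(4,false),(1,false),(2,true)]⟩,⟨1100,[],[(1,false),(5,false),(2,false),(6,false),(4,false),(5,false),(4,false),(1,false),(6,false),(2,true),(5,false)]⟩,⟨805,[],[(5,false),(6,false),(4,false),(3,false),(2,true),(5,false),(2,false),(4,false),(5,false),(2,false),(6,false)]⟩]))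
 (.one .base))))
 (.fork (.fork (.fork (.one (.path 8 [⟨347,[(121,true),(132,false)],[(2,true),(5,false),(4,false),(1,false),(5,false),(6,false),(4,false),(1,false),(5,false),(2,false)]⟩,⟨474,[(137,false),(132,false),(121,false)],[(0,false),(1,false),(6,false),(4,false),(1,false),(5,false),(4,false),(6,false),(2,true),(5,false)]⟩,⟨519,[(163,true),(114,true),(163,false),(114,false),(113,false)],[(1,false),(5,false),(2,false),(4,false),(6,false),(4,false),(1,false),(4,false),(1,false),(6,false)]⟩]))
 (.one .base))
 (.fork (.one (.path 1 [⟨2503,[],[(1,false),(2,false),(4,false)]⟩,⟨2113,[(110,true),(109,false)],[(1,false),(4,false),(5,false),(2,false),(4,false),(6,false),(4,false),(1,false),(5,false)]⟩]))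
 (.one .base)))
 (.fork (.fork (.one (.path 0 [⟨631,[],[(1,false),(6,false)]⟩,⟨1549,[(114,false),(163,true),(113,false)],[(0,false),(4,false),(2,true),(5,false),(4,false),(1,false),(6,false),(2,true)]⟩]))
 (.one .base))
 (.fork (.one (.path 1 [⟨2885,[],[(0,false),(3,false),(2,true)]⟩,⟨2792,[(110,false)],[(4,false),(1,false),(3,false),(4,false),(5,false),(2,true),(5,false),(4,false),(5,false),(2,true)]⟩]))
 (.one .base)))))
 (.fork (.fork (.fork (.fork (.one (.path 8 [⟨120,[(137,true),(132,false)],[(1,false),(3,false),(4,false),(6,false),(4,false),(1,false),(4,false),(5,false),(2,true),(5,false)]⟩,⟨119,[(28,false),(21,false),(49,true),(21,false)],[(1,false),(3,false),(5,false),(6,false),(4,false),(5,false),(2,false),(5,false)]⟩,⟨343,[(132,false),(121,false)],[(3,false),(5,false),(2,false),(4,false),(5,false),(4,false),(5,false),(6,false)]⟩]))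
 (.one .base))
 (.fork (.one (.path 1 [⟨2178,[(109,false)],[(0,false),(1,false),(2,true),(5,false),(4,false),(5,false),(2,false),(6,false)]⟩,⟨2074,[(110,true)],[(2,false),(5,false),(4,false),(1,false),(3,false),(4,false),(6,false),(4,false),(1,false),(5,false)]⟩]))
 (.one .base)))
 (.fork (.fork (.one (.path 6 [⟨1223,[],[(1,false),(5,false)]⟩,⟨386,[(109,false)],[(1,false),(2,false),(5,false),(4,false),(5,false),(2,false),(4,false),(5,false)]⟩,⟨1355,[(114,false),(163,true),(114,true)],[(4,false),(1,false),(4,false),(5,false),(6,false),(4,false),(2,true),(5,false)]⟩]))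
 (.one .base))
 (.fork (.one (.path 5 [⟨3001,[(110,false),(109,false)],[(0,false),(3,false),(5,false),(6,false)]⟩,⟨3406,[(109,false)],[(2,false),(4,false),(1,false),(5,false),(6,false),(4,false),(5,false),(2,false),(4,false)]⟩,⟨2382,[(110,true)],[(1,false),(4,false),(6,false),(4,false),(5,false),(4,false),(5,false),(2,false),(6,false)]⟩]))
 (.one .base))))
 (.fork (.fork (.fork (.one (.path 0 [⟨618,[(114,true),(163,true),(113,false)],[(1,false),(2,true),(5,false),(4,false),(5,false),(4,false),(1,false),(4,false),(2,true)]⟩,⟨629,[],[(2,true),(5,false),(4,false),(1,false),(4,false),(6,false),(4,false),(5,false),(2,true)]⟩]))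
 (.one .base))
 (.fork (.one (.path 0 [⟨2391,[],[(0,false),(2,false)]⟩,⟨1812,[(109,false)],[(4,false),(1,false),(5,false),(4,false),(1,false),(4,false),(6,false),(2,true),(5,false),(2,false)]⟩]))
 (.one .base)))
 (.fork (.fork (.one (.path 9 [⟨214,[(114,true)],[(0,false),(1,false),(4,false),(5,false),(6,false),(4,false),(1,false),(4,false),(1,false),(2,true)]⟩,⟨1387,[(114,true)],[(0,false),(2,true),(5,false),(4,false),(1,false),(6,false),(4,false),(1,false)]⟩,⟨1478,[(109,false)],[(2,false),(4,false),(5,false),(4,false),(6,false),(4,false),(2,true)]⟩]))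
 (.one .base))
 (.fork (.one (.path 1 [⟨3575,[],[(6,false)]⟩,⟨3841,[],[(3,false),(6,false),(4,false),(1,false),(2,true),(5,false),(4,false),(5,false),(2,true),(5,false)]⟩]))
 (.one .base))))))
 (.fork (.fork (.fork (.fork (.fork (.one (.path 0 [⟨145,[(132,true),(121,false)],[(0,false),(1,false),(2,false),(5,false),(6,false),(4,false),(1,false),(4,false),(2,true),(5,false),(2,false)]⟩,⟨194,[],[(1,false),(2,false),(6,false),(4,false),(3,false),(5,false),(2,false),(4,false),(5,false),(2,true)]⟩]))
 (.one (.path 0 [⟨3978,[],[(4,false),(1,false),(4,false),(1,false),(6,false),(4,false),(2,true),(5,false),(4,false),(5,false)]⟩,⟨2063,[],[(0,false),(1,false),(6,false),(2,true),(5,false),(4,false),(1,false),(4,false),(5,false),(2,true)]⟩])))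
 (.fork (.one (.path 0 [⟨2017,[],[(3,false),(6,false),(2,true)]⟩,⟨1484,[(109,false)],[(6,false),(4,false),(2,true)]⟩]))
 (.one .base)))
 (.fork (.fork (.one (.path 0 [⟨554,[(163,false),(114,false)],[(5,false),(2,false),(6,false),(4,false),(5,false),(4,false),(5,false),(2,true),(5,false),(4,false)]⟩,⟨679,[],[(1,false),(3,false),(2,true),(5,false),(4,false),(5,false),(4,false),(2,true),(5,false),(4,false),(1,false)]⟩]))
 (.one .base))
 (.fork (.one (.path 0 [⟨1458,[(110,true),(109,false)],[(2,false),(5,false),(4,false),(5,false),(4,false),(6,false),(4,false),(1,false),(4,false),(2,true)]⟩,⟨901,[],[(1,false),(6,false),(4,false),(1,false),(4,false),(5,false),(4,false),(5,false),(6,false),(2,true),(5,false)]⟩]))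
 (.one .base))))
 (.fork (.fork (.fork (.one (.path 4 [⟨546,[],[(6,false),(4,false),(1,false),(4,false),(1,false),(6,false),(4,false)]⟩,⟨550,[(158,false),(204,true),(172,false),(158,false)],[(1,false),(2,false),(4,false),(5,false),(6,false),(2,true),(5,false),(4,false),(6,false)]⟩,⟨545,[(172,false),(158,false),(172,false)],[(6,false),(4,false),(2,true),(5,false),(4,false),(1,false),(4,false),(5,false)]⟩]))
 (.one .base))
 (.fork (.one (.path 1 [⟨1544,[],[(0,false),(6,false),(2,true),(5,false),(4,false),(6,false),(2,true),(5,false),(4,false),(5,false)]⟩,⟨1371,[],[(1,false),(4,false),(1,false),(5,false),(6,false),(4,false),(1,false),(5,false),(4,false)]⟩]))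
 (.one .base)))
 (.fork (.fork (.one (.path 5 [⟨591,[],[(0,false),(6,false),(2,true),(5,false),(2,true)]⟩,⟨499,[(204,true),(158,false),(204,true)],[(4,false),(6,false),(4,false),(5,false),(4,false),(1,false),(4,false),(1,false)]⟩,⟨1367,[(114,true),(163,false),(114,true)],[(0,false),(4,false),(1,false),(6,false),(4,false),(1,false),(4,false),(2,true),(5,false),(4,false),(5,false)]⟩]))
 (.one .base))
 (.fork (.one (.path 0 [⟨1436,[],[(2,false),(3,false),(4,false),(5,false),(4,false),(2,true),(5,false),(4,false),(6,false)]⟩,⟨638,[],[(0,false),(1,false),(2,true),(5,false),(4,false),(1,false),(6,false),(4,false),(1,false),(4,false)]⟩]))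
 (.one .base)))))
 (.fork (.fork (.fork (.fork (.one (.path 0 [⟨236,[(114,true),(163,true),(114,false)],[(1,false),(3,false),(4,false),(1,false),(2,true),(5,false),(4,false),(5,false),(6,false),(2,true),(5,false)]⟩,⟨331,[],[(6,false),(4,false),(2,true),(5,false),(4,false),(1,false),(4,false)]⟩]))
 (.one .base))
 (.fork (.one (.path 5 [⟨2037,[],[(4,false),(5,false),(6,false)]⟩,⟨868,[(110,true),(109,false)],[(0,false),(2,true),(5,false),(2,false),(4,false),(5,false),(6,false),(2,true)]⟩,⟨481,[(137,false),(121,false),(137,true)],[(2,false),(5,false),(2,false),(4,false),(1,false),(5,false),(4,false),(2,true),(5,false),(4,false)]⟩]))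
 (.one .base)))
 (.fork (.fork (.one (.path 0 [⟨718,[(110,false),(109,false)],[(3,false),(5,false),(2,false),(5,false),(4,false),(1,false),(6,false)]⟩,⟨717,[(57,false),(100,true),(57,false)],[(1,false),(2,false),(4,false),(1,false),(3,false),(4,false),(5,false),(6,false),(4,false),(1,false)]⟩]))
 (.one .base))
 (.fork (.one (.path 0 [⟨2566,[],[(1,false),(6,false),(4,false),(5,false),(4,false),(1,false),(6,false),(4,false),(5,false),(2,false)]⟩,⟨2723,[],[(4,false),(5,false),(2,false),(6,false),(4,false),(5,false),(4,false),(6,false),(2,true),(5,false),(2,false)]⟩]))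
 (.one .base))))
 (.fork (.fork (.fork (.one (.path 7 [⟨550,[(204,false),(158,false),(204,true)],[(2,false),(4,false),(3,false),(5,false),(2,false),(6,false),(4,false),(5,false),(4,false)]⟩,⟨613,[(204,true),(158,false),(204,false),(172,false),(158,false)],[(1,false),(3,false),(5,false),(2,false),(4,false),(1,false)]⟩,⟨822,[(110,true)],[(3,false),(4,false),(5,false),(2,false),(6,false),(4,false),(1,false),(5,false),(4,false)]⟩]))
 (.one .base))
 (.fork (.one (.path 3 [⟨1499,[(110,true),(109,false)],[(5,false),(4,false),(3,false),(6,false),(4,false),(1,false),(2,true)]⟩,⟨2301,[(110,true)],[(0,false),(2,false),(5,false),(4,false),(2,true),(5,false),(2,false),(4,false),(1,false),(4,false),(6,false)]⟩,⟨2355,[(110,false)],[(4,false),(1,false),(5,false),(2,false),(6,false),(4,false),(5,false),(2,false),(4,false),(6,false)]⟩]))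
 (.one .base)))
 (.fork (.fork (.one (.path 3 [⟨1744,[(109,false)],[(1,false),(4,false),(1,false),(3,false),(5,false),(2,false),(4,false),(1,false),(5,false),(2,true)]⟩,⟨1361,[],[(4,false),(2,true),(5,false),(2,false),(4,false),(5,false),(4,false),(5,false),(2,false)]⟩,⟨1156,[],[(1,false),(5,false),(2,false),(6,false),(4,false),(5,false),(2,false),(4,false),(5,false),(2,true),(5,false)]⟩]))
 (.one .base))
 (.fork (.one (.path 0 [⟨4055,[],[(2,true)]⟩,⟨2989,[],[(2,false),(3,false),(4,false),(5,false),(2,false),(4,false),(5,false),(2,false),(4,false)]⟩]))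
 (.one .base)))))))

/-- a part of the justifications -/
noncomputable def twJustT79 : BT Just := (.fork (.fork (.fork (.fork (.fork (.fork (.one (.lift 1 (wOf 21 0x43213523455323123421) ⟨52,[(13,false),(14,false),(10,false),(13,false),(15,false),(13,false),(14,false),(10,false),(13,false)],[]⟩ ⟨52,[(11,false),(13,false),(14,false),(13,false),(11,true),(14,false),(13,false),(11,false),(14,false),(13,false),(11,true)],[(0,false),(3,false),(6,false)]⟩))
 (.one (.path 0 [⟨4040,[(3911,true),(3912,false),(3911,false)],[(5,false),(4,false),(5,false),(4,false),(6,false),(2,true),(5,false),(2,false),(4,false)]⟩,⟨1121,[],[(6,false),(2,true),(5,false),(2,false),(4,false),(1,false),(3,false)]⟩])))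
 (.fork (.one (.path 0 [⟨1394,[(109,false)],[(1,false),(2,false),(3,false),(6,false),(4,false),(5,false),(4,false),(1,false),(4,false)]⟩,⟨1387,[],[(1,false),(2,false),(4,false),(5,false),(4,false),(1,false),(6,false),(4,false),(1,false),(5,false)]⟩]))
 (.one .base)))
 (.fork (.fork (.one (.path 1 [⟨969,[],[(0,false),(1,false),(2,false),(5,false),(2,true)]⟩,⟨1035,[(110,false)],[(3,false),(4,false),(1,false),(5,false),(4,false),(1,false),(4,false),(6,false)]⟩]))
 (.one .base))
 (.fork (.one (.path 3 [⟨2269,[],[(2,false),(3,false),(6,false)]⟩,⟨2652,[(110,true),(109,false)],[(0,false),(5,false),(6,false),(4,false),(1,false),(4,false),(5,false),(4,false)]⟩,⟨1981,[],[(5,false),(4,false),(5,false),(4,false),(6,false),(2,true)]⟩]))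
 (.one .base))))
 (.fork (.fork (.fork (.one (.path 5 [⟨335,[(72,false),(65,false),(63,true)],[(4,false),(5,false),(4,false),(2,true),(5,false),(2,false),(4,false),(5,false),(4,false),(6,false)]⟩,⟨148,[(137,false),(121,false),(121,false),(121,false)],[(2,false),(5,false),(6,false),(4,false),(5,false),(4,false),(2,true),(5,false),(4,false)]⟩,⟨479,[(114,true),(163,true),(114,true)],[(1,false),(2,true),(5,false),(2,false),(4,false),(5,false),(2,false),(4,false),(6,false),(4,false)]⟩]))
 (.one .base))
 (.fork (.one (.path 3 [⟨2442,[(110,true),(109,false)],[(2,false),(5,false),(6,false),(4,false),(2,true),(5,false),(4,false),(5,false),(2,true)]⟩,⟨2513,[(109,false)],[(5,false),(6,false),(4,false),(1,false),(3,false),(5,false),(4,false),(2,true)]⟩,⟨1915,[],[(2,false),(3,false),(5,false),(4,false),(6,false),(4,false),(1,false),(4,false),(6,false)]⟩]))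
 (.one .base)))
 (.fork (.fork (.one (.path 6 [⟨1154,[],[(2,false),(3,false),(5,false),(4,false),(5,false),(2,false),(5,false),(4,false),(5,false)]⟩,⟨1566,[(110,false)],[(0,false),(1,false),(4,false),(1,false),(5,false),(4,false),(6,false),(4,false),(1,false),(2,true)]⟩,⟨845,[],[(1,false),(4,false),(1,false),(6,false),(4,false),(5,false),(2,true)]⟩]))
 (.one .base))
 (.fork (.one (.path 0 [⟨2271,[],[(1,false),(4,false),(3,false)]⟩,⟨2536,[(110,true)],[(0,false),(1,false),(6,false),(2,true),(5,false),(4,false),(5,false),(4,false),(6,false),(2,true)]⟩]))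
 (.one .base)))))
 (.fork (.fork (.fork (.fork (.one (.path 0 [⟨250,[],[(3,false),(2,true),(5,false),(4,false),(5,false),(2,false),(4,false),(1,false),(4,false)]⟩,⟨213,[],[(1,false),(2,false),(6,false),(4,false),(5,false),(2,false),(4,false),(5,false),(2,false),(4,false)]⟩]))
 (.one .base))
 (.fork (.one (.path 2 [⟨1679,[],[(1,false),(2,false)]⟩,⟨688,[(110,false),(109,false)],[(0,false),(4,false),(5,false),(2,false),(4,false),(1,false),(4,false),(5,false),(4,false),(2,true)]⟩,⟨1607,[(172,false),(158,false),(204,false),(158,false)],[(1,false),(3,false),(2,true),(5,false),(4,false),(5,false),(2,true),(5,false),(4,false),(5,false)]⟩]))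
 (.one .base)))
 (.fork (.fork (.one (.path 5 [⟨852,[(110,false)],[(1,false),(6,false),(4,false),(1,false),(5,false),(2,false),(4,false),(5,false),(6,false),(4,false)]⟩,⟨835,[(163,false),(114,false),(163,true),(113,false)],[(0,false),(4,false),(1,false),(6,false),(4,false),(2,true),(5,false),(4,false),(5,false)]⟩,⟨1151,[(110,true)],[(3,false),(2,true),(5,false),(2,false),(4,false),(5,false),(4,false),(1,false)]⟩]))
 (.one .base))
 (.fork (.one (.path 1 [⟨2556,[],[(2,false),(4,false),(1,false),(3,false),(5,false),(4,false),(5,false),(2,true)]⟩,⟨2319,[],[(1,false),(3,false),(5,false),(2,false),(6,false),(4,false),(5,false),(4,false),(2,true)]⟩]))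
 (.one .base))))
 (.fork (.fork (.fork (.one (.path 11 [⟨146,[],[(0,false),(1,false),(2,false)]⟩,⟨662,[(110,false)],[(0,false),(4,false),(5,false),(2,false),(5,false),(4,false),(5,false),(6,false),(4,false)]⟩,⟨539,[(121,true),(132,true),(121,false)],[(2,false),(4,false),(5,false),(2,false),(4,false),(5,false),(2,true)]⟩]))
 (.one .base))
 (.fork (.one (.path 3 [⟨1027,[],[(0,false),(1,false),(2,false),(3,false),(5,false),(2,true)]⟩,⟨2072,[],[(0,false),(4,false),(1,false),(5,false),(4,false),(2,true),(5,false),(4,false),(6,false)]⟩,⟨1531,[(109,false)],[(2,true),(5,false),(4,false),(3,false),(5,false),(2,false),(5,false),(6,false),(4,false),(5,false)]⟩]))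
 (.one .base)))
 (.fork (.fork (.one (.path 1 [⟨1244,[(110,true)],[(2,false),(5,false),(6,false),(4,false),(5,false),(4,false),(6,false)]⟩,⟨1367,[],[(1,false),(3,false),(4,false),(5,false),(4,false),(2,true),(5,false),(2,false),(4,false),(5,false)]⟩]))
 (.one .base))
 (.fork (.one (.path 6 [⟨601,[(137,true),(132,true),(121,false),(132,false)],[(4,false),(3,false),(6,false),(4,false),(5,false),(4,false),(6,false)]⟩,⟨520,[],[(3,false),(2,true),(5,false),(2,false),(4,false),(1,false),(4,false),(5,false),(4,false),(2,true)]⟩,⟨3883,[(163,false),(114,true),(163,true),(113,false)],[(6,false),(2,true),(5,false),(4,false),(1,false),(5,false),(4,false),(5,false),(2,false)]⟩]))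
 (.one .base))))))
 (.fork (.fork (.fork (.fork (.fork (.one (.path 7 [⟨183,[(65,true),(64,false),(72,false)],[(2,false),(3,false),(5,false),(4,false),(1,false),(4,false),(5,false),(6,false),(4,false),(1,false)]⟩,⟨169,[(158,false),(172,false),(158,false),(172,false),(158,false),(172,false),(158,false),(172,false),(158,false)],[(2,false),(4,false),(1,false),(4,false),(1,false),(6,false),(4,false),(1,false),(4,false),(6,false)]⟩,⟨62,[],[(0,false),(5,false),(4,false),(6,false),(4,false),(1,false),(4,false),(6,false),(2,true)]⟩]))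
 (.one (.path 1 [⟨3936,[(3911,false),(3911,false),(3912,false),(3911,false)],[(4,false),(6,false),(4,false),(5,false),(4,false),(5,false),(2,false),(6,false),(4,false),(5,false)]⟩,⟨3855,[],[(1,false),(4,false),(6,false),(4,false),(1,false),(4,false),(1,false),(6,false),(4,false),(5,false),(2,true)]⟩])))
 (.fork (.one (.path 2 [⟨2048,[(110,false)],[(1,false),(3,false),(4,false),(5,false),(2,false),(4,false),(1,false),(4,false),(5,false),(2,true),(5,false)]⟩,⟨937,[(114,false),(163,true)],[(1,false),(2,false),(6,false),(4,false),(1,false),(4,false),(5,false),(2,false)]⟩,⟨1633,[(172,false),(158,false),(204,false),(158,false)],[(3,false),(2,true),(5,false),(2,false),(4,false),(5,false),(2,false),(4,false),(5,false),(2,false)]⟩]))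
 (.one .base)))
 (.fork (.fork (.one (.path 2 [⟨753,[(114,true),(163,false),(113,false)],[(3,false),(4,false),(6,false),(4,false),(1,false),(2,true),(5,false),(4,false),(5,false),(2,false)]⟩,⟨972,[],[(2,false),(4,false),(3,false),(6,false),(4,false),(5,false),(4,false),(6,false)]⟩,⟨979,[(121,false),(121,false),(121,false)],[(2,false),(3,false),(5,false),(4,false),(6,false),(4,false),(1,false),(4,false),(5,false),(2,true)]⟩]))
 (.one .base))
 (.fork (.one (.path 0 [⟨3083,[],[(0,false),(2,true)]⟩,⟨2314,[],[(2,false),(3,false),(5,false),(4,false),(5,false),(6,false),(4,false),(5,false),(2,true)]⟩]))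
 (.one .base))))
 (.fork (.fork (.fork (.one (.path 2 [⟨443,[],[(1,false),(2,false)]⟩,⟨542,[(172,false),(158,false),(204,false)],[(5,false),(4,false),(1,false),(3,false),(4,false),(6,false),(2,true),(5,false),(2,true)]⟩,⟨661,[(121,true),(121,true)],[(2,false),(4,false),(5,false),(4,false),(1,false),(5,false),(6,false),(4,false),(1,false)]⟩]))
 (.one .base))
 (.fork (.one (.path 1 [⟨648,[],[(4,false),(3,false),(6,false),(4,false),(1,false),(2,true),(5,false)]⟩,⟨1373,[],[(1,false),(3,false),(4,false),(6,false),(4,false),(2,true),(5,false),(4,false),(1,false),(4,false)]⟩]))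
 (.one .base)))
 (.fork (.fork (.one (.path 7 [⟨125,[(114,true)],[(2,false),(4,false),(3,false),(6,false),(4,false)]⟩,⟨333,[(58,false),(56,false),(54,false)],[(1,false),(5,false),(2,false),(6,false),(4,false),(1,false),(4,false)]⟩,⟨837,[(114,false),(163,false),(114,false),(113,false)],[(5,false),(4,false),(5,false),(6,false),(4,false),(1,false),(5,false),(4,false),(5,false)]⟩]))
 (.one .base))
 (.fork (.one (.path 0 [⟨1853,[],[(3,false)]⟩,⟨2287,[(110,false),(109,false)],[(0,false),(1,false),(4,false),(5,false),(4,false),(6,false),(4,false),(1,false)]⟩]))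
 (.one .base)))))
 (.fork (.fork (.fork (.fork (.one (.path 2 [⟨424,[],[(6,false),(4,false),(1,false),(4,false),(1,false),(6,false),(4,false),(1,false),(2,true)]⟩,⟨125,[(114,true)],[(6,false),(4,false),(1,false),(2,true),(5,false),(4,false),(1,false)]⟩,⟨366,[(83,false),(57,false)],[(4,false),(1,false),(6,false),(4,false),(1,false)]⟩]))
 (.one .base))
 (.fork (.one (.path 0 [⟨876,[(110,false)],[(1,false),(5,false),(2,false),(4,false),(5,false),(6,false),(2,true)]⟩,⟨973,[(137,true),(132,true),(121,false)],[(1,false),(3,false),(5,false),(4,false),(5,false),(4,false),(6,false),(2,true),(5,false),(4,false)]⟩]))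
 (.one .base)))
 (.fork (.fork (.one (.path 0 [⟨333,[],[(5,false),(2,false)]⟩,⟨1381,[],[(0,false),(1,false),(4,false),(1,false),(5,false),(6,false),(4,false),(2,true),(5,false)]⟩]))
 (.one .base))
 (.fork (.one (.path 1 [⟨3510,[(109,false)],[(5,false),(4,false),(2,true),(5,false),(2,false),(4,false),(5,false),(2,false),(4,false),(1,false)]⟩,⟨3235,[],[(0,false),(2,false),(4,false),(6,false),(4,false),(1,false),(4,false),(6,false)]⟩]))
 (.one .base))))
 (.fork (.fork (.fork (.one (.path 9 [⟨460,[(163,false)],[(0,false)]⟩,⟨459,[(191,false),(64,true),(191,true),(63,true)],[(0,false),(2,false),(6,false),(4,false),(5,false),(2,false),(4,false),(1,false),(4,false)]⟩,⟨833,[(163,true),(114,true),(163,false),(114,false),(113,false)],[(3,false),(4,false),(1,false),(4,false),(5,false),(2,false),(5,false),(4,false),(5,false),(2,true)]⟩]))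
 (.one .base))
 (.fork (.one (.path 1 [⟨2412,[(109,false)],[(0,false),(4,false),(1,false),(4,false),(2,true),(5,false),(4,false),(1,false),(2,true),(5,false)]⟩,⟨2945,[],[(5,false),(2,false),(4,false),(3,false),(5,false),(4,false),(1,false),(2,true)]⟩]))
 (.one .base)))
 (.fork (.fork (.one (.path 2 [⟨1485,[],[(0,false),(4,false),(6,false),(2,true),(5,false),(2,true)]⟩,⟨915,[(109,false)],[(0,false),(1,false),(6,false),(4,false),(5,false),(4,false),(1,false),(6,false)]⟩,⟨1433,[(172,false),(158,false),(204,true),(158,false),(172,false)],[(1,false),(4,false),(6,false),(4,false),(1,false),(4,false),(5,false),(4,false)]⟩]))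
 (.one .base))
 (.fork (.one (.path 0 [⟨1733,[],[(3,false),(2,true),(5,false),(2,false)]⟩,⟨4003,[],[(4,false),(5,false),(4,false),(5,false),(6,false),(4,false),(5,false),(2,true),(5,false)]⟩]))
 (.one .base)))))))

/-- a part of the justifications -/
noncomputable def twJustT80 : BT Just := (.fork (.fork (.fork (.fork (.fork (.fork (.one (.lift 2 (wOf 20 0x13254663462345323466) ⟨119,[(28,true),(49,true),(27,false),(28,true),(20,false)],[]⟩ ⟨119,[(49,true),(49,true),(28,false),(26,false),(49,false),(28,false),(20,false)],[(2,false),(6,false)]⟩))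
 (.one (.path 1 [⟨3261,[],[(1,false),(3,false),(2,true)]⟩,⟨4199,[(110,false),(109,false)],[(4,false),(5,false),(4,false),(5,false),(6,false),(2,true),(5,false),(4,false),(5,false),(2,true)]⟩])))
 (.fork (.one (.path 0 [⟨1098,[(109,false)],[(1,false),(4,false),(6,false),(4,false),(5,false),(2,false),(5,false)]⟩,⟨1607,[],[(4,false),(3,false),(6,false),(2,true),(5,false),(4,false),(2,true),(5,false),(2,false)]⟩]))
 (.one .base)))
 (.fork (.fork (.one (.path 3 [⟨786,[],[(0,false),(4,false),(1,false),(4,false),(5,false),(2,true)]⟩,⟨550,[(158,false),(204,true),(172,false),(158,false)],[(3,false),(5,false),(6,false)]⟩,⟨991,[(158,false),(204,false),(158,false),(204,true)],[(1,false),(3,false),(4,false),(2,true),(5,false),(4,false),(5,false),(6,false)]⟩]))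
 (.one .base))
 (.fork (.one (.path 0 [⟨2598,[(109,false)],[(2,false),(5,false),(2,false),(6,false),(4,false),(1,false),(4,false),(1,false),(6,false)]⟩,⟨1877,[],[(2,false),(5,false),(6,false),(4,false),(2,true),(5,false),(4,false),(6,false)]⟩]))
 (.one .base))))
 (.fork (.fork (.fork (.one (.path 0 [⟨542,[],[(1,false),(2,true),(5,false),(4,false),(5,false),(4,false),(1,false),(6,false),(2,true)]⟩,⟨541,[(121,true),(121,true)],[(4,false),(2,true),(5,false),(4,false),(5,false),(2,false),(5,false),(6,false)]⟩]))
 (.one .base))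
 (.fork (.one (.path 0 [⟨532,[(109,false)],[(0,false),(4,false),(1,false),(4,false),(5,false),(4,false),(2,true),(5,false),(2,false),(4,false)]⟩,⟨1197,[],[(5,false),(4,false),(2,true),(5,false),(2,false),(4,false),(5,false),(4,false),(1,false),(5,false),(4,false)]⟩]))
 (.one .base)))
 (.fork (.fork (.one (.path 0 [⟨1008,[(110,true),(109,false)],[(5,false),(6,false),(4,false),(1,false),(4,false),(1,false),(6,false),(4,false)]⟩,⟨799,[],[(5,false),(6,false),(2,true),(5,false),(4,false)]⟩]))
 (.one .base))
 (.fork (.one (.path 0 [⟨2901,[],[(0,false),(6,false)]⟩,⟨2419,[(110,true),(109,false)],[(1,false),(2,true),(5,false),(4,false),(1,false),(3,false),(6,false)]⟩]))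
 (.one .base)))))
 (.fork (.fork (.fork (.fork (.one (.path 0 [⟨129,[(163,false),(114,true)],[(1,false),(5,false),(6,false),(4,false),(1,false),(4,false),(2,true),(5,false)]⟩,⟨205,[],[(0,false),(4,false),(1,false),(5,false),(6,false),(4,false),(2,true),(5,false),(4,false),(1,false)]⟩]))
 (.one .base))
 (.fork (.one (.path 10 [⟨1035,[(109,false)],[(5,false),(6,false),(4,false),(2,true),(5,false),(4,false),(1,false),(5,false),(6,false)]⟩,⟨666,[(110,false)],[(0,false),(2,true),(5,false),(4,false),(1,false),(6,false),(4,false),(1,false),(2,true),(5,false)]⟩,⟨1787,[(121,false),(137,false),(132,false),(121,false)],[(0,false),(4,false),(5,false),(4,false),(1,false),(4,false),(2,true),(5,false),(2,false)]⟩]))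
 (.one .base)))
 (.fork (.fork (.one (.path 2 [⟨888,[(163,false),(114,true),(113,false)],[(1,false),(6,false),(4,false),(2,true),(5,false),(4,false),(1,false),(6,false),(4,false)]⟩,⟨445,[(158,false)],[(2,false),(5,false),(4,false),(3,false),(6,false),(4,false),(1,false),(4,false),(2,true)]⟩,⟨1365,[(114,true),(163,true),(114,true),(113,false)],[(5,false),(4,false),(6,false),(4,false),(5,false),(2,false),(4,false),(1,false),(5,false),(6,false)]⟩]))
 (.one .base))
 (.fork (.one (.path 1 [⟨1918,[(110,true)],[(1,false),(5,false),(6,false),(4,false),(2,true),(5,false),(4,false)]⟩,⟨3219,[],[(0,false),(4,false),(1,false),(4,false),(6,false),(4,false),(2,true),(5,false),(2,false),(4,false)]⟩]))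
 (.one .base))))
 (.fork (.fork (.fork (.one (.path 1 [⟨264,[(158,false),(204,false),(158,false),(204,false),(158,false)],[(2,false),(4,false),(6,false),(4,false),(1,false),(5,false),(4,false),(1,false),(5,false),(6,false),(2,true)]⟩,⟨453,[],[(4,false),(1,false),(6,false),(4,false),(1,false),(4,false),(5,false),(2,false),(5,false),(6,false)]⟩]))
 (.one .base))
 (.fork (.one (.path 0 [⟨2766,[(110,false),(109,false)],[(0,false),(5,false),(4,false),(1,false),(4,false),(6,false),(2,true),(5,false),(2,true)]⟩,⟨2339,[],[(1,false),(5,false),(2,false),(4,false),(6,false),(4,false),(1,false),(5,false),(4,false)]⟩]))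
 (.one .base)))
 (.fork (.fork (.one (.path 2 [⟨1042,[(110,false),(109,false)],[(4,false),(5,false),(4,false),(5,false),(2,true),(5,false),(4,false),(1,false),(6,false)]⟩,⟨1424,[(163,false),(114,false),(163,true)],[(0,false),(2,false),(4,false),(1,false),(4,false),(5,false),(6,false),(4,false),(1,false),(4,false),(1,false)]⟩,⟨867,[(132,false),(121,false),(132,false)],[(1,false),(5,false),(2,false),(4,false),(5,false),(4,false),(2,true),(5,false),(4,false),(1,false)]⟩]))
 (.one .base))
 (.fork (.one (.path 0 [⟨3015,[],[(2,false),(4,false),(3,false),(6,false),(4,false),(5,false)]⟩,⟨3847,[(109,false)],[(3,false),(5,false),(4,false),(5,false),(4,false),(6,false),(4,false),(1,false),(4,false)]⟩]))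
 (.one .base))))))
 (.fork (.fork (.fork (.fork (.fork (.one (.path 1 [⟨218,[],[(4,false),(3,false),(5,false),(2,true),(5,false),(4,false),(1,false),(6,false),(4,false)]⟩,⟨241,[],[(5,false),(4,false),(1,false),(6,false),(4,false),(1,false),(4,false),(5,false),(6,false),(4,false)]⟩]))
 (.one (.path 7 [⟨4336,[(4322,false),(4321,true)],[(3,false),(5,false),(4,false),(5,false),(2,false),(5,false),(4,false),(1,false),(5,false),(4,false)]⟩,⟨4307,[],[(5,false),(2,true),(5,false),(4,false),(5,false),(6,false),(2,true)]⟩,⟨3981,[(110,false),(109,false)],[(2,false),(4,false),(1,false),(4,false),(5,false),(4,false),(1,false),(4,false),(2,true)]⟩])))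
 (.fork (.one (.path 6 [⟨2032,[(109,false)],[(1,false),(2,false),(5,false),(4,false),(2,true),(5,false),(4,false),(2,true),(5,false),(4,false)]⟩,⟨556,[(110,true),(109,false)],[(2,true),(5,false),(2,false),(4,false),(5,false),(2,false),(4,false),(1,false),(4,false),(5,false),(4,false)]⟩,⟨449,[(204,false),(172,false),(158,false),(204,true)],[(2,false),(3,false),(5,false),(2,false),(6,false),(4,false),(1,false),(5,false),(4,false),(6,false)]⟩]))
 (.one .base)))
 (.fork (.fork (.one (.path 10 [⟨275,[(158,false)],[(0,false),(4,false),(1,false),(5,false),(2,true)]⟩,⟨1014,[(110,false),(109,false)],[(0,false),(2,false),(4,false),(1,false),(6,false),(4,false),(5,false),(2,false),(4,false),(1,false),(5,false)]⟩,⟨905,[(57,false),(56,false),(55,false),(54,false)],[(2,false),(6,false),(4,false),(1,false),(4,false),(5,false),(6,false),(2,true),(5,false)]⟩]))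
 (.one .base))
 (.fork (.one (.path 1 [⟨2799,[],[(0,false),(1,false),(5,false),(6,false),(2,true)]⟩,⟨2497,[(109,false)],[(1,false),(3,false),(5,false),(4,false),(5,false),(4,false),(1,false),(4,false)]⟩]))
 (.one .base))))
 (.fork (.fork (.fork (.one (.path 0 [⟨616,[(114,true),(163,true)],[(1,false),(2,true),(5,false),(2,false),(4,false),(5,false),(2,false),(6,false),(4,false)]⟩,⟨689,[],[(0,false),(5,false),(2,false),(5,false),(6,false),(4,false),(1,false),(5,false),(4,false)]⟩]))
 (.one .base))
 (.fork (.one (.path 2 [⟨1000,[],[(1,false),(5,false),(4,false),(1,false),(5,false),(6,false),(4,false),(5,false),(2,false),(4,false)]⟩,⟨1451,[(204,false),(158,false),(204,true),(158,false),(172,false)],[(1,false),(4,false),(3,false),(5,false),(6,false),(4,false),(1,false),(5,false),(2,false)]⟩,⟨2547,[(110,true)],[(1,false),(3,false),(4,false),(5,false),(2,true),(5,false),(4,false),(5,false),(2,false),(6,false)]⟩]))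
 (.one .base)))
 (.fork (.fork (.one (.path 0 [⟨678,[],[(2,false),(5,false),(2,false),(4,false),(3,false),(5,false),(2,false),(4,false),(5,false)]⟩,⟨1291,[],[(1,false),(5,false),(4,false),(5,false),(2,true),(5,false),(4,false),(1,false)]⟩]))
 (.one .base))
 (.fork (.one (.path 1 [⟨1511,[],[(4,false),(1,false),(2,true)]⟩,⟨2840,[],[(5,false),(2,true),(5,false),(4,false),(1,false),(4,false),(5,false),(4,false)]⟩]))
 (.one .base)))))
 (.fork (.fork (.fork (.fork (.one (.path 0 [⟨216,[(204,true),(158,false)],[(0,false),(6,false),(4,false),(1,false),(5,false),(4,false),(5,false),(6,false),(2,true),(5,false)]⟩,⟨379,[],[(2,false),(3,false),(6,false),(4,false),(1,false),(5,false),(4,false),(5,false),(6,false),(2,true)]⟩]))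
 (.one .base))
 (.fork (.one (.path 0 [⟨1592,[],[(1,false),(6,false),(2,true),(5,false),(2,false),(4,false),(5,false),(2,false),(4,false),(5,false)]⟩,⟨1753,[],[(6,false),(4,false),(1,false),(5,false),(4,false),(5,false),(2,false)]⟩]))
 (.one .base)))
 (.fork (.fork (.one (.path 11 [⟨1157,[],[(0,false),(2,true),(5,false),(2,true)]⟩,⟨988,[(110,false)],[(1,false),(3,false),(4,false),(1,false),(4,false),(5,false),(4,false),(5,false),(2,true)]⟩,⟨987,[(158,false)],[(5,false),(4,false),(5,false),(2,false),(6,false),(4,false),(1,false),(4,false),(6,false)]⟩]))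
 (.one .base))
 (.fork (.one (.path 0 [⟨2697,[],[(1,false),(5,false),(2,false),(6,false),(4,false)]⟩,⟨3095,[],[(1,false),(3,false),(4,false),(6,false),(4,false),(2,true),(5,false),(4,false),(1,false),(4,false)]⟩]))
 (.one .base))))
 (.fork (.fork (.fork (.one (.path 5 [⟨492,[],[(3,false),(6,false),(2,true)]⟩,⟨897,[],[(3,false),(5,false),(4,false)]⟩,⟨835,[(163,false),(114,true),(163,true)],[(1,false),(5,false),(4,false),(1,false),(6,false),(4,false),(5,false),(4,false),(2,true)]⟩]))
 (.one .base))
 (.fork (.one (.path 1 [⟨2965,[],[(3,false),(4,false),(5,false),(2,false),(5,false)]⟩,⟨2630,[(110,true)],[(1,false),(4,false),(1,false),(3,false),(6,false),(4,false),(2,true),(5,false),(2,false),(4,false)]⟩]))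
 (.one .base)))
 (.fork (.fork (.one (.path 0 [⟨456,[(109,false)],[(3,false),(6,false),(4,false),(5,false),(2,false),(4,false),(5,false)]⟩,⟨813,[],[(0,false),(5,false),(6,false),(4,false),(5,false),(2,true),(5,false),(4,false),(1,false)]⟩]))
 (.one .base))
 (.fork (.one (.path 3 [⟨4063,[],[(1,false),(2,false),(3,false),(5,false),(6,false)]⟩,⟨1354,[(109,false)],[(0,false),(4,false),(1,false),(4,false),(6,false),(2,true),(5,false),(2,false),(4,false),(1,false),(4,false)]⟩,⟨1682,[(114,true),(163,false)],[(5,false),(2,false),(5,false),(4,false),(1,false),(4,false),(6,false),(4,false)]⟩]))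
 (.one .base)))))))

/-- a part of the justifications -/
noncomputable def twJustT81 : BT Just := (.fork (.fork (.fork (.fork (.fork (.fork (.one .base)
 (.one (.path 1 [⟨4038,[(3912,false),(3911,true),(3911,true),(3912,true),(3911,false)],[(0,false),(5,false),(2,true),(5,false),(4,false),(5,false),(6,false),(2,true)]⟩,⟨1417,[],[(2,false),(4,false),(3,false),(5,false),(6,false),(4,false),(1,false),(5,false),(2,false),(4,false)]⟩])))
 (.fork (.one (.path 13 [⟨1566,[(109,false)],[(1,false),(4,false),(3,false),(6,false),(4,false),(5,false),(4,false),(1,false),(4,false),(2,true)]⟩,⟨755,[(114,false),(163,false),(114,true),(113,false)],[(0,false),(4,false),(1,false),(4,false),(2,true),(5,false),(2,false),(4,false),(5,false),(6,false),(2,true)]⟩,⟨2037,[],[(5,false),(2,false),(4,false),(5,false),(4,false),(1,false),(4,false),(5,false),(2,false),(4,false)]⟩]))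
 (.one .base)))
 (.fork (.fork (.one (.path 11 [⟨927,[],[(3,false),(5,false),(6,false)]⟩,⟨1019,[(110,true),(109,false)],[(0,false),(1,false),(4,false),(6,false),(4,false),(1,false),(4,false),(5,false),(2,false),(5,false)]⟩,⟨868,[(109,false)],[(1,false),(4,false),(6,false),(4,false),(1,false),(4,false),(6,false),(2,true)]⟩]))
 (.one .base))
 (.fork (.one (.path 1 [⟨2405,[],[(0,false),(1,false),(6,false),(2,true)]⟩,⟨2542,[(110,true)],[(0,false),(1,false),(6,false),(4,false)]⟩]))
 (.one .base))))
 (.fork (.fork (.fork (.one (.path 1 [⟨396,[(110,true)],[(1,false),(3,false),(5,false),(2,false),(4,false),(1,false),(5,false),(4,false),(5,false),(2,true),(5,false)]⟩,⟨295,[],[(4,false),(5,false),(2,false),(4,false),(5,false),(4,false),(5,false),(2,true),(5,false)]⟩]))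
 (.one .base))
 (.fork (.one (.path 3 [⟨2560,[],[(6,false),(4,false),(1,false),(5,false),(4,false),(5,false),(4,false),(6,false),(2,true),(5,false)]⟩,⟨2304,[(109,false)],[(1,false),(3,false),(4,false),(2,true),(5,false),(4,false),(5,false),(2,true),(5,false),(4,false),(1,false)]⟩,⟨2392,[(109,false)],[(0,false),(5,false),(2,true),(5,false),(4,false),(1,false),(5,false),(4,false),(6,false),(4,false),(2,true)]⟩]))
 (.one .base)))
 (.fork (.fork (.one (.path 8 [⟨898,[(114,false),(113,false)],[(0,false),(1,false),(5,false),(4,false),(2,true),(5,false),(4,false),(1,false),(2,true)]⟩,⟨887,[(204,false),(158,false),(204,false)],[(2,false),(5,false),(2,false),(4,false),(5,false),(2,true),(5,false),(4,false)]⟩,⟨947,[(114,false),(163,false)],[(0,false),(4,false),(5,false),(2,false),(4,false),(5,false),(2,false),(4,false),(6,false),(4,false)]⟩]))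
 (.one .base))
 (.fork (.one (.path 0 [⟨1434,[],[(4,false),(5,false),(6,false),(4,false),(2,true),(5,false),(4,false),(5,false),(2,false)]⟩,⟨1115,[],[(0,false),(1,false),(4,false),(6,false),(4,false),(1,false),(2,true),(5,false),(4,false)]⟩]))
 (.one .base)))))
 (.fork (.fork (.fork (.fork (.one (.path 13 [⟨157,[(158,false),(204,true),(158,false),(172,false)],[(1,false),(5,false),(4,false),(6,false),(2,true),(5,false),(4,false),(5,false),(4,false)]⟩,⟨66,[(25,false),(28,false),(20,false)],[(0,false),(1,false),(2,false),(4,false),(1,false),(5,false),(6,false),(4,false),(5,false),(4,false)]⟩,⟨192,[(58,false),(56,false),(54,false)],[(1,false),(3,false),(4,false),(5,false),(2,false),(4,false),(5,false),(4,false),(1,false),(5,false),(2,false)]⟩]))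
 (.one (.rev 4356)))
 (.fork (.one (.path 3 [⟨1434,[],[(1,false),(2,false),(4,false),(5,false),(4,false),(5,false),(2,true),(5,false),(4,false)]⟩,⟨1627,[(204,false),(158,false),(172,false),(158,false)],[(4,false),(3,false),(5,false),(2,false),(4,false),(5,false),(6,false),(4,false),(2,true),(5,false),(2,true)]⟩,⟨2223,[(110,true)],[(3,false),(4,false),(5,false),(4,false),(6,false),(4,false),(5,false),(4,false),(2,true),(5,false)]⟩]))
 (.one .base)))
 (.fork (.fork (.one (.path 0 [⟨353,[],[(4,false),(5,false)]⟩,⟨569,[(65,true),(72,true),(65,true),(64,false)],[(0,false),(2,false),(5,false),(2,false),(6,false)]⟩]))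
 (.one .base))
 (.fork (.one (.path 0 [⟨2036,[],[(2,false),(5,false),(2,false),(6,false),(4,false),(5,false),(4,false),(6,false)]⟩,⟨2622,[(110,false),(109,false)],[(1,false),(4,false),(1,false),(4,false),(5,false),(4,false),(6,false),(2,true),(5,false),(2,false)]⟩]))
 (.one .base))))
 (.fork (.fork (.fork (.one (.path 0 [⟨530,[(121,true),(132,false)],[(0,false),(1,false),(4,false),(1,false),(6,false),(4,false),(5,false),(2,true),(5,false)]⟩,⟨523,[],[(0,false),(4,false),(1,false),(5,false),(2,false),(6,false)]⟩]))
 (.one .base))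
 (.fork (.one (.path 0 [⟨123,[(110,true)],[(0,false),(4,false),(6,false),(4,false),(5,false),(4,false)]⟩,⟨509,[],[(0,false),(5,false),(2,false),(4,false),(6,false),(4,false),(1,false),(4,false),(5,false)]⟩]))
 (.one .base)))
 (.fork (.fork (.one (.path 1 [⟨1101,[],[(0,false),(5,false),(4,false)]⟩,⟨1717,[(114,true),(113,false)],[(4,false),(3,false),(5,false),(2,false),(4,false),(1,false),(6,false),(4,false)]⟩]))
 (.one .base))
 (.fork (.one (.path 2 [⟨2898,[],[(0,false),(1,false),(2,false),(5,false),(4,false),(5,false),(2,false),(6,false)]⟩,⟨1020,[(109,false)],[(0,false),(5,false),(4,false),(1,false),(6,false),(4,false),(5,false),(4,false),(6,false)]⟩,⟨3843,[],[(6,false),(4,false),(5,false),(2,true),(5,false),(4,false),(5,false),(6,false),(2,true),(5,false)]⟩]))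
 (.one .base))))))
 (.fork (.fork (.fork (.fork (.fork (.one (.path 3 [⟨62,[],[(3,false)]⟩,⟨61,[(10,false)],[(1,false),(4,false)]⟩,⟨130,[(64,false),(72,false),(65,false)],[(1,false),(3,false),(4,false),(6,false),(4,false),(1,false),(4,false),(2,true)]⟩]))
 (.one (.path 0 [⟨3052,[(110,false)],[(5,false),(4,false),(1,false),(4,false),(6,false),(2,true),(5,false),(2,false)]⟩,⟨3955,[],[(2,false),(5,false),(2,false),(4,false),(5,false),(2,false),(4,false),(5,false),(6,false),(2,true)]⟩])))
 (.fork (.one (.path 1 [⟨1976,[(110,false),(109,false)],[(2,false),(6,false),(4,false),(5,false),(4,false),(1,false),(4,false),(1,false),(2,true),(5,false)]⟩,⟨611,[],[(4,false),(3,false),(2,true),(5,false),(2,false),(4,false),(5,false),(6,false),(4,false)]⟩]))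
 (.one .base)))
 (.fork (.fork (.one (.path 1 [⟨490,[(109,false)],[(0,false),(1,false),(4,false),(6,false),(4,false),(5,false),(2,true),(5,false),(4,false),(1,false),(4,false)]⟩,⟨481,[],[(1,false),(4,false),(1,false),(2,true),(5,false),(4,false),(5,false),(4,false),(6,false),(4,false),(1,false)]⟩]))
 (.one .base))
 (.fork (.one (.path 0 [⟨2860,[],[(2,false),(5,false),(4,false),(3,false),(5,false),(2,false),(5,false),(4,false),(1,false),(5,false)]⟩,⟨2749,[],[(3,false),(4,false),(6,false),(4,false),(1,false),(4,false),(5,false),(6,false),(4,false),(2,true)]⟩]))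
 (.one .base))))
 (.fork (.fork (.fork (.one (.path 10 [⟨249,[],[(4,false),(3,false),(6,false),(2,true)]⟩,⟨360,[],[(4,false),(2,true),(5,false),(4,false),(5,false),(2,false)]⟩,⟨226,[(83,false),(56,false),(100,false)],[(5,false),(4,false),(5,false),(6,false),(4,false),(5,false),(2,false)]⟩]))
 (.one .base))
 (.fork (.one (.path 1 [⟨948,[(110,false),(109,false)],[(0,false),(1,false),(2,false),(4,false),(5,false),(6,false),(4,false),(1,false),(4,false),(6,false)]⟩,⟨1565,[],[(1,false),(3,false),(4,false),(1,false),(5,false),(2,false),(4,false),(1,false),(5,false),(4,false)]⟩]))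
 (.one .base)))
 (.fork (.fork (.one (.path 1 [⟨648,[],[(2,false),(4,false),(6,false),(4,false),(5,false)]⟩,⟨1207,[],[(1,false),(2,false),(4,false),(1,false),(4,false),(5,false),(4,false),(5,false),(2,false),(6,false),(4,false)]⟩]))
 (.one .base))
 (.fork (.one (.path 0 [⟨1142,[(110,false)],[(6,false),(4,false),(5,false),(2,false),(4,false),(1,false),(5,false),(4,false),(5,false),(2,true)]⟩,⟨1137,[],[(1,false),(2,false),(4,false),(6,false),(4,false),(5,false),(2,true),(5,false),(4,false),(6,false)]⟩]))
 (.one .base)))))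
 (.fork (.fork (.fork (.fork (.one (.path 5 [⟨273,[],[(2,false),(4,false),(3,false),(6,false)]⟩,⟨344,[(114,false)],[(1,false),(2,false),(4,false),(1,false),(5,false),(6,false),(4,false),(1,false),(4,false)]⟩,⟨343,[(137,false),(121,true)],[(4,false),(3,false),(5,false),(6,false),(4,false),(1,false),(4,false),(2,true)]⟩]))
 (.one .base))
 (.fork (.one (.path 0 [⟨2403,[],[(3,false),(2,true)]⟩,⟨1528,[(109,false)],[(0,false),(1,false),(5,false),(4,false),(6,false),(4,false),(1,false),(4,false),(5,false),(6,false)]⟩]))
 (.one .base)))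
 (.fork (.fork (.one (.path 0 [⟨427,[],[(2,true),(5,false)]⟩,⟨1395,[(163,false),(114,false)],[(1,false),(5,false),(2,false),(4,false),(1,false),(5,false)]⟩]))
 (.one .base))
 (.fork (.one (.path 0 [⟨2910,[],[(1,false),(2,false),(5,false),(4,false),(6,false),(2,true),(5,false),(4,false),(5,false),(6,false),(4,false)]⟩,⟨3234,[(109,false)],[(6,false),(2,true),(5,false),(2,false),(4,false),(3,false),(5,false),(2,false)]⟩]))
 (.one .base))))
 (.fork (.fork (.fork (.one (.path 7 [⟨817,[(57,false),(83,false),(100,false),(54,false)],[(2,false),(4,false),(6,false),(4,false),(1,false),(4,false),(5,false),(6,false),(2,true)]⟩,⟨818,[(109,false)],[(3,false),(4,false),(1,false),(5,false),(6,false)]⟩,⟨565,[(83,false),(58,false)],[(3,false),(5,false),(4,false),(2,true),(5,false),(4,false),(1,false),(5,false),(4,false)]⟩]))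
 (.one .base))
 (.fork (.one (.path 4 [⟨2445,[(110,false),(109,false)],[(4,false),(3,false),(6,false),(4,false),(5,false),(2,true),(5,false)]⟩,⟨1518,[],[(0,false),(6,false),(4,false),(5,false),(2,false),(4,false),(1,false)]⟩,⟨2717,[(110,false),(109,false)],[(1,false),(4,false),(3,false),(5,false),(2,false),(5,false),(4,false),(6,false)]⟩]))
 (.one .base)))
 (.fork (.fork (.one (.path 0 [⟨942,[(110,false),(109,false)],[(1,false),(4,false),(6,false),(4,false),(1,false),(4,false),(1,false),(6,false)]⟩,⟨1231,[],[(3,false),(4,false),(5,false)]⟩]))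
 (.one .base))
 (.fork (.one (.path 1 [⟨2208,[(110,false)],[(1,false),(4,false),(1,false),(5,false),(4,false),(5,false),(6,false),(2,true)]⟩,⟨3967,[],[(3,false),(5,false),(4,false),(1,false),(6,false),(2,true)]⟩]))
 (.one .base)))))))

/-- a part of the justifications -/
noncomputable def twJustT82 : BT Just := (.fork (.fork (.fork (.fork (.fork (.fork (.one (.rev 68))
 (.one (.path 2 [⟨3571,[],[(1,false),(4,false)]⟩,⟨2834,[(110,false),(109,false)],[(1,false),(5,false),(2,false),(4,false),(3,false),(5,false),(6,false),(2,true)]⟩,⟨3989,[],[(2,false),(4,false),(1,false),(5,false),(4,false),(5,false),(4,false),(6,false),(2,true),(5,false)]⟩])))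
 (.fork (.one (.path 5 [⟨1807,[(110,true)],[(5,false),(2,false),(5,false),(4,false),(5,false),(2,false),(5,false),(6,false),(4,false),(1,false)]⟩,⟨694,[(110,true),(109,false)],[(2,false),(4,false),(3,false),(5,false),(4,false),(1,false),(4,false),(5,false),(4,false),(2,true)]⟩,⟨1277,[(172,false),(158,false)],[(1,false),(4,false),(5,false),(4,false),(6,false),(4,false)]⟩]))
 (.one .base)))
 (.fork (.fork (.one (.path 4 [⟨973,[(121,false),(137,true)],[(6,false),(4,false),(1,false),(3,false),(4,false),(2,true),(5,false),(2,false),(4,false),(5,false)]⟩,⟨608,[(110,true)],[(5,false),(4,false),(1,false),(6,false),(2,true),(5,false),(4,false),(1,false),(6,false),(4,false)]⟩,⟨961,[(132,false),(121,false),(121,false)],[(5,false),(6,false),(4,false),(5,false),(2,false),(4,false),(5,false),(6,false)]⟩]))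
 (.one .base))
 (.fork (.one (.path 0 [⟨600,[(110,true)],[(1,false),(3,false),(5,false),(4,false),(6,false),(4,false),(1,false),(5,false),(4,false),(1,false),(2,true)]⟩,⟨865,[(137,true),(132,false),(121,false)],[(0,false),(2,false),(4,false),(5,false),(2,false),(6,false),(4,false),(5,false),(4,false),(6,false)]⟩]))
 (.one .base))))
 (.fork (.fork (.fork (.one (.path 6 [⟨472,[(110,true),(109,false)],[(0,false),(4,false),(6,false),(4,false),(5,false),(4,false),(1,false),(4,false),(1,false),(6,false),(2,true)]⟩,⟨473,[(163,false),(114,true),(163,true),(113,false)],[(2,true),(5,false),(2,false),(4,false),(1,false),(4,false),(6,false),(4,false),(1,false)]⟩,⟨389,[(121,false),(137,true),(121,false),(121,false)],[(4,false),(3,false),(5,false),(2,false),(4,false)]⟩]))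
 (.one .base))
 (.fork (.one (.path 3 [⟨2018,[],[(1,false),(3,false),(5,false),(4,false),(5,false)]⟩,⟨964,[(109,false)],[(4,false),(1,false),(2,true),(5,false),(4,false),(5,false),(2,false),(4,false)]⟩,⟨961,[(132,false),(121,false),(121,false)],[(0,false),(5,false),(6,false),(4,false),(1,false),(2,true),(5,false),(4,false),(6,false)]⟩]))
 (.one .base)))
 (.fork (.fork (.one (.path 12 [⟨372,[(137,true),(132,true),(121,false)],[(0,false),(4,false),(1,false),(4,false),(6,false),(4,false),(1,false),(5,false),(4,false),(6,false)]⟩,⟨959,[(114,true),(163,false),(114,false)],[(6,false),(4,false),(5,false),(4,false),(1,false),(4,false),(6,false),(2,true)]⟩,⟨1527,[(110,true)],[(2,false),(5,false),(2,false),(4,false),(5,false),(4,false),(6,false)]⟩]))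
 (.one .base))
 (.fork (.one (.path 0 [⟨1687,[],[(4,false)]⟩,⟨3555,[(110,false)],[(2,false),(4,false),(1,false),(3,false),(6,false),(4,false),(5,false),(2,false),(4,false),(5,false)]⟩]))
 (.one .base)))))
 (.fork (.fork (.fork (.fork (.one (.path 6 [⟨122,[(58,false),(57,false),(55,false)],[(4,false),(3,false),(2,true),(5,false)]⟩,⟨313,[],[(4,false),(2,true),(5,false),(2,false),(4,false),(5,false),(4,false),(2,true),(5,false),(2,true)]⟩,⟨211,[(163,false),(114,false)],[(2,false),(5,false),(2,false),(6,false),(4,false),(5,false),(4,false),(6,false),(2,true),(5,false),(2,false)]⟩]))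
 (.one .base))
 (.fork (.one (.path 9 [⟨2176,[(110,false),(109,false)],[(4,false),(5,false),(4,false),(2,true),(5,false),(4,false),(6,false),(2,true)]⟩,⟨1709,[(109,false)],[(0,false),(1,false),(5,false),(2,false),(4,false),(5,false),(4,false),(2,true),(5,false),(2,false)]⟩,⟨1860,[(110,true),(109,false)],[(4,false),(2,true),(5,false),(4,false),(6,false),(2,true),(5,false)]⟩]))
 (.one .base)))
 (.fork (.fork (.one (.path 0 [⟨531,[],[(4,false),(2,true),(5,false)]⟩,⟨1183,[(109,false)],[(0,false),(2,false),(4,false),(6,false),(4,false),(1,false),(5,false),(4,false),(1,false),(5,false),(6,false)]⟩]))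
 (.one .base))
 (.fork (.one (.path 0 [⟨524,[(110,true),(109,false)],[(0,false),(4,false),(5,false),(2,false),(4,false),(1,false),(4,false),(5,false),(6,false),(2,true)]⟩,⟨1316,[],[(1,false),(2,false),(3,false),(6,false)]⟩]))
 (.one .base))))
 (.fork (.fork (.fork (.one (.path 3 [⟨460,[(163,false)],[(6,false)]⟩,⟨492,[(191,true),(63,false),(191,false)],[(5,false),(2,true),(5,false),(4,false),(1,false),(5,false),(2,true)]⟩,⟨697,[(204,true),(158,false),(172,false),(158,false)],[(2,false),(6,false),(4,false),(1,false),(3,false),(5,false),(4,false),(5,false),(6,false),(4,false)]⟩]))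
 (.one .base))
 (.fork (.one (.path 8 [⟨1911,[],[(0,false),(1,false),(5,false),(2,false)]⟩,⟨2627,[(110,true),(109,false)],[(1,false),(5,false),(2,false),(4,false),(3,false),(5,false),(2,true),(5,false),(4,false),(6,false)]⟩,⟨1852,[(109,false)],[(1,false),(4,false),(5,false),(2,false),(4,false),(5,false),(2,false),(4,false),(1,false),(6,false)]⟩]))
 (.one .base)))
 (.fork (.fork (.one (.path 0 [⟨1210,[],[(1,false),(3,false),(2,true),(5,false),(2,false),(4,false),(1,false),(5,false),(6,false),(4,false),(1,false)]⟩,⟨853,[],[(5,false),(2,true),(5,false),(4,false),(1,false),(5,false),(6,false),(4,false)]⟩]))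
 (.one .base))
 (.fork (.one (.path 3 [⟨3830,[],[(3,false),(5,false),(2,false),(5,false),(6,false)]⟩,⟨1641,[(191,true),(72,true),(65,false),(63,true)],[(1,false),(4,false),(1,false),(6,false),(2,true),(5,false),(4,false),(1,false),(6,false)]⟩,⟨1671,[(110,false)],[(2,false),(6,false),(4,false),(1,false),(4,false),(5,false),(2,false),(4,false),(1,false)]⟩]))
 (.one .base))))))
 (.fork (.fork (.fork (.fork (.fork (.one (.rev 196))
 (.one (.path 0 [⟨4282,[(3912,false),(3911,false),(3912,true),(3911,true)],[(4,false),(6,false),(4,false),(5,false),(2,false),(4,false),(5,false),(6,false),(4,false),(2,true)]⟩,⟨3874,[(3911,false),(3911,false),(3912,false),(3911,false)],[(1,false),(2,false),(3,false),(5,false),(4,false),(1,false),(5,false),(6,false),(4,false),(2,true),(5,false)]⟩])))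
 (.fork (.one (.path 2 [⟨1940,[(110,false)],[(1,false),(4,false),(5,false),(4,false),(1,false),(2,true)]⟩,⟨1044,[],[(5,false),(6,false),(4,false),(5,false),(2,true),(5,false),(4,false),(5,false),(2,false)]⟩,⟨1205,[(163,true),(114,true),(163,false)],[(4,false),(3,false),(6,false),(2,true),(5,false),(4,false),(1,false),(4,false),(5,false)]⟩]))
 (.one .base)))
 (.fork (.fork (.one (.path 3 [⟨469,[],[(0,false),(1,false),(3,false),(5,false),(6,false)]⟩,⟨1215,[(163,true),(114,false),(113,false)],[]⟩,⟨1149,[(110,false)],[(1,false),(2,false),(5,false),(4,false),(1,false),(4,false),(2,true),(5,false),(2,false)]⟩]))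
 (.one .base))
 (.fork (.one (.path 1 [⟨2575,[],[(4,false),(1,false)]⟩,⟨1872,[(110,true),(109,false)],[(1,false),(6,false),(4,false),(2,true),(5,false),(4,false),(1,false),(5,false),(2,false),(6,false)]⟩]))
 (.one .base))))
 (.fork (.fork (.fork (.one (.path 4 [⟨629,[],[(2,false),(3,false)]⟩,⟨608,[],[(1,false),(2,false),(3,false),(6,false)]⟩,⟨135,[],[(0,false),(3,false),(6,false)]⟩]))
 (.one .base))
 (.fork (.one (.path 0 [⟨1828,[(110,true),(109,false)],[(1,false),(5,false),(4,false),(5,false),(4,false),(6,false),(4,false),(1,false)]⟩,⟨1494,[(110,false)],[(3,false),(4,false),(1,false),(5,false),(4,false),(6,false),(4,false),(1,false)]⟩]))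
 (.one .base)))
 (.fork (.fork (.one (.path 0 [⟨888,[(163,false),(114,true),(113,false)],[(4,false),(1,false),(4,false),(6,false),(4,false),(2,true),(5,false),(2,false),(4,false),(1,false)]⟩,⟨1269,[],[(0,false),(5,false),(2,false),(4,false),(6,false),(4,false),(5,false),(2,true),(5,false),(4,false)]⟩]))
 (.one .base))
 (.fork (.one (.path 0 [⟨780,[(110,false)],[(1,false),(3,false),(5,false),(4,false),(6,false),(4,false),(2,true),(5,false),(2,true)]⟩,⟨963,[],[(2,false),(6,false),(4,false),(5,false),(4,false),(1,false),(2,true),(5,false),(4,false)]⟩]))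
 (.one .base)))))
 (.fork (.fork (.fork (.fork (.one (.path 7 [⟨144,[(55,false),(100,false),(56,false)],[(4,false),(6,false),(4,false),(2,true),(5,false),(2,false),(4,false),(5,false),(6,false)]⟩,⟨181,[(121,false),(132,false)],[(2,false),(3,false),(5,false),(6,false),(4,false),(1,false),(4,false),(2,true),(5,false)]⟩,⟨447,[(158,false),(204,true),(158,false),(204,true),(158,false)],[(2,false),(4,false),(5,false),(4,false),(6,false),(2,true),(5,false),(4,false),(5,false)]⟩]))
 (.one .base))
 (.fork (.one (.path 0 [⟨1959,[],[(0,false),(1,false),(6,false),(2,true)]⟩,⟨2041,[(109,false)],[(3,false),(2,true),(5,false),(2,false),(4,false),(5,false),(4,false),(2,true),(5,false),(4,false)]⟩]))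
 (.one .base)))
 (.fork (.fork (.one (.path 0 [⟨1416,[(110,false)],[(4,false),(5,false),(4,false),(6,false),(4,false),(1,false),(2,true),(5,false),(4,false)]⟩,⟨961,[],[(1,false),(6,false),(4,false),(1,false),(3,false),(5,false),(2,false),(4,false)]⟩]))
 (.one .base))
 (.fork (.one (.path 0 [⟨1991,[],[(2,false),(4,false),(5,false),(2,false),(6,false)]⟩,⟨2631,[],[(0,false),(2,false),(4,false),(1,false),(5,false),(4,false),(5,false),(2,false),(5,false),(4,false)]⟩]))
 (.one .base))))
 (.fork (.fork (.fork (.one (.path 7 [⟨401,[(137,true),(132,true),(121,false),(132,false)],[(0,false),(5,false),(4,false),(2,true),(5,false),(2,false),(4,false),(5,false),(4,false),(2,true),(5,false)]⟩,⟨596,[(109,false)],[(0,false),(1,false),(4,false),(5,false),(6,false),(4,false),(1,false),(4,false),(1,false),(5,false)]⟩,⟨931,[(114,false),(163,false)],[(0,false),(1,false),(6,false),(4,false),(1,false),(4,false),(2,true),(5,false),(2,false)]⟩]))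
 (.one .base))
 (.fork (.one (.path 0 [⟨2817,[],[(0,false),(4,false)]⟩,⟨2271,[(110,true)],[(0,false),(1,false),(5,false),(4,false),(6,false),(4,false),(5,false),(2,false),(4,false),(5,false)]⟩]))
 (.one .base)))
 (.fork (.fork (.one (.path 7 [⟨754,[(110,true),(109,false)],[(3,false),(4,false),(5,false),(4,false),(2,true),(5,false),(2,false),(4,false),(5,false),(2,false),(4,false)]⟩,⟨1580,[],[(4,false),(5,false),(4,false),(1,false),(4,false),(5,false),(4,false),(2,true)]⟩,⟨851,[(114,false),(163,true),(113,false)],[(1,false),(5,false),(2,false),(6,false),(4,false),(5,false),(4,false),(5,false),(2,false)]⟩]))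
 (.one .base))
 (.fork (.one (.path 4 [⟨435,[(137,true),(121,false),(132,false)],[(0,false),(1,false),(4,false),(5,false),(4,false),(2,true),(5,false),(2,false),(4,false),(6,false)]⟩,⟨935,[(163,true),(114,false),(113,false)],[(2,false),(4,false),(1,false),(3,false)]⟩,⟨3859,[(110,true),(109,false)],[(1,false),(2,false),(3,false),(5,false),(4,false),(5,false),(6,false),(2,true),(5,false),(4,false),(1,false)]⟩]))
 (.one .base)))))))

/-- a part of the justifications -/
noncomputable def twJustT83 : BT Just := (.fork (.fork (.fork (.fork (.fork (.fork (.one (.path 2 [⟨19,[],[]⟩,⟨8,[],[(0,false),(3,false)]⟩,⟨7,[(4,false),(3,false)],[(0,false),(4,false)]⟩]))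
 (.one (.path 0 [⟨3982,[(3911,false),(3912,false),(3911,false)],[(0,false),(2,false),(6,false),(4,false),(5,false),(2,false),(4,false),(1,false),(5,false),(6,false),(2,true)]⟩,⟨2710,[(109,false)],[(5,false),(4,false),(2,true),(5,false),(4,false),(2,true)]⟩])))
 (.fork (.one (.path 0 [⟨1762,[(110,true),(109,false)],[(1,false),(2,false),(4,false),(5,false),(2,false),(4,false),(5,false),(2,false),(4,false),(6,false)]⟩,⟨1897,[],[(0,false),(1,false),(5,false),(4,false),(6,false),(4,false),(2,true),(5,false),(2,false),(4,false)]⟩]))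
 (.one .base)))
 (.fork (.fork (.one (.path 2 [⟨373,[(163,true),(114,true)],[(1,false),(2,false),(4,false),(1,false),(3,false),(6,false),(4,false),(5,false),(2,true),(5,false)]⟩,⟨400,[(109,false)],[(1,false),(3,false),(4,false),(6,false),(4,false),(5,false),(4,false),(1,false),(6,false)]⟩,⟨873,[(137,false),(132,true),(121,true),(137,false)],[(0,false),(2,false),(4,false),(1,false),(5,false),(6,false),(4,false),(5,false),(2,true)]⟩]))
 (.one .base))
 (.fork (.one (.path 1 [⟨2395,[],[(4,false),(6,false),(4,false)]⟩,⟨2294,[(110,false),(109,false)],[(3,false),(4,false),(6,false),(4,false),(5,false),(2,false),(4,false),(1,false),(6,false)]⟩]))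
 (.one .base))))
 (.fork (.fork (.fork (.one (.path 4 [⟨167,[],[(0,false),(5,false),(2,false),(5,false),(4,false)]⟩,⟨382,[(121,false),(132,false)],[(0,false),(4,false),(5,false),(2,false),(4,false),(5,false)]⟩,⟨406,[(114,true),(163,true),(114,true)],[(1,false),(5,false),(2,false),(4,false),(1,false),(4,false),(5,false),(4,false)]⟩]))
 (.one .base))
 (.fork (.one (.path 0 [⟨2031,[],[(1,false),(2,false)]⟩,⟨2135,[(110,true)],[(2,false),(5,false),(6,false),(4,false),(1,false),(4,false),(5,false),(6,false)]⟩]))
 (.one .base)))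
 (.fork (.fork (.one (.path 2 [⟨837,[(114,false),(113,false)],[(0,false),(4,false),(1,false)]⟩,⟨658,[(110,true),(109,false)],[(4,false),(1,false),(5,false),(4,false),(1,false),(5,false)]⟩,⟨933,[],[(1,false),(3,false),(5,false),(4,false),(5,false)]⟩]))
 (.one .base))
 (.fork (.one (.path 0 [⟨2851,[],[(2,false),(6,false)]⟩,⟨2804,[(110,true)],[(2,false),(3,false),(4,false),(1,false),(6,false),(4,false),(5,false),(4,false),(2,true)]⟩]))
 (.one .base)))))
 (.fork (.fork (.fork (.fork (.one (.path 11 [⟨155,[(132,false),(121,false)],[(0,false),(1,false),(2,false),(5,false),(6,false),(4,false),(5,false),(4,false),(1,false),(6,false)]⟩,⟨198,[(65,true),(63,false)],[(6,false),(4,false),(1,false),(3,false),(5,false),(4,false),(6,false),(2,true)]⟩,⟨280,[(204,false),(158,false),(204,false)],[(4,false),(1,false),(3,false),(4,false),(5,false),(2,true),(5,false),(4,false),(5,false)]⟩]))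
 (.one .base))
 (.fork (.one (.path 8 [⟨1157,[(110,false)],[(2,false),(4,false),(5,false),(6,false),(2,true)]⟩,⟨992,[(110,false)],[(0,false),(6,false),(2,true),(5,false),(2,false),(4,false),(5,false),(4,false),(1,false),(4,false),(2,true)]⟩,⟨993,[(204,false),(172,false),(158,false),(204,true),(158,false)],[(1,false),(5,false),(4,false),(1,false),(4,false),(2,true),(5,false),(4,false),(1,false)]⟩]))
 (.one .base)))
 (.fork (.fork (.one (.path 13 [⟨417,[],[(4,false),(2,true),(5,false),(2,false),(4,false),(1,false),(5,false),(4,false),(6,false),(2,true)]⟩,⟨591,[(163,false),(114,true),(163,true),(114,false),(113,false)],[(0,false),(2,true),(5,false),(4,false),(1,false),(6,false)]⟩,⟨551,[(204,false),(158,false),(172,false),(158,false)],[(4,false),(2,true),(5,false),(4,false),(2,true),(5,false),(2,false),(4,false),(1,false)]⟩]))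
 (.one .base))
 (.fork (.one (.path 0 [⟨2150,[(110,true)],[(1,false),(4,false),(3,false),(2,true),(5,false),(4,false),(1,false),(6,false),(2,true)]⟩,⟨2500,[],[(1,false),(2,false),(5,false),(4,false),(2,true),(5,false),(4,false),(1,false),(4,false),(5,false),(4,false)]⟩]))
 (.one .base))))
 (.fork (.fork (.fork (.one (.path 10 [⟨592,[(204,false)],[(1,false),(4,false),(5,false),(2,false),(6,false),(4,false),(1,false),(5,false),(2,true)]⟩,⟨266,[(114,true),(163,true),(113,false)],[(3,false),(5,false),(4,false),(6,false),(4,false),(5,false),(4,false),(2,true),(5,false)]⟩,⟨409,[(57,false),(100,false),(56,false)],[(2,false),(6,false),(4,false),(5,false),(4,false),(5,false),(2,false),(5,false),(6,false)]⟩]))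
 (.one .base))
 (.fork (.one (.path 3 [⟨1730,[(110,true),(109,false)],[(2,true),(5,false),(4,false),(2,true),(5,false),(4,false),(6,false),(2,true),(5,false)]⟩,⟨1516,[(163,true),(114,true)],[(0,false),(2,false),(4,false),(1,false),(4,false),(5,false),(4,false),(6,false),(4,false)]⟩,⟨1844,[],[(1,false),(4,false),(6,false),(4,false),(5,false),(4,false),(1,false),(6,false),(4,false)]⟩]))
 (.one .base)))
 (.fork (.fork (.one (.path 4 [⟨1192,[(110,true),(109,false)],[(0,false),(4,false),(5,false),(6,false),(2,true),(5,false),(4,false),(5,false),(2,false),(4,false)]⟩,⟨1047,[(114,false),(163,false),(114,true)],[(4,false),(1,false),(6,false),(4,false),(2,true),(5,false),(4,false),(1,false),(2,true),(5,false)]⟩,⟨927,[],[(2,true),(5,false),(4,false),(1,false),(3,false),(5,false),(4,false),(6,false),(2,true)]⟩]))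
 (.one .base))
 (.fork (.one (.path 13 [⟨655,[],[(4,false),(6,false),(2,true),(5,false),(4,false),(1,false),(6,false),(2,true),(5,false),(4,false)]⟩,⟨3096,[(109,false)],[(5,false),(2,false),(4,false),(5,false),(2,false),(4,false),(1,false),(5,false),(6,false),(2,true)]⟩,⟨3845,[],[(1,false),(3,false),(4,false),(5,false),(2,false),(6,false),(4,false),(5,false),(2,true)]⟩]))
 (.one .base))))))
 (.fork (.fork (.fork (.fork (.fork (.one (.rev 164))
 (.one (.path 0 [⟨3633,[],[(0,false)]⟩,⟨3981,[],[(0,false),(5,false),(6,false),(4,false),(1,false),(5,false),(4,false),(6,false),(2,true),(5,false)]⟩])))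
 (.fork (.one (.path 0 [⟨1628,[(110,false)],[(1,false),(4,false),(1,false),(5,false),(4,false),(1,false),(4,false),(2,true),(5,false),(2,false)]⟩,⟨493,[],[(6,false),(4,false),(5,false),(2,true),(5,false),(4,false),(5,false),(2,false),(6,false),(4,false)]⟩]))
 (.one .base)))
 (.fork (.fork (.one (.path 13 [⟨432,[(163,true),(114,true),(113,false)],[(1,false),(4,false),(3,false),(5,false),(4,false),(1,false),(4,false),(2,true),(5,false),(4,false)]⟩,⟨975,[(132,false),(121,false),(137,false),(121,false)],[(1,false),(2,false),(3,false),(4,false),(1,false),(5,false),(6,false),(4,false),(1,false),(2,true),(5,false)]⟩,⟨572,[(110,true),(109,false)],[(4,false),(1,false),(5,false),(6,false),(4,false),(5,false),(2,false),(5,false),(4,false)]⟩]))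
 (.one .base))
 (.fork (.one (.path 2 [⟨2433,[(110,false)],[(4,false),(1,false),(2,true),(5,false),(4,false),(1,false),(5,false),(6,false),(4,false),(1,false),(5,false)]⟩,⟨960,[(110,false),(109,false)],[(5,false),(4,false),(6,false),(4,false),(2,true),(5,false),(2,false),(4,false),(1,false)]⟩,⟨855,[(163,false),(114,false)],[(1,false),(4,false),(3,false),(5,false),(6,false),(4,false),(1,false),(4,false),(6,false)]⟩]))
 (.one .base))))
 (.fork (.fork (.fork (.one (.path 4 [⟨362,[],[(2,false),(5,false),(4,false),(5,false),(4,false),(6,false),(4,false),(1,false),(5,false),(2,true)]⟩,⟨354,[(191,true),(191,true),(72,true),(64,false)],[(0,false),(5,false),(4,false),(1,false),(5,false),(6,false),(4,false),(1,false),(4,false),(5,false),(2,false)]⟩,⟨588,[(172,false),(158,false),(204,true),(158,false)],[(0,false),(2,false),(4,false),(5,false),(2,false),(4,false),(6,false),(4,false),(1,false)]⟩]))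
 (.one .base))
 (.fork (.one (.path 0 [⟨1610,[(110,true)],[(1,false),(2,false),(5,false),(4,false),(1,false),(5,false),(6,false),(4,false),(2,true)]⟩,⟨613,[],[(4,false),(3,false),(6,false),(4,false),(5,false),(2,false),(4,false),(5,false)]⟩]))
 (.one .base)))
 (.fork (.fork (.one (.path 8 [⟨1173,[],[(5,false),(4,false),(1,false),(3,false),(4,false),(5,false),(2,false),(4,false)]⟩,⟨1135,[(204,true),(158,false),(204,false),(158,false)],[(6,false),(2,true),(5,false),(2,false),(4,false),(1,false),(4,false),(5,false)]⟩,⟨1342,[(109,false)],[(2,false),(5,false),(2,false),(4,false),(6,false),(4,false),(5,false),(4,false),(2,true)]⟩]))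
 (.one .base))
 (.fork (.one (.path 0 [⟨2199,[],[(4,false)]⟩,⟨3197,[],[(1,false),(5,false),(6,false),(4,false),(5,false),(4,false),(1,false),(4,false)]⟩]))
 (.one .base)))))
 (.fork (.fork (.fork (.fork (.one (.path 0 [⟨239,[],[]⟩,⟨257,[(204,true),(158,false),(204,true),(158,false)],[(0,false),(2,false),(5,false),(4,false),(1,false),(4,false),(6,false),(4,false),(5,false),(4,false),(5,false)]⟩]))
 (.one .base))
 (.fork (.one (.path 0 [⟨2305,[],[(3,false)]⟩,⟨2431,[(109,false)],[(4,false),(1,false),(5,false),(4,false),(6,false),(4,false),(1,false),(4,false),(5,false),(2,false),(6,false)]⟩]))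
 (.one .base)))
 (.fork (.fork (.one (.path 7 [⟨280,[(204,false),(172,false)],[(1,false),(4,false),(6,false),(4,false),(1,false),(4,false),(1,false),(6,false),(4,false),(5,false),(2,false)]⟩,⟨459,[(64,true),(72,false),(65,false)],[(4,false),(5,false),(2,false),(4,false),(1,false),(4,false),(1,false),(5,false),(2,true)]⟩,⟨1211,[(163,true),(114,false),(113,false)],[(1,false),(2,false),(4,false),(5,false),(4,false),(1,false),(4,false),(5,false),(2,false)]⟩]))
 (.one .base))
 (.fork (.one (.path 0 [⟨2517,[],[(5,false),(2,false),(6,false)]⟩,⟨2953,[(109,false)],[(6,false),(4,false),(3,false),(5,false),(2,false),(5,false),(4,false),(1,false),(4,false)]⟩]))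
 (.one .base))))
 (.fork (.fork (.fork (.one (.path 0 [⟨535,[],[(1,false),(3,false),(2,true)]⟩,⟨441,[(204,false),(158,false),(204,true),(172,false)],[(1,false),(2,false),(5,false),(4,false),(1,false),(5,false),(2,false),(4,false),(6,false)]⟩]))
 (.one .base))
 (.fork (.one (.path 1 [⟨1981,[],[(0,false),(2,true),(5,false),(2,false),(4,false)]⟩,⟨2527,[(110,true)],[(1,false),(5,false),(4,false),(1,false),(6,false),(4,false),(1,false),(4,false),(2,true)]⟩]))
 (.one .base)))
 (.fork (.fork (.one (.path 1 [⟨1604,[(110,false)],[(5,false),(4,false),(1,false),(5,false),(6,false),(4,false),(5,false)]⟩,⟨1075,[],[(4,false),(1,false),(4,false),(5,false),(4,false),(6,false),(4,false),(5,false),(2,true)]⟩]))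
 (.one .base))
 (.fork (.one (.path 0 [⟨3001,[],[(1,false),(4,false),(3,false),(5,false),(2,false),(6,false)]⟩,⟨3971,[(109,false)],[(1,false),(5,false),(2,false),(4,false),(1,false),(5,false),(6,false),(4,false),(1,false),(5,false),(2,true)]⟩]))
 (.one .base)))))))

/-- a part of the justifications -/
noncomputable def twJustT84 : BT Just := (.fork (.fork (.fork (.fork (.fork (.fork (.one (.path 0 [⟨86,[(100,false)],[(1,false),(6,false),(4,false),(2,true),(5,false),(4,false),(1,false),(5,false),(4,false),(6,false)]⟩,⟨68,[(100,true)],[(6,false),(2,true),(5,false),(4,false),(1,false),(3,false),(4,false),(2,true),(5,false)]⟩]))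
 (.one (.path 0 [⟨986,[],[(0,false),(5,false),(2,false),(4,false),(5,false),(6,false),(4,false),(5,false),(2,true),(5,false),(4,false)]⟩,⟨3905,[],[(0,false),(1,false),(4,false),(1,false),(6,false),(4,false),(5,false),(4,false)]⟩])))
 (.fork (.one (.path 0 [⟨1802,[(110,false)],[(4,false),(1,false),(3,false),(4,false),(5,false),(2,false),(4,false),(6,false),(4,false)]⟩,⟨1609,[],[(0,false),(2,false),(4,false),(6,false),(4,false),(1,false),(5,false),(4,false),(1,false)]⟩]))
 (.one .base)))
 (.fork (.fork (.one (.path 12 [⟨245,[(158,false),(204,true),(172,false)],[(4,false),(5,false),(2,true),(5,false),(4,false),(5,false),(2,false),(4,false),(5,false),(6,false)]⟩,⟨1011,[(172,false),(158,false)],[(3,false),(5,false),(2,false),(4,false),(5,false),(4,false),(2,true),(5,false),(2,true)]⟩,⟨1032,[(110,false)],[(4,false),(1,false),(3,false),(6,false),(2,true),(5,false),(4,false),(5,false),(2,false)]⟩]))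
 (.one .base))
 (.fork (.one (.path 0 [⟨3012,[],[(3,false),(4,false),(6,false),(4,false),(2,true),(5,false),(4,false),(1,false)]⟩,⟨1879,[],[(0,false),(5,false),(6,false),(2,true),(5,false),(4,false),(1,false),(6,false),(4,false)]⟩]))
 (.one .base))))
 (.fork (.fork (.fork (.one (.path 11 [⟨553,[],[(5,false),(2,false),(5,false)]⟩,⟨535,[(114,false),(163,false)],[(6,false),(2,true),(5,false),(4,false),(1,false),(5,false),(4,false),(6,false),(4,false),(5,false)]⟩,⟨501,[(204,false),(158,false),(204,true),(172,false)],[(3,false),(4,false),(2,true),(5,false),(2,false),(4,false),(5,false),(4,false),(2,true),(5,false)]⟩]))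
 (.one .base))
 (.fork (.one (.path 0 [⟨1004,[],[(4,false),(1,false),(3,false),(4,false),(2,true),(5,false),(4,false),(2,true)]⟩,⟨1797,[],[(3,false),(5,false),(4,false),(1,false),(4,false),(6,false),(4,false),(1,false),(2,true)]⟩]))
 (.one .base)))
 (.fork (.fork (.one (.path 7 [⟨725,[(64,true),(191,true),(72,true),(64,false)],[(0,false),(4,false),(1,false),(6,false),(2,true),(5,false),(4,false),(6,false)]⟩,⟨516,[],[(4,false),(1,false),(3,false),(4,false),(5,false),(6,false),(2,true)]⟩,⟨727,[(72,false),(64,false),(191,true),(63,false)],[(0,false),(2,false),(4,false),(5,false),(2,false),(4,false),(6,false),(4,false),(1,false)]⟩]))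
 (.one .base))
 (.fork (.one (.path 0 [⟨3153,[],[(0,false),(6,false),(4,false),(2,true)]⟩,⟨2246,[(110,true)],[(0,false),(6,false),(4,false),(2,true),(5,false),(4,false),(1,false),(2,true),(5,false),(4,false)]⟩]))
 (.one .base)))))
 (.fork (.fork (.fork (.fork (.one (.path 13 [⟨292,[(204,true),(172,false),(158,false),(172,false),(158,false)],[(1,false),(4,false),(1,false),(3,false),(4,false)]⟩,⟨209,[],[(3,false),(4,false),(5,false),(2,true),(5,false),(4,false),(5,false),(2,true)]⟩,⟨203,[(204,true),(158,false),(204,true),(158,false)],[(0,false),(4,false),(5,false),(2,true),(5,false),(4,false)]⟩]))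
 (.one .base))
 (.fork (.one (.path 1 [⟨2090,[(110,false)],[(5,false),(2,false),(4,false),(5,false),(4,false),(5,false),(6,false)]⟩,⟨2311,[],[(5,false),(2,false),(4,false),(5,false),(2,true),(5,false),(4,false),(6,false)]⟩]))
 (.one .base)))
 (.fork (.fork (.one (.path 8 [⟨1037,[],[(0,false),(1,false),(3,false),(2,true),(5,false),(2,false)]⟩,⟨906,[],[(0,false),(4,false),(6,false),(4,false),(1,false),(2,true),(5,false),(4,false),(5,false),(2,false)]⟩,⟨325,[(83,true),(57,false),(100,false),(54,false)],[(0,false),(4,false),(6,false),(4,false),(1,false),(5,false),(2,false)]⟩]))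
 (.one .base))
 (.fork (.one (.path 1 [⟨2495,[],[(0,false),(1,false),(2,false),(6,false)]⟩,⟨2453,[],[(5,false),(6,false),(2,true),(5,false),(4,false),(1,false),(3,false),(5,false),(4,false),(2,true)]⟩]))
 (.one .base))))
 (.fork (.fork (.fork (.one (.path 7 [⟨389,[(137,false),(132,true),(121,true),(137,false)],[(6,false),(2,true),(5,false),(2,false),(4,false),(5,false),(6,false),(4,false),(5,false)]⟩,⟨267,[(163,false)],[(2,false),(3,false),(4,false),(5,false),(4,false),(6,false),(4,false),(1,false),(4,false)]⟩,⟨321,[(204,false),(172,false),(158,false),(204,true)],[(3,false),(5,false),(2,false),(6,false),(4,false),(5,false),(4,false),(2,true)]⟩]))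
 (.one .base))
 (.fork (.one (.path 5 [⟨1084,[(109,false)],[(6,false),(4,false),(1,false),(3,false)]⟩,⟨767,[(121,false),(137,false),(132,false),(121,false)],[(6,false),(4,false),(1,false),(4,false),(2,true),(5,false),(4,false),(1,false),(2,true)]⟩,⟨2363,[(110,true)],[(2,false),(4,false),(6,false),(4,false),(5,false),(2,true),(5,false),(4,false),(5,false),(6,false)]⟩]))
 (.one .base)))
 (.fork (.fork (.one (.path 0 [⟨670,[],[(3,false),(4,false),(5,false),(4,false),(5,false),(6,false),(2,true),(5,false),(4,false)]⟩,⟨1407,[],[(4,false),(5,false),(6,false),(4,false),(5,false),(2,false),(5,false)]⟩]))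
 (.one .base))
 (.fork (.one (.path 4 [⟨1760,[(110,true)],[(1,false),(6,false),(4,false),(3,false),(5,false),(2,true),(5,false),(4,false),(5,false),(6,false)]⟩,⟨1563,[(163,true),(114,false),(113,false)],[(2,false),(4,false),(3,false),(5,false),(4,false),(6,false),(4,false),(2,true),(5,false)]⟩,⟨3925,[(110,false)],[(0,false),(5,false),(2,false),(4,false),(1,false),(6,false),(4,false),(5,false),(4,false),(2,true)]⟩]))
 (.one .base))))))
 (.fork (.fork (.fork (.fork (.fork (.one (.path 0 [⟨188,[(158,false),(204,true),(158,false),(172,false)],[(1,false),(6,false),(2,true),(5,false),(2,false),(4,false),(5,false),(2,false),(4,false),(5,false),(6,false)]⟩,⟨207,[],[(0,false),(4,false),(1,false),(4,false),(6,false),(4,false),(5,false),(2,false),(4,false),(6,false)]⟩]))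
 (.one (.path 4 [⟨2337,[(110,false)],[(1,false),(2,false),(3,false),(5,false),(4,false),(1,false),(5,false),(2,false),(6,false)]⟩,⟨2712,[(110,true)],[(1,false),(4,false),(6,false),(4,false),(2,true),(5,false),(2,false),(4,false),(1,false),(6,false)]⟩,⟨4323,[],[(4,false),(6,false),(4,false),(5,false),(4,false),(5,false),(2,false),(5,false),(4,false)]⟩])))
 (.fork (.one (.path 7 [⟨144,[(100,false),(83,true)],[(6,false),(4,false),(5,false),(2,false),(4,false),(1,false)]⟩,⟨429,[(121,false),(121,false),(121,false)],[(5,false),(4,false),(1,false),(4,false),(5,false),(2,true),(5,false),(4,false)]⟩,⟨1822,[(109,false)],[(1,false),(5,false),(4,false),(1,false),(3,false),(4,false),(6,false),(4,false),(2,true)]⟩]))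
 (.one .base)))
 (.fork (.fork (.one (.path 6 [⟨537,[(137,true),(121,true),(132,true)],[(4,false),(6,false),(4,false),(1,false),(4,false),(1,false),(5,false),(2,false),(6,false),(4,false)]⟩,⟨537,[(132,false),(121,false)],[(1,false),(4,false),(3,false),(5,false),(4,false),(2,true)]⟩,⟨965,[(137,true),(121,true),(137,true),(132,false)],[(2,false),(5,false),(6,false),(4,false),(1,false),(5,false),(4,false),(5,false),(6,false),(2,true)]⟩]))
 (.one .base))
 (.fork (.one (.path 1 [⟨2886,[(109,false)],[(1,false),(3,false),(6,false),(4,false),(5,false),(4,false),(1,false),(2,true),(5,false),(4,false)]⟩,⟨2793,[],[(4,false),(5,false),(4,false),(6,false),(2,true),(5,false),(4,false)]⟩]))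
 (.one .base))))
 (.fork (.fork (.fork (.one (.path 9 [⟨637,[],[(0,false),(1,false),(6,false),(2,true),(5,false)]⟩,⟨634,[],[(3,false),(5,false),(2,false),(6,false),(4,false),(1,false),(5,false),(2,true)]⟩,⟨740,[(204,false),(158,false),(204,false),(158,false)],[(1,false),(5,false),(2,false),(4,false),(1,false),(6,false),(4,false),(5,false),(2,false)]⟩]))
 (.one .base))
 (.fork (.one (.path 8 [⟨792,[(110,false),(109,false)],[(5,false),(4,false),(5,false),(2,false),(4,false),(5,false),(6,false),(4,false),(5,false),(2,false)]⟩,⟨403,[],[(2,false),(5,false),(2,false),(6,false)]⟩,⟨2780,[(110,true),(109,false)],[(0,false),(4,false),(1,false),(4,false),(5,false),(2,false),(6,false),(4,false),(1,false),(4,false),(5,false)]⟩]))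
 (.one .base)))
 (.fork (.fork (.one (.path 0 [⟨423,[],[(0,false),(2,false),(3,false),(5,false),(6,false)]⟩,⟨1271,[(204,false),(158,false),(204,false),(158,false)],[(1,false),(2,false),(4,false),(5,false),(2,false),(4,false),(5,false),(6,false),(2,true),(5,false),(4,false)]⟩]))
 (.one .base))
 (.fork (.one (.path 0 [⟨3655,[],[(1,false),(2,false),(3,false),(5,false)]⟩,⟨3472,[(110,true),(109,false)],[(2,false),(3,false),(6,false),(4,false),(5,false),(2,false),(4,false),(5,false),(2,false)]⟩]))
 (.one .base)))))
 (.fork (.fork (.fork (.fork (.one (.path 6 [⟨345,[(132,false),(121,false),(137,false)],[(1,false),(2,false),(4,false),(3,false),(5,false),(4,false),(6,false),(2,true)]⟩,⟨269,[(114,false),(163,false),(114,true)],[(0,false),(1,false),(5,false),(2,false),(4,false),(1,false),(5,false),(4,false),(6,false),(2,true)]⟩,⟨424,[(172,false),(158,false),(172,false)],[(0,false),(4,false),(5,false),(4,false),(1,false),(4,false),(6,false),(4,false),(1,false)]⟩]))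
 (.one .base))
 (.fork (.one (.path 0 [⟨2377,[],[(6,false),(4,false),(3,false),(5,false)]⟩,⟨2398,[(110,true)],[(0,false),(1,false),(5,false),(2,false),(4,false),(5,false),(4,false),(6,false),(2,true)]⟩]))
 (.one .base)))
 (.fork (.fork (.one (.path 10 [⟨1238,[],[(5,false),(2,false),(4,false),(3,false),(6,false),(4,false),(5,false),(2,true),(5,false),(4,false),(5,false)]⟩,⟨1375,[(163,false),(114,true)],[(1,false),(4,false),(6,false),(4,false),(5,false),(4,false),(2,true),(5,false),(2,false),(4,false)]⟩,⟨1504,[],[(1,false),(3,false),(6,false),(4,false),(5,false),(2,false),(4,false),(5,false)]⟩]))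
 (.one .base))
 (.fork (.one (.path 0 [⟨2509,[],[(4,false),(3,false),(6,false),(4,false)]⟩,⟨2532,[(109,false)],[(0,false),(4,false),(5,false),(6,false),(4,false),(2,true)]⟩]))
 (.one .base))))
 (.fork (.fork (.fork (.one (.path 0 [⟨305,[],[(1,false),(6,false)]⟩,⟨713,[(158,false)],[(2,false),(6,false),(4,false),(1,false),(3,false),(4,false),(5,false),(4,false),(1,false)]⟩]))
 (.one .base))
 (.fork (.one (.path 0 [⟨1196,[(110,false)],[(1,false),(4,false),(1,false),(4,false),(2,true),(5,false),(2,false)]⟩,⟨1887,[],[(0,false),(4,false),(5,false),(2,false),(4,false),(5,false),(2,true)]⟩]))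
 (.one .base)))
 (.fork (.fork (.one (.path 1 [⟨1100,[(110,true),(109,false)],[(4,false),(1,false),(3,false),(4,false)]⟩,⟨1443,[],[(0,false),(1,false),(4,false),(5,false),(2,false),(5,false),(4,false)]⟩]))
 (.one .base))
 (.fork (.one (.path 4 [⟨3878,[(3911,true),(3912,false),(3911,false)],[(1,false),(3,false),(5,false),(2,false),(4,false),(5,false),(4,false),(2,true),(5,false),(4,false),(1,false)]⟩,⟨1862,[],[(2,false),(5,false),(4,false),(6,false),(2,true),(5,false),(4,false),(1,false),(6,false)]⟩,⟨3939,[(110,true)],[(0,false),(4,false),(1,false),(6,false),(2,true),(5,false),(4,false),(1,false),(5,false),(6,false),(2,true)]⟩]))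
 (.one .base)))))))

/-- a part of the justifications -/
noncomputable def twJustT85 : BT Just := (.fork (.fork (.fork (.fork (.fork (.fork (.one (.lift 1 (wOf 20 0x34543572343231230123) ⟨18,[(13,false),(15,false),(11,true),(14,false),(10,false)],[]⟩ ⟨18,[(14,true),(13,false),(15,false),(11,true),(14,false),(10,false)],[(5,false),(2,false),(4,false),(6,false),(4,false),(5,false),(2,true),(5,false),(4,false),(5,false),(6,false)]⟩))
 (.one (.path 1 [⟨3928,[(3911,false),(3912,false),(3911,false)],[(5,false),(4,false),(1,false),(4,false),(2,true),(5,false),(2,false),(4,false),(1,false),(5,false)]⟩,⟨2184,[],[(4,false),(3,false),(6,false),(4,false),(2,true),(5,false),(4,false),(6,false),(2,true)]⟩])))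
 (.fork (.one (.path 8 [⟨1342,[(110,false),(109,false)],[(5,false),(2,false),(4,false),(5,false),(4,false),(1,false),(5,false),(2,false),(6,false)]⟩,⟨772,[(110,false),(109,false)],[(2,true),(5,false),(4,false),(3,false),(2,true),(5,false),(4,false),(2,true),(5,false)]⟩,⟨1091,[(137,false),(121,false),(137,true),(132,false),(121,false)],[(6,false),(4,false),(5,false),(2,false),(5,false),(4,false),(5,false),(4,false),(6,false)]⟩]))
 (.one .base)))
 (.fork (.fork (.one (.path 4 [⟨849,[(114,false),(163,false),(114,true)],[(0,false),(6,false),(4,false),(5,false),(4,false),(5,false),(2,true),(5,false),(4,false),(1,false)]⟩,⟨930,[(110,true),(109,false)],[(4,false),(5,false),(6,false),(4,false),(1,false),(4,false),(5,false),(6,false),(2,true)]⟩,⟨574,[(114,false),(163,true),(113,false)],[(5,false),(4,false),(3,false),(6,false),(4,false),(5,false),(4,false),(1,false)]⟩]))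
 (.one .base))
 (.fork (.one (.path 0 [⟨1078,[(110,true),(109,false)],[(2,false),(4,false),(3,false),(5,false),(4,false),(6,false),(4,false),(5,false),(4,false)]⟩,⟨1247,[],[(0,false),(1,false),(5,false),(4,false),(1,false),(5,false),(6,false),(4,false),(2,true),(5,false),(2,true)]⟩]))
 (.one .base))))
 (.fork (.fork (.fork (.one (.path 10 [⟨436,[(163,false)],[(3,false),(4,false),(6,false),(4,false),(2,true),(5,false),(2,false),(4,false),(6,false)]⟩,⟨166,[(121,false)],[(0,false),(1,false),(4,false),(5,false),(4,false),(6,false),(4,false),(5,false),(4,false),(2,true)]⟩,⟨441,[(204,false),(158,false),(204,true),(158,false),(172,false)],[(0,false),(4,false),(5,false),(4,false),(1,false),(6,false),(4,false),(5,false)]⟩]))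
 (.one .base))
 (.fork (.one (.path 1 [⟨2545,[],[(4,false),(2,true)]⟩,⟨1654,[(109,false)],[(1,false),(5,false),(4,false),(6,false),(2,true),(5,false),(4,false),(1,false),(4,false),(1,false),(6,false)]⟩]))
 (.one .base)))
 (.fork (.fork (.one (.path 0 [⟨432,[(163,true),(114,true),(113,false)],[(1,false),(3,false),(5,false),(4,false),(6,false),(2,true),(5,false),(4,false),(5,false)]⟩,⟨1030,[(121,true),(137,true),(132,false)],[(2,false),(4,false),(3,false),(5,false),(2,false),(4,false),(6,false),(4,false)]⟩]))
 (.one .base))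
 (.fork (.one (.path 0 [⟨2546,[],[(1,false),(4,false),(1,false),(5,false),(6,false),(4,false),(2,true),(5,false),(2,false)]⟩,⟨2852,[],[(1,false),(3,false),(4,false),(5,false),(4,false),(6,false),(4,false),(5,false),(2,false),(4,false)]⟩]))
 (.one .base)))))
 (.fork (.fork (.fork (.fork (.one (.path 13 [⟨157,[(158,false),(204,true),(158,false),(172,false)],[(3,false),(5,false),(4,false),(1,false),(6,false),(2,true),(5,false)]⟩,⟨156,[(24,false),(28,false),(23,false),(22,false),(20,false)],[(0,false),(1,false),(4,false),(6,false),(2,true),(5,false),(4,false),(1,false),(4,false)]⟩,⟨229,[(172,false),(158,false),(204,false),(158,false)],[(1,false),(5,false),(4,false),(1,false),(4,false),(6,false),(4,false),(5,false),(4,false),(6,false)]⟩]))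
 (.one .base))
 (.fork (.one (.path 13 [⟨1956,[(110,true)],[(1,false),(6,false),(2,true),(5,false),(4,false),(1,false),(4,false),(6,false),(4,false),(5,false)]⟩,⟨652,[],[(1,false),(2,false),(6,false),(4,false),(5,false),(4,false),(2,true),(5,false),(4,false),(1,false)]⟩,⟨831,[],[(4,false),(5,false),(2,false),(4,false),(5,false),(4,false),(2,true),(5,false),(4,false),(1,false),(5,false)]⟩]))
 (.one .base)))
 (.fork (.fork (.one (.path 6 [⟨445,[],[(2,false),(3,false),(5,false),(6,false)]⟩,⟨587,[(114,false),(163,true),(114,true),(113,false)],[(0,false),(1,false),(2,false),(4,false),(6,false),(4,false),(1,false),(5,false),(4,false)]⟩,⟨627,[(204,false),(172,false),(158,false),(204,true),(158,false)],[(0,false),(6,false),(4,false),(1,false),(4,false),(1,false),(6,false),(4,false),(2,true)]⟩]))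
 (.one .base))
 (.fork (.one (.path 0 [⟨1957,[],[(2,false)]⟩,⟨2198,[(110,true),(109,false)],[(3,false),(4,false),(6,false),(2,true),(5,false),(4,false),(5,false),(2,false),(6,false)]⟩]))
 (.one .base))))
 (.fork (.fork (.fork (.one (.path 1 [⟨201,[(204,true),(172,false),(158,false),(172,false),(158,false)],[(2,false),(5,false),(4,false),(5,false),(2,false),(6,false),(4,false)]⟩,⟨419,[],[(5,false),(2,false),(5,false),(4,false),(5,false),(6,false),(4,false),(5,false),(2,false),(5,false)]⟩]))
 (.one .base))
 (.fork (.one (.path 0 [⟨2735,[],[(0,false),(4,false),(5,false),(2,false)]⟩,⟨2760,[(110,true)],[(2,false),(5,false),(4,false),(1,false),(5,false),(2,false),(4,false),(6,false)]⟩]))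
 (.one .base)))
 (.fork (.fork (.one (.path 7 [⟨604,[(109,false)],[(3,false),(4,false),(5,false),(2,false),(5,false),(4,false),(5,false)]⟩,⟨148,[(137,false),(132,true),(121,true),(137,false)],[(0,false),(2,false),(4,false),(5,false),(2,false),(4,false),(1,false),(4,false)]⟩,⟨521,[(114,true),(113,false)],[(0,false),(1,false),(4,false),(5,false),(2,false),(5,false),(4,false),(1,false),(5,false),(2,false)]⟩]))
 (.one .base))
 (.fork (.one (.path 1 [⟨1012,[(110,true)],[(3,false),(4,false),(1,false),(5,false),(2,false)]⟩,⟨3837,[],[(2,false),(4,false),(5,false),(6,false),(2,true),(5,false),(4,false),(5,false),(2,false),(6,false)]⟩]))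
 (.one .base))))))
 (.fork (.fork (.fork (.fork (.fork (.one (.rev 148))
 (.one (.path 0 [⟨2908,[(110,false)],[(4,false),(1,false),(3,false),(4,false),(6,false),(4,false),(1,false),(5,false)]⟩,⟨4060,[(110,false)],[(1,false),(5,false),(4,false),(1,false),(5,false),(6,false),(4,false),(1,false),(2,true)]⟩])))
 (.fork (.one (.path 4 [⟨1911,[],[(0,false),(1,false),(2,false),(5,false),(6,false),(2,true)]⟩,⟨1080,[(110,false)],[(3,false),(4,false),(5,false),(2,false),(4,false),(5,false),(4,false),(6,false),(4,false),(5,false)]⟩,⟨1085,[(137,true),(132,false),(121,false),(121,false)],[(4,false),(5,false),(4,false),(1,false),(4,false),(6,false)]⟩]))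
 (.one .base)))
 (.fork (.fork (.one (.path 7 [⟨656,[],[(0,false),(1,false),(4,false),(6,false),(4,false),(1,false),(5,false),(2,false)]⟩,⟨751,[(163,true),(114,true),(163,false)],[(1,false),(2,false),(4,false),(5,false),(2,false),(4,false),(6,false),(4,false),(1,false),(4,false)]⟩,⟨1002,[],[(3,false),(4,false),(5,false),(2,false),(5,false),(4,false),(5,false),(4,false),(1,false),(4,false)]⟩]))
 (.one .base))
 (.fork (.one (.path 0 [⟨2289,[],[(1,false),(3,false),(5,false)]⟩,⟨2883,[(110,true),(109,false)],[(1,false),(2,false),(5,false),(6,false),(4,false),(5,false),(4,false),(1,false),(4,false),(6,false),(2,true)]⟩]))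
 (.one .base))))
 (.fork (.fork (.fork (.one (.path 0 [⟨382,[(121,false),(132,false)],[(6,false),(2,true),(5,false),(2,false),(4,false),(3,false),(5,false),(4,false),(2,true)]⟩,⟨519,[],[(0,false),(2,false),(5,false),(6,false),(4,false),(5,false),(2,false),(4,false),(5,false)]⟩]))
 (.one .base))
 (.fork (.one (.path 5 [⟨517,[(110,false),(109,false)],[(0,false),(4,false),(1,false),(6,false)]⟩,⟨267,[(114,true),(163,false)],[(0,false),(5,false),(2,true),(5,false),(4,false),(5,false),(2,false),(6,false),(4,false),(1,false)]⟩,⟨1439,[(204,true),(172,false),(158,false),(172,false)],[(1,false),(5,false),(2,false),(6,false),(4,false),(1,false),(4,false)]⟩]))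
 (.one .base)))
 (.fork (.fork (.one (.path 0 [⟨1398,[(110,true),(109,false)],[(1,false),(3,false),(4,false),(2,true),(5,false),(4,false),(1,false),(5,false),(6,false),(2,true)]⟩,⟨1355,[],[(3,false),(5,false),(4,false),(5,false),(2,false),(4,false),(5,false),(6,false)]⟩]))
 (.one .base))
 (.fork (.one (.path 0 [⟨3313,[],[(0,false),(2,false),(6,false)]⟩,⟨2575,[],[(3,false),(4,false),(6,false),(4,false),(5,false),(4,false),(1,false),(4,false),(6,false)]⟩]))
 (.one .base)))))
 (.fork (.fork (.fork (.fork (.one (.path 3 [⟨157,[],[(1,false),(3,false),(5,false)]⟩,⟨119,[(28,false),(21,false),(20,false),(49,true)],[(1,false),(2,false),(5,false),(6,false),(4,false)]⟩,⟨343,[(132,false),(121,false)],[(4,false),(5,false),(2,false),(4,false),(1,false),(6,false),(4,false),(1,false),(4,false),(6,false)]⟩]))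
 (.one .base))
 (.fork (.one (.path 0 [⟨2363,[],[(0,false),(1,false),(5,false),(2,false),(6,false)]⟩,⟨1522,[],[(3,false),(2,true),(5,false),(4,false),(5,false),(2,true),(5,false),(4,false),(1,false)]⟩]))
 (.one .base)))
 (.fork (.fork (.one (.path 4 [⟨1303,[],[(0,false),(1,false),(2,false),(5,false),(6,false)]⟩,⟨860,[(110,false)],[(3,false),(4,false),(5,false),(4,false),(1,false),(4,false),(1,false),(6,false),(4,false),(2,true)]⟩,⟨1411,[(137,true),(132,false)],[(1,false),(2,true),(5,false),(4,false),(5,false),(4,false),(2,true),(5,false),(2,false),(4,false)]⟩]))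
 (.one .base))
 (.fork (.one (.path 1 [⟨3022,[],[(1,false),(4,false),(5,false),(2,false),(4,false),(1,false),(5,false)]⟩,⟨3227,[],[(5,false),(2,false),(4,false),(5,false),(2,false),(4,false),(5,false),(2,true)]⟩]))
 (.one .base))))
 (.fork (.fork (.fork (.one (.path 3 [⟨434,[],[(1,false),(5,false),(2,false),(6,false),(4,false),(5,false),(2,false),(4,false),(1,false)]⟩,⟨336,[(132,false),(121,false),(132,false)],[(0,false),(4,false),(6,false),(2,true),(5,false),(2,false),(4,false),(5,false),(6,false),(2,true)]⟩,⟨279,[(72,false),(64,false),(191,true),(63,false)],[(1,false),(5,false),(4,false),(3,false),(5,false),(2,false),(5,false),(4,false),(1,false),(6,false)]⟩]))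
 (.one .base))
 (.fork (.one (.path 2 [⟨1829,[],[(4,false),(1,false),(4,false)]⟩,⟨928,[],[(4,false),(1,false),(3,false),(2,true),(5,false),(4,false),(5,false),(6,false),(4,false),(1,false)]⟩,⟨2442,[(110,true),(109,false)],[(5,false),(2,false),(5,false),(4,false),(5,false),(4,false),(1,false),(6,false),(4,false),(2,true)]⟩]))
 (.one .base)))
 (.fork (.fork (.one (.path 1 [⟨1572,[],[(6,false),(4,false),(3,false),(5,false),(2,false),(5,false),(4,false),(5,false),(2,false)]⟩,⟨1227,[],[(2,false),(4,false),(1,false),(5,false),(4,false),(2,true),(5,false),(2,false)]⟩]))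
 (.one .base))
 (.fork (.one (.path 2 [⟨2223,[],[(0,false),(2,false),(4,false),(5,false),(2,false)]⟩,⟨2321,[(110,false),(109,false)],[(2,false),(5,false),(6,false),(4,false),(1,false),(3,false),(2,true)]⟩,⟨3975,[(110,true),(109,false)],[(5,false),(4,false),(6,false),(4,false),(1,false),(4,false),(1,false),(5,false),(2,false)]⟩]))
 (.one .base)))))))

/-- a part of the justifications -/
noncomputable def twJustT86 : BT Just := (.fork (.fork (.fork (.fork (.fork (.fork (.one (.rev 84))
 (.one (.path 5 [⟨2581,[],[(1,false)]⟩,⟨3267,[(110,true),(109,false)],[(2,true),(5,false),(2,false),(4,false),(1,false),(3,false),(4,false),(6,false),(4,false)]⟩,⟨4175,[(110,true)],[(2,false),(4,false),(3,false),(6,false),(4,false),(1,false),(4,false),(5,false),(2,true)]⟩])))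
 (.fork (.one (.path 13 [⟨1016,[(110,false),(109,false)],[(1,false),(4,false),(5,false),(4,false),(1,false),(4,false),(5,false)]⟩,⟨144,[],[(2,false),(4,false),(1,false),(4,false),(5,false),(6,false),(4,false),(2,true),(5,false),(2,false)]⟩,⟨1081,[(121,false),(137,false),(132,false),(121,false)],[(4,false),(1,false),(4,false),(6,false),(2,true),(5,false),(4,false),(1,false),(4,false),(5,false),(6,false)]⟩]))
 (.one .base)))
 (.fork (.fork (.one (.path 5 [⟨785,[],[(4,false),(5,false),(6,false),(4,false)]⟩,⟨1012,[(110,true),(109,false)],[(1,false),(2,false),(5,false),(4,false),(3,false),(5,false),(6,false),(4,false),(1,false)]⟩,⟨679,[(158,false),(204,true),(158,false),(204,true),(172,false)],[(1,false),(2,true),(5,false),(2,false),(4,false),(3,false),(5,false),(4,false),(6,false),(2,true)]⟩]))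
 (.one .base))
 (.fork (.one (.path 1 [⟨2285,[],[(0,false),(5,false),(2,false),(4,false)]⟩,⟨2747,[],[(3,false),(4,false),(1,false),(4,false),(5,false),(6,false),(4,false),(1,false),(4,false),(2,true),(5,false)]⟩]))
 (.one .base))))
 (.fork (.fork (.fork (.one (.path 8 [⟨519,[(114,false),(113,false)],[(4,false),(3,false),(2,true),(5,false),(4,false)]⟩,⟨386,[(110,true),(109,false)],[(2,false),(5,false),(6,false),(4,false),(1,false),(4,false),(1,false),(5,false),(6,false)]⟩,⟨587,[(114,false),(113,false)],[(0,false),(2,false),(6,false),(4,false),(5,false),(2,false),(4,false),(1,false),(5,false)]⟩]))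
 (.one .base))
 (.fork (.one (.path 2 [⟨426,[(110,false)],[(2,false),(6,false),(4,false),(5,false),(4,false),(1,false),(4,false),(5,false)]⟩,⟨537,[(121,true),(137,true),(121,true),(132,false)],[(5,false),(2,false),(4,false),(3,false),(6,false),(4,false),(1,false)]⟩,⟨425,[(137,true),(121,true),(137,true)],[(5,false),(4,false),(1,false),(4,false),(1,false),(5,false),(6,false),(4,false),(1,false),(2,true)]⟩]))
 (.one .base)))
 (.fork (.fork (.one (.path 0 [⟨328,[(158,false),(204,true),(158,false),(172,false)],[(4,false),(1,false),(4,false),(2,true),(5,false),(4,false),(1,false),(4,false),(5,false)]⟩,⟨1465,[],[(1,false),(3,false),(4,false),(5,false),(4,false),(1,false),(4,false),(5,false),(4,false)]⟩]))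
 (.one .base))
 (.fork (.one (.path 1 [⟨2341,[],[(2,false),(4,false),(3,false)]⟩,⟨2091,[(109,false)],[(0,false),(4,false),(1,false),(4,false),(5,false),(2,false),(5,false),(6,false),(4,false),(1,false),(4,false),(6,false)]⟩]))
 (.one .base)))))
 (.fork (.fork (.fork (.fork (.one (.path 7 [⟨269,[(163,true),(114,true),(163,false),(114,false)],[(0,false),(4,false),(5,false),(4,false),(2,true),(5,false),(2,false),(4,false),(5,false),(4,false),(1,false)]⟩,⟨169,[(158,false),(172,false),(158,false),(204,false),(158,false)],[(1,false),(3,false),(4,false),(6,false),(4,false),(1,false),(5,false),(4,false),(6,false)]⟩,⟨279,[],[(1,false),(4,false),(5,false),(6,false),(4,false),(1,false),(5,false),(4,false),(1,false),(6,false),(4,false),(5,false)]⟩]))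
 (.one .base))
 (.fork (.one (.path 0 [⟨772,[(110,true),(109,false)],[(3,false),(4,false),(5,false),(6,false),(2,true),(5,false),(4,false),(1,false),(6,false)]⟩,⟨1789,[],[(2,true),(5,false),(2,false),(4,false),(5,false),(4,false),(1,false),(5,false)]⟩]))
 (.one .base)))
 (.fork (.fork (.one (.path 1 [⟨1102,[(114,true),(113,false)],[(1,false),(3,false),(4,false),(2,true),(5,false),(4,false),(6,false),(2,true)]⟩,⟨1277,[],[(1,false),(2,false),(5,false),(4,false),(6,false),(4,false),(5,false),(4,false),(2,true),(5,false)]⟩]))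
 (.one .base))
 (.fork (.one (.path 1 [⟨3055,[],[(1,false),(4,false),(6,false)]⟩,⟨1829,[],[(1,false),(5,false),(4,false),(5,false),(4,false),(2,true),(5,false),(2,false),(4,false),(5,false),(6,false)]⟩]))
 (.one .base))))
 (.fork (.fork (.fork (.one (.path 1 [⟨525,[],[(5,false),(6,false)]⟩,⟨659,[(137,true),(121,false),(137,true)],[(0,false),(1,false),(4,false),(6,false),(4,false),(1,false),(5,false),(2,true)]⟩]))
 (.one .base))
 (.fork (.one (.path 0 [⟨244,[(110,false),(109,false)],[(1,false),(3,false),(4,false),(1,false),(4,false),(6,false),(4,false),(1,false),(5,false),(2,false)]⟩,⟨1413,[],[(1,false),(6,false),(4,false),(3,false),(5,false),(2,true)]⟩]))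
 (.one .base)))
 (.fork (.fork (.one (.path 4 [⟨756,[],[(0,false),(5,false),(2,false),(4,false),(5,false),(2,true)]⟩,⟨227,[(114,false),(163,false)],[(2,true),(5,false),(4,false),(1,false),(6,false),(4,false),(1,false),(4,false)]⟩,⟨1445,[(172,false),(158,false),(204,true),(172,false)],[(0,false),(2,true),(5,false),(2,false),(4,false),(1,false),(5,false),(6,false)]⟩]))
 (.one .base))
 (.fork (.one (.path 13 [⟨1153,[],[(2,false),(5,false),(4,false),(3,false),(2,true),(5,false),(2,false),(4,false),(1,false),(4,false)]⟩,⟨151,[(163,false),(114,true),(163,true)],[(2,false),(6,false),(4,false),(5,false),(4,false),(1,false),(6,false),(2,true),(5,false)]⟩,⟨3889,[(121,true),(132,true),(121,false)],[(2,false),(6,false),(4,false),(1,false),(4,false),(1,false),(5,false),(6,false),(4,false)]⟩]))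
 (.one .base))))))
 (.fork (.fork (.fork (.fork (.fork (.one (.path 0 [⟨195,[],[(2,false),(5,false),(4,false),(1,false),(3,false),(6,false),(4,false),(5,false),(4,false),(1,false)]⟩,⟨124,[],[(1,false),(2,false),(5,false),(4,false),(5,false),(6,false),(4,false),(1,false),(4,false)]⟩]))
 (.one (.path 0 [⟨4127,[],[(2,false)]⟩,⟨2454,[],[(1,false),(4,false),(2,true),(5,false),(4,false),(6,false),(2,true),(5,false),(4,false),(1,false)]⟩])))
 (.fork (.one (.path 2 [⟨756,[],[(5,false),(2,false),(4,false),(6,false),(4,false),(1,false)]⟩,⟨1373,[(114,false),(163,true),(113,false)],[(4,false),(3,false),(5,false),(2,false),(4,false),(5,false),(2,false)]⟩,⟨2040,[(110,true)],[(0,false),(2,true),(5,false),(4,false),(2,true),(5,false),(4,false),(1,false),(6,false)]⟩]))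
 (.one .base)))
 (.fork (.fork (.one (.path 0 [⟨574,[(114,true),(113,false)],[(4,false),(1,false),(5,false),(2,false),(4,false),(5,false),(2,false),(6,false),(4,false),(5,false)]⟩,⟨1158,[(109,false)],[(0,false),(2,false),(5,false),(4,false),(6,false),(2,true),(5,false),(4,false),(5,false),(2,true)]⟩]))
 (.one .base))
 (.fork (.one (.path 4 [⟨823,[(110,true)],[(0,false),(1,false),(5,false),(4,false),(1,false),(5,false),(6,false),(4,false),(5,false),(4,false)]⟩,⟨2580,[],[(1,false),(4,false),(5,false),(6,false),(4,false),(1,false),(2,true),(5,false),(4,false),(6,false)]⟩,⟨2251,[],[(1,false),(6,false),(4,false),(1,false),(5,false),(2,false),(4,false),(1,false),(6,false),(4,false)]⟩]))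
 (.one .base))))
 (.fork (.fork (.fork (.one (.path 5 [⟨154,[(191,false),(191,false),(65,true)],[(5,false),(4,false),(2,true),(5,false),(2,false),(4,false),(5,false),(6,false),(4,false)]⟩,⟨336,[(132,true),(121,false),(132,false)],[(5,false),(2,true),(5,false),(4,false),(5,false),(2,false),(6,false),(4,false),(5,false),(2,false)]⟩,⟨515,[(191,true)],[(2,false),(5,false),(2,false),(6,false),(4,false),(1,false),(3,false),(4,false),(6,false)]⟩]))
 (.one .base))
 (.fork (.one (.path 1 [⟨1341,[],[]⟩,⟨2356,[],[(0,false),(2,false),(4,false),(6,false),(4,false),(5,false),(4,false),(5,false),(6,false),(4,false)]⟩]))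
 (.one .base)))
 (.fork (.fork (.one (.path 3 [⟨1424,[(163,false),(114,true),(163,true),(114,false)],[(5,false),(4,false),(1,false),(4,false),(1,false),(6,false),(4,false),(1,false),(4,false)]⟩,⟨543,[(121,false),(137,true),(132,false)],[(3,false),(4,false),(2,true),(5,false),(2,false),(4,false),(1,false),(4,false),(6,false)]⟩,⟨1729,[(114,true),(163,true),(114,true)],[(0,false),(4,false),(6,false),(4,false),(5,false),(4,false),(1,false),(4,false),(1,false)]⟩]))
 (.one .base))
 (.fork (.one (.path 0 [⟨3113,[],[(5,false),(6,false),(4,false)]⟩,⟨1506,[(109,false)],[(6,false),(4,false),(2,true),(5,false),(4,false),(1,false),(4,false)]⟩]))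
 (.one .base)))))
 (.fork (.fork (.fork (.fork (.one (.path 1 [⟨460,[(163,false)],[(0,false),(3,false),(5,false),(6,false),(2,true),(5,false)]⟩,⟨459,[(63,false)],[(5,false),(6,false)]⟩]))
 (.one .base))
 (.fork (.one (.path 7 [⟨1196,[(109,false)],[(0,false),(4,false),(1,false),(4,false),(6,false),(2,true),(5,false),(4,false),(2,true)]⟩,⟨1037,[(114,false),(163,true),(113,false)],[(2,true),(5,false),(2,false),(4,false),(1,false),(6,false),(4,false),(1,false),(4,false),(6,false)]⟩,⟨1474,[(110,false)],[(2,false),(5,false),(4,false),(5,false),(6,false),(4,false),(1,false),(4,false),(1,false),(2,true)]⟩]))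
 (.one .base)))
 (.fork (.fork (.one (.path 1 [⟨1434,[],[(0,false),(1,false),(2,true),(5,false),(4,false),(5,false),(6,false),(4,false),(1,false),(4,false)]⟩,⟨1437,[],[(1,false),(4,false),(3,false),(5,false),(2,false),(6,false),(4,false),(5,false),(2,false),(4,false)]⟩]))
 (.one .base))
 (.fork (.one (.path 7 [⟨3404,[(110,false)],[(0,false),(5,false),(4,false),(5,false),(2,false),(5,false),(4,false),(1,false)]⟩,⟨1538,[],[(1,false),(4,false),(1,false),(4,false),(6,false),(4,false),(1,false),(2,true)]⟩,⟨1405,[],[(6,false),(4,false),(1,false)]⟩]))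
 (.one .base))))
 (.fork (.fork (.fork (.one (.path 7 [⟨877,[(121,true),(132,true),(121,false)],[(4,false),(1,false),(4,false)]⟩,⟨864,[(110,true),(109,false)],[(0,false),(2,false),(5,false),(4,false),(1,false),(4,false),(5,false),(6,false),(4,false),(1,false)]⟩,⟨241,[],[(0,false),(2,true),(5,false),(4,false),(1,false),(6,false),(4,false),(1,false),(4,false),(2,true)]⟩]))
 (.one .base))
 (.fork (.one (.path 0 [⟨2105,[],[(5,false)]⟩,⟨2258,[],[(0,false),(5,false),(6,false),(4,false),(5,false),(2,false),(4,false),(5,false),(4,false),(6,false)]⟩]))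
 (.one .base)))
 (.fork (.fork (.one (.path 0 [⟨570,[(109,false)],[(0,false),(2,false),(5,false),(4,false),(1,false),(6,false),(4,false),(1,false),(5,false),(4,false)]⟩,⟨461,[],[(4,false),(6,false),(2,true),(5,false),(4,false),(2,true),(5,false),(4,false),(2,true)]⟩]))
 (.one .base))
 (.fork (.one (.path 2 [⟨3860,[(3912,false),(3911,true),(3911,true),(3912,true),(3911,false)],[(1,false),(3,false),(4,false),(5,false),(6,false),(2,true),(5,false),(4,false),(1,false)]⟩,⟨2075,[(110,false),(109,false)],[(3,false),(5,false),(4,false),(2,true),(5,false),(2,false),(4,false),(5,false),(6,false)]⟩,⟨3857,[],[(4,false),(1,false),(5,false),(2,false),(6,false),(4,false),(5,false)]⟩]))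
 (.one .base)))))))

/-- a part of the justifications -/
noncomputable def twJustT87 : BT Just := (.fork (.fork (.fork (.fork (.fork (.fork (.one (.rev 52))
 (.one (.path 3 [⟨4141,[(3912,false),(3911,false),(3911,false),(3912,false)],[(1,false),(5,false),(4,false),(1,false),(5,false),(6,false),(4,false),(1,false),(4,false),(5,false),(2,false)]⟩,⟨2384,[(109,false)],[(3,false),(4,false),(1,false),(6,false),(4,false),(1,false)]⟩,⟨1654,[],[(4,false),(1,false),(4,false),(1,false),(5,false),(2,false),(6,false),(4,false),(1,false),(4,false),(5,false)]⟩])))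
 (.fork (.one (.path 1 [⟨1764,[(110,false)],[(1,false),(3,false),(4,false),(6,false),(4,false),(5,false),(2,false),(4,false),(5,false),(2,true)]⟩,⟨1717,[],[(4,false),(6,false),(4,false),(5,false),(4,false),(1,false),(4,false),(2,true),(5,false),(4,false)]⟩]))
 (.one .base)))
 (.fork (.fork (.one (.path 5 [⟨659,[(121,false),(121,false)],[(4,false),(5,false),(4,false),(1,false),(5,false),(2,true)]⟩,⟨794,[(114,false),(163,false),(114,true),(113,false)],[(4,false),(1,false),(4,false),(5,false),(4,false),(5,false)]⟩,⟨995,[(204,false),(172,false),(158,false),(172,false),(158,false)],[(1,false),(2,false),(3,false),(4,false),(5,false),(2,false),(6,false),(4,false),(5,false),(2,true)]⟩]))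
 (.one .base))
 (.fork (.one (.path 0 [⟨704,[],[(2,false),(4,false),(5,false),(2,false),(6,false),(4,false),(1,false),(4,false),(5,false)]⟩,⟨701,[],[(4,false),(1,false),(5,false),(2,false),(6,false),(4,false),(1,false),(4,false)]⟩]))
 (.one .base))))
 (.fork (.fork (.fork (.one (.path 7 [⟨128,[(58,false),(57,false),(54,false)],[(4,false),(1,false),(3,false),(5,false),(2,false),(4,false)]⟩,⟨477,[(114,false),(163,true)],[(4,false),(5,false),(4,false),(1,false),(4,false),(5,false),(2,false),(6,false)]⟩,⟨533,[(163,false),(114,false),(163,true),(113,false)],[(0,false),(4,false),(1,false),(6,false),(4,false),(1,false),(4,false),(5,false),(2,true)]⟩]))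
 (.one .base))
 (.fork (.one (.path 10 [⟨1378,[(109,false)],[(0,false),(2,true),(5,false),(4,false),(5,false),(2,false),(5,false),(6,false),(4,false)]⟩,⟨922,[(114,true),(163,false),(113,false)],[(0,false),(4,false),(1,false),(4,false),(6,false)]⟩,⟨2056,[(110,false)],[(6,false),(4,false),(5,false),(2,true),(5,false),(4,false),(5,false),(2,false)]⟩]))
 (.one .base)))
 (.fork (.fork (.one (.path 1 [⟨937,[],[(1,false)]⟩,⟨1453,[(204,true),(158,false),(204,false)],[(2,false),(4,false),(1,false),(6,false),(4,false),(5,false),(4,false),(6,false)]⟩]))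
 (.one .base))
 (.fork (.one (.path 0 [⟨452,[(110,true)],[(5,false),(4,false),(2,true),(5,false),(4,false),(5,false),(2,true),(5,false),(4,false)]⟩,⟨1901,[],[(1,false),(4,false),(5,false),(2,false),(6,false),(4,false),(1,false),(4,false),(1,false),(5,false),(6,false)]⟩]))
 (.one .base)))))
 (.fork (.fork (.fork (.fork (.one (.path 2 [⟨298,[(63,true)],[(6,false),(4,false),(2,true),(5,false),(4,false),(5,false),(6,false),(2,true),(5,false)]⟩,⟨221,[(121,true),(132,true),(121,false)],[(2,false),(3,false),(6,false),(4,false),(5,false),(4,false),(6,false),(2,true),(5,false),(2,true)]⟩,⟨249,[(114,false),(163,true)],[(1,false),(3,false),(4,false),(5,false),(4,false),(1,false),(4,false),(5,false),(2,false),(5,false)]⟩]))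
 (.one .base))
 (.fork (.one (.path 1 [⟨1108,[(110,true)],[(0,false),(2,true),(5,false),(4,false),(2,true),(5,false),(4,false),(6,false),(2,true)]⟩,⟨1003,[],[(0,false),(5,false),(2,false),(6,false),(4,false),(1,false),(4,false),(6,false)]⟩]))
 (.one .base)))
 (.fork (.fork (.one (.path 0 [⟨664,[(110,false)],[(1,false),(5,false),(4,false),(1,false)]⟩,⟨1245,[],[(2,false),(4,false),(5,false),(6,false),(4,false),(5,false),(4,false),(6,false)]⟩]))
 (.one .base))
 (.fork (.one (.path 1 [⟨1858,[(110,false)],[(1,false),(3,false),(4,false),(2,true),(5,false),(4,false),(1,false),(5,false),(2,false),(4,false)]⟩,⟨3155,[],[(0,false),(1,false),(4,false),(5,false),(2,false),(4,false),(1,false),(4,false)]⟩]))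
 (.one .base))))
 (.fork (.fork (.fork (.one (.path 4 [⟨722,[(109,false)],[(1,false),(2,false),(3,false),(5,false),(4,false),(5,false),(6,false)]⟩,⟨265,[(83,true),(55,false)],[(1,false),(5,false),(4,false),(6,false),(4,false),(1,false),(4,false),(2,true),(5,false),(4,false)]⟩,⟨653,[(114,true),(163,false)],[(5,false),(4,false),(1,false),(5,false),(2,false),(4,false),(6,false),(4,false),(5,false)]⟩]))
 (.one .base))
 (.fork (.one (.path 0 [⟨2084,[(109,false)],[(5,false),(4,false),(1,false),(4,false),(1,false),(5,false),(2,false),(6,false),(4,false),(1,false),(4,false)]⟩,⟨2842,[(109,false)],[(1,false),(3,false),(4,false),(1,false),(5,false),(2,false),(4,false),(1,false),(5,false),(6,false),(4,false)]⟩]))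
 (.one .base)))
 (.fork (.fork (.one (.path 0 [⟨1194,[],[(2,false),(3,false),(5,false),(4,false),(5,false),(2,true),(5,false),(4,false),(1,false),(6,false)]⟩,⟨753,[],[(2,false),(4,false),(1,false),(4,false),(5,false),(4,false),(5,false),(6,false),(2,true),(5,false)]⟩]))
 (.one .base))
 (.fork (.one (.path 0 [⟨148,[],[(4,false)]⟩,⟨3887,[(114,true),(113,false)],[(0,false),(6,false),(4,false),(2,true),(5,false),(4,false),(5,false),(6,false),(4,false)]⟩]))
 (.one .base))))))
 (.fork (.fork (.fork (.fork (.fork (.one (.path 0 [⟨145,[(132,true),(121,false)],[(1,false),(2,false),(5,false),(6,false),(4,false),(1,false),(4,false),(6,false),(2,true),(5,false),(2,true)]⟩,⟨159,[],[(0,false),(4,false),(6,false),(4,false),(1,false),(4,false),(1,false),(5,false),(6,false),(4,false)]⟩]))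
 (.one (.path 0 [⟨4069,[],[(3,false),(2,true)]⟩,⟨4089,[(3912,false),(3911,true)],[(0,false),(1,false),(6,false),(4,false),(5,false),(2,false),(4,false),(5,false),(6,false),(2,true),(5,false)]⟩])))
 (.fork (.one (.path 1 [⟨972,[(109,false)],[(2,false),(6,false),(4,false),(1,false),(5,false)]⟩,⟨349,[],[(1,false),(4,false),(5,false),(4,false),(2,true),(5,false),(4,false),(1,false),(2,true)]⟩]))
 (.one .base)))
 (.fork (.fork (.one (.path 7 [⟨955,[],[(4,false),(1,false),(4,false)]⟩,⟨658,[(109,false)],[(0,false),(1,false),(6,false),(4,false),(1,false),(4,false),(5,false),(2,false)]⟩,⟨1197,[(163,false)],[(0,false),(4,false),(2,true),(5,false),(4,false),(1,false),(6,false),(4,false)]⟩]))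
 (.one .base))
 (.fork (.one (.path 2 [⟨1214,[(110,false),(109,false)],[(5,false),(2,false),(5,false),(6,false),(4,false),(1,false),(5,false),(4,false)]⟩,⟨1739,[(163,false),(114,true),(163,true),(113,false)],[(1,false),(6,false),(2,true),(5,false),(4,false),(1,false),(5,false),(6,false),(4,false),(1,false)]⟩,⟨2169,[(110,false),(109,false)],[(1,false),(3,false),(5,false),(4,false),(6,false),(2,true),(5,false),(4,false),(1,false),(5,false)]⟩]))
 (.one .base))))
 (.fork (.fork (.fork (.one (.path 10 [⟨301,[(204,false),(158,false),(204,false),(158,false),(204,false)],[(4,false),(5,false),(2,false),(4,false),(5,false),(4,false),(1,false),(4,false),(1,false)]⟩,⟨502,[],[(1,false),(6,false),(4,false),(1,false),(2,true),(5,false),(4,false),(5,false),(2,false),(5,false),(6,false)]⟩,⟨545,[(204,true),(172,false)],[(5,false),(4,false),(1,false),(4,false)]⟩]))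
 (.one .base))
 (.fork (.one (.path 3 [⟨1884,[(110,true),(109,false)],[(0,false),(5,false),(4,false),(2,true),(5,false),(2,false),(4,false),(5,false),(6,false),(4,false)]⟩,⟨1755,[(114,false),(163,false)],[(1,false),(2,false),(4,false),(1,false),(5,false),(4,false),(5,false),(2,false),(4,false),(6,false),(4,false)]⟩,⟨2577,[(110,true),(109,false)],[(2,false),(5,false),(4,false),(3,false),(6,false),(4,false),(1,false),(5,false),(4,false),(1,false)]⟩]))
 (.one .base)))
 (.fork (.fork (.one (.path 6 [⟨421,[],[(1,false),(2,false)]⟩,⟨1112,[],[(1,false),(3,false),(4,false),(5,false),(6,false),(4,false),(5,false),(2,false)]⟩,⟨1291,[(204,true),(158,false),(204,true),(158,false),(204,true)],[(0,false),(4,false),(6,false),(4,false),(1,false),(4,false),(2,true),(5,false),(2,false)]⟩]))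
 (.one .base))
 (.fork (.one (.path 0 [⟨502,[],[(2,false),(5,false),(4,false),(1,false),(2,true),(5,false),(4,false),(1,false)]⟩,⟨1799,[],[(2,false),(4,false),(1,false),(5,false),(4,false),(1,false),(4,false),(2,true)]⟩]))
 (.one .base)))))
 (.fork (.fork (.fork (.fork (.one (.path 0 [⟨397,[],[(2,false),(4,false),(3,false)]⟩,⟨315,[],[(0,false),(2,false),(4,false),(5,false),(2,false),(6,false),(4,false),(5,false),(2,false),(4,false),(6,false)]⟩]))
 (.one .base))
 (.fork (.one (.path 4 [⟨1798,[(110,false)],[(2,false),(4,false),(5,false),(2,false),(6,false),(4,false),(5,false),(4,false),(2,true)]⟩,⟨1437,[(158,false),(204,false),(172,false)],[(4,false),(5,false),(6,false),(4,false),(1,false),(2,true),(5,false),(4,false)]⟩,⟨2129,[(110,true)],[(4,false),(6,false),(2,true),(5,false),(2,false),(4,false),(5,false),(2,false),(6,false),(4,false)]⟩]))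
 (.one .base)))
 (.fork (.fork (.one (.path 9 [⟨325,[(58,false),(56,false)],[(0,false),(2,false),(3,false),(6,false)]⟩,⟨316,[],[(0,false),(4,false),(1,false),(6,false),(4,false),(1,false),(2,true),(5,false),(4,false),(5,false),(2,false)]⟩,⟨1065,[(114,true),(163,false)],[(1,false),(2,false),(4,false),(3,false),(5,false),(4,false),(6,false),(4,false),(5,false)]⟩]))
 (.one .base))
 (.fork (.one (.path 0 [⟨1522,[],[(2,false),(4,false),(5,false),(2,false),(4,false),(6,false),(4,false),(5,false)]⟩,⟨2579,[],[(6,false),(4,false),(5,false),(4,false),(1,false),(5,false),(2,false),(4,false)]⟩]))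
 (.one .base))))
 (.fork (.fork (.fork (.one (.path 13 [⟨239,[],[(6,false),(2,true),(5,false),(4,false),(2,true),(5,false),(2,false),(4,false),(1,false),(4,false)]⟩,⟨503,[(204,true),(158,false),(204,true)],[(1,false),(2,false),(3,false),(5,false),(4,false),(1,false),(6,false),(4,false),(1,false)]⟩,⟨734,[(110,true)],[(5,false),(4,false),(3,false),(6,false),(2,true),(5,false),(4,false),(6,false)]⟩]))
 (.one .base))
 (.fork (.one (.path 2 [⟨2012,[(110,false)],[(4,false),(5,false),(2,false),(4,false),(5,false),(2,false)]⟩,⟨2318,[(109,false)],[(1,false),(2,false),(5,false),(4,false),(6,false),(2,true),(5,false),(4,false),(2,true)]⟩,⟨2867,[(110,false),(109,false)],[(2,false),(5,false),(4,false),(3,false),(2,true)]⟩]))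
 (.one .base)))
 (.fork (.fork (.one (.path 7 [⟨1217,[(114,false),(163,false),(114,false),(113,false)],[(0,false),(2,false),(5,false),(6,false),(4,false),(5,false),(4,false),(1,false),(4,false),(2,true),(5,false)]⟩,⟨1530,[(110,true),(109,false)],[(1,false),(5,false),(4,false),(1,false),(3,false),(4,false),(6,false),(4,false),(2,true),(5,false)]⟩,⟨733,[(110,false)],[(1,false),(5,false),(4,false),(6,false),(4,false),(2,true),(5,false),(2,true)]⟩]))
 (.one .base))
 (.fork (.one (.path 5 [⟨1215,[],[(4,false),(1,false)]⟩,⟨3447,[(110,true)],[(0,false),(1,false),(2,false),(6,false),(4,false),(5,false),(4,false),(6,false),(2,true),(5,false)]⟩,⟨4005,[(110,false),(109,false)],[(1,false),(2,false),(3,false),(5,false),(4,false),(5,false),(6,false),(4,false),(5,false)]⟩]))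
 (.one .base)))))))

/-- a part of the justifications -/
noncomputable def twJustT88 : BT Just := (.fork (.fork (.fork (.fork (.fork (.fork (.one (.path 1 [⟨62,[],[(3,false)]⟩,⟨111,[(11,true)],[(0,false),(2,false)]⟩]))
 (.one (.path 0 [⟨2371,[],[(3,false),(5,false),(4,false),(2,true)]⟩,⟨4156,[],[(2,false),(4,false),(1,false),(3,false),(4,false),(5,false),(4,false),(2,true),(5,false),(2,false)]⟩])))
 (.fork (.one (.path 0 [⟨1304,[(110,false)],[(6,false),(4,false),(5,false),(2,false),(4,false),(5,false),(6,false),(4,false),(2,true),(5,false)]⟩,⟨1123,[],[(1,false),(2,false),(5,false),(4,false),(2,true),(5,false),(4,false),(1,false),(4,false)]⟩]))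
 (.one .base)))
 (.fork (.fork (.one (.path 13 [⟨235,[(54,false),(100,false)],[(1,false),(3,false),(4,false),(6,false),(4,false),(5,false),(2,true),(5,false),(4,false),(1,false),(4,false)]⟩,⟨475,[(114,true),(163,true),(113,false)],[(4,false),(6,false),(2,true),(5,false),(2,false),(4,false),(5,false),(2,false),(4,false),(1,false)]⟩,⟨689,[(172,false),(158,false),(204,true),(172,false)],[(6,false),(2,true),(5,false),(2,false)]⟩]))
 (.one .base))
 (.fork (.one (.path 4 [⟨1768,[(110,false)],[(4,false),(5,false),(6,false),(4,false),(5,false),(2,false)]⟩,⟨1213,[(114,false),(113,false)],[(4,false),(6,false),(4,false),(2,true),(5,false),(4,false),(1,false),(5,false),(2,true)]⟩,⟨1472,[(110,true),(109,false)],[(1,false),(4,false),(1,false),(2,true),(5,false),(4,false),(5,false),(2,false),(6,false)]⟩]))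
 (.one .base))))
 (.fork (.fork (.fork (.one (.path 2 [⟨229,[(158,false),(204,false),(172,false),(158,false)],[(5,false),(4,false),(3,false),(6,false),(2,true),(5,false),(4,false),(2,true),(5,false)]⟩,⟨244,[],[(4,false),(3,false)]⟩,⟨607,[(121,true),(132,false),(121,false)],[(2,false),(4,false),(1,false),(4,false),(1,false),(6,false),(4,false)]⟩]))
 (.one .base))
 (.fork (.one (.path 0 [⟨1334,[(110,false)],[(1,false),(3,false),(4,false),(2,true),(5,false),(4,false),(2,true)]⟩,⟨1179,[],[(1,false),(3,false),(5,false),(2,false),(4,false),(5,false),(2,false),(4,false),(5,false)]⟩]))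
 (.one .base)))
 (.fork (.fork (.one (.path 7 [⟨1508,[],[(2,false),(4,false),(5,false),(6,false),(4,false),(1,false),(4,false),(5,false),(2,false),(6,false)]⟩,⟨720,[],[(0,false),(6,false),(2,true),(5,false),(4,false),(1,false),(4,false),(1,false),(5,false),(2,true)]⟩,⟨409,[(57,false),(83,false)],[(2,false),(3,false),(5,false),(2,false),(6,false),(4,false),(5,false),(2,true),(5,false)]⟩]))
 (.one .base))
 (.fork (.one (.path 0 [⟨2527,[],[(6,false),(2,true)]⟩,⟨1473,[],[(5,false),(2,false),(6,false),(4,false),(3,false),(5,false)]⟩]))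
 (.one .base)))))
 (.fork (.fork (.fork (.fork (.one (.path 0 [⟨284,[],[(5,false),(2,false),(6,false),(4,false),(3,false),(5,false),(4,false),(6,false),(2,true)]⟩,⟨307,[],[(6,false),(2,true),(5,false),(2,false),(4,false),(5,false),(4,false),(5,false),(2,false),(6,false)]⟩]))
 (.one .base))
 (.fork (.one (.path 0 [⟨1456,[(110,true),(109,false)],[(1,false),(5,false),(2,false),(4,false),(6,false),(4,false),(5,false),(2,false),(4,false),(1,false),(5,false)]⟩,⟨366,[(100,false),(83,false),(56,false),(54,false)],[(6,false),(2,true),(5,false),(4,false),(5,false),(4,false),(1,false),(4,false),(2,true)]⟩]))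
 (.one .base)))
 (.fork (.fork (.one (.path 7 [⟨519,[],[(4,false),(2,true)]⟩,⟨838,[],[(5,false),(2,true),(5,false),(4,false),(1,false),(4,false),(5,false),(6,false)]⟩,⟨1383,[(163,true),(114,false),(163,false)],[(5,false),(2,false),(5,false),(6,false),(4,false),(1,false),(4,false),(5,false),(2,false),(6,false)]⟩]))
 (.one .base))
 (.fork (.one (.path 0 [⟨3353,[],[(1,false),(2,false),(3,false),(5,false)]⟩,⟨2474,[(110,false)],[(5,false),(4,false),(1,false),(5,false),(2,false),(4,false),(6,false),(4,false)]⟩]))
 (.one .base))))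
 (.fork (.fork (.fork (.one (.path 5 [⟨542,[],[(0,false),(1,false),(4,false),(2,true),(5,false),(4,false),(1,false)]⟩,⟨541,[(137,true),(121,false),(137,true),(121,false)],[(2,true),(5,false),(2,true)]⟩,⟨403,[(158,false),(172,false),(158,false)],[(3,false),(5,false),(4,false),(6,false),(4,false),(1,false)]⟩]))
 (.one .base))
 (.fork (.one (.path 0 [⟨426,[(110,false)],[(0,false),(5,false),(4,false),(5,false),(6,false),(4,false),(5,false),(2,false)]⟩,⟨963,[],[(6,false),(4,false),(2,true),(5,false),(4,false),(5,false),(2,true)]⟩]))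
 (.one .base)))
 (.fork (.fork (.one (.path 7 [⟨1384,[(110,false)],[(1,false),(3,false),(4,false),(6,false),(4,false),(5,false),(2,false),(5,false),(4,false),(1,false)]⟩,⟨1587,[(163,false),(114,true)],[(1,false),(3,false),(4,false),(2,true),(5,false),(4,false),(5,false),(2,false),(5,false)]⟩,⟨1662,[(110,false)],[(2,false),(5,false),(4,false),(1,false),(4,false),(6,false),(2,true),(5,false),(4,false),(6,false)]⟩]))
 (.one .base))
 (.fork (.one (.path 1 [⟨2992,[(109,false)],[(0,false),(1,false),(2,true),(5,false),(4,false),(1,false),(5,false),(6,false),(4,false),(2,true),(5,false)]⟩,⟨3921,[],[(1,false),(3,false),(4,false),(1,false),(6,false),(4,false),(1,false),(5,false)]⟩]))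
 (.one .base))))))
 (.fork (.fork (.fork (.fork (.fork (.one (.path 1 [⟨169,[(204,true),(158,false)],[(1,false),(4,false),(6,false),(4,false),(2,true),(5,false),(4,false),(1,false),(6,false),(4,false)]⟩,⟨198,[],[(2,false),(5,false),(6,false),(4,false),(1,false),(5,false),(4,false),(5,false),(6,false)]⟩]))
 (.one (.path 2 [⟨4277,[(3911,false),(3912,false),(3911,false)],[(2,false),(4,false),(1,false),(6,false),(4,false),(5,false),(2,false),(4,false),(5,false),(2,true)]⟩,⟨3040,[(110,false)],[(0,false),(5,false),(6,false),(2,true),(5,false),(4,false),(5,false),(4,false),(6,false),(2,true),(5,false)]⟩,⟨4327,[],[(5,false),(4,false),(2,true),(5,false),(4,false),(1,false),(6,false),(2,true),(5,false)]⟩])))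
 (.fork (.one (.path 5 [⟨1182,[(110,true)],[(6,false),(4,false),(3,false),(2,true),(5,false),(2,false),(4,false),(1,false),(4,false),(6,false)]⟩,⟨1540,[(110,true)],[(2,false),(5,false),(4,false),(5,false),(2,false),(4,false),(5,false),(6,false),(4,false)]⟩,⟨1227,[(163,true)],[(2,false),(4,false),(3,false),(6,false),(4,false),(5,false),(4,false),(2,true),(5,false)]⟩]))
 (.one .base)))
 (.fork (.fork (.one (.path 7 [⟨989,[(158,false)],[(4,false),(5,false),(2,true),(5,false),(4,false)]⟩,⟨820,[(110,false),(109,false)],[(3,false),(5,false),(4,false),(5,false),(6,false),(2,true),(5,false),(4,false),(5,false),(2,false)]⟩,⟨817,[(57,false),(100,false),(83,true)],[(3,false),(4,false),(6,false),(2,true),(5,false),(2,false),(4,false),(5,false),(6,false),(2,true)]⟩]))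
 (.one .base))
 (.fork (.one (.path 0 [⟨1476,[],[(6,false),(2,true),(5,false),(2,false),(4,false),(1,false),(3,false),(6,false),(4,false)]⟩,⟨3054,[],[(0,false),(4,false),(5,false),(2,false),(6,false),(4,false),(1,false),(4,false),(1,false),(6,false),(4,false)]⟩]))
 (.one .base))))
 (.fork (.fork (.fork (.one (.path 0 [⟨478,[],[(3,false),(5,false),(6,false),(4,false),(1,false),(4,false),(6,false),(2,true),(5,false)]⟩,⟨383,[],[(3,false),(6,false),(2,true),(5,false),(2,false),(4,false),(5,false),(4,false),(1,false),(6,false)]⟩]))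
 (.one .base))
 (.fork (.one (.path 8 [⟨930,[(110,true)],[(4,false),(3,false),(5,false),(2,false),(4,false),(1,false)]⟩,⟨1193,[(114,false),(163,true),(114,false)],[(3,false),(4,false),(6,false),(4,false),(1,false),(5,false),(4,false),(5,false),(2,false),(6,false),(4,false)]⟩,⟨2524,[(110,false),(109,false)],[(3,false),(4,false),(6,false),(2,true),(5,false),(4,false),(6,false),(2,true),(5,false),(2,true)]⟩]))
 (.one .base)))
 (.fork (.fork (.one (.path 4 [⟨421,[],[(3,false),(5,false),(4,false),(2,true)]⟩,⟨472,[],[(5,false),(4,false),(1,false),(4,false),(5,false),(2,false),(6,false),(4,false),(1,false),(4,false)]⟩,⟨1367,[(114,true),(163,false),(114,true)],[(0,false),(2,false),(5,false),(6,false),(4,false),(2,true),(5,false),(2,false),(4,false),(1,false)]⟩]))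
 (.one .base))
 (.fork (.one .def')
 (.one .base)))))
 (.fork (.fork (.fork (.fork (.one (.path 5 [⟨157,[],[(3,false)]⟩,⟨66,[(49,false),(49,false),(49,false),(27,false)],[(3,false),(2,true),(5,false),(4,false),(2,true),(5,false),(2,false),(4,false),(5,false)]⟩,⟨468,[(54,false),(100,false),(83,false)],[(1,false),(3,false),(4,false),(1,false),(2,true),(5,false),(4,false),(5,false),(6,false)]⟩]))
 (.one .base))
 (.fork (.one (.path 1 [⟨1840,[(110,true)],[(6,false),(2,true),(5,false),(2,false),(4,false),(3,false),(5,false),(4,false),(2,true)]⟩,⟨2427,[],[(0,false),(5,false),(4,false),(1,false),(4,false),(5,false),(2,true)]⟩]))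
 (.one .base)))
 (.fork (.fork (.one (.path 12 [⟨1328,[(110,false)],[(5,false),(4,false),(5,false),(2,false),(4,false),(1,false),(4,false),(5,false)]⟩,⟨560,[(109,false)],[(2,false),(4,false),(1,false),(4,false),(5,false),(4,false),(6,false),(4,false),(1,false),(5,false)]⟩,⟨1281,[(158,false),(204,true),(172,false),(158,false)],[(5,false),(6,false),(4,false),(1,false),(3,false),(5,false),(2,false)]⟩]))
 (.one .base))
 (.fork (.one (.path 0 [⟨2907,[],[(0,false),(1,false),(4,false),(5,false),(2,false)]⟩,⟨2834,[],[(3,false),(4,false),(6,false),(4,false),(1,false),(4,false),(5,false),(6,false),(4,false)]⟩]))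
 (.one .base))))
 (.fork (.fork (.fork (.one (.path 0 [⟨327,[],[(2,true)]⟩,⟨912,[(204,true),(158,false),(204,false),(158,false)],[(5,false),(4,false),(3,false),(6,false),(4,false),(5,false),(2,true)]⟩]))
 (.one .base))
 (.fork (.one (.path 0 [⟨846,[],[(6,false),(2,true),(5,false),(4,false),(6,false),(2,true),(5,false),(4,false),(6,false),(2,true)]⟩,⟨1353,[],[(1,false),(2,true),(5,false),(4,false),(5,false),(2,false),(5,false),(4,false),(6,false),(4,false)]⟩]))
 (.one .base)))
 (.fork (.fork (.one (.path 4 [⟨220,[(110,true)],[(3,false),(5,false),(2,false),(5,false),(4,false),(1,false),(4,false),(5,false),(6,false),(4,false)]⟩,⟨1081,[(121,true),(137,false),(132,false)],[(3,false),(2,true),(5,false),(4,false),(5,false),(2,false),(5,false),(4,false),(5,false)]⟩,⟨1856,[(110,true),(109,false)],[(0,false),(4,false),(5,false),(2,false),(4,false),(1,false),(5,false),(4,false),(5,false),(6,false)]⟩]))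
 (.one .base))
 (.fork (.one (.path 0 [⟨3848,[(3911,false),(3912,true),(3911,false),(3911,false)],[(0,false),(2,true),(5,false),(2,true)]⟩,⟨2630,[(110,false),(109,false)],[(1,false),(4,false),(1,false),(5,false),(4,false),(1,false),(4,false),(6,false)]⟩]))
 (.one .base)))))))

/-- a part of the justifications -/
noncomputable def twJustT89 : BT Just := (.fork (.fork (.fork (.fork (.fork (.fork (.one (.ubase [(4,false)]))
 (.one (.path 0 [⟨3988,[(3912,true),(3911,false),(3912,true)],[(0,false),(4,false),(1,false),(4,false),(5,false),(6,false),(4,false),(5,false),(4,false)]⟩,⟨2940,[(110,false)],[(1,false),(5,false),(6,false),(4,false),(2,true),(5,false),(4,false),(6,false),(2,true),(5,false)]⟩])))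
 (.fork (.one (.path 8 [⟨1846,[(110,false),(109,false)],[(3,false),(4,false),(5,false),(4,false),(6,false),(4,false),(1,false),(4,false),(5,false)]⟩,⟨604,[(110,false),(109,false)],[(0,false),(5,false),(6,false),(2,true),(5,false),(4,false),(5,false),(4,false),(6,false),(2,true),(5,false)]⟩,⟨861,[(137,true),(132,true),(121,false),(132,false)],[(5,false),(4,false),(3,false),(6,false),(2,true)]⟩]))
 (.one .base)))
 (.fork (.fork (.one (.path 3 [⟨421,[],[(2,false),(3,false),(5,false),(6,false),(2,true)]⟩,⟨472,[(109,false)],[(0,false),(5,false),(6,false),(4,false),(1,false),(4,false),(5,false),(4,false),(1,false),(4,false)]⟩,⟨837,[(163,true),(114,false),(163,false)],[(1,false),(3,false),(5,false),(4,false),(5,false),(6,false),(2,true),(5,false),(4,false)]⟩]))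
 (.one .base))
 (.fork (.one (.path 1 [⟨2270,[(109,false)],[(5,false),(2,false),(5,false),(4,false),(1,false),(3,false),(5,false),(2,false),(6,false),(4,false)]⟩,⟨2388,[],[(0,false),(1,false),(2,false),(4,false),(6,false),(4,false),(1,false),(4,false),(5,false),(6,false)]⟩]))
 (.one .base))))
 (.fork (.fork (.fork (.one (.path 2 [⟨486,[(163,false),(114,true),(163,true),(114,false)],[(3,false),(5,false),(4,false),(1,false),(5,false),(4,false),(6,false)]⟩,⟨389,[],[(6,false),(2,true),(5,false),(4,false),(5,false),(4,false),(6,false),(4,false)]⟩,⟨296,[(114,false),(163,true)],[(0,false),(2,false),(4,false),(5,false),(2,true),(5,false),(4,false),(5,false),(2,false),(6,false)]⟩]))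
 (.one .base))
 (.fork (.one (.path 1 [⟨1460,[(109,false)],[(0,false),(4,false),(1,false),(4,false),(5,false),(6,false),(4,false),(5,false)]⟩,⟨451,[],[(3,false),(5,false),(2,true),(5,false),(4,false),(5,false),(2,false),(4,false),(6,false),(4,false)]⟩]))
 (.one .base)))
 (.fork (.fork (.one (.path 13 [⟨1361,[],[(6,false),(4,false),(3,false),(2,true),(5,false),(2,false),(4,false),(1,false),(4,false)]⟩,⟨872,[(109,false)],[(6,false),(4,false),(1,false),(4,false),(5,false),(4,false),(2,true),(5,false),(2,false)]⟩,⟨1425,[(121,false),(137,true),(132,false),(121,false)],[(6,false),(2,true),(5,false),(4,false),(6,false),(2,true),(5,false),(4,false),(6,false)]⟩]))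
 (.one .base))
 (.fork (.one (.path 1 [⟨3510,[(109,false)],[(5,false),(4,false),(2,true),(5,false),(2,false),(4,false),(5,false),(4,false),(1,false)]⟩,⟨2364,[],[(0,false),(5,false),(2,false),(6,false),(4,false),(1,false),(5,false),(4,false),(6,false),(2,true),(5,false)]⟩]))
 (.one .base)))))
 (.fork (.fork (.fork (.fork (.one (.path 1 [⟨266,[(163,true),(113,false)],[(1,false),(2,false),(4,false),(3,false),(6,false),(4,false),(5,false),(4,false),(2,true)]⟩,⟨263,[],[(0,false),(1,false),(5,false),(4,false),(1,false),(5,false),(6,false),(4,false),(5,false),(4,false)]⟩]))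
 (.one .base))
 (.fork (.one (.path 2 [⟨612,[(110,true)],[(0,false),(1,false),(5,false),(4,false),(5,false),(2,false),(6,false),(4,false),(5,false),(4,false),(5,false)]⟩,⟨530,[(121,false),(132,false),(121,false)],[(3,false),(4,false),(5,false),(2,false),(4,false),(1,false),(5,false),(4,false),(5,false),(2,true)]⟩,⟨939,[(114,false),(163,false)],[(3,false),(4,false),(1,false),(5,false),(4,false),(5,false),(2,false),(5,false),(6,false),(4,false)]⟩]))
 (.one .base)))
 (.fork (.fork (.one (.path 0 [⟨617,[],[(1,false),(3,false),(2,true),(5,false),(2,false)]⟩,⟨1219,[(163,false),(114,true),(113,false)],[(3,false),(5,false),(2,false),(4,false),(5,false),(2,true),(5,false),(4,false)]⟩]))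
 (.one .base))
 (.fork (.one (.path 0 [⟨3131,[],[(5,false),(2,false),(4,false),(5,false),(2,false),(4,false)]⟩,⟨3129,[],[(1,false),(2,false),(3,false),(4,false),(1,false),(4,false),(5,false),(4,false),(2,true)]⟩]))
 (.one .base))))
 (.fork (.fork (.fork (.one (.path 8 [⟨673,[(137,false),(121,true),(137,true),(132,false)],[(1,false),(2,false),(3,false),(4,false),(5,false),(4,false),(5,false)]⟩,⟨764,[(110,false)],[(3,false),(4,false),(1,false),(4,false),(6,false),(4,false),(1,false),(4,false)]⟩,⟨425,[],[(4,false),(6,false),(4,false),(1,false),(4,false),(1,false)]⟩]))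
 (.one .base))
 (.fork (.one (.path 4 [⟨570,[(110,false)],[(0,false),(6,false),(2,true),(5,false),(4,false),(2,true),(5,false),(4,false),(1,false),(2,true)]⟩,⟨1309,[(191,false),(191,false),(65,false)],[(1,false),(5,false),(4,false),(1,false),(6,false),(4,false),(1,false),(2,true),(5,false),(4,false)]⟩,⟨2102,[(110,true),(109,false)],[(2,false),(3,false),(4,false),(5,false),(2,true)]⟩]))
 (.one .base)))
 (.fork (.fork (.one (.path 13 [⟨361,[(64,true),(63,false)],[(0,false),(5,false),(2,false),(5,false),(4,false),(5,false),(6,false),(4,false),(5,false)]⟩,⟨681,[(172,false),(158,false),(204,false)],[(0,false),(5,false),(4,false),(5,false),(2,false),(6,false),(4,false),(5,false),(2,true),(5,false)]⟩,⟨1509,[(110,true)],[(5,false),(4,false),(1,false),(5,false),(4,false),(1,false),(2,true)]⟩]))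
 (.one .base))
 (.fork (.one (.path 7 [⟨1479,[],[(1,false),(3,false),(5,false),(4,false),(2,true)]⟩,⟨1440,[],[(4,false),(1,false),(3,false),(5,false),(2,false),(4,false),(1,false),(6,false)]⟩,⟨3837,[(204,false),(172,false),(158,false),(172,false),(158,false)],[(0,false),(4,false),(5,false),(4,false),(2,true),(5,false),(2,false),(4,false),(5,false),(4,false),(2,true)]⟩]))
 (.one .base))))))
 (.fork (.fork (.fork (.fork (.fork (.one (.rev 140))
 (.one (.path 0 [⟨2950,[(110,true)],[(4,false),(5,false),(4,false),(1,false),(4,false),(6,false)]⟩,⟨3967,[],[(1,false),(3,false),(4,false),(1,false),(4,false),(6,false),(4,false),(5,false),(4,false)]⟩])))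
 (.fork (.one (.path 0 [⟨417,[],[(3,false),(6,false),(4,false)]⟩,⟨855,[(114,false),(163,false),(114,false)],[(0,false),(6,false),(4,false),(2,true),(5,false)]⟩]))
 (.one .base)))
 (.fork (.fork (.one (.path 1 [⟨546,[],[(0,false),(1,false),(4,false),(6,false),(4,false),(1,false),(4,false),(5,false),(2,true),(5,false)]⟩,⟨991,[],[(5,false),(2,false),(4,false),(3,false),(5,false),(6,false)]⟩]))
 (.one .base))
 (.fork (.one (.path 1 [⟨2684,[(109,false)],[(2,false),(4,false),(6,false),(4,false),(1,false),(5,false),(4,false),(5,false),(2,false),(5,false)]⟩,⟨2573,[],[(3,false),(6,false),(4,false),(2,true),(5,false),(4,false),(1,false)]⟩]))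
 (.one .base))))
 (.fork (.fork (.fork (.one (.path 3 [⟨125,[(114,true)],[(2,false),(4,false),(6,false),(4,false),(1,false),(5,false),(2,true)]⟩,⟨265,[(56,false),(83,false),(58,false),(54,false)],[(5,false),(4,false),(1,false),(5,false),(4,false),(6,false),(2,true)]⟩,⟨375,[(114,true),(163,false),(113,false)],[(0,false),(1,false),(5,false),(2,false),(4,false),(5,false),(4,false),(6,false),(2,true),(5,false),(2,false)]⟩]))
 (.one .base))
 (.fork (.one (.path 1 [⟨2601,[],[(3,false),(6,false),(2,true)]⟩,⟨2184,[],[(1,false),(3,false),(4,false),(1,false),(4,false),(6,false),(4,false),(5,false),(4,false),(2,true)]⟩]))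
 (.one .base)))
 (.fork (.fork (.one (.path 6 [⟨516,[],[(1,false),(5,false),(4,false),(1,false),(3,false),(4,false),(6,false),(2,true),(5,false),(4,false),(1,false)]⟩,⟨198,[(65,true),(191,false)],[(4,false),(5,false),(6,false),(4,false),(2,true),(5,false),(4,false),(1,false)]⟩,⟨1261,[(158,false),(204,false),(158,false),(204,false),(172,false)],[(2,false),(5,false),(2,false),(4,false),(3,false),(5,false),(4,false),(2,true),(5,false),(2,false),(4,false)]⟩]))
 (.one .base))
 (.fork (.one (.path 0 [⟨3056,[],[(4,false),(1,false),(5,false),(4,false),(6,false),(4,false),(1,false),(5,false),(4,false),(6,false),(2,true)]⟩,⟨2457,[],[(0,false),(4,false),(5,false),(4,false),(2,true),(5,false),(2,false),(4,false),(1,false),(4,false)]⟩]))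
 (.one .base)))))
 (.fork (.fork (.fork (.fork (.one (.path 0 [⟨391,[],[(1,false),(3,false)]⟩,⟨208,[(110,false)],[(4,false),(1,false),(6,false),(4,false),(1,false),(4,false),(6,false),(2,true),(5,false),(4,false),(1,false)]⟩]))
 (.one .base))
 (.fork (.one (.path 0 [⟨1122,[(110,false)],[(3,false),(4,false),(2,true),(5,false),(4,false),(2,true),(5,false),(2,false),(4,false),(1,false)]⟩,⟨1447,[],[(2,false),(4,false),(6,false),(4,false),(1,false),(5,false),(4,false),(5,false),(6,false),(4,false)]⟩]))
 (.one .base)))
 (.fork (.fork (.one (.path 6 [⟨273,[(121,false),(121,false)],[(4,false),(3,false),(6,false),(2,true),(5,false),(2,true)]⟩,⟨544,[],[(0,false),(5,false),(2,false),(6,false),(4,false),(1,false),(5,false),(4,false),(5,false),(2,true)]⟩,⟨605,[(137,true),(132,true),(121,false)],[(0,false),(4,false),(1,false),(4,false),(5,false),(2,false),(4,false),(5,false),(6,false),(2,true)]⟩]))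
 (.one .base))
 (.fork (.one (.path 0 [⟨2091,[],[(2,true),(5,false)]⟩,⟨2118,[(110,true),(109,false)],[(0,false),(2,false),(4,false),(6,false),(4,false),(1,false),(5,false),(4,false),(1,false),(6,false)]⟩]))
 (.one .base))))
 (.fork (.fork (.fork (.one (.path 9 [⟨492,[(65,false),(72,false),(63,false)],[(0,false),(1,false),(5,false),(2,false),(6,false),(4,false)]⟩,⟨261,[(172,false),(158,false),(204,false),(158,false)],[(2,true),(5,false),(4,false),(1,false),(5,false),(4,false),(6,false),(4,false),(5,false)]⟩,⟨893,[(204,false),(158,false),(204,false)],[(4,false),(1,false),(4,false),(5,false),(6,false),(4,false),(1,false),(5,false),(4,false),(1,false)]⟩]))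
 (.one .base))
 (.fork (.one (.path 2 [⟨820,[(110,false)],[(1,false),(6,false),(2,true),(5,false),(4,false),(5,false),(4,false),(6,false)]⟩,⟨468,[(83,false),(54,false),(100,false)],[(5,false),(4,false),(1,false),(5,false),(4,false),(6,false),(4,false),(2,true),(5,false),(4,false)]⟩,⟨2632,[(109,false)],[(0,false),(2,false),(4,false),(5,false),(6,false),(4,false),(1,false),(4,false),(6,false),(2,true)]⟩]))
 (.one .base)))
 (.fork (.fork (.one (.path 10 [⟨604,[(110,true),(109,false)],[(5,false),(2,false),(4,false),(6,false),(4,false),(1,false),(5,false),(4,false),(1,false),(4,false)]⟩,⟨543,[(121,false),(132,false),(121,false)],[(0,false),(4,false),(1,false),(6,false),(4,false),(2,true),(5,false),(2,false)]⟩,⟨945,[(163,false),(114,true),(163,true),(114,false)],[(1,false),(5,false),(2,false),(4,false),(3,false),(5,false),(2,false),(4,false),(5,false),(2,false)]⟩]))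
 (.one .base))
 (.fork (.one (.path 2 [⟨2759,[(110,true)],[(5,false),(4,false),(1,false),(3,false),(2,true),(5,false),(4,false),(6,false)]⟩,⟨272,[(109,false)],[(1,false),(5,false),(2,false),(4,false),(1,false),(6,false),(4,false)]⟩,⟨3899,[(137,false),(132,false),(121,false),(121,false)],[(3,false),(4,false),(5,false),(4,false),(5,false),(2,false),(6,false),(4,false),(1,false)]⟩]))
 (.one .base)))))))

/-- a part of the justifications -/
noncomputable def twJustT90 : BT Just := (.fork (.fork (.fork (.fork (.fork (.fork (.one (.path 4 [⟨53,[],[(4,false),(3,false),(6,false)]⟩,⟨32,[(13,false),(15,false),(11,true),(14,false),(10,false)],[(6,false),(4,false),(1,false),(2,true),(5,false),(4,false),(1,false),(5,false),(2,false)]⟩,⟨59,[(25,false),(28,false),(49,false),(20,false)],[(5,false),(4,false),(2,true),(5,false),(4,false),(2,true),(5,false),(2,false),(4,false),(1,false)]⟩]))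
 (.one (.path 1 [⟨3221,[],[(0,false),(2,false),(3,false)]⟩,⟨3923,[(110,true),(109,false)],[(2,false),(5,false),(4,false),(1,false),(5,false),(6,false),(4,false),(5,false)]⟩])))
 (.fork (.one (.path 0 [⟨1519,[],[(2,false),(4,false),(5,false),(2,false)]⟩,⟨1958,[],[(2,false),(4,false),(1,false),(3,false),(5,false),(6,false),(4,false),(1,false),(5,false),(2,false)]⟩]))
 (.one .base)))
 (.fork (.fork (.one (.path 5 [⟨677,[],[(2,false),(3,false),(6,false),(4,false),(1,false),(5,false),(2,true)]⟩,⟨236,[(163,true),(114,true),(163,false),(114,false)],[(0,false),(5,false),(4,false),(6,false),(4,false),(2,true),(5,false),(4,false),(1,false),(6,false)]⟩,⟨124,[(100,false),(83,true),(55,false)],[(1,false),(2,false),(3,false),(5,false),(4,false),(6,false),(4,false),(1,false),(4,false),(5,false),(2,true)]⟩]))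
 (.one .base))
 (.fork (.one (.path 0 [⟨2825,[],[(5,false),(6,false)]⟩,⟨1145,[],[(0,false),(6,false),(2,true),(5,false),(4,false),(5,false),(2,false),(4,false),(1,false),(4,false)]⟩]))
 (.one .base))))
 (.fork (.fork (.fork (.one (.path 10 [⟨486,[(114,true),(163,true),(114,true)],[(4,false),(6,false),(4,false),(2,true),(5,false),(4,false),(5,false),(2,false),(6,false),(4,false)]⟩,⟨431,[(137,false),(132,false),(121,false),(137,false)],[(4,false),(6,false),(2,true),(5,false),(4,false),(1,false),(4,false),(1,false),(5,false),(6,false)]⟩,⟨239,[(114,true),(163,false),(113,false)],[(3,false),(5,false),(4,false),(6,false),(4,false),(2,true),(5,false),(4,false),(1,false),(6,false)]⟩]))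
 (.one .base))
 (.fork (.one (.path 3 [⟨2261,[],[(4,false),(3,false),(6,false),(2,true),(5,false),(4,false),(2,true)]⟩,⟨1258,[(110,false)],[(1,false),(2,true),(5,false),(2,false),(4,false),(1,false),(3,false),(5,false),(6,false),(4,false)]⟩,⟨779,[(121,true),(132,true),(121,false),(132,false)],[(2,false),(3,false),(4,false),(1,false),(4,false),(6,false),(4,false),(5,false)]⟩]))
 (.one .base)))
 (.fork (.fork (.one (.path 3 [⟨783,[(158,false),(172,false),(158,false),(204,false)],[(2,true),(5,false),(4,false),(5,false),(4,false),(2,true),(5,false),(2,false)]⟩,⟨1050,[(114,false),(113,false)],[(0,false),(1,false),(2,false),(6,false),(4,false),(5,false),(2,false),(4,false),(5,false),(6,false),(2,true)]⟩,⟨933,[(114,false),(113,false)],[(2,false),(5,false),(4,false),(2,true),(5,false),(4,false),(1,false),(5,false),(4,false)]⟩]))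
 (.one .base))
 (.fork (.one (.path 0 [⟨2600,[(110,false)],[(1,false),(3,false),(4,false),(1,false),(5,false),(6,false),(4,false),(1,false)]⟩,⟨3066,[],[(2,false),(4,false),(1,false),(4,false),(5,false),(2,true),(5,false),(4,false),(6,false)]⟩]))
 (.one .base)))))
 (.fork (.fork (.fork (.fork (.one (.path 1 [⟨327,[],[(1,false)]⟩,⟨190,[(204,true),(158,false),(172,false),(158,false)],[(1,false),(2,false),(3,false),(5,false),(4,false),(1,false),(6,false),(2,true),(5,false),(4,false)]⟩]))
 (.one .base))
 (.fork (.one (.path 0 [⟨2111,[],[(0,false),(2,false),(3,false),(5,false),(2,false),(6,false)]⟩,⟨1815,[(110,true),(109,false)],[(1,false),(4,false),(6,false),(4,false),(1,false),(2,true),(5,false),(4,false),(5,false),(4,false)]⟩]))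
 (.one .base)))
 (.fork (.fork (.one (.path 11 [⟨943,[(163,false),(114,true),(163,true),(114,false),(113,false)],[(0,false),(5,false),(6,false),(4,false),(1,false),(5,false),(4,false),(5,false),(2,false)]⟩,⟨1246,[(110,true),(109,false)],[(2,false),(4,false),(1,false),(4,false),(5,false),(2,false),(4,false),(1,false)]⟩,⟨425,[],[(4,false),(6,false),(2,true),(5,false),(2,false),(4,false),(5,false),(6,false),(2,true)]⟩]))
 (.one .base))
 (.fork (.one (.path 1 [⟨1937,[],[(3,false)]⟩,⟨1341,[(109,false)],[(3,false),(5,false),(6,false),(4,false),(2,true),(5,false),(2,false),(4,false),(5,false),(2,false)]⟩]))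
 (.one .base))))
 (.fork (.fork (.fork (.one (.path 10 [⟨344,[(114,true),(163,true),(114,false),(113,false)],[(0,false),(4,false),(6,false),(2,true),(5,false),(4,false),(2,true),(5,false),(2,false),(4,false)]⟩,⟨671,[(132,false),(121,false),(137,false)],[(1,false),(2,true),(5,false),(4,false),(1,false),(5,false),(4,false)]⟩,⟨755,[(163,true),(114,false)],[(0,false),(1,false),(5,false),(4,false),(5,false),(2,false),(5,false),(6,false),(4,false)]⟩]))
 (.one .base))
 (.fork (.one (.path 6 [⟨2386,[(110,false),(109,false)],[(1,false),(4,false),(1,false),(5,false),(2,false),(4,false),(1,false),(4,false),(6,false),(4,false),(5,false)]⟩,⟨2795,[(110,false)],[(1,false),(5,false),(4,false),(1,false),(4,false),(6,false),(4,false),(1,false),(2,true),(5,false)]⟩,⟨2111,[(110,true)],[(3,false),(5,false),(4,false),(6,false),(4,false),(1,false),(4,false)]⟩]))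
 (.one .base)))
 (.fork (.fork (.one (.path 11 [⟨1016,[(110,false),(109,false)],[(0,false),(1,false),(6,false),(4,false),(2,true),(5,false),(2,false),(4,false),(1,false),(5,false),(6,false)]⟩,⟨457,[(83,true),(100,true),(57,false)],[(5,false),(4,false),(2,true),(5,false),(2,false),(4,false),(1,false),(5,false),(6,false),(4,false)]⟩,⟨527,[(114,true)],[(1,false),(2,true),(5,false),(4,false),(5,false),(4,false),(6,false),(2,true),(5,false),(2,false)]⟩]))
 (.one .base))
 (.fork (.one (.path 4 [⟨247,[],[(0,false),(2,false),(3,false),(5,false),(6,false)]⟩,⟨2704,[(109,false)],[(0,false),(2,true),(5,false),(4,false),(2,true),(5,false),(2,false),(4,false),(5,false)]⟩,⟨3865,[],[(1,false),(2,false),(3,false),(5,false),(4,false),(5,false),(2,false),(4,false),(5,false)]⟩]))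
 (.one .base))))))
 (.fork (.fork (.fork (.fork (.fork (.one (.path 0 [⟨141,[(83,true),(55,false)],[(0,false),(6,false),(2,true),(5,false),(4,false),(1,false),(4,false),(5,false),(6,false)]⟩,⟨196,[],[(5,false),(6,false),(4,false),(5,false),(4,false),(6,false),(2,true),(5,false),(4,false)]⟩]))
 (.one (.path 0 [⟨4143,[(3912,false),(3911,true),(3911,true),(3912,true),(3911,false)],[(2,false),(5,false),(2,false),(6,false),(4,false),(3,false),(5,false),(4,false),(2,true)]⟩,⟨4185,[(110,false)],[(0,false),(4,false),(5,false),(2,false),(5,false)]⟩])))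
 (.fork (.one (.path 8 [⟨1048,[(110,false)],[(0,false),(2,false),(4,false),(1,false),(4,false),(6,false),(4,false),(1,false),(4,false)]⟩,⟨655,[(114,false),(113,false)],[(1,false),(4,false),(1,false),(6,false),(2,true),(5,false),(4,false),(1,false)]⟩,⟨2005,[(110,false)],[(0,false),(1,false),(4,false),(2,true),(5,false),(2,false),(4,false),(1,false),(4,false)]⟩]))
 (.one .base)))
 (.fork (.fork (.one (.path 0 [⟨477,[],[(1,false),(6,false),(2,true),(5,false)]⟩,⟨317,[],[(1,false),(6,false),(4,false),(2,true),(5,false),(4,false),(2,true),(5,false),(2,false)]⟩]))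
 (.one .base))
 (.fork (.one (.path 1 [⟨1806,[(109,false)],[(1,false),(5,false),(4,false),(2,true),(5,false),(4,false),(1,false),(6,false),(2,true),(5,false)]⟩,⟨1637,[],[(1,false),(2,true),(5,false),(4,false),(1,false),(3,false),(4,false),(5,false),(6,false)]⟩]))
 (.one .base))))
 (.fork (.fork (.fork (.one (.path 5 [⟨177,[],[(1,false),(2,false),(3,false),(5,false)]⟩,⟨633,[(158,false),(204,true),(172,false)],[(0,false),(2,true),(5,false),(2,false),(4,false),(5,false),(4,false),(1,false),(4,false),(6,false)]⟩,⟨689,[(204,true),(158,false),(172,false)],[(4,false),(5,false),(2,false),(6,false),(4,false),(5,false),(4,false),(5,false),(2,true),(5,false)]⟩]))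
 (.one .base))
 (.fork (.one (.path 1 [⟨1310,[(110,false)],[(1,false),(5,false),(4,false),(2,true),(5,false),(2,false),(4,false),(5,false),(4,false),(6,false),(4,false)]⟩,⟨1637,[],[(0,false),(1,false),(4,false),(5,false),(2,false),(5,false),(6,false),(4,false),(5,false),(2,true)]⟩]))
 (.one .base)))
 (.fork (.fork (.one (.path 6 [⟨751,[(114,false),(113,false)],[(6,false),(4,false),(2,true),(5,false),(2,true)]⟩,⟨465,[],[(0,false),(4,false),(6,false),(4,false),(5,false),(2,false),(4,false),(5,false),(6,false),(2,true)]⟩,⟨807,[(204,false),(158,false)],[(1,false),(4,false),(1,false),(6,false),(4,false),(2,true),(5,false),(4,false),(2,true)]⟩]))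
 (.one .base))
 (.fork (.one (.path 0 [⟨3741,[],[(6,false),(2,true)]⟩,⟨2813,[(110,true),(109,false)],[(1,false),(4,false),(3,false),(6,false),(2,true),(5,false),(4,false),(2,true),(5,false),(2,false)]⟩]))
 (.one .base)))))
 (.fork (.fork (.fork (.fork (.one (.path 3 [⟨279,[(64,false),(191,true),(72,true),(63,false)],[(6,false),(4,false),(1,false),(5,false),(2,false),(4,false),(5,false),(2,false)]⟩,⟨290,[(204,true),(172,false)],[(4,false),(5,false),(2,false),(4,false),(5,false),(4,false),(5,false),(6,false)]⟩,⟨315,[(163,true),(114,false),(163,false)],[(1,false),(5,false),(4,false),(3,false),(2,true),(5,false),(4,false),(1,false),(6,false)]⟩]))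
 (.one .base))
 (.fork (.one (.path 3 [⟨1837,[],[(1,false),(5,false),(4,false),(3,false),(5,false),(6,false),(2,true)]⟩,⟨1542,[],[(0,false),(4,false),(1,false),(2,true)]⟩,⟨1375,[(163,true),(114,false),(163,false),(113,false)],[(1,false),(2,false),(4,false),(5,false),(2,true)]⟩]))
 (.one .base)))
 (.fork (.fork (.one (.path 2 [⟨1378,[(109,false)],[(0,false),(2,false),(4,false),(6,false),(4,false),(5,false),(4,false),(2,true),(5,false),(4,false),(6,false)]⟩,⟨618,[(114,true),(163,true)],[(6,false),(2,true),(5,false),(2,false),(4,false),(5,false),(4,false),(1,false),(5,false),(6,false),(2,true)]⟩,⟨685,[(158,false)],[(3,false),(4,false),(5,false),(4,false),(2,true),(5,false),(2,false),(4,false),(5,false),(2,false)]⟩]))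
 (.one .base))
 (.fork (.one (.path 1 [⟨880,[(110,false)],[(2,false),(4,false),(6,false),(4,false),(5,false),(4,false),(5,false),(6,false),(4,false),(2,true)]⟩,⟨1295,[],[(5,false),(4,false),(1,false),(4,false),(1,false),(5,false),(6,false),(4,false),(1,false),(4,false),(2,true)]⟩]))
 (.one .base))))
 (.fork (.fork (.fork (.one (.path 0 [⟨875,[],[]⟩,⟨926,[],[(1,false),(5,false),(2,false),(4,false),(6,false),(4,false),(5,false),(4,false),(6,false),(2,true)]⟩]))
 (.one .base))
 (.fork (.one (.path 5 [⟨2384,[],[(1,false),(3,false),(4,false),(1,false),(5,false),(2,false)]⟩,⟨1183,[(110,true),(109,false)],[(5,false),(2,false),(4,false),(5,false),(4,false),(5,false),(6,false)]⟩,⟨2195,[(110,true),(109,false)],[(1,false),(6,false),(2,true),(5,false),(2,false),(4,false),(5,false),(2,false),(4,false),(6,false),(4,false)]⟩]))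
 (.one .base)))
 (.fork (.fork (.one (.path 0 [⟨1142,[(110,false)],[(2,false),(4,false),(1,false),(3,false),(4,false),(5,false),(2,false),(6,false),(4,false),(1,false)]⟩,⟨1137,[(83,true),(57,false),(100,false)],[(1,false),(2,false),(4,false),(1,false),(5,false),(4,false),(5,false),(2,false),(5,false),(4,false),(5,false)]⟩]))
 (.one .base))
 (.fork (.one (.path 2 [⟨1123,[],[(2,false),(5,false),(6,false)]⟩,⟨1031,[],[(1,false),(3,false),(2,true),(5,false),(4,false),(1,false),(6,false),(4,false),(5,false),(2,false)]⟩,⟨3987,[],[(1,false),(2,false),(4,false),(5,false),(2,false),(4,false),(5,false),(4,false),(2,true)]⟩]))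
 (.one .base)))))))

/-- a part of the justifications -/
noncomputable def twJustT91 : BT Just := (.fork (.fork (.fork (.fork (.fork (.fork (.one (.path 3 [⟨33,[],[(1,false),(3,false)]⟩,⟨31,[(28,false)],[(5,false),(2,false),(5,false),(6,false),(4,false),(5,false),(4,false),(6,false),(2,true),(5,false)]⟩,⟨32,[(11,false),(14,false)],[(3,false),(6,false),(4,false),(5,false),(2,false),(5,false),(4,false),(1,false),(5,false),(6,false)]⟩]))
 (.one (.path 0 [⟨3966,[(3912,false)],[(1,false),(2,false),(4,false),(1,false),(3,false),(5,false),(4,false),(6,false),(4,false)]⟩,⟨1860,[],[(1,false),(2,true),(5,false),(4,false),(5,false),(6,false),(4,false),(1,false),(4,false),(2,true)]⟩])))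
 (.fork (.one (.path 1 [⟨914,[(110,false)],[(2,false),(5,false),(4,false),(1,false),(5,false),(2,false),(4,false),(5,false)]⟩,⟨1926,[(110,false),(109,false)],[(4,false),(5,false),(2,false),(4,false),(1,false),(4,false),(5,false),(6,false),(4,false)]⟩]))
 (.one .base)))
 (.fork (.fork (.one (.path 6 [⟨371,[(163,true),(114,false),(113,false)],[(1,false),(2,false),(4,false),(5,false),(4,false),(1,false),(4,false),(5,false),(4,false)]⟩,⟨217,[],[(0,false),(5,false),(4,false),(6,false),(2,true),(5,false),(4,false)]⟩,⟨521,[(163,false),(114,false),(163,true),(113,false)],[(4,false),(1,false),(4,false),(5,false),(2,false),(4,false),(5,false),(2,true)]⟩]))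
 (.one .base))
 (.fork (.one (.path 0 [⟨1264,[(109,false)],[(4,false),(5,false),(4,false),(2,true),(5,false),(4,false),(1,false),(5,false),(2,true)]⟩,⟨1170,[(204,false),(158,false),(172,false)],[(1,false),(4,false),(6,false),(4,false),(5,false),(2,false),(5,false),(4,false),(5,false)]⟩]))
 (.one .base))))
 (.fork (.fork (.fork (.one (.path 0 [⟨268,[(204,true),(158,false),(204,false),(172,false)],[(3,false),(5,false),(4,false),(6,false),(4,false),(1,false),(5,false),(4,false),(1,false),(2,true)]⟩,⟨383,[],[(1,false),(2,false),(4,false),(5,false),(2,false),(6,false),(4,false)]⟩]))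
 (.one .base))
 (.fork (.one (.path 0 [⟨1400,[(110,true),(109,false)],[(5,false),(6,false),(4,false),(1,false),(3,false),(5,false),(4,false),(6,false),(2,true),(5,false)]⟩,⟨1547,[],[(4,false),(6,false),(4,false),(2,true),(5,false),(2,false),(4,false),(5,false),(6,false),(4,false)]⟩]))
 (.one .base)))
 (.fork (.fork (.one (.path 0 [⟨1061,[],[(2,false)]⟩,⟨823,[],[(2,true),(5,false),(2,false),(4,false),(3,false),(5,false),(4,false),(1,false),(6,false)]⟩]))
 (.one .base))
 (.fork (.one (.path 0 [⟨1033,[],[(3,false),(5,false),(2,false),(4,false),(5,false),(2,false),(6,false)]⟩,⟨3352,[],[(0,false),(2,false),(5,false),(4,false),(1,false),(6,false),(4,false),(1,false),(2,true),(5,false)]⟩]))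
 (.one .base)))))
 (.fork (.fork (.fork (.fork (.one (.path 1 [⟨157,[],[(0,false),(2,false)]⟩,⟨288,[(49,true),(20,false),(49,false),(23,false)],[(2,false),(4,false),(5,false),(2,false),(6,false),(4,false),(5,false)]⟩]))
 (.one .base))
 (.fork (.one (.path 8 [⟨708,[(110,false)],[(1,false),(4,false),(6,false),(4,false),(1,false),(4,false),(1,false),(6,false),(2,true),(5,false),(4,false)]⟩,⟨985,[(204,true),(172,false),(158,false),(204,true),(158,false)],[(0,false),(2,true),(5,false),(4,false),(5,false),(2,true),(5,false),(4,false),(1,false)]⟩,⟨2191,[],[(0,false),(1,false),(2,false),(6,false),(4,false),(5,false),(4,false),(6,false),(2,true),(5,false)]⟩]))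
 (.one .base)))
 (.fork (.fork (.one (.path 3 [⟨1112,[(110,true)],[(4,false),(6,false),(4,false),(5,false),(4,false),(1,false),(6,false)]⟩,⟨634,[],[(0,false),(4,false),(1,false),(4,false),(5,false),(4,false),(1,false),(4,false),(6,false),(2,true)]⟩,⟨895,[(158,false)],[(4,false),(6,false),(4,false),(1,false),(2,true),(5,false),(4,false),(6,false)]⟩]))
 (.one .base))
 (.fork (.one (.path 1 [⟨652,[(110,true),(109,false)],[(2,false),(4,false),(3,false),(5,false),(4,false),(2,true),(5,false),(4,false),(1,false),(4,false)]⟩,⟨945,[],[(2,false),(5,false),(6,false),(4,false),(5,false),(4,false),(1,false),(6,false),(2,true)]⟩]))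
 (.one .base))))
 (.fork (.fork (.fork (.one (.path 2 [⟨366,[(54,false),(100,true),(83,true)],[(2,false),(4,false),(1,false),(5,false),(4,false),(2,true),(5,false)]⟩,⟨396,[(110,true),(109,false)],[(0,false),(1,false),(6,false),(2,true),(5,false),(4,false),(1,false),(5,false),(4,false),(6,false)]⟩,⟨663,[(132,false),(121,false),(121,false)],[(0,false),(4,false),(5,false),(2,false),(5,false),(4,false),(1,false),(5,false)]⟩]))
 (.one .base))
 (.fork (.one (.path 0 [⟨2405,[],[(0,false),(1,false),(2,true)]⟩,⟨2461,[(110,true)],[(0,false),(1,false),(6,false),(2,true),(5,false),(4,false),(5,false),(4,false),(6,false),(2,true),(5,false),(2,false)]⟩]))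
 (.one .base)))
 (.fork (.fork (.one (.path 0 [⟨1220,[(110,true)],[(0,false),(5,false),(4,false),(5,false),(2,false)]⟩,⟨857,[],[(1,false),(2,true),(5,false),(4,false),(5,false),(4,false),(1,false),(2,true)]⟩]))
 (.one .base))
 (.fork (.one (.path 1 [⟨1580,[],[(0,false),(4,false),(6,false),(4,false),(1,false),(5,false),(4,false),(5,false),(4,false),(2,true)]⟩,⟨3881,[],[(0,false),(2,true),(5,false),(4,false),(1,false),(4,false),(6,false),(2,true),(5,false),(2,false)]⟩]))
 (.one .base))))))
 (.fork (.fork (.fork (.fork (.fork (.one (.path 8 [⟨117,[(65,false),(72,false)],[(6,false),(4,false),(3,false),(2,true),(5,false),(2,false)]⟩,⟨151,[(163,true),(114,false),(163,false)],[(5,false),(6,false),(2,true),(5,false),(4,false),(1,false),(6,false),(4,false),(1,false)]⟩,⟨135,[(132,false),(121,false)],[(4,false),(6,false),(4,false),(1,false),(5,false),(4,false),(5,false),(4,false),(6,false)]⟩]))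
 (.one (.path 0 [⟨2566,[],[(1,false),(6,false),(4,false),(5,false),(4,false),(1,false),(6,false),(4,false)]⟩,⟨4187,[],[(0,false),(4,false),(6,false),(4,false),(1,false),(5,false),(4,false),(5,false),(6,false),(2,true)]⟩])))
 (.fork (.one (.path 1 [⟨1167,[],[(0,false),(2,true),(5,false),(2,false)]⟩,⟨1645,[],[(1,false),(5,false),(2,false),(4,false),(5,false),(4,false),(2,true),(5,false),(2,false),(4,false)]⟩]))
 (.one .base)))
 (.fork (.fork (.one (.path 0 [⟨898,[],[(2,false),(6,false),(4,false),(1,false),(3,false),(5,false),(4,false),(1,false),(6,false)]⟩,⟨681,[],[(0,false),(1,false),(2,false),(5,false),(6,false),(4,false),(1,false),(4,false),(5,false),(6,false)]⟩]))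
 (.one .base))
 (.fork (.one (.path 0 [⟨1752,[],[(2,false),(5,false),(4,false),(1,false),(6,false),(4,false),(1,false),(4,false)]⟩,⟨845,[],[(0,false),(1,false),(5,false),(4,false),(6,false)]⟩]))
 (.one .base))))
 (.fork (.fork (.fork (.one (.path 6 [⟨491,[],[(0,false),(2,true)]⟩,⟨492,[(64,true),(191,true),(72,true),(63,false)],[(2,false),(5,false),(2,false),(4,false),(5,false),(4,false),(1,false),(2,true),(5,false)]⟩,⟨495,[(172,false),(158,false),(204,false),(172,false)],[(4,false),(1,false),(4,false),(6,false),(2,true),(5,false),(4,false),(1,false),(4,false)]⟩]))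
 (.one .base))
 (.fork (.one (.path 0 [⟨2352,[(109,false)],[(2,false),(4,false),(5,false),(2,false),(4,false),(1,false),(5,false),(4,false)]⟩,⟨1990,[(110,false)],[(2,false),(3,false),(6,false),(4,false),(1,false),(4,false),(5,false),(6,false),(2,true)]⟩]))
 (.one .base)))
 (.fork (.fork (.one (.path 7 [⟨1264,[(110,true)],[(1,false),(2,true),(5,false),(4,false),(3,false),(5,false),(2,false),(5,false),(4,false)]⟩,⟨424,[(172,false),(158,false),(204,false)],[(0,false),(6,false),(2,true),(5,false),(4,false),(1,false),(6,false),(4,false)]⟩,⟨945,[(114,false),(163,false),(114,false)],[(2,false),(3,false),(4,false),(1,false),(4,false),(5,false),(2,false),(4,false),(1,false)]⟩]))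
 (.one .base))
 (.fork (.one (.path 0 [⟨3064,[(110,false),(109,false)],[(2,false),(5,false),(4,false),(3,false),(5,false),(6,false),(2,true)]⟩,⟨3751,[],[(1,false),(3,false),(4,false),(5,false),(4,false),(1,false),(4,false),(1,false),(6,false),(2,true),(5,false)]⟩]))
 (.one .base)))))
 (.fork (.fork (.fork (.fork (.one (.path 7 [⟨351,[(137,true),(121,true)],[(4,false),(5,false),(2,true),(5,false),(4,false),(1,false),(4,false)]⟩,⟨232,[],[(5,false),(4,false),(6,false),(4,false),(2,true),(5,false),(2,false),(4,false)]⟩,⟨325,[(57,false),(100,true),(83,true),(54,false)],[(1,false),(4,false),(6,false),(4,false),(5,false),(2,false),(4,false),(5,false),(4,false),(1,false)]⟩]))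
 (.one .base))
 (.fork (.one (.path 10 [⟨1224,[],[(1,false),(2,false),(3,false),(5,false),(4,false),(1,false),(5,false),(4,false),(6,false),(4,false),(2,true)]⟩,⟨1369,[],[(5,false),(4,false),(1,false),(4,false),(1,false),(5,false),(6,false),(4,false),(1,false),(4,false),(6,false)]⟩,⟨2448,[(109,false)],[(0,false),(2,true),(5,false),(4,false),(5,false),(2,false),(6,false),(4,false),(1,false),(5,false),(2,true)]⟩]))
 (.one .base)))
 (.fork (.fork (.one (.path 0 [⟨1439,[],[(2,false),(5,false)]⟩,⟨1034,[(109,false)],[(6,false),(4,false),(1,false),(5,false),(4,false),(2,true),(5,false),(4,false),(6,false)]⟩]))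
 (.one .base))
 (.fork (.one (.path 1 [⟨2717,[],[(2,false)]⟩,⟨2634,[],[(0,false),(4,false),(1,false),(4,false),(6,false),(2,true),(5,false),(4,false),(6,false)]⟩]))
 (.one .base))))
 (.fork (.fork (.fork (.one (.path 3 [⟨837,[(114,false),(113,false)],[(4,false),(3,false),(6,false),(2,true)]⟩,⟨932,[],[(1,false),(2,false),(5,false),(4,false),(5,false),(6,false),(2,true),(5,false),(4,false)]⟩,⟨649,[(114,false),(163,true),(114,true)],[(5,false),(2,false),(5,false),(4,false),(1,false),(3,false),(5,false),(2,false),(6,false)]⟩]))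
 (.one .base))
 (.fork (.one (.path 3 [⟨1689,[],[(0,false),(3,false),(5,false),(6,false)]⟩,⟨1084,[(110,false),(109,false)],[(1,false),(2,false),(4,false),(5,false),(4,false),(1,false),(4,false),(1,false),(6,false),(4,false)]⟩,⟨971,[(137,true),(121,true)],[(1,false),(2,false),(4,false),(1,false),(6,false),(4,false),(5,false),(4,false),(6,false),(2,true)]⟩]))
 (.one .base)))
 (.fork (.fork (.one (.path 0 [⟨880,[(110,false)],[(1,false),(2,false),(4,false),(6,false),(4,false),(5,false),(4,false),(5,false),(6,false)]⟩,⟨1623,[],[(2,false),(4,false),(1,false),(6,false),(4,false),(1,false),(4,false),(5,false),(6,false)]⟩]))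
 (.one .base))
 (.fork (.one (.path 0 [⟨3510,[(109,false)],[(5,false),(4,false),(2,true),(5,false),(2,false),(4,false),(5,false),(2,false),(4,false),(1,false)]⟩,⟨3855,[],[(0,false),(2,false),(4,false),(6,false),(4,false),(5,false),(2,false),(4,false),(6,false)]⟩]))
 (.one .base)))))))

/-- a part of the justifications -/
noncomputable def twJustT92 : BT Just := (.fork (.fork (.fork (.fork (.fork (.fork (.one (.lift 1 (wOf 17 0x10432346312301234) ⟨107,[(13,false),(15,false),(11,false),(14,false),(10,false),(13,false),(14,false),(11,true),(10,false),(9,false)],[]⟩ ⟨107,[(14,true),(11,false),(14,false),(13,false),(10,false),(13,false),(15,false),(11,true),(14,false),(12,false),(13,false)],[(0,false),(4,false)]⟩))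
 (.one (.path 0 [⟨2538,[(110,false),(109,false)],[(6,false),(4,false),(1,false),(4,false),(1,false),(6,false),(4,false),(5,false),(2,false),(5,false)]⟩,⟨3939,[],[(6,false),(2,true),(5,false),(2,false),(4,false),(1,false),(5,false),(2,true)]⟩])))
 (.fork (.one (.path 2 [⟨1252,[(110,true)],[(0,false),(5,false),(2,false),(4,false),(5,false),(2,false),(6,false),(4,false),(1,false),(5,false)]⟩,⟨332,[(137,true),(132,true)],[(1,false),(4,false),(1,false),(3,false),(4,false),(6,false),(4,false),(1,false),(5,false),(2,false)]⟩,⟨1465,[],[(4,false),(2,true),(5,false),(4,false),(1,false),(2,true),(5,false),(4,false)]⟩]))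
 (.one .base)))
 (.fork (.fork (.one (.path 2 [⟨553,[(204,true),(158,false),(172,false)],[(4,false),(1,false),(2,true),(5,false),(4,false),(1,false)]⟩,⟨589,[(114,false),(163,true),(114,false)],[(2,false),(5,false),(2,false),(6,false),(4,false),(3,false),(5,false),(2,false),(4,false),(1,false),(6,false)]⟩,⟨323,[(204,false),(158,false),(172,false)],[(0,false),(4,false),(5,false),(2,false),(5,false),(4,false),(6,false),(4,false)]⟩]))
 (.one .base))
 (.fork (.one (.path 0 [⟨2477,[],[(0,false),(2,true)]⟩,⟨2817,[(110,false),(109,false)],[(1,false),(2,true),(5,false),(4,false),(3,false),(5,false),(6,false),(4,false)]⟩]))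
 (.one .base))))
 (.fork (.fork (.fork (.one (.path 4 [⟨501,[(158,false),(204,false),(172,false)],[(4,false),(1,false),(3,false),(5,false),(2,false),(6,false),(4,false),(5,false),(2,false)]⟩,⟨600,[],[(5,false),(4,false),(2,true),(5,false),(4,false),(2,true),(5,false),(4,false),(2,true)]⟩,⟨543,[(132,false),(121,false),(132,false),(121,false)],[(2,false),(4,false),(1,false),(5,false),(6,false),(4,false),(5,false),(4,false)]⟩]))
 (.one .base))
 (.fork (.one (.path 1 [⟨2077,[],[(2,false)]⟩,⟨1519,[(110,false),(109,false)],[(4,false),(3,false),(6,false),(2,true),(5,false),(4,false),(6,false),(2,true),(5,false)]⟩]))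
 (.one .base)))
 (.fork (.fork (.one (.path 0 [⟨930,[],[(4,false),(1,false),(4,false),(1,false),(5,false),(4,false),(1,false),(2,true),(5,false)]⟩,⟨1211,[],[(4,false),(2,true),(5,false),(2,false),(4,false),(1,false),(4,false),(1,false),(6,false),(4,false)]⟩]))
 (.one .base))
 (.fork (.one (.path 0 [⟨3544,[],[(3,false),(4,false),(1,false),(6,false),(2,true),(5,false),(4,false),(5,false),(2,false)]⟩,⟨3493,[],[(1,false),(2,true),(5,false),(4,false),(1,false),(6,false),(4,false),(1,false),(4,false),(5,false),(4,false)]⟩]))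
 (.one .base)))))
 (.fork (.fork (.fork (.fork (.one (.path 9 [⟨123,[(110,true)],[(4,false),(3,false),(6,false),(2,true)]⟩,⟨71,[(100,false),(83,true)],[(2,false),(4,false),(1,false),(4,false),(6,false),(4,false),(1,false),(4,false),(5,false),(2,true)]⟩,⟨70,[(14,false),(13,false),(15,false),(13,false),(10,false),(13,false),(9,false)],[(2,false),(5,false),(4,false),(1,false),(2,true)]⟩]))
 (.one .base))
 (.fork (.one (.path 6 [⟨2203,[],[(3,false),(4,false),(5,false),(4,false),(6,false),(4,false),(1,false),(2,true)]⟩,⟨1044,[(110,true)],[(4,false),(6,false),(4,false),(5,false),(4,false),(6,false)]⟩,⟨757,[(163,true)],[(0,false),(4,false),(1,false),(5,false),(2,false),(4,false),(1,false),(5,false),(4,false),(2,true)]⟩]))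
 (.one .base)))
 (.fork (.fork (.one (.path 7 [⟨922,[(114,false),(163,true),(113,false)],[(4,false),(1,false),(4,false),(1,false),(5,false),(4,false),(6,false),(2,true)]⟩,⟨1052,[(110,true)],[(1,false),(2,false),(3,false),(5,false),(4,false),(5,false),(2,false),(4,false),(1,false),(4,false),(6,false)]⟩,⟨947,[(163,false),(114,false),(163,true),(113,false)],[(0,false),(1,false),(2,false),(6,false),(4,false),(1,false),(5,false),(4,false)]⟩]))
 (.one .base))
 (.fork (.one (.path 0 [⟨2918,[(109,false)],[(1,false),(2,false),(3,false),(4,false),(5,false),(4,false),(5,false),(2,false),(5,false)]⟩,⟨3085,[],[(3,false),(4,false),(1,false),(5,false),(4,false),(5,false),(2,false)]⟩]))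
 (.one .base))))
 (.fork (.fork (.fork (.one (.path 9 [⟨135,[],[(5,false),(2,false),(5,false),(6,false)]⟩,⟨560,[],[(3,false),(5,false),(4,false),(1,false),(5,false),(4,false),(2,true),(5,false)]⟩,⟨707,[(204,true),(172,false)],[(0,false),(6,false),(4,false),(5,false),(2,false),(4,false),(5,false),(6,false),(4,false),(2,true),(5,false)]⟩]))
 (.one .base))
 (.fork (.one (.path 0 [⟨1018,[(110,false)],[(5,false),(4,false),(6,false),(2,true),(5,false),(4,false),(1,false),(5,false),(2,false)]⟩,⟨173,[(191,false),(64,false),(191,true),(63,false)],[(0,false),(5,false),(4,false),(5,false),(2,false),(6,false),(4,false),(5,false),(4,false),(1,false)]⟩]))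
 (.one .base)))
 (.fork (.fork (.one (.path 9 [⟨194,[(100,false),(55,false)],[(6,false),(4,false),(5,false),(4,false),(5,false),(2,false),(5,false),(4,false)]⟩,⟨1373,[(114,false),(113,false)],[(1,false),(3,false),(4,false),(1,false),(5,false),(6,false),(4,false),(1,false),(5,false),(2,false)]⟩,⟨1330,[(110,true),(109,false)],[(1,false),(3,false),(4,false),(5,false),(4,false),(2,true),(5,false),(2,false),(4,false),(5,false)]⟩]))
 (.one .base))
 (.fork (.one (.path 4 [⟨1048,[],[(4,false),(1,false),(3,false),(5,false),(4,false),(5,false),(2,false),(5,false),(4,false),(1,false)]⟩,⟨1514,[(163,true),(114,false),(113,false)],[(0,false),(5,false),(6,false),(4,false),(5,false),(2,false),(4,false),(5,false),(4,false),(1,false),(5,false)]⟩,⟨3943,[],[(1,false),(6,false),(4,false),(5,false),(4,false),(1,false),(5,false),(4,false),(2,true)]⟩]))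
 (.one .base))))))
 (.fork (.fork (.fork (.fork (.fork (.one (.path 7 [⟨223,[(57,false),(56,false),(55,false),(54,false)],[(1,false),(5,false),(2,false),(4,false),(3,false),(5,false),(2,false),(4,false),(5,false),(2,false),(4,false)]⟩,⟨193,[],[(1,false),(2,false),(3,false),(5,false),(4,false),(1,false),(4,false),(2,true),(5,false),(4,false)]⟩,⟨231,[(58,false)],[(0,false),(4,false),(1,false),(5,false),(6,false),(4,false),(2,true),(5,false),(4,false),(6,false),(2,true)]⟩]))
 (.one (.path 0 [⟨4157,[(3912,false),(3911,false),(3912,true)],[(3,false),(4,false),(2,true),(5,false),(2,false),(4,false),(5,false),(2,false)]⟩,⟨4329,[],[(1,false),(3,false),(5,false),(4,false),(1,false),(5,false),(6,false),(4,false),(1,false),(5,false),(2,true)]⟩])))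
 (.fork (.one (.path 0 [⟨2020,[(110,true),(109,false)],[(1,false),(2,false),(6,false),(4,false),(5,false),(4,false),(6,false),(2,true),(5,false),(2,true)]⟩,⟨2264,[(109,false)],[(2,false),(5,false),(4,false),(3,false),(5,false),(2,false),(5,false),(6,false),(4,false),(5,false)]⟩]))
 (.one .base)))
 (.fork (.fork (.one (.path 12 [⟨499,[(204,false),(158,false),(204,false),(158,false),(204,false),(158,false)],[(0,false),(4,false),(1,false),(4,false),(5,false),(4,false),(2,true),(5,false),(4,false)]⟩,⟨935,[(113,false)],[(1,false),(4,false),(1,false),(4,false),(5,false),(4,false),(5,false),(6,false),(4,false)]⟩,⟨1147,[],[(1,false),(6,false),(2,true),(5,false),(2,false),(4,false),(1,false),(4,false),(5,false),(6,false)]⟩]))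
 (.one .base))
 (.fork (.one (.path 0 [⟨2988,[],[(2,false),(5,false),(2,false),(6,false),(4,false),(1,false),(4,false),(5,false),(4,false)]⟩,⟨2383,[],[(0,false),(4,false),(1,false),(5,false),(2,false),(6,false),(4,false),(1,false),(5,false)]⟩]))
 (.one .base))))
 (.fork (.fork (.fork (.one (.path 0 [⟨535,[],[(1,false),(3,false),(6,false),(4,false)]⟩,⟨549,[(204,false),(158,false),(204,true),(172,false)],[(0,false),(4,false),(1,false),(4,false),(5,false),(2,false),(4,false),(1,false),(6,false),(4,false),(5,false)]⟩]))
 (.one .base))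
 (.fork (.one (.path 1 [⟨2527,[],[(1,false),(2,false),(6,false)]⟩,⟨2281,[],[(1,false),(6,false),(4,false),(3,false),(2,true)]⟩]))
 (.one .base)))
 (.fork (.fork (.one (.path 7 [⟨843,[(163,true),(114,true)],[(4,false),(3,false),(6,false),(2,true),(5,false),(4,false),(1,false),(5,false),(2,false),(4,false)]⟩,⟨731,[(109,false)],[(1,false),(3,false),(5,false),(2,false),(4,false),(5,false),(4,false),(6,false),(2,true)]⟩,⟨1500,[(110,true),(109,false)],[(2,true),(5,false),(2,false),(4,false),(1,false),(4,false),(5,false),(2,true)]⟩]))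
 (.one .base))
 (.fork (.one (.path 0 [⟨3151,[],[(2,false),(3,false),(5,false),(2,false)]⟩,⟨3287,[(110,true),(109,false)],[(6,false),(4,false),(1,false),(3,false),(5,false),(2,false),(4,false)]⟩]))
 (.one .base)))))
 (.fork (.fork (.fork (.fork (.one (.path 11 [⟨167,[(158,false),(204,false),(172,false)],[(6,false),(4,false),(1,false),(3,false),(5,false),(4,false),(1,false),(6,false),(4,false)]⟩,⟨347,[(137,true),(132,false)],[(3,false),(4,false),(5,false),(6,false),(2,true),(5,false),(4,false),(5,false),(2,false)]⟩,⟨437,[(121,false),(121,false)],[(3,false),(4,false),(2,true),(5,false),(2,false),(4,false),(5,false),(4,false),(2,true),(5,false)]⟩]))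
 (.one .base))
 (.fork (.one (.path 6 [⟨1982,[(110,false)],[(1,false),(2,false),(3,false),(5,false),(4,false),(6,false),(2,true),(5,false),(4,false),(2,true),(5,false)]⟩,⟨1110,[(109,false)],[(2,false),(3,false),(5,false),(4,false),(6,false),(4,false),(5,false),(4,false)]⟩,⟨1279,[(204,false),(158,false),(204,true),(158,false)],[(4,false),(3,false),(5,false),(2,true),(5,false),(4,false),(5,false),(2,true),(5,false)]⟩]))
 (.one .base)))
 (.fork (.fork (.one (.path 0 [⟨714,[],[(3,false),(4,false),(1,false),(4,false),(6,false),(4,false),(2,true),(5,false),(4,false),(6,false),(2,true)]⟩,⟨691,[],[(1,false),(5,false),(4,false),(5,false),(4,false),(2,true),(5,false),(4,false),(1,false),(4,false)]⟩]))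
 (.one .base))
 (.fork (.one (.path 0 [⟨1841,[],[(4,false)]⟩,⟨2636,[(109,false)],[(1,false),(4,false),(2,true),(5,false),(4,false),(1,false),(6,false),(4,false),(2,true)]⟩]))
 (.one .base))))
 (.fork (.fork (.fork (.one (.path 4 [⟨598,[(158,false),(204,true),(158,false),(204,true),(172,false)],[(3,false),(4,false),(1,false),(4,false),(5,false),(2,false),(5,false),(4,false),(1,false)]⟩,⟨289,[(114,false),(163,true)],[(5,false),(2,false),(4,false),(1,false),(5,false),(4,false),(1,false),(2,true),(5,false)]⟩,⟨985,[(158,false),(204,false),(172,false)],[(4,false),(1,false),(3,false),(6,false),(4,false),(1,false),(5,false),(2,false)]⟩]))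
 (.one .base))
 (.fork (.one (.path 0 [⟨2212,[(110,true),(109,false)],[(1,false),(2,false),(6,false),(4,false),(3,false),(5,false),(2,false),(4,false),(5,false),(6,false)]⟩,⟨580,[],[(3,false),(4,false),(5,false),(2,false),(6,false),(4,false),(5,false),(4,false),(1,false)]⟩]))
 (.one .base)))
 (.fork (.fork (.one (.path 0 [⟨1800,[(110,false)],[(4,false),(5,false),(6,false),(4,false),(5,false),(2,true),(5,false),(4,false)]⟩,⟨711,[],[(0,false),(1,false),(2,false),(4,false),(5,false),(2,true),(5,false),(4,false),(5,false),(6,false)]⟩]))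
 (.one .base))
 (.fork (.one (.path 2 [⟨4022,[(3912,false),(3911,true),(3912,false),(3911,true)],[(3,false),(4,false),(2,true),(5,false),(2,false),(4,false),(1,false),(4,false),(5,false)]⟩,⟨1545,[(114,false),(113,false)],[(2,false),(4,false),(1,false),(3,false),(5,false),(4,false),(6,false),(4,false),(1,false)]⟩,⟨1147,[(110,false),(109,false)],[(1,false),(4,false),(1,false),(3,false),(6,false),(4,false),(5,false),(4,false),(6,false),(2,true)]⟩]))
 (.one .base)))))))

/-- a part of the justifications -/
noncomputable def twJustT93 : BT Just := (.fork (.fork (.fork (.fork (.fork (.fork (.one (.path 9 [⟨19,[],[(0,false),(3,false),(6,false)]⟩,⟨8,[],[(4,false),(3,false)]⟩,⟨7,[(2,false),(3,false),(4,false),(1,false),(2,false),(3,false),(0,false),(1,false)],[(0,false),(4,false),(6,false),(4,false),(1,false),(4,false),(6,false)]⟩]))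
 (.one (.path 7 [⟨3950,[(3911,true),(3911,true),(3912,false),(3911,false)],[(1,false),(3,false),(6,false)]⟩,⟨1784,[(109,false)],[(1,false),(4,false),(3,false),(5,false),(2,false),(4,false),(5,false),(4,false),(1,false)]⟩,⟨266,[(163,false),(114,false),(163,true)],[(4,false),(1,false),(3,false),(5,false),(4,false),(1,false),(6,false),(4,false)]⟩])))
 (.fork (.one (.path 3 [⟨1324,[(110,false)],[(6,false),(4,false),(1,false),(3,false),(5,false),(4,false),(5,false),(2,false)]⟩,⟨1054,[],[(1,false),(5,false),(2,true)]⟩,⟨2051,[(163,true),(114,true)],[(1,false),(5,false),(4,false),(5,false),(2,false),(6,false),(4,false),(1,false),(4,false),(5,false)]⟩]))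
 (.one .base)))
 (.fork (.fork (.one (.path 1 [⟨236,[(114,true),(163,true),(114,false)],[(3,false),(2,true),(5,false),(4,false),(1,false),(5,false),(2,false),(4,false),(6,false)]⟩,⟨723,[],[(6,false),(2,true),(5,false),(4,false),(5,false),(2,false),(4,false),(6,false)]⟩]))
 (.one .base))
 (.fork (.one (.path 1 [⟨932,[],[(3,false),(4,false),(5,false),(6,false),(4,false),(1,false),(5,false),(4,false),(2,true)]⟩,⟨1189,[],[(1,false),(2,false),(3,false),(5,false),(4,false),(5,false),(6,false),(4,false),(1,false),(4,false),(2,true)]⟩]))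
 (.one .base))))
 (.fork (.fork (.fork (.one (.path 0 [⟨435,[],[(0,false),(4,false),(6,false)]⟩,⟨358,[(114,false),(163,false),(114,false)],[(1,false),(2,false),(3,false),(4,false),(1,false),(4,false),(5,false),(6,false),(4,false),(2,true),(5,false)]⟩]))
 (.one .base))
 (.fork (.one (.path 1 [⟨1608,[(109,false)],[(4,false),(5,false),(2,false),(4,false),(6,false),(4,false),(1,false),(5,false),(2,true)]⟩,⟨1263,[],[(0,false),(4,false),(6,false),(4,false),(2,true),(5,false),(4,false),(1,false),(5,false),(2,false)]⟩]))
 (.one .base)))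
 (.fork (.fork (.one (.path 4 [⟨1209,[],[(3,false),(5,false),(2,false),(5,false)]⟩,⟨1550,[],[(2,false),(5,false),(2,false),(6,false),(4,false),(1,false),(4,false),(5,false),(6,false)]⟩,⟨843,[(163,true),(114,false)],[(3,false),(5,false),(4,false),(1,false),(6,false),(4,false),(1,false),(5,false),(2,true)]⟩]))
 (.one .base))
 (.fork (.one (.path 0 [⟨2642,[],[(0,false),(4,false),(1,false),(5,false),(4,false),(6,false),(4,false),(1,false),(5,false),(4,false),(5,false),(6,false)]⟩,⟨1824,[(110,true)],[(2,false),(3,false),(6,false),(4,false),(5,false),(2,false),(4,false)]⟩]))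
 (.one .base)))))
 (.fork (.fork (.fork (.fork (.one (.path 11 [⟨142,[(65,true),(63,false)],[(0,false),(2,false),(5,false),(2,false),(4,false),(5,false),(2,false),(4,false),(1,false),(4,false)]⟩,⟨269,[(114,false),(163,false),(114,true)],[(4,false),(1,false),(4,false),(6,false),(4,false),(1,false),(4,false),(6,false),(2,true),(5,false),(2,false)]⟩,⟨169,[(158,false),(172,false),(158,false),(204,false),(158,false)],[(5,false),(4,false),(1,false),(3,false),(6,false),(4,false),(1,false),(5,false),(4,false)]⟩]))
 (.one .base))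
 (.fork (.one (.path 4 [⟨384,[],[(4,false),(5,false),(4,false),(1,false),(5,false),(2,false),(4,false),(5,false),(6,false)]⟩,⟨1715,[(114,true),(163,true),(114,false),(113,false)],[(5,false),(4,false),(6,false),(2,true),(5,false),(4,false),(5,false),(2,true)]⟩,⟨2042,[],[(0,false),(4,false),(6,false),(4,false),(5,false),(4,false),(1,false),(2,true),(5,false),(4,false)]⟩]))
 (.one .base)))
 (.fork (.fork (.one (.path 13 [⟨126,[(63,false),(191,true),(72,true),(64,false)],[(1,false),(4,false),(1,false),(2,true),(5,false),(4,false),(5,false),(2,true),(5,false)]⟩,⟨792,[(110,true),(109,false)],[(0,false),(6,false),(4,false),(1,false),(5,false),(4,false),(5,false),(4,false),(2,true),(5,false),(2,false)]⟩,⟨1129,[(172,false),(158,false),(204,true)],[(1,false),(4,false),(6,false),(4,false),(1,false),(4,false),(5,false),(2,false),(4,false),(5,false)]⟩]))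
 (.one .base))
 (.fork (.one (.path 5 [⟨1978,[(110,false),(109,false)],[(0,false),(1,false),(4,false),(6,false),(2,true),(5,false),(4,false),(1,false),(6,false),(2,true)]⟩,⟨2485,[(110,false),(109,false)],[(2,false),(5,false),(4,false),(3,false),(2,true),(5,false),(4,false),(1,false),(4,false),(5,false)]⟩,⟨1868,[(110,false)],[(0,false),(5,false),(2,false),(4,false),(5,false),(4,false),(6,false),(4,false),(1,false),(2,true)]⟩]))
 (.one .base))))
 (.fork (.fork (.fork (.one (.path 0 [⟨697,[],[(1,false),(2,true)]⟩,⟨734,[(110,true),(109,false)],[(1,false),(3,false),(4,false),(2,true),(5,false),(2,false),(4,false),(5,false),(4,false)]⟩]))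
 (.one .base))
 (.fork (.one (.path 6 [⟨2693,[],[(4,false),(1,false),(5,false),(2,false)]⟩,⟨580,[(109,false)],[(1,false),(5,false),(4,false),(5,false),(2,false),(4,false),(5,false),(4,false),(1,false),(6,false)]⟩,⟨2090,[(110,false),(109,false)],[(0,false),(4,false),(6,false),(4,false),(1,false),(4,false),(1,false),(5,false),(6,false),(4,false)]⟩]))
 (.one .base)))
 (.fork (.fork (.one (.path 0 [⟨1368,[],[(4,false),(5,false),(2,false),(5,false),(6,false),(4,false),(5,false),(4,false)]⟩,⟨1514,[(163,true),(114,false),(113,false)],[(1,false),(2,true),(5,false),(4,false),(5,false),(2,false),(5,false),(6,false),(4,false),(5,false)]⟩]))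
 (.one .base))
 (.fork (.one (.path 0 [⟨1869,[],[(0,false)]⟩,⟨3841,[(110,false)],[(1,false),(2,false),(4,false),(3,false),(5,false),(2,false),(4,false),(6,false),(4,false),(1,false)]⟩]))
 (.one .base))))))
 (.fork (.fork (.fork (.fork (.fork (.one (.rev 156))
 (.one (.path 0 [⟨4162,[(110,true)],[(2,false),(3,false),(5,false),(4,false),(5,false),(2,false),(4,false),(5,false),(6,false)]⟩,⟨4122,[(3912,false),(3911,false),(3911,false),(3912,true)],[(0,false),(4,false),(1,false),(5,false),(6,false),(4,false),(1,false),(5,false),(2,false)]⟩])))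
 (.fork (.one (.path 0 [⟨1169,[],[(1,false),(2,false),(5,false),(6,false),(2,true)]⟩,⟨1097,[(172,false),(158,false),(204,true)],[(3,false),(2,true),(5,false),(4,false),(2,true),(5,false),(4,false)]⟩]))
 (.one .base)))
 (.fork (.fork (.one (.path 0 [⟨313,[],[(1,false),(2,false),(5,false)]⟩,⟨421,[(114,false)],[(0,false),(4,false),(6,false),(4,false),(5,false),(4,false),(1,false),(4,false)]⟩]))
 (.one .base))
 (.fork (.one (.path 0 [⟨1333,[],[(2,true)]⟩,⟨1988,[],[(2,false),(5,false),(4,false),(2,true),(5,false),(4,false),(2,true),(5,false)]⟩]))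
 (.one .base))))
 (.fork (.fork (.fork (.one (.path 1 [⟨393,[],[(0,false),(3,false),(2,true),(5,false)]⟩,⟨476,[(158,false),(204,true),(158,false),(204,true),(172,false)],[(0,false),(4,false),(1,false),(6,false),(4,false),(1,false),(5,false),(2,false),(4,false),(1,false)]⟩]))
 (.one .base))
 (.fork (.one (.path 6 [⟨2337,[],[(0,false),(1,false),(2,false),(3,false),(5,false)]⟩,⟨2260,[],[(0,false),(6,false),(2,true),(5,false),(4,false),(5,false),(4,false),(2,true)]⟩,⟨1493,[(110,false),(109,false)],[(2,false),(4,false),(1,false),(6,false),(4,false),(5,false),(4,false),(1,false),(5,false)]⟩]))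
 (.one .base)))
 (.fork (.fork (.one (.path 2 [⟨766,[],[(2,true),(5,false),(4,false),(5,false),(2,false),(4,false),(1,false)]⟩,⟨138,[(121,false)],[(0,false),(4,false),(2,true),(5,false),(4,false),(1,false),(2,true),(5,false),(4,false)]⟩,⟨1017,[(191,true),(191,true),(63,false)],[(3,false),(5,false),(4,false),(2,true),(5,false),(4,false),(5,false)]⟩]))
 (.one .base))
 (.fork (.one (.path 0 [⟨1019,[],[(6,false),(2,true)]⟩,⟨3161,[(110,true)],[(4,false),(5,false),(6,false),(4,false),(1,false),(4,false),(2,true),(5,false),(4,false),(2,true)]⟩]))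
 (.one .base)))))
 (.fork (.fork (.fork (.fork (.one (.path 0 [⟨142,[],[(2,false)]⟩,⟨339,[(114,false),(163,true)],[(1,false),(4,false),(1,false),(5,false),(4,false),(1,false),(4,false),(2,true)]⟩]))
 (.one .base))
 (.fork (.one (.path 7 [⟨2161,[],[(1,false),(3,false),(5,false),(2,false),(4,false),(5,false),(2,false),(4,false),(5,false),(2,true)]⟩,⟨1122,[],[(0,false),(4,false),(6,false),(2,true),(5,false),(4,false),(5,false),(6,false),(2,true)]⟩,⟨1267,[(204,true),(158,false),(204,true),(158,false)],[(0,false),(1,false),(2,false),(5,false),(4,false),(2,true)]⟩]))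
 (.one .base)))
 (.fork (.fork (.one (.path 7 [⟨895,[],[(4,false),(1,false),(3,false),(2,true)]⟩,⟨1326,[],[(2,false),(4,false),(1,false),(6,false),(4,false),(1,false),(5,false),(4,false),(2,true)]⟩,⟨1152,[(110,false)],[(1,false),(2,false),(4,false),(3,false),(5,false),(6,false),(4,false),(5,false),(2,true),(5,false)]⟩]))
 (.one .base))
 (.fork (.one (.path 0 [⟨1643,[],[(2,false),(5,false),(6,false),(4,false),(5,false)]⟩,⟨2690,[(110,false),(109,false)],[(3,false),(5,false),(6,false),(4,false),(2,true),(5,false),(2,false),(4,false),(5,false),(6,false),(2,true)]⟩]))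
 (.one .base))))
 (.fork (.fork (.fork (.one (.path 1 [⟨514,[],[(4,false),(1,false),(4,false),(1,false),(6,false),(4,false),(2,true),(5,false),(2,true)]⟩,⟨907,[],[(4,false),(1,false),(5,false),(6,false),(4,false),(1,false),(2,true)]⟩]))
 (.one .base))
 (.fork (.one (.path 0 [⟨570,[(109,false)],[(3,false),(5,false),(4,false),(6,false),(4,false),(1,false),(5,false),(4,false),(2,true),(5,false)]⟩,⟨1143,[],[(1,false),(4,false),(6,false),(4,false),(5,false),(2,false),(4,false),(1,false)]⟩]))
 (.one .base)))
 (.fork (.fork (.one (.path 4 [⟨1034,[(110,true)],[(0,false),(1,false),(2,false),(6,false),(4,false),(5,false),(4,false),(2,true),(5,false),(2,true)]⟩,⟨1900,[(110,true)],[(2,false),(5,false),(2,false),(4,false),(1,false),(6,false),(4,false),(1,false)]⟩,⟨1537,[(114,false),(163,true),(114,false)],[(0,false),(4,false),(5,false),(6,false),(4,false),(2,true),(5,false),(2,false),(4,false),(5,false)]⟩]))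
 (.one .base))
 (.fork (.one (.path 0 [⟨1475,[],[(0,false),(2,true),(5,false)]⟩,⟨3993,[],[(1,false),(4,false),(2,true),(5,false),(4,false),(5,false),(6,false),(4,false)]⟩]))
 (.one .base)))))))

/-- a part of the justifications -/
noncomputable def twJustT94 : BT Just := (.fork (.fork (.fork (.fork (.fork (.fork (.one (.rev 92))
 (.one (.path 0 [⟨3104,[(110,false),(109,false)],[(3,false),(5,false),(4,false),(5,false),(6,false),(4,false),(2,true)]⟩,⟨3951,[],[(0,false),(2,false),(4,false),(5,false),(4,false),(2,true),(5,false),(4,false),(6,false),(2,true)]⟩])))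
 (.fork (.one (.path 9 [⟨1177,[(110,true)],[(5,false),(4,false),(1,false),(5,false),(4,false)]⟩,⟨1754,[(110,false)],[(0,false),(6,false),(4,false),(5,false),(2,true),(5,false),(4,false),(5,false),(4,false),(6,false)]⟩,⟨1187,[(163,false),(114,true),(163,true)],[(4,false),(1,false),(4,false),(5,false),(2,false),(4,false)]⟩]))
 (.one .base)))
 (.fork (.fork (.one (.path 3 [⟨1111,[(158,false),(204,true),(158,false),(204,true)],[(2,false),(3,false),(4,false),(5,false),(6,false),(4,false),(1,false),(5,false),(4,false)]⟩,⟨422,[],[(2,false),(3,false),(4,false),(1,false),(4,false),(6,false),(4,false),(5,false),(4,false),(6,false),(2,true)]⟩,⟨578,[(163,false),(114,true),(113,false)],[(1,false),(3,false),(5,false),(4,false),(6,false)]⟩]))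
 (.one .base))
 (.fork (.one (.path 0 [⟨1358,[(110,false)],[(0,false),(2,false),(4,false),(5,false),(2,true),(5,false),(4,false),(5,false)]⟩,⟨1567,[],[(1,false),(2,false),(3,false),(4,false),(5,false),(4,false),(1,false),(5,false),(2,true)]⟩]))
 (.one .base))))
 (.fork (.fork (.fork (.one (.path 6 [⟨135,[(132,false)],[(1,false),(2,true),(5,false),(4,false),(1,false),(3,false),(5,false),(4,false),(2,true)]⟩,⟨369,[(110,true)],[(5,false),(4,false),(1,false),(4,false),(6,false),(4,false),(5,false),(4,false),(2,true)]⟩,⟨493,[(158,false),(204,true),(158,false),(172,false)],[(0,false),(1,false),(2,false),(6,false),(4,false),(5,false),(2,false),(4,false),(1,false),(6,false)]⟩]))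
 (.one .base))
 (.fork (.one (.path 0 [⟨2239,[],[(0,false),(3,false),(5,false),(2,false)]⟩,⟨2359,[(110,false)],[(1,false),(6,false),(4,false),(5,false),(2,true),(5,false),(4,false),(5,false),(4,false),(2,true)]⟩]))
 (.one .base)))
 (.fork (.fork (.one (.path 5 [⟨542,[],[(1,false),(4,false),(2,true),(5,false),(2,false),(4,false),(5,false),(2,false)]⟩,⟨393,[(132,true),(121,false),(137,false)],[(0,false),(6,false)]⟩,⟨1609,[(204,false)],[(5,false),(2,false),(4,false),(5,false),(4,false),(6,false),(4,false),(5,false),(4,false),(2,true)]⟩]))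
 (.one .base))
 (.fork (.one (.path 0 [⟨2840,[],[(1,false),(2,false),(4,false),(1,false),(5,false),(2,true)]⟩,⟨1511,[],[(0,false),(1,false),(2,false),(4,false),(5,false),(4,false),(1,false),(4,false),(2,true),(5,false)]⟩]))
 (.one .base)))))
 (.fork (.fork (.fork (.fork (.one (.path 6 [⟨148,[(137,false),(132,true),(121,true),(137,false)],[(0,false),(4,false),(1,false),(6,false),(4,false)]⟩,⟨149,[(114,false),(113,false)],[(1,false),(4,false),(6,false),(4,false),(1,false),(4,false)]⟩,⟨243,[(132,true),(121,false),(137,false),(121,false)],[(6,false),(4,false),(1,false),(4,false),(1,false),(6,false)]⟩]))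
 (.one .base))
 (.fork (.one (.path 1 [⟨1983,[],[(2,true),(5,false),(4,false),(1,false)]⟩,⟨1855,[],[(0,false),(4,false),(1,false),(6,false),(2,true),(5,false),(4,false),(5,false),(2,false),(6,false)]⟩]))
 (.one .base)))
 (.fork (.fork (.one (.path 7 [⟨1191,[(114,false),(113,false)],[(4,false),(1,false),(4,false),(1,false)]⟩,⟨127,[],[(3,false),(5,false),(4,false),(5,false),(2,false),(6,false),(4,false),(5,false),(4,false)]⟩,⟨173,[(65,false),(64,true)],[(1,false),(2,false),(3,false),(4,false),(6,false),(4,false),(5,false),(2,false),(4,false)]⟩]))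
 (.one .base))
 (.fork (.one (.path 0 [⟨1040,[(110,false)],[(5,false),(4,false),(1,false),(4,false),(5,false),(2,false),(6,false)]⟩,⟨1565,[],[(6,false),(2,true),(5,false),(4,false),(5,false),(2,false),(4,false),(5,false),(6,false),(2,true)]⟩]))
 (.one .base))))
 (.fork (.fork (.fork (.one (.path 6 [⟨601,[],[(2,false),(4,false),(3,false)]⟩,⟨520,[],[(2,false),(3,false),(5,false),(4,false),(6,false),(4,false),(1,false),(4,false),(6,false)]⟩,⟨855,[(114,false),(113,false)],[(1,false),(4,false),(5,false),(4,false),(1,false),(4,false),(5,false),(2,false)]⟩]))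
 (.one .base))
 (.fork (.one (.path 3 [⟨1321,[],[(0,false),(4,false),(5,false),(2,false),(5,false),(6,false),(4,false)]⟩,⟨1274,[(109,false)],[(0,false),(5,false),(2,false),(4,false),(5,false),(2,false),(4,false),(5,false),(2,false),(6,false)]⟩,⟨1271,[(204,false),(172,false),(158,false)],[(6,false),(4,false),(1,false),(4,false),(5,false),(2,false),(4,false),(1,false)]⟩]))
 (.one .base)))
 (.fork (.fork (.one (.path 4 [⟨574,[(114,true),(113,false)],[(0,false),(1,false),(2,false),(5,false),(4,false),(6,false),(2,true),(5,false),(4,false),(5,false)]⟩,⟨786,[(109,false)],[(0,false),(4,false),(6,false),(4,false),(5,false),(4,false),(1,false),(5,false)]⟩,⟨1625,[],[(0,false),(1,false),(2,false),(5,false),(6,false),(4,false),(5,false),(2,false),(4,false),(1,false)]⟩]))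
 (.one .base))
 (.fork (.one (.path 1 [⟨1740,[(109,false)],[(3,false),(4,false),(1,false),(4,false),(6,false),(4,false)]⟩,⟨3883,[],[(3,false),(4,false),(5,false),(2,false),(5,false),(6,false),(4,false)]⟩]))
 (.one .base))))))
 (.fork (.fork (.fork (.fork (.fork (.one (.path 4 [⟨166,[(137,true),(132,true)],[(1,false),(3,false),(5,false),(4,false),(6,false),(4,false),(5,false),(2,false),(4,false),(5,false)]⟩,⟨178,[(204,true),(158,false),(204,true),(158,false),(204,true)],[(2,false),(4,false),(5,false),(2,true),(5,false),(4,false),(1,false),(5,false),(6,false),(4,false)]⟩,⟨128,[(58,false),(55,false)],[(0,false),(1,false),(4,false),(5,false),(2,false),(4,false),(1,false),(4,false),(5,false),(4,false),(1,false)]⟩]))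
 (.one (.path 0 [⟨4291,[],[]⟩,⟨1034,[(109,false)],[(2,false),(5,false),(4,false),(1,false),(5,false),(6,false),(4,false),(1,false),(2,true),(5,false)]⟩])))
 (.fork (.one (.path 2 [⟨1444,[],[(0,false),(4,false),(6,false),(4,false),(2,true),(5,false),(4,false),(5,false),(2,false),(6,false),(4,false)]⟩,⟨1127,[(204,true),(172,false),(158,false),(172,false),(158,false)],[(1,false),(5,false),(2,false),(6,false),(4,false),(5,false),(4,false),(2,true),(5,false)]⟩,⟨1656,[(109,false)],[(4,false),(3,false),(5,false),(4,false),(6,false),(4,false),(1,false),(5,false),(2,false)]⟩]))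
 (.one .base)))
 (.fork (.fork (.one (.path 9 [⟨1085,[(121,true),(132,false),(121,false)],[(2,false),(3,false),(4,false),(1,false)]⟩,⟨976,[],[(4,false),(1,false),(3,false),(2,true),(5,false)]⟩,⟨967,[(137,false),(121,false),(137,true)],[(0,false),(1,false),(2,false),(4,false),(6,false),(4,false),(5,false)]⟩]))
 (.one .base))
 (.fork (.one (.path 1 [⟨2918,[(109,false)],[(1,false),(2,false),(4,false),(5,false),(2,false),(4,false),(5,false),(2,false)]⟩,⟨1917,[],[(0,false),(4,false),(1,false),(4,false),(2,true),(5,false),(2,false)]⟩]))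
 (.one .base))))
 (.fork (.fork (.fork (.one (.path 13 [⟨465,[],[(5,false),(4,false),(3,false),(2,true),(5,false),(2,false),(4,false),(1,false),(4,false)]⟩,⟨705,[(204,false),(158,false),(204,false),(158,false),(204,false)],[(1,false),(4,false),(1,false),(4,false),(6,false),(4,false),(5,false),(4,false),(5,false),(6,false)]⟩,⟨595,[(114,false),(163,false),(114,false)],[(0,false),(1,false),(2,false),(6,false),(4,false),(5,false),(2,false),(4,false),(1,false),(5,false),(6,false)]⟩]))
 (.one .base))
 (.fork (.one (.path 1 [⟨858,[],[(5,false),(4,false),(3,false),(6,false),(2,true),(5,false),(4,false),(2,true),(5,false)]⟩,⟨1401,[],[(1,false),(3,false),(6,false),(4,false),(2,true),(5,false),(2,false),(4,false),(5,false),(2,true)]⟩]))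
 (.one .base)))
 (.fork (.fork (.one (.path 9 [⟨1553,[],[(3,false),(5,false),(2,true)]⟩,⟨866,[(110,true)],[(1,false),(6,false),(4,false),(2,true),(5,false),(4,false),(1,false),(4,false),(6,false)]⟩,⟨607,[(137,false),(121,false),(121,false)],[(0,false),(2,true),(5,false),(4,false),(1,false),(2,true),(5,false),(4,false)]⟩]))
 (.one .base))
 (.fork (.one (.path 0 [⟨1175,[],[(0,false),(1,false),(2,false),(5,false),(4,false)]⟩,⟨2571,[],[(0,false),(4,false),(6,false),(4,false),(1,false),(4,false),(1,false)]⟩]))
 (.one .base)))))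
 (.fork (.fork (.fork (.fork (.one (.path 0 [⟨227,[],[(2,true),(5,false)]⟩,⟨216,[(204,true),(172,false),(158,false)],[(5,false),(2,false),(6,false),(4,false),(1,false),(5,false),(4,false),(5,false),(6,false)]⟩]))
 (.one .base))
 (.fork (.one (.path 1 [⟨1692,[(110,true)],[(1,false),(2,false),(3,false),(4,false),(5,false),(4,false),(1,false),(4,false),(5,false)]⟩,⟨1812,[],[(2,false),(4,false),(5,false),(2,false),(4,false),(1,false),(4,false),(5,false),(2,true),(5,false)]⟩]))
 (.one .base)))
 (.fork (.fork (.one (.path 13 [⟨1198,[(110,false)],[(1,false),(4,false),(3,false),(6,false),(4,false),(5,false),(4,false)]⟩,⟨749,[(114,true),(163,false),(114,true)],[(1,false),(2,true),(5,false),(4,false),(1,false),(5,false),(2,true)]⟩,⟨807,[(158,false),(172,false),(158,false),(204,false),(172,false)],[(3,false),(6,false),(4,false),(5,false),(4,false),(1,false),(6,false),(4,false),(5,false),(2,false)]⟩]))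
 (.one .base))
 (.fork (.one (.path 0 [⟨3212,[(110,true)],[(2,false),(5,false),(2,false),(6,false),(4,false),(3,false),(5,false),(2,true),(5,false)]⟩,⟨3129,[],[(2,false),(5,false),(2,false),(4,false),(5,false),(4,false),(1,false),(4,false),(2,true),(5,false)]⟩]))
 (.one .base))))
 (.fork (.fork (.fork (.one (.path 0 [⟨615,[],[(3,false),(6,false)]⟩,⟨855,[(163,false),(114,false)],[(3,false),(5,false),(2,false),(5,false),(4,false),(1,false),(4,false),(5,false),(4,false)]⟩]))
 (.one .base))
 (.fork (.one (.path 1 [⟨1529,[],[(0,false),(2,false),(4,false)]⟩,⟨1920,[(110,true),(109,false)],[(1,false),(3,false),(5,false),(4,false),(1,false),(4,false),(5,false),(4,false),(2,true)]⟩]))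
 (.one .base)))
 (.fork (.fork (.one (.path 11 [⟨1726,[(109,false)],[(3,false),(2,true),(5,false),(4,false),(1,false),(5,false),(2,false),(4,false),(6,false)]⟩,⟨535,[(163,false),(114,true),(163,true)],[(1,false),(3,false),(4,false),(1,false),(5,false),(4,false),(5,false),(4,false),(2,true),(5,false)]⟩,⟨559,[(204,false),(158,false),(204,true),(172,false)],[(2,true),(5,false),(4,false),(2,true),(5,false),(2,false)]⟩]))
 (.one .base))
 (.fork (.one (.path 4 [⟨4036,[(3912,true),(3911,true),(3912,false),(3911,false)],[(6,false),(4,false),(5,false),(4,false),(2,true),(5,false),(4,false),(1,false)]⟩,⟨1603,[(121,false),(137,true),(132,false),(121,false)],[(0,false),(1,false),(4,false),(1,false),(5,false),(6,false),(4,false),(5,false),(4,false),(6,false)]⟩,⟨3945,[],[(1,false),(2,false),(4,false),(5,false),(4,false),(6,false),(2,true),(5,false),(4,false)]⟩]))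
 (.one .base)))))))

/-- a part of the justifications -/
noncomputable def twJustT95 : BT Just := (.fork (.fork (.fork (.fork (.fork (.fork (.one .def')
 (.one (.path 0 [⟨4129,[],[(0,false),(3,false)]⟩,⟨2976,[(110,true)],[(0,false),(5,false),(2,false),(4,false),(6,false),(4,false),(1,false),(5,false),(4,false),(1,false),(4,false)]⟩])))
 (.fork (.one (.path 5 [⟨1155,[],[(2,false),(3,false),(5,false),(6,false),(2,true)]⟩,⟨1886,[(110,true),(109,false)],[(2,false),(5,false),(4,false),(5,false),(4,false),(6,false),(4,false),(1,false)]⟩,⟨1753,[(114,true),(163,false),(114,false),(113,false)],[(0,false),(4,false),(6,false),(4,false),(5,false),(2,false),(4,false),(5,false),(4,false)]⟩]))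
 (.one .base)))
 (.fork (.fork (.one (.path 1 [⟨769,[],[(2,false)]⟩,⟨640,[],[(0,false),(4,false),(5,false),(4,false),(2,true),(5,false),(2,false),(4,false),(1,false),(5,false)]⟩]))
 (.one .base))
 (.fork (.one (.path 0 [⟨556,[(110,true),(109,false)],[(1,false),(2,false),(6,false),(4,false),(5,false),(4,false),(6,false),(2,true),(5,false),(4,false)]⟩,⟨1297,[],[(2,true),(5,false),(4,false),(5,false),(4,false),(1,false),(2,true)]⟩]))
 (.one .base))))
 (.fork (.fork (.fork (.one (.path 1 [⟨482,[(109,false)],[(4,false),(3,false),(2,true),(5,false),(2,false),(4,false),(5,false),(4,false),(6,false),(2,true)]⟩,⟨148,[],[(1,false),(2,false),(5,false),(4,false),(5,false),(2,false),(4,false),(5,false),(4,false),(1,false),(6,false)]⟩]))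
 (.one .base))
 (.fork (.one (.path 1 [⟨1258,[(110,true)],[(1,false),(3,false),(4,false),(5,false),(2,false),(5,false),(4,false),(5,false),(4,false),(1,false)]⟩,⟨867,[],[(2,false),(5,false),(6,false),(4,false),(2,true),(5,false),(4,false),(1,false),(4,false),(2,true)]⟩]))
 (.one .base)))
 (.fork (.fork (.one (.path 6 [⟨873,[(137,true),(121,false),(132,false),(121,false)],[(0,false),(2,false),(6,false),(4,false),(1,false),(4,false),(1,false),(5,false),(4,false),(6,false)]⟩,⟨1062,[],[(4,false),(3,false),(6,false),(4,false),(2,true),(5,false),(4,false),(6,false)]⟩,⟨1387,[(114,false),(113,false)],[(3,false),(4,false),(1,false),(5,false),(4,false),(6,false),(2,true)]⟩]))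
 (.one .base))
 (.fork (.one (.path 0 [⟨2423,[],[(0,false),(1,false),(3,false),(5,false)]⟩,⟨2940,[(110,false),(109,false)],[(1,false),(3,false),(6,false),(4,false),(5,false),(4,false),(1,false),(6,false),(2,true)]⟩]))
 (.one .base)))))
 (.fork (.fork (.fork (.fork (.one (.path 3 [⟨176,[],[(0,false),(1,false),(2,true),(5,false)]⟩,⟨208,[],[(5,false),(4,false),(3,false),(6,false),(4,false),(1,false),(4,false),(5,false),(6,false)]⟩,⟨249,[],[(5,false),(2,true),(5,false),(4,false),(3,false),(5,false),(2,true),(5,false),(4,false)]⟩]))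
 (.one .base))
 (.fork (.one (.path 5 [⟨1572,[],[(5,false),(4,false),(2,true),(5,false),(2,false),(4,false),(1,false),(5,false),(4,false),(1,false)]⟩,⟨1233,[(114,true),(163,false)],[(6,false),(4,false),(3,false),(5,false),(4,false),(1,false),(6,false),(4,false)]⟩,⟨1146,[(110,false)],[(4,false),(2,true),(5,false),(2,false),(4,false),(5,false),(4,false),(1,false),(5,false),(4,false)]⟩]))
 (.one .base)))
 (.fork (.fork (.one (.path 1 [⟨1290,[(110,true)],[(1,false),(3,false),(5,false),(4,false),(1,false),(2,true),(5,false),(4,false),(6,false)]⟩,⟨1135,[],[(2,false),(4,false),(1,false),(5,false),(4,false),(1,false),(5,false),(6,false)]⟩]))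
 (.one .base))
 (.fork (.one (.path 0 [⟨2237,[],[(2,false),(4,false)]⟩,⟨2427,[],[(0,false),(6,false),(4,false),(5,false),(2,false),(5,false),(4,false),(1,false),(6,false),(4,false)]⟩]))
 (.one .base))))
 (.fork (.fork (.fork (.one (.path 8 [⟨392,[(110,true)],[(1,false),(6,false),(4,false),(3,false),(5,false),(2,false),(4,false),(6,false)]⟩,⟨537,[(137,true),(121,false),(132,false)],[(2,false),(4,false),(3,false),(6,false),(4,false),(5,false),(4,false),(1,false),(6,false),(4,false),(2,true)]⟩,⟨539,[(121,false)],[(0,false),(4,false),(6,false),(2,true),(5,false),(2,false),(4,false),(5,false),(4,false),(2,true)]⟩]))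
 (.one .base))
 (.fork (.one (.path 1 [⟨2237,[],[(4,false),(2,true),(5,false),(2,true)]⟩,⟨2099,[],[(3,false),(4,false),(1,false),(4,false),(5,false),(6,false),(4,false),(5,false),(2,true)]⟩]))
 (.one .base)))
 (.fork (.fork (.one (.path 8 [⟨1027,[],[(0,false),(1,false),(3,false)]⟩,⟨1396,[(110,true),(109,false)],[(1,false),(3,false),(4,false),(5,false),(2,false),(5,false),(6,false),(4,false),(1,false),(5,false),(4,false)]⟩,⟨1713,[],[(2,true),(5,false),(4,false),(2,true),(5,false),(4,false),(1,false),(4,false)]⟩]))
 (.one .base))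
 (.fork (.one (.path 6 [⟨382,[(121,false),(132,false)],[(6,false),(2,true),(5,false),(2,false),(4,false),(5,false),(4,false),(6,false),(2,true),(5,false)]⟩,⟨385,[(114,false),(113,false)],[(2,false),(5,false),(4,false),(1,false),(3,false),(2,true),(5,false),(4,false),(1,false)]⟩,⟨3841,[(110,true)],[(0,false),(1,false),(2,false),(5,false),(6,false),(4,false),(2,true),(5,false),(4,false),(1,false),(2,true)]⟩]))
 (.one .base))))))
 (.fork (.fork (.fork (.fork (.fork (.one (.path 8 [⟨112,[(163,true)],[(2,false),(5,false),(4,false),(1,false),(3,false),(4,false),(2,true),(5,false),(4,false)]⟩,⟨61,[(14,false),(10,false),(13,false),(11,false),(14,false),(10,false),(13,false),(10,false)],[(1,false),(5,false),(6,false),(4,false),(1,false),(2,true),(5,false),(4,false),(5,false)]⟩,⟨168,[(64,false)],[(4,false),(5,false),(4,false),(1,false),(5,false),(6,false)]⟩]))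
 (.one (.path 0 [⟨4182,[(3912,false),(3911,false),(3911,false),(3911,false)],[(3,false),(5,false),(4,false),(1,false),(6,false),(2,true),(5,false),(4,false),(6,false)]⟩,⟨4104,[(109,false)],[(1,false),(5,false),(4,false),(3,false),(6,false),(4,false),(1,false),(2,true),(5,false)]⟩])))
 (.fork (.one (.path 1 [⟨1558,[],[(2,false),(3,false),(4,false),(6,false),(4,false),(5,false),(4,false),(2,true),(5,false)]⟩,⟨1154,[(163,true),(114,false),(163,false),(113,false)],[(4,false),(5,false),(2,false),(4,false),(1,false),(4,false),(5,false),(4,false),(6,false),(2,true)]⟩]))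
 (.one .base)))
 (.fork (.fork (.one (.path 0 [⟨236,[(114,true),(163,true),(114,false)],[(0,false),(5,false),(2,false),(4,false),(6,false),(4,false),(5,false),(4,false),(2,true),(5,false)]⟩,⟨409,[],[(1,false),(2,false),(5,false),(4,false),(1,false),(3,false),(5,false),(6,false),(4,false),(1,false),(2,true)]⟩]))
 (.one .base))
 (.fork (.one (.path 0 [⟨1776,[(110,false)],[(0,false),(4,false),(1,false),(5,false),(4,false),(1,false),(6,false),(4,false),(1,false)]⟩,⟨1349,[],[(1,false),(2,false),(5,false),(6,false),(4,false),(1,false),(5,false),(4,false),(6,false)]⟩]))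
 (.one .base))))
 (.fork (.fork (.fork (.one (.path 12 [⟨592,[(172,false),(158,false),(172,false),(158,false)],[(6,false),(4,false),(1,false),(2,true),(5,false),(4,false)]⟩,⟨334,[(114,true),(163,true)],[(1,false),(5,false),(6,false),(4,false),(3,false),(2,true),(5,false),(4,false),(1,false),(6,false),(2,true)]⟩,⟨468,[(100,true),(83,false),(57,false)],[(2,true),(5,false),(4,false),(2,true),(5,false),(4,false),(1,false),(4,false)]⟩]))
 (.one .base))
 (.fork (.one (.path 0 [⟨2052,[(110,true),(109,false)],[(1,false),(4,false),(6,false),(4,false),(5,false),(4,false),(1,false),(4,false),(6,false),(2,true)]⟩,⟨1885,[],[(1,false),(5,false),(2,false),(6,false),(4,false),(5,false),(4,false),(5,false),(2,false),(5,false),(4,false)]⟩]))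
 (.one .base)))
 (.fork (.fork (.one (.path 10 [⟨1553,[],[(1,false),(6,false),(4,false),(5,false),(4,false),(1,false),(6,false),(4,false),(5,false),(2,false),(4,false)]⟩,⟨1332,[(110,false)],[(2,false),(4,false),(5,false),(4,false),(6,false),(4,false),(2,true),(5,false),(4,false),(5,false)]⟩,⟨1336,[(110,false)],[(3,false),(2,true),(5,false),(4,false),(1,false),(4,false),(5,false),(4,false),(2,true)]⟩]))
 (.one .base))
 (.fork (.one (.path 0 [⟨3445,[],[(3,false),(2,true),(5,false),(2,false)]⟩,⟨2153,[],[(3,false),(5,false),(4,false),(2,true),(5,false),(4,false),(1,false),(6,false),(4,false)]⟩]))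
 (.one .base)))))
 (.fork (.fork (.fork (.fork (.one (.path 12 [⟨255,[],[(0,false),(6,false),(2,true)]⟩,⟨296,[(114,false),(163,false),(114,false)],[(1,false),(6,false),(4,false),(2,true),(5,false),(4,false),(1,false),(5,false),(6,false)]⟩,⟨389,[(121,true),(137,false),(132,true),(121,false)],[(0,false),(1,false),(2,false),(5,false),(4,false),(6,false),(4,false),(1,false),(4,false),(5,false),(6,false)]⟩]))
 (.one .base))
 (.fork (.one (.path 0 [⟨1896,[(110,false),(109,false)],[(0,false),(5,false),(2,false),(4,false),(5,false),(4,false),(2,true),(5,false),(4,false),(1,false),(6,false)]⟩,⟨951,[],[(3,false),(4,false),(5,false),(4,false),(2,true),(5,false),(4,false),(1,false),(6,false)]⟩]))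
 (.one .base)))
 (.fork (.fork (.one (.path 7 [⟨279,[(63,true),(191,true)],[(1,false),(3,false),(2,true),(5,false),(2,false),(4,false),(1,false),(4,false),(5,false),(2,true)]⟩,⟨199,[(204,true),(158,false),(204,true)],[(4,false),(1,false),(2,true),(5,false),(4,false),(5,false),(2,false),(6,false)]⟩,⟨413,[(63,true),(191,true),(63,true)],[(4,false),(1,false),(6,false),(2,true),(5,false),(4,false),(5,false),(4,false)]⟩]))
 (.one .base))
 (.fork (.one (.path 0 [⟨600,[(110,true)],[(2,false),(5,false),(4,false),(2,true),(5,false),(2,false),(4,false),(5,false),(4,false),(6,false)]⟩,⟨865,[(121,true),(137,false),(132,true)],[(2,false),(6,false),(4,false),(3,false),(5,false),(2,false),(4,false),(5,false),(2,true)]⟩]))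
 (.one .base))))
 (.fork (.fork (.fork (.one (.path 3 [⟨289,[(114,false),(163,true)],[(2,false),(3,false),(4,false),(1,false),(5,false),(4,false),(5,false),(2,false)]⟩,⟨677,[(204,false),(158,false),(204,false),(158,false)],[(3,false),(5,false),(4,false),(6,false),(4,false),(1,false),(4,false),(6,false),(2,true)]⟩,⟨939,[],[(1,false),(3,false),(4,false),(1,false),(5,false),(2,false),(4,false)]⟩]))
 (.one .base))
 (.fork (.one (.path 2 [⟨956,[(110,true)],[(5,false),(6,false),(4,false),(5,false),(2,false),(4,false),(1,false),(4,false),(5,false)]⟩,⟨591,[(113,false)],[(3,false),(4,false),(6,false),(4,false),(1,false),(4,false),(2,true),(5,false),(2,false)]⟩,⟨1099,[(204,true)],[(4,false),(1,false),(4,false),(1,false),(5,false),(4,false),(6,false),(4,false),(1,false),(2,true)]⟩]))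
 (.one .base)))
 (.fork (.fork (.one (.path 13 [⟨1380,[(110,false)],[(0,false),(2,false),(4,false),(5,false),(2,false),(4,false),(1,false),(4,false),(5,false),(6,false)]⟩,⟨1547,[(114,false),(163,true),(113,false)],[(6,false),(4,false),(2,true),(5,false),(2,false),(4,false),(5,false),(6,false),(4,false)]⟩,⟨927,[(110,false),(109,false)],[(0,false),(2,false),(6,false),(4,false),(5,false),(4,false),(2,true),(5,false),(4,false),(1,false),(6,false)]⟩]))
 (.one .base))
 (.fork (.one (.path 2 [⟨1387,[],[(1,false),(2,false),(6,false)]⟩,⟨2255,[(110,false),(109,false)],[(0,false),(5,false),(2,false),(4,false),(1,false),(4,false),(6,false)]⟩,⟨3953,[],[(5,false),(2,false),(6,false),(4,false),(3,false),(5,false),(4,false),(6,false)]⟩]))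
 (.one .base)))))))

/-- a part of the justifications -/
noncomputable def twJustT96 : BT Just := (.fork (.fork (.fork (.fork (.fork (.fork (.one (.rev 124))
 (.one (.path 0 [⟨1183,[],[(3,false),(5,false),(2,true)]⟩,⟨4199,[(110,false),(109,false)],[(6,false),(4,false),(1,false),(4,false)]⟩])))
 (.fork (.one (.path 1 [⟨718,[(110,false),(109,false)],[(1,false),(3,false),(2,true),(5,false),(2,false),(4,false),(1,false),(4,false)]⟩,⟨237,[],[(0,false),(5,false),(4,false),(5,false),(2,false),(5,false),(4,false)]⟩]))
 (.one .base)))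
 (.fork (.fork (.one (.path 4 [⟨910,[(109,false)],[(2,false),(5,false),(6,false),(4,false),(1,false),(4,false),(5,false),(2,true)]⟩,⟨492,[(63,false)],[(4,false),(1,false),(3,false),(4,false),(5,false),(2,false),(5,false),(6,false),(4,false),(5,false)]⟩,⟨803,[],[(2,true),(5,false),(2,false),(4,false),(5,false),(2,false),(4,false),(1,false),(4,false),(5,false),(4,false)]⟩]))
 (.one .base))
 (.fork (.one (.path 0 [⟨2807,[],[(0,false),(1,false),(3,false)]⟩,⟨2771,[],[(1,false),(2,false),(3,false),(5,false),(4,false),(6,false),(4,false),(1,false),(5,false),(2,false)]⟩]))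
 (.one .base))))
 (.fork (.fork (.fork (.one (.path 11 [⟨220,[(110,true)],[(2,false),(4,false),(3,false),(5,false),(2,false),(4,false),(5,false),(6,false),(4,false),(2,true),(5,false)]⟩,⟨389,[(121,true),(137,true),(121,false)],[(1,false),(4,false),(5,false),(2,false),(4,false),(5,false),(4,false),(2,true),(5,false),(2,false),(4,false),(6,false)]⟩,⟨500,[(114,false),(163,false),(114,true),(113,false)],[(2,false),(6,false),(4,false),(1,false),(3,false),(4,false),(5,false),(6,false)]⟩]))
 (.one .base))
 (.fork (.one (.path 0 [⟨2007,[],[(4,false),(2,true),(5,false),(2,false)]⟩,⟨1525,[(110,false)],[(4,false),(1,false),(5,false),(2,false),(4,false),(5,false),(2,true),(5,false),(4,false),(1,false)]⟩]))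
 (.one .base)))
 (.fork (.fork (.one (.path 1 [⟨1638,[(110,false),(109,false)],[(1,false),(4,false),(1,false),(5,false),(4,false),(6,false),(2,true),(5,false),(2,false),(4,false)]⟩,⟨411,[],[(0,false),(1,false),(5,false),(4,false),(2,true),(5,false),(4,false),(2,true)]⟩]))
 (.one .base))
 (.fork (.one (.path 0 [⟨3146,[],[(4,false),(1,false),(4,false),(5,false),(2,true),(5,false),(4,false),(1,false)]⟩,⟨2134,[(110,false)],[(4,false),(3,false),(2,true),(5,false),(4,false),(1,false),(4,false),(5,false),(2,false)]⟩]))
 (.one .base)))))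
 (.fork (.fork (.fork (.fork (.one (.path 8 [⟨189,[(163,true),(114,true)],[(5,false),(2,false),(4,false),(1,false),(3,false),(5,false),(4,false),(6,false),(2,true)]⟩,⟨245,[(172,false),(158,false),(172,false),(158,false)],[(2,false),(3,false),(4,false),(5,false),(4,false),(5,false),(2,false),(5,false)]⟩,⟨167,[(204,false),(158,false),(204,false),(158,false),(204,false)],[(0,false),(2,false),(5,false),(6,false),(4,false),(1,false),(4,false),(2,true),(5,false),(4,false),(5,false)]⟩]))
 (.one .base))
 (.fork (.one (.path 8 [⟨1226,[(110,false)],[(0,false),(1,false),(6,false),(4,false),(5,false),(2,false),(4,false)]⟩,⟨531,[(114,true),(163,true),(114,false)],[(4,false),(1,false),(4,false),(1,false),(6,false),(4,false),(1,false),(2,true),(5,false),(4,false)]⟩,⟨1649,[],[(2,false),(5,false),(6,false),(4,false),(1,false),(3,false),(4,false),(5,false)]⟩]))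
 (.one .base)))
 (.fork (.fork (.one (.path 3 [⟨1401,[(114,true),(163,false),(114,true),(113,false)],[(2,false),(6,false),(4,false),(1,false),(4,false),(5,false)]⟩,⟨1236,[(109,false)],[(0,false),(1,false),(4,false),(6,false),(4,false),(5,false),(4,false),(5,false),(2,true),(5,false)]⟩,⟨1395,[(114,true),(163,false),(114,false)],[(1,false),(2,false),(4,false),(1,false),(5,false),(4,false),(6,false),(4,false),(1,false),(4,false),(5,false),(6,false)]⟩]))
 (.one .base))
 (.fork (.one (.path 0 [⟨1832,[(110,false)],[(2,false),(3,false),(4,false),(6,false),(4,false),(1,false),(5,false),(4,false),(1,false)]⟩,⟨2956,[(109,false)],[(4,false),(1,false),(3,false),(6,false),(4,false),(5,false),(2,false),(4,false),(5,false)]⟩]))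
 (.one .base))))
 (.fork (.fork (.fork (.one (.path 6 [⟨785,[],[(0,false),(4,false),(6,false),(2,true),(5,false),(4,false),(1,false),(6,false),(2,true)]⟩,⟨648,[(109,false)],[(0,false),(1,false),(4,false),(6,false),(4,false),(1,false),(5,false),(4,false),(1,false),(6,false)]⟩,⟨574,[(114,true),(113,false)],[(2,false),(6,false),(4,false),(1,false),(3,false),(4,false),(5,false),(2,true)]⟩]))
 (.one .base))
 (.fork (.one (.path 0 [⟨2610,[(110,false)],[(1,false),(5,false),(2,false),(4,false),(1,false),(5,false),(6,false),(4,false),(1,false),(5,false),(2,true)]⟩,⟨2197,[],[(6,false),(2,true),(5,false),(2,false),(4,false),(5,false),(4,false),(1,false),(4,false),(2,true)]⟩]))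
 (.one .base)))
 (.fork (.fork (.one (.path 8 [⟨782,[(109,false)],[(0,false),(6,false),(4,false),(2,true),(5,false),(2,true)]⟩,⟨343,[(137,true),(121,false),(137,true)],[(5,false),(2,false),(4,false),(1,false),(4,false),(1,false),(5,false),(6,false),(2,true)]⟩,⟨1219,[(114,false),(163,true),(113,false)],[(6,false),(2,true),(5,false),(4,false),(3,false),(5,false),(2,false)]⟩]))
 (.one .base))
 (.fork (.one (.path 1 [⟨1238,[],[(1,false),(2,false),(5,false),(4,false),(1,false),(3,false),(5,false),(4,false),(6,false),(4,false),(2,true)]⟩,⟨3887,[],[(1,false),(2,true),(5,false),(4,false),(1,false),(3,false),(4,false),(6,false),(4,false)]⟩]))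
 (.one .base))))))
 (.fork (.fork (.fork (.fork (.fork (.one (.path 7 [⟨135,[(137,false),(121,true),(137,true),(132,true)],[(6,false),(4,false),(1,false),(3,false),(4,false),(5,false),(4,false)]⟩,⟨174,[],[(0,false),(6,false),(4,false),(1,false),(5,false),(4,false),(1,false)]⟩,⟨139,[(64,false),(191,false),(65,false)],[(2,false),(5,false),(4,false),(6,false),(4,false),(1,false),(5,false)]⟩]))
 (.one (.path 8 [⟨4338,[],[(0,false),(6,false),(4,false),(5,false),(4,false),(2,true)]⟩,⟨4103,[(3912,true),(3911,true)],[(2,false),(5,false),(6,false),(4,false),(1,false),(4,false),(1,false),(6,false),(2,true),(5,false)]⟩,⟨2642,[(109,false)],[(0,false),(4,false),(5,false),(6,false),(4,false),(1,false),(5,false),(4,false),(5,false),(2,false)]⟩])))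
 (.fork (.one (.path 10 [⟨220,[(110,true)],[(1,false),(2,false),(6,false),(4,false),(1,false),(5,false),(4,false),(2,true),(5,false),(4,false)]⟩,⟨1599,[(132,true),(121,true),(132,false),(121,false)],[(2,false),(4,false),(3,false),(5,false),(6,false),(4,false),(5,false),(2,true)]⟩,⟨2132,[(110,true),(109,false)],[(0,false),(1,false),(5,false),(4,false),(6,false),(4,false),(1,false),(5,false),(2,true)]⟩]))
 (.one .base)))
 (.fork (.fork (.one (.path 3 [⟨1123,[],[(0,false),(1,false),(6,false),(2,true),(5,false),(2,false)]⟩,⟨484,[(110,true)],[(2,false),(5,false),(2,false),(6,false),(4,false),(5,false),(4,false),(1,false),(6,false),(2,true)]⟩,⟨961,[(132,true),(121,false),(137,false)],[(2,false),(5,false),(2,false),(4,false),(6,false),(4,false),(5,false),(2,false),(4,false),(1,false)]⟩]))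
 (.one .base))
 (.fork (.one (.path 0 [⟨1410,[(109,false)],[(0,false),(2,false),(4,false),(5,false),(2,false),(4,false),(5,false)]⟩,⟨979,[],[(2,false),(5,false),(2,false),(4,false),(1,false)]⟩]))
 (.one .base))))
 (.fork (.fork (.fork (.one (.path 7 [⟨295,[(137,false),(121,false),(137,true),(121,false),(121,false)],[(1,false),(4,false),(1,false),(3,false),(4,false),(6,false),(4,false)]⟩,⟨371,[(163,true),(113,false)],[(1,false),(2,true),(5,false),(2,false),(4,false),(5,false),(6,false),(4,false),(1,false)]⟩,⟨243,[(121,false),(137,true),(132,false),(121,false)],[(1,false),(2,false),(5,false),(4,false),(5,false),(2,false),(4,false),(5,false),(4,false),(1,false)]⟩]))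
 (.one .base))
 (.fork (.one (.path 3 [⟨886,[(110,false),(109,false)],[(3,false),(4,false),(5,false),(2,false),(5,false),(6,false),(4,false),(1,false),(5,false),(2,false)]⟩,⟨1439,[(204,true),(158,false),(204,false),(172,false)],[(1,false),(4,false),(1,false),(6,false),(4,false),(2,true),(5,false)]⟩,⟨2215,[(110,false)],[(3,false),(5,false),(4,false),(5,false),(4,false),(2,true),(5,false),(4,false),(1,false),(6,false)]⟩]))
 (.one .base)))
 (.fork (.fork (.one (.path 7 [⟨435,[(137,true),(121,true),(132,true)],[(1,false),(4,false),(5,false),(4,false),(2,true),(5,false),(4,false),(5,false),(6,false)]⟩,⟨1219,[(163,true)],[(1,false),(2,false),(6,false)]⟩,⟨1692,[],[(1,false),(3,false),(4,false),(6,false),(4,false),(1,false),(5,false),(4,false),(1,false),(6,false)]⟩]))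
 (.one .base))
 (.fork (.one (.path 7 [⟨807,[(204,true),(172,false),(158,false),(204,false)],[(0,false),(1,false),(2,true),(5,false),(4,false),(5,false),(6,false)]⟩,⟨3492,[],[(1,false),(4,false),(1,false),(5,false),(4,false),(6,false),(4,false),(1,false),(4,false),(5,false),(6,false),(2,true)]⟩,⟨3831,[(110,false),(109,false)],[(5,false),(2,false),(4,false),(1,false),(6,false),(4,false),(5,false),(4,false),(5,false)]⟩]))
 (.one .base)))))
 (.fork (.fork (.fork (.fork (.one (.path 13 [⟨144,[(58,false),(55,false)],[(4,false),(3,false),(2,true),(5,false),(2,false),(4,false),(1,false),(4,false)]⟩,⟨439,[(137,false),(121,false),(137,true),(132,false)],[(2,false),(5,false),(6,false),(4,false),(1,false),(2,true),(5,false),(4,false),(6,false)]⟩,⟨301,[(158,false),(204,true),(158,false),(172,false)],[(1,false),(3,false),(4,false),(1,false),(5,false),(6,false),(4,false),(5,false),(2,false)]⟩]))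
 (.one .base))
 (.fork (.one (.path 1 [⟨1669,[],[(1,false),(4,false)]⟩,⟨2150,[(110,false),(109,false)],[(3,false),(6,false),(4,false),(1,false),(5,false),(2,false),(4,false),(1,false),(6,false)]⟩]))
 (.one .base)))
 (.fork (.fork (.one (.path 1 [⟨346,[(163,true)],[(4,false),(1,false),(5,false),(4,false),(1,false),(4,false),(6,false),(2,true),(5,false)]⟩,⟨963,[],[(4,false),(3,false),(5,false),(2,false),(4,false),(1,false),(5,false),(6,false),(4,false),(1,false)]⟩]))
 (.one .base))
 (.fork (.one (.path 0 [⟨2715,[],[(0,false),(5,false),(2,true),(5,false),(4,false)]⟩,⟨3532,[(110,true)],[(1,false),(5,false),(4,false),(1,false),(5,false),(2,false),(4,false),(6,false)]⟩]))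
 (.one .base))))
 (.fork (.fork (.fork (.one (.path 0 [⟨322,[],[(6,false),(4,false),(1,false),(3,false),(4,false),(5,false),(2,false),(4,false),(5,false)]⟩,⟨619,[],[(1,false),(4,false),(1,false),(5,false),(2,false),(4,false),(5,false),(4,false),(2,true)]⟩]))
 (.one .base))
 (.fork (.one (.path 1 [⟨2410,[(110,true)],[(4,false),(5,false),(6,false),(4,false),(5,false),(2,false),(5,false),(4,false),(5,false)]⟩,⟨2025,[],[(1,false),(4,false),(6,false),(4,false),(5,false),(4,false),(5,false),(2,true)]⟩]))
 (.one .base)))
 (.fork (.fork (.one (.path 0 [⟨1398,[(110,true),(109,false)],[(1,false),(3,false),(4,false),(2,true),(5,false),(4,false),(1,false),(5,false),(6,false)]⟩,⟨1187,[],[(2,false),(3,false),(4,false),(1,false),(5,false),(4,false),(1,false),(6,false)]⟩]))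
 (.one .base))
 (.fork (.one (.path 7 [⟨4067,[(3911,false),(3911,false)],[(3,false),(4,false),(5,false),(2,true),(5,false),(4,false),(5,false),(2,false),(4,false)]⟩,⟨637,[(110,false)],[(0,false),(1,false),(4,false),(2,true),(5,false),(4,false),(6,false),(2,true),(5,false),(4,false),(1,false)]⟩,⟨3907,[(158,false),(204,false),(158,false),(204,false),(172,false)],[(4,false),(2,true),(5,false),(4,false),(1,false),(6,false),(4,false),(1,false),(4,false),(5,false)]⟩]))
 (.one .base)))))))

/-- a part of the justifications -/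
noncomputable def twJustT97 : BT Just := (.fork (.fork (.fork (.fork (.fork (.fork (.one .base)
 (.one (.path 0 [⟨3930,[(3912,false),(3911,true)],[(0,false),(4,false),(5,false),(6,false),(2,true),(5,false),(4,false),(1,false),(5,false),(6,false)]⟩,⟨3502,[],[(2,false),(3,false),(5,false),(2,false),(4,false),(5,false),(2,false),(4,false),(1,false),(6,false)]⟩])))
 (.fork (.one (.path 0 [⟨554,[(163,false),(114,false)],[(2,false),(4,false),(1,false),(5,false),(4,false),(6,false),(4,false),(1,false),(4,false),(1,false)]⟩,⟨1795,[],[(0,false),(2,false),(5,false),(4,false),(1,false),(4,false),(6,false),(4,false),(5,false),(4,false),(5,false)]⟩]))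
 (.one .base)))
 (.fork (.fork (.one (.path 7 [⟨586,[],[(0,false),(4,false),(5,false),(6,false),(4,false),(1,false),(5,false),(4,false),(6,false),(2,true)]⟩,⟨291,[(163,true)],[(1,false),(2,false),(4,false),(1,false),(4,false),(5,false),(4,false),(6,false),(4,false),(5,false),(2,false)]⟩,⟨259,[(158,false),(204,false),(158,false),(204,false)],[(2,true),(5,false),(4,false),(1,false),(5,false),(4,false),(5,false),(2,false),(6,false)]⟩]))
 (.one .base))
 (.fork (.one (.path 7 [⟨1546,[(110,false),(109,false)],[(1,false),(2,false),(5,false),(6,false),(4,false),(1,false),(5,false),(2,false),(4,false),(5,false)]⟩,⟨500,[(163,false)],[(0,false),(2,false),(6,false),(4,false),(1,false),(4,false),(5,false),(2,false),(4,false),(1,false),(6,false)]⟩,⟨1795,[(204,true),(158,false)],[(1,false),(5,false),(4,false),(3,false),(5,false),(2,true)]⟩]))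
 (.one .base))))
 (.fork (.fork (.fork (.one (.path 0 [⟨354,[(191,true),(191,true),(72,true),(64,false)],[(0,false),(2,false),(4,false),(6,false),(4,false),(1,false),(4,false),(1,false),(5,false),(2,true)]⟩,⟨503,[],[(0,false),(2,false),(3,false),(5,false),(2,false),(6,false)]⟩]))
 (.one .base))
 (.fork (.one (.path 0 [⟨1082,[(110,true)],[(6,false),(4,false),(3,false),(5,false),(4,false),(2,true),(5,false)]⟩,⟨1030,[(121,true),(137,true),(132,false)],[(5,false),(4,false),(5,false),(2,false),(5,false),(6,false)]⟩]))
 (.one .base)))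
 (.fork (.fork (.one (.path 1 [⟨884,[(163,true),(114,true),(163,false),(114,false)],[(0,false),(4,false),(1,false),(4,false),(5,false),(6,false),(4,false),(1,false),(4,false),(2,true),(5,false)]⟩,⟨613,[],[(2,false),(4,false),(1,false),(4,false),(5,false),(2,false),(6,false),(4,false),(1,false),(4,false),(1,false)]⟩]))
 (.one .base))
 (.fork (.one (.path 0 [⟨1702,[(110,true)],[(6,false),(4,false),(1,false),(5,false),(4,false),(5,false),(2,false),(4,false),(6,false),(4,false)]⟩,⟨1481,[],[(1,false),(4,false),(3,false),(5,false),(4,false),(6,false),(4,false),(5,false),(2,false),(4,false),(5,false)]⟩]))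
 (.one .base)))))
 (.fork (.fork (.fork (.fork (.one (.path 1 [⟨193,[(204,true),(172,false),(158,false),(172,false),(158,false)],[(0,false),(2,false),(5,false),(6,false),(4,false),(1,false),(5,false),(4,false),(2,true)]⟩,⟨231,[],[(0,false),(4,false),(6,false),(4,false),(2,true),(5,false),(4,false),(1,false),(5,false),(2,true)]⟩]))
 (.one (.loop 0 [4,3,5,8] [⟨4326,[(4322,false),(4321,true)],[(0,false),(1,false),(2,true),(5,false),(4,false),(5,false),(2,false)]⟩,⟨4233,[],[(3,false),(5,false),(4,false),(2,true),(5,false),(4,false),(1,false),(4,false),(2,true)]⟩,⟨4335,[(3911,false),(3911,false),(3911,false)],[(0,false),(1,false),(6,false),(4,false),(5,false),(4,false),(1,false),(4,false),(2,true)]⟩])))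
 (.fork (.one (.path 5 [⟨426,[(110,false)],[(6,false),(2,true),(5,false),(4,false),(1,false),(6,false),(4,false),(5,false)]⟩,⟨299,[(121,true),(137,true)],[(0,false),(5,false),(2,true),(5,false),(4,false),(5,false),(6,false)]⟩,⟨2011,[(110,false)],[(0,false),(2,false),(5,false),(4,false),(5,false),(6,false),(4,false),(1,false),(4,false),(1,false),(6,false)]⟩]))
 (.one .base)))
 (.fork (.fork (.one (.path 13 [⟨1279,[(158,false)],[(0,false),(2,false),(5,false),(6,false),(4,false),(2,true),(5,false),(4,false),(1,false),(2,true)]⟩,⟨876,[(110,true)],[(0,false),(5,false),(4,false),(6,false),(4,false),(5,false),(2,false)]⟩,⟨1077,[(137,false)],[(1,false),(4,false),(3,false),(5,false),(2,false),(6,false),(4,false)]⟩]))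
 (.one .base))
 (.fork (.one (.path 0 [⟨528,[(110,true)],[(1,false),(3,false),(5,false),(2,false),(4,false),(1,false),(4,false),(5,false),(4,false),(1,false),(4,false)]⟩,⟨1725,[],[(4,false),(1,false),(4,false),(5,false),(4,false),(1,false),(4,false),(2,true),(5,false),(2,false)]⟩]))
 (.one .base))))
 (.fork (.fork (.fork (.one (.path 3 [⟨299,[(137,false),(121,false)],[(2,false),(4,false),(1,false),(6,false),(4,false),(5,false),(4,false),(2,true),(5,false)]⟩,⟨496,[],[(1,false),(4,false),(1,false),(3,false),(6,false),(4,false),(1,false),(5,false),(4,false),(6,false)]⟩,⟨695,[(158,false)],[(0,false),(5,false),(4,false),(6,false),(4,false),(5,false),(2,false)]⟩]))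
 (.one .base))
 (.fork (.one (.path 0 [⟨2799,[],[(0,false),(2,false),(6,false)]⟩,⟨1811,[(109,false)],[(4,false),(1,false),(2,true),(5,false),(4,false),(5,false),(2,false),(5,false),(4,false),(1,false)]⟩]))
 (.one .base)))
 (.fork (.fork (.one (.path 5 [⟨259,[],[(2,false),(4,false),(5,false),(2,true)]⟩,⟨1792,[(110,true)],[(1,false),(4,false),(1,false),(2,true),(5,false),(4,false),(5,false),(2,false),(5,false)]⟩,⟨1259,[(121,true),(137,true),(132,false),(121,false)],[(1,false),(6,false),(4,false),(5,false),(2,false),(5,false)]⟩]))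
 (.one .base))
 (.fork (.one (.path 2 [⟨1494,[(110,true)],[(4,false),(3,false),(5,false),(4,false),(2,true),(5,false),(2,false),(4,false),(5,false),(6,false)]⟩,⟨2278,[],[(6,false),(4,false),(1,false),(4,false),(1,false),(5,false),(6,false),(4,false),(2,true),(5,false)]⟩,⟨3839,[(100,true),(83,false),(54,false)],[(1,false),(4,false),(1,false),(5,false),(2,false),(4,false),(5,false),(4,false),(6,false),(2,true)]⟩]))
 (.one .base))))))
 (.fork (.fork (.fork (.fork (.fork (.one (.rev 130))
 (.one (.path 0 [⟨3048,[],[(0,false),(2,false),(6,false),(4,false),(5,false),(4,false),(6,false),(2,true),(5,false)]⟩,⟨3933,[],[(2,false),(6,false),(4,false),(3,false),(5,false),(2,false),(4,false),(1,false),(5,false),(6,false)]⟩])))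
 (.fork (.one (.path 0 [⟨1064,[(110,false)],[(0,false),(6,false),(4,false),(1,false),(5,false),(4,false),(5,false),(2,false),(5,false),(4,false)]⟩,⟨953,[],[(1,false),(5,false),(6,false),(4,false),(1,false),(5,false),(2,false)]⟩]))
 (.one .base)))
 (.fork (.fork (.one (.path 5 [⟨604,[(110,true),(109,false)],[(0,false),(1,false),(2,false),(5,false),(4,false),(5,false),(6,false),(2,true),(5,false),(4,false)]⟩,⟨1079,[(137,true),(121,true),(132,true)],[(6,false),(2,true),(5,false),(4,false),(5,false),(2,false),(6,false)]⟩,⟨579,[(110,true),(109,false)],[(6,false),(2,true),(5,false),(2,false),(4,false),(1,false),(3,false),(4,false),(6,false),(4,false)]⟩]))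
 (.one .base))
 (.fork (.one (.path 1 [⟨1360,[(109,false)],[(3,false),(5,false),(4,false),(1,false),(4,false),(6,false),(4,false),(2,true),(5,false)]⟩,⟨1359,[(114,true),(163,false),(114,false)],[(1,false),(4,false),(1,false),(4,false),(6,false),(2,true),(5,false),(4,false),(1,false),(4,false),(5,false),(6,false)]⟩]))
 (.one .base))))
 (.fork (.fork (.fork (.one (.path 4 [⟨164,[],[(0,false),(3,false),(2,true),(5,false),(2,true)]⟩,⟨392,[(110,true)],[(0,false),(1,false),(6,false),(4,false),(5,false),(2,false),(4,false),(6,false)]⟩,⟨401,[(137,true),(121,true),(132,false)],[(5,false),(2,false),(5,false),(4,false),(1,false),(6,false),(4,false),(5,false),(2,true)]⟩]))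
 (.one .base))
 (.fork (.one (.path 4 [⟨2615,[],[(0,false),(3,false),(5,false),(2,true),(5,false)]⟩,⟨2530,[(110,true)],[(2,false),(4,false),(1,false),(4,false),(5,false),(6,false),(4,false),(1,false),(4,false),(5,false),(6,false)]⟩,⟨1864,[(110,true),(109,false)],[(1,false),(5,false),(6,false),(4,false),(5,false),(4,false),(2,true),(5,false),(4,false),(5,false)]⟩]))
 (.one .base)))
 (.fork (.fork (.one (.path 8 [⟨1206,[(110,true)],[(1,false),(5,false),(2,false),(4,false),(1,false),(5,false),(4,false),(1,false),(2,true),(5,false)]⟩,⟨1580,[(163,true),(114,false),(163,false)],[(0,false),(5,false),(4,false),(5,false),(2,false),(6,false),(4,false),(1,false),(4,false),(5,false),(2,false)]⟩,⟨1547,[(114,true),(113,false)],[(3,false),(6,false),(2,true),(5,false),(4,false),(1,false),(4,false),(6,false),(2,true),(5,false),(2,false)]⟩]))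
 (.one .base))
 (.fork (.one (.path 0 [⟨3427,[],[(6,false),(2,true),(5,false),(4,false)]⟩,⟨3221,[],[(0,false),(1,false),(6,false),(4,false),(2,true),(5,false),(2,false),(4,false),(6,false)]⟩]))
 (.one .base)))))
 (.fork (.fork (.fork (.fork (.one (.path 0 [⟨381,[],[(0,false),(1,false),(5,false)]⟩,⟨343,[(132,true),(121,true)],[(4,false),(6,false),(4,false),(5,false),(4,false),(5,false),(2,false),(6,false)]⟩]))
 (.one .base))
 (.fork (.one (.path 0 [⟨528,[(110,true)],[(0,false),(1,false),(2,false),(5,false),(4,false),(6,false),(4,false),(2,true),(5,false),(4,false)]⟩,⟨653,[],[(0,false),(4,false),(5,false),(2,false),(5,false),(6,false),(4,false),(5,false),(4,false),(1,false),(2,true)]⟩]))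
 (.one .base)))
 (.fork (.fork (.one (.path 9 [⟨273,[(121,true)],[(0,false),(1,false),(2,false),(5,false),(6,false),(2,true)]⟩,⟨1401,[(163,false),(114,false)],[(0,false),(5,false),(4,false),(6,false),(2,true),(5,false),(2,false),(4,false),(1,false)]⟩,⟨1344,[(109,false)],[(0,false),(6,false),(4,false),(1,false),(4,false),(6,false),(2,true),(5,false),(4,false),(1,false)]⟩]))
 (.one .base))
 (.fork (.one (.path 0 [⟨2499,[],[(3,false),(6,false),(2,true)]⟩,⟨2865,[],[(0,false),(2,false),(6,false),(4,false),(1,false),(5,false),(4,false),(6,false)]⟩]))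
 (.one .base))))
 (.fork (.fork (.fork (.one (.path 6 [⟨501,[(158,false),(204,false),(172,false)],[(3,false),(4,false),(1,false),(5,false),(4,false),(6,false),(4,false)]⟩,⟨467,[],[(1,false),(5,false),(4,false),(5,false),(2,false),(4,false),(6,false),(4,false),(5,false)]⟩,⟨325,[(83,false),(54,false),(100,false),(54,false)],[(2,false),(3,false),(4,false),(1,false),(5,false),(4,false),(1,false),(4,false),(6,false),(2,true),(5,false)]⟩]))
 (.one .base))
 (.fork (.one (.path 0 [⟨573,[],[(0,false),(3,false),(5,false),(2,false)]⟩,⟨1371,[(114,true),(113,false)],[(1,false),(4,false),(5,false),(6,false),(4,false),(2,true),(5,false),(4,false),(2,true),(5,false),(2,true)]⟩]))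
 (.one .base)))
 (.fork (.fork (.one (.path 0 [⟨1313,[],[(0,false),(2,true),(5,false)]⟩,⟨947,[],[(6,false),(4,false),(5,false),(4,false),(1,false),(4,false),(2,true),(5,false),(2,false)]⟩]))
 (.one .base))
 (.fork (.one (.path 3 [⟨3249,[],[(0,false),(2,false),(3,false),(5,false),(6,false),(2,true)]⟩,⟨782,[],[(6,false),(4,false),(5,false),(2,true),(5,false)]⟩,⟨3899,[(137,true),(132,false),(121,false),(121,false)],[(2,false),(5,false),(6,false),(4,false),(1,false),(3,false),(4,false),(5,false),(2,true)]⟩]))
 (.one .base)))))))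

/-- a part of the justifications -/
noncomputable def twJustT98 : BT Just := (.fork (.fork (.fork (.fork (.fork (.fork (.one (.rev 66))
 (.one (.path 0 [⟨768,[(110,true),(109,false)],[(5,false),(4,false),(5,false),(4,false),(6,false),(4,false),(5,false),(2,true),(5,false)]⟩,⟨3899,[],[(1,false),(5,false),(4,false),(1,false),(3,false),(4,false),(6,false),(2,true),(5,false),(4,false)]⟩])))
 (.fork (.one (.path 1 [⟨674,[(110,true)],[(5,false),(4,false),(1,false),(5,false),(2,false),(6,false),(4,false)]⟩,⟨1245,[],[(2,false),(3,false),(6,false),(4,false),(5,false),(2,false),(4,false),(5,false),(4,false),(2,true)]⟩]))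
 (.one .base)))
 (.fork (.fork (.one (.path 9 [⟨135,[(132,false),(121,false),(121,false)],[(0,false),(4,false),(5,false),(2,false),(5,false),(4,false),(5,false),(2,false),(5,false),(6,false)]⟩,⟨960,[],[(3,false),(4,false),(1,false),(5,false),(4,false),(5,false),(4,false)]⟩,⟨755,[],[(1,false),(3,false),(4,false),(6,false),(4,false),(1,false),(5,false),(4,false),(1,false),(6,false)]⟩]))
 (.one .base))
 (.fork (.one (.path 0 [⟨648,[],[(2,false),(4,false),(3,false),(6,false),(4,false),(5,false),(2,false)]⟩,⟨1539,[],[(3,false),(2,true),(5,false),(4,false),(5,false),(2,false),(6,false),(4,false),(5,false),(2,true)]⟩]))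
 (.one .base))))
 (.fork (.fork (.fork (.one (.path 6 [⟨230,[],[(0,false),(4,false),(5,false),(2,true),(5,false),(4,false),(5,false),(2,false)]⟩,⟨169,[(204,true),(158,false)],[(4,false),(1,false),(4,false),(1,false),(5,false),(2,false),(4,false),(5,false),(4,false),(1,false)]⟩,⟨126,[(65,false),(63,true),(191,true),(64,false)],[(4,false),(5,false),(6,false),(2,true),(5,false),(4,false),(6,false)]⟩]))
 (.one .base))
 (.fork (.one (.path 0 [⟨656,[(110,true)],[(5,false),(4,false),(1,false),(3,false),(5,false),(6,false),(4,false),(1,false),(5,false),(2,false)]⟩,⟨1365,[],[(1,false),(5,false),(4,false),(1,false),(3,false),(5,false),(6,false),(4,false),(1,false),(5,false),(2,false)]⟩]))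
 (.one .base)))
 (.fork (.fork (.one (.path 5 [⟨273,[],[(2,false),(4,false),(1,false),(3,false),(5,false),(6,false)]⟩,⟨432,[(163,false)],[(1,false),(5,false),(4,false),(3,false),(6,false),(4,false),(5,false),(2,false),(4,false),(5,false)]⟩,⟨1427,[(137,false),(132,false),(121,false),(121,false)],[(0,false),(1,false),(2,false),(5,false),(4,false),(1,false),(5,false),(6,false),(4,false),(1,false)]⟩]))
 (.one .base))
 (.fork (.one (.path 1 [⟨3575,[],[(2,false)]⟩,⟨3260,[(110,true),(109,false)],[(0,false),(4,false),(5,false),(2,false),(4,false),(5,false),(4,false),(6,false),(2,true)]⟩]))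
 (.one .base)))))
 (.fork (.fork (.fork (.fork (.one (.path 3 [⟨157,[(158,false),(204,true),(158,false),(172,false)],[(0,false),(4,false),(6,false),(4,false),(5,false),(2,false)]⟩,⟨156,[(21,false),(28,true),(27,false),(23,false)],[(3,false),(4,false),(2,true),(5,false),(4,false),(1,false),(4,false),(6,false),(2,true)]⟩,⟨257,[(204,true),(158,false),(204,true),(158,false),(204,true)],[(4,false),(3,false),(5,false),(4,false),(1,false),(4,false),(6,false),(4,false),(5,false)]⟩]))
 (.one .base))
 (.fork (.one (.path 0 [⟨2278,[],[(5,false),(4,false),(5,false),(2,false),(4,false),(5,false),(4,false),(6,false),(4,false)]⟩,⟨1139,[(83,false),(100,true)],[(4,false),(3,false),(6,false),(4,false),(1,false),(4,false),(5,false),(2,false)]⟩]))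
 (.one .base)))
 (.fork (.fork (.one (.path 2 [⟨923,[(109,false)],[(4,false),(3,false),(5,false),(4,false),(2,true),(5,false)]⟩,⟨739,[(110,true)],[(1,false),(2,true),(5,false),(4,false),(1,false),(3,false),(6,false),(4,false),(5,false)]⟩,⟨985,[(204,true),(172,false),(158,false),(172,false)],[(0,false),(2,false),(5,false),(2,false),(4,false),(5,false),(6,false),(4,false),(2,true)]⟩]))
 (.one .base))
 (.fork (.one (.path 1 [⟨2576,[],[(5,false),(2,false),(4,false),(3,false),(5,false),(4,false),(6,false)]⟩,⟨2668,[],[(1,false),(3,false),(4,false),(6,false),(4,false),(1,false),(4,false),(2,true),(5,false),(2,false)]⟩]))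
 (.one .base))))
 (.fork (.fork (.fork (.one (.path 8 [⟨548,[(163,false)],[(4,false),(6,false),(4,false),(1,false),(4,false),(2,true),(5,false),(2,true)]⟩,⟨615,[(158,false),(172,false),(158,false),(204,false),(158,false)],[(6,false),(2,true),(5,false),(2,false),(4,false)]⟩,⟨385,[(163,false),(114,false)],[(6,false),(4,false),(1,false),(3,false),(4,false),(5,false),(4,false),(6,false)]⟩]))
 (.one .base))
 (.fork (.one (.path 3 [⟨472,[(110,true)],[(0,false),(5,false),(2,false),(4,false),(1,false),(4,false),(5,false),(2,true)]⟩,⟨1047,[(114,true)],[(2,false),(4,false),(5,false),(4,false),(1,false),(6,false),(2,true)]⟩,⟨2492,[(109,false)],[(0,false),(5,false),(4,false),(1,false),(4,false),(5,false),(2,false),(5,false)]⟩]))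
 (.one .base)))
 (.fork (.fork (.one (.path 1 [⟨1372,[],[(4,false),(1,false),(4,false),(6,false),(4,false),(5,false),(2,false),(4,false),(6,false)]⟩,⟨1237,[],[(1,false),(2,false),(6,false),(4,false),(5,false),(4,false),(6,false),(2,true),(5,false),(2,true)]⟩]))
 (.one .base))
 (.fork (.one (.path 0 [⟨805,[],[(0,false),(3,false),(6,false)]⟩,⟨3849,[(110,true),(109,false)],[(2,false),(4,false),(1,false),(4,false),(5,false),(4,false),(6,false),(4,false),(5,false),(2,true)]⟩]))
 (.one .base))))))
 (.fork (.fork (.fork (.fork (.fork (.one (.rev 194))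
 (.one (.path 0 [⟨4048,[(3912,true),(3911,false),(3911,false),(3912,false)],[(1,false),(2,false),(5,false),(4,false),(6,false),(4,false),(2,true),(5,false),(4,false),(5,false),(6,false)]⟩,⟨1439,[],[(5,false),(2,false),(5,false),(6,false),(4,false),(5,false),(4,false),(6,false),(2,true)]⟩])))
 (.fork (.one (.path 0 [⟨1072,[(110,false),(109,false)],[(1,false),(2,false),(4,false),(3,false),(5,false),(2,false),(4,false),(5,false),(2,false)]⟩,⟨1757,[],[(6,false),(4,false),(2,true),(5,false),(4,false),(2,true),(5,false),(2,true)]⟩]))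
 (.one .base)))
 (.fork (.fork (.one (.path 6 [⟨436,[(163,false)],[(1,false),(2,true),(5,false),(2,false),(4,false),(3,false),(5,false),(4,false),(1,false),(4,false)]⟩,⟨343,[(121,true),(132,false),(121,false)],[(6,false),(4,false),(1,false),(3,false),(2,true),(5,false),(4,false),(5,false),(6,false)]⟩,⟨1203,[(114,false),(163,false),(114,false)],[(1,false),(3,false),(4,false),(6,false),(4,false),(2,true),(5,false),(4,false),(6,false),(2,true)]⟩]))
 (.one .base))
 (.fork (.one (.path 1 [⟨2945,[],[(2,true)]⟩,⟨2617,[(109,false)],[(0,false),(1,false),(2,false),(6,false),(4,false),(1,false),(5,false),(4,false),(1,false),(2,true),(5,false)]⟩]))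
 (.one .base))))
 (.fork (.fork (.fork (.one (.path 12 [⟨216,[(158,false),(204,false),(158,false),(204,true),(158,false)],[(6,false),(4,false),(1,false),(4,false),(5,false),(4,false),(1,false),(4,false),(2,true)]⟩,⟨236,[(114,false),(163,true),(114,false),(113,false)],[(2,false),(5,false),(4,false),(3,false),(5,false),(6,false),(4,false),(1,false)]⟩,⟨565,[(57,false),(55,false)],[(0,false),(2,false),(4,false),(5,false),(2,false),(4,false),(5,false),(6,false),(4,false),(1,false)]⟩]))
 (.one .base))
 (.fork (.one (.path 6 [⟨919,[],[(1,false),(4,false),(3,false),(2,true),(5,false),(2,true)]⟩,⟨2565,[(110,true)],[(1,false),(4,false),(5,false),(4,false),(5,false),(6,false),(4,false),(1,false),(5,false),(2,true)]⟩,⟨2370,[(109,false)],[(0,false),(1,false),(4,false),(5,false),(2,false),(5,false),(4,false),(1,false)]⟩]))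
 (.one .base)))
 (.fork (.fork (.one (.path 2 [⟨1587,[(163,true),(114,false),(163,false),(113,false)],[(1,false),(3,false),(4,false),(1,false),(5,false),(4,false),(5,false),(2,true),(5,false),(4,false)]⟩,⟨874,[],[(0,false),(2,false),(4,false),(1,false),(4,false),(5,false),(4,false),(1,false)]⟩,⟨1712,[(137,false),(121,true),(137,true),(121,true)],[(1,false),(2,false),(6,false),(4,false),(5,false),(2,false),(4,false),(5,false),(2,false)]⟩]))
 (.one .base))
 (.fork (.one (.path 0 [⟨2912,[(110,false),(109,false)],[(4,false),(2,true),(5,false),(4,false),(6,false),(2,true),(5,false)]⟩,⟨2249,[],[(5,false),(4,false),(2,true),(5,false),(2,false),(4,false),(1,false),(5,false),(6,false)]⟩]))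
 (.one .base)))))
 (.fork (.fork (.fork (.fork (.one (.path 6 [⟨124,[(100,false),(55,false)],[(2,true),(5,false),(2,false),(4,false),(1,false),(6,false),(4,false),(5,false),(2,true),(5,false)]⟩,⟨149,[(113,false)],[(1,false),(6,false),(4,false),(2,true),(5,false),(4,false),(1,false),(6,false),(4,false),(2,true)]⟩,⟨271,[(132,true),(121,false),(137,false)],[(0,false),(6,false),(2,true),(5,false),(4,false),(2,true),(5,false),(4,false),(1,false)]⟩]))
 (.one .base))
 (.fork (.one (.path 1 [⟨2214,[],[(0,false),(5,false),(2,false),(4,false),(5,false),(6,false),(4,false),(5,false),(2,false)]⟩,⟨2004,[(110,true),(109,false)],[(6,false),(4,false),(1,false),(3,false),(2,true),(5,false),(4,false),(5,false),(2,false),(5,false)]⟩]))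
 (.one .base)))
 (.fork (.fork (.one (.path 3 [⟨208,[],[(4,false),(5,false),(4,false),(6,false),(4,false),(1,false),(4,false),(1,false),(2,true)]⟩,⟨953,[(163,true),(114,false),(163,false),(113,false)],[(1,false),(5,false),(4,false),(6,false),(4,false),(2,true),(5,false),(4,false),(1,false),(2,true),(5,false)]⟩,⟨1318,[],[(2,false),(4,false),(1,false),(4,false),(5,false),(6,false),(4,false),(5,false),(4,false)]⟩]))
 (.one .base))
 (.fork (.one (.path 0 [⟨1861,[],[(0,false),(2,true)]⟩,⟨1209,[],[(1,false),(4,false),(2,true),(5,false),(4,false),(1,false),(6,false)]⟩]))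
 (.one .base))))
 (.fork (.fork (.fork (.one (.path 13 [⟨667,[(132,true)],[(4,false),(1,false),(3,false),(4,false),(5,false),(2,true),(5,false),(4,false),(1,false),(5,false),(2,true)]⟩,⟨608,[(110,false)],[(2,false),(4,false),(5,false),(4,false),(1,false),(4,false),(1,false),(6,false),(2,true),(5,false)]⟩,⟨769,[(121,true),(137,false),(132,true)],[(3,false),(5,false),(6,false),(4,false),(5,false),(2,false),(5,false),(4,false),(6,false)]⟩]))
 (.one .base))
 (.fork (.one (.path 0 [⟨1578,[(109,false)],[(5,false),(2,false),(4,false),(1,false),(6,false),(4,false),(1,false),(5,false),(4,false),(5,false)]⟩,⟨368,[(163,false),(114,false)],[(6,false),(4,false),(2,true),(5,false),(2,false),(4,false),(5,false),(2,false),(4,false),(1,false)]⟩]))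
 (.one .base)))
 (.fork (.fork (.one (.path 1 [⟨1428,[(110,false),(109,false)],[(1,false),(3,false),(2,true),(5,false),(4,false),(5,false),(4,false),(1,false),(4,false)]⟩,⟨1245,[],[(1,false),(3,false),(4,false),(2,true),(5,false),(4,false),(1,false),(4,false),(1,false)]⟩]))
 (.one .base))
 (.fork (.one (.path 0 [⟨760,[(137,false)],[(4,false),(1,false),(3,false),(5,false),(6,false),(4,false),(1,false),(5,false),(2,true)]⟩,⟨3875,[],[(0,false),(4,false),(6,false),(2,true),(5,false),(4,false),(5,false),(2,false)]⟩]))
 (.one .base)))))))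

/-- a part of the justifications -/
noncomputable def twJustT99 : BT Just := (.fork (.fork (.fork (.fork (.fork (.fork (.one (.path 0 [⟨31,[],[]⟩,⟨18,[(14,false),(10,false)],[(3,false),(4,false),(5,false),(2,false),(4,false),(5,false),(4,false),(5,false),(2,false)]⟩]))
 (.one (.path 0 [⟨3916,[(3912,false),(3911,true)],[(0,false),(1,false),(6,false),(4,false),(5,false),(2,false),(5,false),(4,false),(5,false),(2,true)]⟩,⟨3915,[(100,false),(57,false),(54,false)],[(5,false),(2,false),(5,false),(4,false),(6,false),(4,false),(1,false)]⟩])))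
 (.fork (.one (.path 8 [⟨1997,[(110,true)],[(0,false),(5,false),(6,false),(2,true),(5,false),(4,false),(1,false),(4,false),(5,false),(4,false)]⟩,⟨1530,[(110,false),(109,false)],[(0,false),(1,false),(2,true),(5,false),(4,false),(5,false),(2,false),(5,false),(6,false),(4,false),(1,false)]⟩,⟨2046,[(110,true),(109,false)],[(5,false),(2,false),(5,false),(4,false),(5,false),(2,false),(4,false),(6,false)]⟩]))
 (.one .base)))
 (.fork (.fork (.one (.path 0 [⟨344,[(114,true),(163,true),(114,false),(113,false)],[(1,false),(2,false),(5,false),(4,false),(5,false),(6,false),(4,false),(1,false),(4,false),(6,false)]⟩,⟨661,[],[(0,false),(6,false),(2,true),(5,false),(4,false),(1,false),(4,false),(1,false)]⟩]))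
 (.one .base))
 (.fork (.one (.path 0 [⟨2224,[],[(3,false),(4,false),(5,false),(6,false),(4,false),(1,false),(5,false),(4,false),(2,true)]⟩,⟨1323,[],[(2,false),(4,false),(1,false),(6,false),(4,false),(5,false),(2,false),(4,false)]⟩]))
 (.one .base))))
 (.fork (.fork (.fork (.one (.path 0 [⟨491,[],[(5,false),(6,false),(4,false)]⟩,⟨459,[(63,true)],[(4,false),(3,false),(6,false),(4,false),(2,true),(5,false),(4,false),(6,false)]⟩]))
 (.one .base))
 (.fork (.one (.path 1 [⟨1718,[(110,false)],[(0,false),(5,false),(2,false),(4,false),(1,false),(4,false),(5,false),(6,false),(4,false),(1,false)]⟩,⟨655,[],[(1,false),(4,false),(1,false),(4,false),(6,false),(4,false),(2,true),(5,false),(2,true)]⟩]))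
 (.one .base)))
 (.fork (.fork (.one (.path 1 [⟨1547,[],[(2,true)]⟩,⟨920,[(110,false)],[(1,false),(4,false),(5,false),(6,false),(4,false),(1,false),(2,true),(5,false),(4,false),(5,false)]⟩]))
 (.one .base))
 (.fork (.one (.path 0 [⟨3160,[],[(5,false),(4,false),(5,false),(6,false),(4,false),(1,false),(5,false),(4,false),(5,false)]⟩,⟨2852,[],[(2,false),(4,false),(6,false),(4,false),(1,false),(4,false),(1,false),(6,false),(4,false),(5,false),(2,true)]⟩]))
 (.one .base)))))
 (.fork (.fork (.fork (.fork (.one (.path 0 [⟨202,[],[(1,false),(4,false),(5,false),(2,true),(5,false)]⟩,⟨261,[(204,false),(158,false),(204,false)],[(6,false),(2,true),(5,false),(4,false),(5,false),(6,false),(4,false),(2,true),(5,false)]⟩]))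
 (.one .base))
 (.fork (.one (.path 0 [⟨1310,[(110,false)],[(0,false),(2,false),(4,false),(5,false),(6,false),(4,false),(1,false),(4,false)]⟩,⟨1469,[],[(0,false),(1,false),(4,false),(5,false),(4,false),(1,false),(6,false),(4,false),(5,false),(4,false),(2,true)]⟩]))
 (.one .base)))
 (.fork (.fork (.one (.path 1 [⟨612,[(109,false)],[(4,false),(1,false),(4,false),(6,false),(4,false),(1,false),(4,false),(5,false),(6,false)]⟩,⟨530,[(121,true),(132,false)],[(0,false),(1,false),(2,false),(6,false),(4,false),(1,false),(5,false),(4,false),(1,false),(4,false)]⟩]))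
 (.one .base))
 (.fork (.one (.path 0 [⟨1872,[(110,true),(109,false)],[(2,false),(5,false),(4,false),(1,false),(3,false),(6,false),(4,false),(2,true),(5,false),(2,false)]⟩,⟨2388,[],[(3,false),(5,false),(2,false),(4,false),(1,false),(5,false),(4,false),(5,false),(4,false),(2,true)]⟩]))
 (.one .base))))
 (.fork (.fork (.fork (.one (.path 9 [⟨491,[],[(0,false),(1,false),(2,false),(5,false),(6,false),(4,false)]⟩,⟨285,[(65,true)],[(3,false),(5,false),(4,false),(1,false),(5,false),(2,false),(4,false),(6,false),(4,false)]⟩,⟨513,[(63,false),(191,true),(65,false)],[(2,true),(5,false),(4,false),(5,false),(2,true),(5,false),(4,false)]⟩]))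
 (.one .base))
 (.fork (.one (.path 1 [⟨1853,[],[]⟩,⟨1643,[(110,false),(109,false)],[(3,false),(4,false),(5,false),(4,false),(1,false),(2,true),(5,false),(4,false),(5,false)]⟩]))
 (.one .base)))
 (.fork (.fork (.one (.path 4 [⟨1151,[],[(0,false),(1,false),(2,false),(5,false),(6,false)]⟩,⟨976,[(110,true),(109,false)],[(2,false),(5,false),(4,false),(1,false),(4,false),(1,false),(5,false),(6,false),(2,true)]⟩,⟨601,[(121,true),(137,true),(132,false)],[(3,false),(4,false),(1,false),(5,false),(4,false),(1,false),(6,false),(4,false),(2,true)]⟩]))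
 (.one .base))
 (.fork (.one (.path 9 [⟨1717,[],[(0,false),(2,false),(3,false),(5,false),(6,false),(2,true)]⟩,⟨1782,[],[(5,false),(2,false),(4,false),(5,false),(4,false),(1,false),(4,false),(2,true),(5,false),(4,false)]⟩,⟨3835,[(163,true),(114,true),(113,false)],[(4,false),(6,false),(4,false),(1,false),(4,false),(5,false),(2,false),(4,false)]⟩]))
 (.one .base))))))
 (.fork (.fork (.fork (.fork (.fork (.one (.lift 1 [1,5,4,3,8,5] ⟨111,[(11,false),(14,false),(11,false)],[]⟩ ⟨162,[],[(0,false),(2,true),(5,false),(2,false),(4,false),(5,false),(2,false),(4,false),(1,false),(4,false),(5,false)]⟩))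
 (.one (.path 1 [⟨1142,[(110,false)],[(1,false),(4,false),(6,false),(4,false),(2,true),(5,false),(4,false),(2,true),(5,false),(4,false)]⟩,⟨3913,[],[(5,false),(4,false),(1,false),(6,false),(4,false),(1,false),(5,false),(2,false)]⟩])))
 (.fork (.one (.path 0 [⟨604,[(110,true),(109,false)],[(1,false),(6,false),(4,false),(2,true),(5,false),(2,false),(4,false),(5,false),(2,false),(4,false)]⟩,⟨483,[],[(1,false),(3,false),(4,false),(1,false),(4,false),(5,false),(2,false),(4,false),(5,false),(2,true)]⟩]))
 (.one .base)))
 (.fork (.fork (.one (.path 1 [⟨500,[(114,false),(163,false),(113,false)],[(1,false),(4,false),(5,false),(2,false),(5,false),(4,false),(6,false)]⟩,⟨1009,[],[(3,false),(4,false),(1,false),(5,false),(6,false),(4,false),(2,true),(5,false),(4,false),(6,false),(2,true)]⟩]))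
 (.one .base))
 (.fork (.one (.path 7 [⟨2795,[],[(1,false),(2,false),(5,false),(4,false),(2,true)]⟩,⟨3111,[(110,false),(109,false)],[(0,false),(4,false),(1,false),(5,false),(4,false),(2,true),(5,false),(2,false)]⟩,⟨2264,[(110,true),(109,false)],[(0,false),(5,false),(4,false),(6,false),(2,true),(5,false),(4,false),(6,false),(2,true),(5,false)]⟩]))
 (.one .base))))
 (.fork (.fork (.fork (.one (.path 3 [⟨343,[(137,true),(132,true),(121,false),(132,false)],[(0,false),(4,false),(6,false),(4,false),(1,false),(2,true),(5,false),(4,false),(5,false)]⟩,⟨544,[],[(1,false),(2,false),(5,false),(4,false),(1,false),(4,false),(5,false),(2,true)]⟩,⟨539,[(137,true),(132,true),(121,false),(132,false)],[(0,false),(6,false),(4,false),(1,false),(5,false),(4,false),(2,true),(5,false),(2,false),(4,false)]⟩]))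
 (.one .base))
 (.fork (.one (.path 0 [⟨2658,[(109,false)],[(5,false),(2,true),(5,false),(4,false),(1,false),(5,false)]⟩,⟨2097,[],[(4,false),(1,false),(4,false),(5,false),(4,false),(2,true),(5,false)]⟩]))
 (.one .base)))
 (.fork (.fork (.one (.path 0 [⟨514,[],[(1,false),(4,false),(1,false),(3,false),(4,false),(6,false),(4,false),(2,true),(5,false)]⟩,⟨907,[(64,true),(191,false),(65,false),(63,false)],[(1,false),(4,false),(2,true),(5,false),(4,false),(1,false),(6,false),(4,false),(5,false),(4,false)]⟩]))
 (.one .base))
 (.fork (.one (.path 0 [⟨2245,[],[(0,false),(6,false),(4,false),(2,true),(5,false),(2,false)]⟩,⟨3685,[],[(0,false),(2,false),(3,false),(5,false)]⟩]))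
 (.one .base)))))
 (.fork (.fork (.fork (.fork (.one (.path 1 [⟨197,[],[(0,false),(1,false),(5,false),(2,false),(6,false),(4,false),(5,false),(4,false),(1,false),(6,false),(2,true)]⟩,⟨413,[],[(4,false),(1,false),(3,false),(6,false),(4,false),(1,false),(5,false),(2,false),(4,false),(6,false)]⟩]))
 (.one .base))
 (.fork (.one (.path 2 [⟨1616,[(109,false)],[(1,false),(4,false),(1,false),(2,true),(5,false),(4,false),(5,false),(4,false)]⟩,⟨1111,[(158,false)],[(0,false),(5,false),(4,false),(6,false),(2,true),(5,false),(2,false),(4,false)]⟩,⟨2176,[(110,true),(109,false)],[(1,false),(4,false),(5,false),(2,false),(4,false),(1,false),(5,false),(4,false),(1,false),(2,true)]⟩]))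
 (.one .base)))
 (.fork (.fork (.one (.path 2 [⟨1007,[],[(5,false)]⟩,⟨1442,[],[(3,false),(4,false),(2,true)]⟩,⟨1435,[(158,false)],[(1,false),(3,false),(5,false),(4,false),(6,false),(4,false)]⟩]))
 (.one .base))
 (.fork (.one (.path 1 [⟨1734,[],[(3,false),(4,false),(6,false),(4,false),(5,false),(2,false),(5,false)]⟩,⟨1759,[],[(3,false),(5,false),(4,false),(1,false),(5,false),(6,false),(4,false),(1,false),(2,true)]⟩]))
 (.one .base))))
 (.fork (.fork (.fork (.one (.path 1 [⟨794,[(114,false),(163,true),(114,true),(113,false)],[(0,false),(5,false),(2,false),(4,false),(6,false),(4,false),(5,false)]⟩,⟨916,[(158,false),(204,false),(158,false),(204,false),(158,false)],[(3,false),(6,false),(4,false),(5,false),(2,false),(4,false),(5,false),(4,false),(2,true)]⟩]))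
 (.one .base))
 (.fork (.one (.path 0 [⟨2278,[],[(1,false),(2,false),(4,false),(1,false),(5,false),(4,false),(6,false),(4,false),(1,false),(5,false),(2,true)]⟩,⟨1139,[],[(4,false),(6,false),(2,true),(5,false),(4,false),(5,false),(2,false),(5,false),(6,false)]⟩]))
 (.one .base)))
 (.fork (.fork (.one (.path 2 [⟨768,[],[(2,true),(5,false),(2,false),(4,false),(5,false),(2,false),(6,false),(4,false),(1,false)]⟩,⟨1073,[(132,true),(121,true),(137,false),(132,false)],[(4,false),(1,false),(4,false),(2,true),(5,false),(4,false),(2,true),(5,false),(2,false)]⟩,⟨1920,[(110,false),(109,false)],[(0,false),(1,false),(5,false),(4,false),(6,false),(2,true),(5,false),(2,false)]⟩]))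
 (.one .base))
 (.fork (.one (.path 1 [⟨3491,[],[(0,false),(4,false),(1,false)]⟩,⟨3955,[(110,false),(109,false)],[(0,false),(6,false),(2,true),(5,false),(2,false),(4,false),(1,false),(4,false),(1,false),(5,false)]⟩]))
 (.one .base)))))))

/-- a part of the justifications -/
noncomputable def twJustT100 : BT Just := (.fork (.fork (.fork (.fork (.fork (.fork (.one (.rev 98))
 (.one (.path 0 [⟨3012,[],[(4,false),(3,false),(6,false),(4,false),(2,true),(5,false),(4,false),(1,false),(2,true)]⟩,⟨4160,[(109,false)],[(1,false),(2,false),(4,false),(5,false),(4,false),(1,false),(4,false)]⟩])))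
 (.fork (.one (.path 0 [⟨986,[],[(1,false),(2,false),(5,false),(4,false),(3,false),(2,true),(5,false),(4,false),(1,false),(4,false),(2,true)]⟩,⟨495,[],[(2,false),(5,false),(4,false),(5,false),(6,false),(2,true),(5,false),(4,false),(5,false),(2,false)]⟩]))
 (.one .base)))
 (.fork (.fork (.one (.path 6 [⟨1105,[(158,false),(172,false),(158,false),(204,false)],[(6,false),(4,false),(2,true),(5,false),(2,false)]⟩,⟨868,[(110,false),(109,false)],[(1,false),(5,false),(2,false),(4,false),(5,false),(4,false),(1,false),(6,false)]⟩,⟨1073,[(137,false),(121,true),(137,true),(132,false),(121,false)],[(6,false),(4,false),(1,false),(2,true),(5,false),(4,false),(5,false),(4,false),(6,false),(2,true)]⟩]))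
 (.one .base))
 (.fork (.one (.path 0 [⟨2476,[(110,false),(109,false)],[(0,false),(2,false),(4,false),(1,false),(5,false),(4,false),(5,false),(2,false),(6,false),(4,false)]⟩,⟨1317,[],[(3,false),(6,false),(4,false),(1,false),(4,false),(5,false),(4,false),(2,true),(5,false),(2,false)]⟩]))
 (.one .base))))
 (.fork (.fork (.fork (.one (.path 4 [⟨345,[(132,false)],[(1,false),(4,false),(1,false),(5,false),(4,false),(5,false),(6,false),(4,false)]⟩,⟨269,[(114,true),(163,true),(114,false),(113,false)],[(0,false),(5,false),(2,false),(4,false),(1,false),(6,false),(4,false),(5,false)]⟩,⟨493,[(172,false),(158,false)],[(3,false),(6,false),(4,false),(5,false),(4,false),(1,false),(4,false),(6,false)]⟩]))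
 (.one .base))
 (.fork (.one (.path 0 [⟨534,[],[(5,false),(2,false),(6,false),(4,false),(5,false),(4,false),(2,true),(5,false),(4,false)]⟩,⟨1682,[],[(4,false),(1,false),(2,true),(5,false),(4,false),(5,false),(6,false),(4,false),(1,false)]⟩]))
 (.one .base)))
 (.fork (.fork (.one (.path 0 [⟨126,[(191,false),(64,false),(191,true),(63,false)],[(0,false),(1,false),(2,false),(4,false),(5,false),(2,false),(4,false),(5,false),(2,false),(6,false)]⟩,⟨1147,[(110,false)],[(6,false),(2,true),(5,false),(4,false),(5,false),(2,false),(4,false),(1,false),(6,false)]⟩]))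
 (.one .base))
 (.fork (.one (.path 1 [⟨2355,[],[(3,false),(5,false),(4,false),(1,false),(6,false)]⟩,⟨2482,[],[(3,false),(4,false),(2,true),(5,false),(4,false),(5,false),(2,false),(5,false)]⟩]))
 (.one .base)))))
 (.fork (.fork (.fork (.fork (.one (.path 3 [⟨305,[(172,false)],[(5,false),(4,false),(3,false),(6,false),(4,false),(1,false),(5,false),(4,false),(5,false)]⟩,⟨160,[(204,false)],[(1,false),(2,false),(3,false),(4,false),(5,false),(2,false),(4,false)]⟩,⟨247,[(57,false),(56,false)],[(3,false),(4,false),(1,false),(4,false),(2,true)]⟩]))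
 (.one .base))
 (.fork (.one (.path 13 [⟨756,[(110,false),(109,false)],[(0,false),(2,false),(6,false),(4,false),(1,false),(4,false)]⟩,⟨672,[(114,true),(163,true),(114,true),(113,false)],[(0,false),(1,false),(4,false),(5,false),(4,false),(6,false),(4,false),(5,false),(4,false),(5,false)]⟩,⟨967,[(121,false),(132,false),(121,false),(132,false)],[(2,false),(4,false),(5,false),(2,false),(6,false),(4,false),(5,false),(4,false),(1,false)]⟩]))
 (.one .base)))
 (.fork (.fork (.one (.path 5 [⟨745,[(114,false),(113,false)],[(3,false),(4,false),(1,false),(6,false)]⟩,⟨1048,[(110,true)],[(1,false),(3,false),(6,false),(4,false),(1,false),(5,false),(4,false),(2,true)]⟩,⟨1217,[(114,true),(163,true),(114,true)],[(0,false),(4,false),(5,false),(2,false),(4,false),(5,false),(2,false),(4,false),(1,false)]⟩]))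
 (.one .base))
 (.fork (.one (.path 1 [⟨2432,[(110,false)],[(2,false),(5,false),(6,false),(4,false),(2,true),(5,false),(2,false),(4,false),(6,false)]⟩,⟨2290,[(110,true),(109,false)],[(1,false),(2,false),(4,false),(1,false),(5,false),(6,false)]⟩]))
 (.one .base))))
 (.fork (.fork (.fork (.one (.path 7 [⟨221,[(121,false),(137,true)],[(2,false),(3,false),(4,false),(5,false),(6,false),(4,false),(1,false),(4,false),(6,false)]⟩,⟨320,[(114,false),(163,true)],[(3,false),(2,true),(5,false),(4,false),(1,false),(4,false),(2,true),(5,false),(2,false)]⟩,⟨709,[(204,false),(172,false),(158,false),(204,false),(158,false)],[(1,false),(2,false),(5,false),(4,false),(5,false),(2,false),(4,false),(6,false),(4,false)]⟩]))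
 (.one .base))
 (.fork (.one (.path 0 [⟨2712,[],[(3,false),(5,false),(4,false),(5,false),(4,false),(2,true),(5,false),(4,false),(1,false),(6,false)]⟩,⟨2353,[],[(1,false),(5,false),(4,false),(1,false),(2,true),(5,false),(4,false),(5,false),(2,false),(6,false)]⟩]))
 (.one .base)))
 (.fork (.fork (.one (.path 1 [⟨289,[],[(1,false),(3,false),(2,true)]⟩,⟨995,[(204,true),(172,false),(158,false),(204,false),(158,false)],[(0,false),(1,false),(4,false),(6,false),(4,false),(5,false),(2,false),(5,false),(4,false),(1,false)]⟩]))
 (.one .base))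
 (.fork (.one (.path 7 [⟨123,[(110,true)],[(2,false),(3,false),(4,false),(6,false),(4,false),(5,false),(2,false),(4,false)]⟩,⟨331,[(58,false),(56,false),(54,false)],[(2,false),(5,false),(2,false),(6,false),(4,false),(5,false),(4,false),(6,false)]⟩,⟨3899,[(132,false),(121,false),(132,false),(121,false)],[(2,false),(4,false),(5,false),(4,false),(1,false),(4,false),(5,false)]⟩]))
 (.one .base))))))
 (.fork (.fork (.fork (.fork (.fork (.one (.path 10 [⟨218,[(114,false)],[(2,true),(5,false),(4,false),(1,false),(4,false),(1,false),(5,false),(6,false)]⟩,⟨120,[(137,true),(132,false)],[(1,false),(4,false),(5,false),(6,false),(4,false),(2,true),(5,false),(4,false),(1,false),(2,true)]⟩,⟨156,[(28,false),(21,false),(20,false),(49,true)],[(4,false),(1,false),(5,false),(4,false),(6,false),(4,false),(5,false),(2,false)]⟩]))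
 (.one (.path 1 [⟨1308,[(110,true)],[(2,false),(4,false),(6,false),(4,false),(5,false),(4,false),(5,false),(2,false)]⟩,⟨4319,[],[(1,false),(4,false),(1,false),(5,false),(6,false),(4,false),(5,false),(4,false),(1,false),(2,true)]⟩])))
 (.fork (.one (.path 10 [⟨1705,[(110,false)],[(6,false),(4,false),(2,true),(5,false),(4,false),(1,false),(4,false),(6,false)]⟩,⟨1319,[(110,false)],[(5,false),(2,false),(5,false),(4,false),(3,false),(5,false),(6,false),(4,false),(1,false)]⟩,⟨2134,[(110,true)],[(2,false),(4,false),(6,false),(4,false),(5,false),(2,true),(5,false),(4,false),(5,false),(4,false)]⟩]))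
 (.one .base)))
 (.fork (.fork (.one (.path 10 [⟨382,[(121,true),(137,true),(132,true),(121,false)],[(6,false),(2,true),(5,false),(4,false),(1,false),(4,false),(6,false),(2,true),(5,false)]⟩,⟨1233,[],[(4,false),(1,false),(4,false),(5,false),(2,false),(4,false),(5,false),(4,false),(2,true)]⟩,⟨923,[(110,true)],[(4,false),(1,false),(6,false),(4,false),(5,false),(2,false),(4,false),(1,false),(6,false)]⟩]))
 (.one .base))
 (.fork (.one (.path 0 [⟨2040,[(110,true),(109,false)],[(5,false)]⟩,⟨2543,[],[(0,false),(1,false)]⟩]))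
 (.one .base))))
 (.fork (.fork (.fork (.one (.path 6 [⟨374,[],[(0,false),(5,false),(2,false),(6,false),(4,false),(5,false),(4,false),(1,false),(5,false),(6,false),(2,true)]⟩,⟨470,[(114,true),(163,true),(114,true)],[(0,false),(5,false),(4,false),(6,false),(2,true),(5,false),(4,false),(1,false),(5,false)]⟩,⟨446,[(114,false),(163,true),(114,false)],[(1,false),(2,false),(6,false),(4,false),(5,false),(4,false),(2,true),(5,false),(4,false)]⟩]))
 (.one .base))
 (.fork (.one (.path 13 [⟨1066,[(109,false)],[(4,false),(1,false),(3,false),(5,false),(6,false),(4,false),(2,true),(5,false),(2,true)]⟩,⟨1563,[(114,false),(163,false),(114,true),(113,false)],[(4,false),(3,false),(6,false),(2,true),(5,false),(2,false),(4,false),(5,false),(4,false),(1,false)]⟩,⟨2653,[],[(1,false),(6,false),(4,false),(1,false),(3,false),(2,true),(5,false)]⟩]))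
 (.one .base)))
 (.fork (.fork (.one (.path 0 [⟨1102,[(114,true),(113,false)],[(0,false),(1,false),(4,false),(2,true),(5,false),(4,false),(6,false),(2,true)]⟩,⟨1301,[],[(1,false),(3,false),(5,false),(2,false),(4,false),(5,false),(6,false),(4,false),(1,false),(4,false)]⟩]))
 (.one .base))
 (.fork (.one (.path 1 [⟨1968,[],[(1,false),(3,false),(2,true),(5,false),(4,false),(5,false),(2,true)]⟩,⟨1656,[(109,false)],[(5,false),(6,false),(4,false),(1,false),(3,false),(2,true),(5,false),(4,false),(5,false),(6,false)]⟩]))
 (.one .base)))))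
 (.fork (.fork (.fork (.fork (.one (.path 4 [⟨148,[(121,true),(137,false)],[(1,false),(4,false),(1,false),(5,false),(4,false),(5,false),(6,false),(4,false),(2,true)]⟩,⟨274,[(163,true),(114,false)],[(4,false),(1,false),(5,false),(4,false),(6,false),(4,false),(2,true),(5,false),(2,true)]⟩,⟨395,[(137,false),(121,true),(137,true),(132,true)],[(1,false),(5,false),(4,false),(3,false),(5,false),(6,false),(2,true)]⟩]))
 (.one .base))
 (.fork (.one (.path 1 [⟨2498,[(110,true),(109,false)],[(5,false),(2,false),(4,false),(1,false),(4,false),(1,false),(5,false),(2,true)]⟩,⟨1152,[(109,false)],[(5,false),(4,false),(2,true),(5,false),(4,false),(1,false),(6,false),(4,false),(2,true)]⟩]))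
 (.one .base)))
 (.fork (.fork (.one (.path 3 [⟨720,[],[(1,false),(4,false),(5,false),(4,false),(1,false),(5,false)]⟩,⟨1463,[(57,false),(100,false),(56,false)],[(0,false),(5,false),(2,false),(4,false),(5,false),(2,false),(4,false),(5,false)]⟩,⟨1325,[],[(3,false),(4,false),(1,false),(5,false),(2,false),(4,false),(6,false),(4,false),(5,false)]⟩]))
 (.one .base))
 (.fork (.one (.path 0 [⟨3353,[],[(0,false),(1,false),(6,false),(2,true)]⟩,⟨2511,[(109,false)],[(3,false),(5,false),(2,true),(5,false),(4,false),(5,false),(2,false),(6,false)]⟩]))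
 (.one .base))))
 (.fork (.fork (.fork (.one (.path 5 [⟨633,[],[(0,false),(1,false),(3,false),(6,false),(2,true),(5,false)]⟩,⟨623,[(158,false),(204,true),(172,false),(158,false)],[(0,false),(6,false),(4,false),(5,false),(2,false),(4,false),(5,false),(4,false),(2,true),(5,false),(2,false)]⟩,⟨699,[(158,false),(172,false),(158,false),(204,false)],[(4,false),(1,false),(4,false),(5,false),(4,false),(1,false),(4,false),(2,true),(5,false)]⟩]))
 (.one .base))
 (.fork (.one (.path 1 [⟨2575,[],[(2,false)]⟩,⟨1668,[],[(0,false),(2,false),(5,false),(6,false),(4,false),(5,false),(2,false),(4,false),(1,false)]⟩]))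
 (.one .base)))
 (.fork (.fork (.one (.path 4 [⟨1328,[(109,false)],[(3,false),(4,false),(2,true),(5,false),(2,false),(4,false),(5,false),(6,false),(4,false),(5,false)]⟩,⟨326,[(110,true),(109,false)],[(2,false),(4,false),(3,false),(5,false),(4,false),(6,false),(4,false),(5,false),(2,false)]⟩,⟨1901,[(57,false),(100,true),(83,false),(54,false)],[(4,false),(3,false),(6,false),(2,true),(5,false),(4,false),(1,false),(6,false),(4,false)]⟩]))
 (.one .base))
 (.fork (.one (.path 0 [⟨4049,[(3911,true),(3911,true)],[(6,false),(4,false),(3,false),(5,false),(2,false),(4,false),(1,false),(4,false)]⟩,⟨3747,[(110,true)],[(1,false),(5,false),(4,false),(1,false),(3,false),(6,false),(4,false),(2,true)]⟩]))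
 (.one .base)))))))

/-- a part of the justifications -/
noncomputable def twJustT101 : BT Just := (.fork (.fork (.fork (.fork (.fork (.fork (.one (.rev 18))
 (.one (.path 2 [⟨3980,[(3912,false),(3911,true),(3911,true),(3912,true),(3911,false)],[(0,false),(4,false),(1,false),(4,false),(6,false),(4,false),(1,false),(4,false),(5,false),(2,false),(5,false),(6,false)]⟩,⟨1112,[],[(0,false),(2,true),(5,false),(4,false),(1,false),(4,false),(6,false),(2,true),(5,false),(2,false)]⟩,⟨1001,[(204,false),(158,false),(204,true),(172,false)],[(4,false),(5,false),(4,false),(1,false),(5,false),(6,false),(4,false),(1,false),(5,false)]⟩])))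
 (.fork (.one (.path 0 [⟨1054,[(110,true),(109,false)],[(0,false),(4,false),(6,false),(4,false),(1,false),(5,false),(4,false),(1,false),(4,false),(6,false)]⟩,⟨1741,[],[(2,false),(5,false),(2,false),(4,false),(1,false),(4,false),(5,false),(4,false)]⟩]))
 (.one .base)))
 (.fork (.fork (.one (.path 0 [⟨315,[],[(5,false),(2,false)]⟩,⟨416,[],[(1,false),(4,false),(5,false),(2,false),(4,false),(1,false),(5,false),(4,false),(6,false),(2,true),(5,false)]⟩]))
 (.one .base))
 (.fork (.one (.path 5 [⟨2148,[(110,false),(109,false)],[(1,false),(4,false),(3,false),(5,false),(6,false),(4,false),(2,true),(5,false),(2,false)]⟩,⟨2222,[(109,false)],[(1,false),(3,false),(5,false),(4,false),(6,false),(4,false),(1,false)]⟩,⟨2302,[(110,false)],[(5,false),(4,false),(1,false),(3,false),(4,false),(2,true),(5,false)]⟩]))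
 (.one .base))))
 (.fork (.fork (.fork (.one (.path 3 [⟨125,[(114,true)],[(3,false),(6,false),(4,false)]⟩,⟨333,[],[(3,false),(5,false),(6,false),(4,false),(1,false),(4,false),(6,false),(2,true)]⟩,⟨519,[(163,true),(114,false),(163,false)],[(0,false),(1,false),(4,false),(5,false),(2,false),(5,false),(6,false),(4,false),(5,false),(4,false)]⟩]))
 (.one .base))
 (.fork (.one (.path 2 [⟨682,[(110,false)],[(0,false),(6,false),(4,false),(1,false),(5,false),(2,false),(4,false),(1,false),(5,false)]⟩,⟨342,[(204,true),(158,false),(172,false)],[(0,false),(2,false),(5,false),(6,false),(4,false),(1,false),(5,false),(2,false),(4,false),(6,false)]⟩,⟨1217,[(114,false),(163,false),(114,true),(113,false)],[(5,false),(2,false),(6,false),(4,false),(5,false),(2,false),(4,false),(5,false),(2,true),(5,false)]⟩]))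
 (.one .base)))
 (.fork (.fork (.one (.path 1 [⟨678,[],[(2,false),(3,false),(5,false),(2,false),(4,false),(5,false),(2,false),(4,false),(5,false)]⟩,⟨1443,[],[(2,true),(5,false),(2,false),(4,false),(5,false),(4,false),(1,false)]⟩]))
 (.one .base))
 (.fork (.one (.path 0 [⟨2940,[(110,false)],[(5,false),(4,false),(1,false),(2,true),(5,false),(4,false),(5,false),(2,false),(6,false)]⟩,⟨2423,[],[(3,false),(4,false),(5,false),(4,false),(5,false),(6,false),(2,true),(5,false)]⟩]))
 (.one .base)))))
 (.fork (.fork (.fork (.fork (.one (.path 7 [⟨216,[(204,true),(172,false),(158,false),(172,false),(158,false)],[(0,false),(2,false),(5,false),(6,false),(4,false),(1,false),(5,false),(4,false),(5,false),(6,false)]⟩,⟨112,[],[(0,false),(1,false),(4,false),(1,false),(6,false),(4,false),(1,false),(5,false),(4,false),(2,true)]⟩,⟨107,[(15,false),(13,false),(11,true),(14,false),(10,false),(13,false),(11,false),(10,false)],[(1,false),(4,false),(1,false),(3,false),(4,false),(6,false),(4,false),(5,false),(2,true)]⟩]))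
 (.one .base))
 (.fork (.one (.path 2 [⟨1511,[(110,false)],[(1,false),(2,false),(3,false),(5,false),(4,false),(1,false),(5,false),(2,false),(4,false),(6,false)]⟩,⟨2177,[(110,true)],[(0,false),(1,false),(6,false),(4,false),(1,false),(5,false),(2,false),(4,false),(1,false),(5,false),(6,false)]⟩,⟨1692,[],[(1,false),(5,false),(2,false),(4,false),(1,false),(5,false),(6,false),(2,true)]⟩]))
 (.one .base)))
 (.fork (.fork (.one (.path 7 [⟨899,[(158,false),(204,false),(172,false)],[(0,false),(6,false),(4,false),(1,false),(5,false),(4,false),(1,false),(6,false),(4,false),(2,true)]⟩,⟨886,[(110,false),(109,false)],[(3,false),(4,false),(1,false),(5,false),(4,false),(5,false),(2,false),(5,false),(4,false),(5,false)]⟩,⟨1261,[],[(0,false),(2,true),(5,false),(4,false),(2,true),(5,false),(2,false)]⟩]))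
 (.one .base))
 (.fork (.one (.path 4 [⟨1144,[(110,true)],[(3,false),(4,false),(1,false),(4,false),(5,false),(4,false),(6,false),(4,false),(1,false),(2,true)]⟩,⟨307,[(64,true),(63,false)],[(1,false),(2,false),(3,false),(4,false),(1,false),(4,false),(5,false),(4,false),(6,false)]⟩,⟨2959,[(110,false),(109,false)],[(0,false),(6,false),(2,true),(5,false),(4,false),(1,false),(6,false),(4,false),(1,false)]⟩]))
 (.one .base))))
 (.fork (.fork (.fork (.one (.path 0 [⟨328,[(158,false),(204,true),(158,false),(172,false)],[(2,false),(5,false),(4,false),(5,false),(6,false),(4,false),(5,false),(4,false),(6,false)]⟩,⟨719,[],[(1,false),(3,false),(5,false),(4,false),(1,false),(4,false),(6,false),(4,false),(1,false),(5,false)]⟩]))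
 (.one .base))
 (.fork (.one (.path 1 [⟨1378,[(109,false)],[(1,false),(3,false),(4,false),(1,false),(4,false),(5,false),(2,false),(6,false),(4,false)]⟩,⟨929,[],[(0,false),(4,false),(1,false),(2,true),(5,false),(4,false),(1,false),(6,false),(4,false),(1,false),(5,false)]⟩]))
 (.one .base)))
 (.fork (.fork (.one (.path 3 [⟨1485,[],[(0,false),(3,false),(6,false),(2,true),(5,false),(2,true)]⟩,⟨798,[(109,false)],[(4,false),(3,false),(6,false),(2,true),(5,false),(4,false),(2,true),(5,false)]⟩,⟨791,[(158,false),(204,true),(158,false),(172,false),(158,false)],[(1,false),(2,false),(4,false),(5,false),(2,false),(4,false),(5,false),(2,false),(4,false)]⟩]))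
 (.one .base))
 (.fork (.one (.path 1 [⟨1657,[],[(2,false),(3,false)]⟩,⟨3857,[(110,true)],[(5,false),(4,false),(1,false),(4,false),(5,false),(2,false),(4,false),(5,false),(4,false),(1,false)]⟩]))
 (.one .base))))))
 (.fork (.fork (.fork (.fork (.fork (.one (.rev 146))
 (.one (.path 0 [⟨2124,[],[(4,false),(2,true),(5,false),(2,false),(4,false),(5,false),(2,false),(4,false),(1,false),(4,false),(5,false)]⟩,⟨4011,[],[(1,false),(6,false),(4,false),(5,false),(2,false),(5,false),(4,false),(1,false),(5,false),(6,false)]⟩])))
 (.fork (.one (.path 1 [⟨2181,[],[(1,false),(3,false),(4,false),(1,false),(5,false),(2,true)]⟩,⟨2095,[(109,false)],[(4,false),(3,false),(2,true),(5,false),(4,false),(1,false),(4,false),(2,true),(5,false),(4,false)]⟩]))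
 (.one .base)))
 (.fork (.fork (.one (.path 1 [⟨1128,[(110,false)],[(1,false),(5,false),(4,false),(5,false),(6,false),(4,false),(1,false),(5,false),(2,false)]⟩,⟨985,[],[(5,false),(2,true),(5,false),(4,false),(1,false),(6,false),(4,false),(1,false),(4,false),(6,false)]⟩]))
 (.one .base))
 (.fork (.one (.path 2 [⟨2057,[],[(4,false),(1,false),(3,false),(4,false)]⟩,⟨2126,[(110,true)],[(4,false),(1,false),(4,false),(5,false),(4,false),(1,false),(6,false),(4,false),(5,false),(2,true)]⟩,⟨2261,[(110,false)],[(3,false),(6,false),(4,false),(5,false),(2,false),(5,false),(4,false),(5,false),(2,true)]⟩]))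
 (.one .base))))
 (.fork (.fork (.fork (.one (.path 1 [⟨253,[],[(1,false),(2,false),(4,false),(1,false),(4,false)]⟩,⟨526,[(137,true),(132,false)],[(0,false),(5,false),(6,false),(4,false),(1,false),(2,true),(5,false),(4,false),(1,false),(6,false)]⟩]))
 (.one .base))
 (.fork (.one (.path 1 [⟨1718,[(110,false)],[(0,false),(4,false),(5,false),(4,false),(2,true),(5,false),(2,false),(4,false),(5,false),(4,false)]⟩,⟨1365,[],[(1,false),(2,false),(4,false),(6,false),(4,false),(1,false),(5,false),(4,false),(1,false),(5,false),(6,false),(4,false)]⟩]))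
 (.one .base)))
 (.fork (.fork (.one (.path 2 [⟨1260,[(110,false),(109,false)],[(4,false),(5,false),(6,false),(4,false),(1,false),(4,false),(2,true)]⟩,⟨663,[(121,true),(132,false),(121,false)],[(2,false),(4,false),(5,false),(2,false),(4,false),(5,false),(4,false),(1,false),(2,true)]⟩,⟨814,[],[(0,false),(5,false),(4,false),(6,false),(4,false),(1,false),(5,false),(4,false),(5,false),(6,false)]⟩]))
 (.one .base))
 (.fork (.one (.path 0 [⟨1294,[(110,true)],[(0,false),(1,false),(4,false),(6,false),(4,false),(2,true),(5,false),(4,false),(6,false),(2,true)]⟩,⟨627,[],[(0,false),(1,false),(2,false),(5,false),(4,false),(6,false),(4,false),(1,false),(5,false),(4,false),(6,false),(2,true)]⟩]))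
 (.one .base)))))
 (.fork (.fork (.fork (.fork (.one (.path 4 [⟨257,[(204,true),(158,false)],[(1,false),(2,false),(4,false),(1,false),(4,false),(5,false),(4,false),(6,false),(4,false)]⟩,⟨324,[],[(1,false),(6,false),(2,true),(5,false),(2,false),(4,false),(5,false),(4,false),(6,false),(2,true),(5,false)]⟩,⟨355,[],[(4,false),(1,false),(4,false),(1,false),(6,false),(4,false),(1,false),(4,false),(5,false),(2,false),(6,false)]⟩]))
 (.one .base))
 (.fork (.one (.path 3 [⟨1333,[],[(0,false),(1,false),(2,false),(3,false),(5,false),(2,true)]⟩,⟨2269,[(110,false),(109,false)],[(4,false),(1,false),(3,false),(4,false),(6,false),(2,true),(5,false),(2,false),(4,false),(6,false)]⟩,⟨2106,[],[(1,false),(3,false),(4,false),(1,false),(4,false),(5,false),(4,false),(1,false),(6,false)]⟩]))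
 (.one .base)))
 (.fork (.fork (.one (.path 7 [⟨343,[(132,false),(121,false),(137,false)],[(3,false),(4,false),(2,true),(5,false),(2,false),(4,false),(1,false),(6,false)]⟩,⟨554,[(114,false),(163,false),(114,true)],[(1,false),(3,false),(5,false),(4,false),(6,false),(4,false),(2,true),(5,false),(4,false),(6,false)]⟩,⟨703,[],[(1,false),(5,false),(4,false),(6,false),(2,true),(5,false),(4,false),(5,false),(4,false),(6,false)]⟩]))
 (.one .base))
 (.fork (.one (.path 0 [⟨2935,[],[(0,false),(6,false)]⟩,⟨2509,[(110,false)],[(1,false),(2,false),(3,false),(5,false),(4,false),(5,false),(2,false),(5,false),(4,false),(5,false)]⟩]))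
 (.one .base))))
 (.fork (.fork (.fork (.one (.path 8 [⟨686,[(109,false)],[(0,false),(5,false),(4,false),(6,false),(4,false),(5,false),(2,false),(4,false),(1,false),(5,false),(6,false)]⟩,⟨493,[(204,false),(158,false),(172,false)],[(1,false),(4,false),(1,false),(3,false),(4,false),(5,false),(6,false),(4,false),(1,false),(2,true)]⟩,⟨792,[],[(0,false),(6,false),(2,true),(5,false),(4,false),(2,true),(5,false),(4,false)]⟩]))
 (.one .base))
 (.fork (.one (.path 0 [⟨1308,[(110,true)],[(2,false),(4,false),(3,false),(5,false),(6,false),(4,false),(5,false),(2,true)]⟩,⟨226,[(83,false),(100,false),(55,false)],[(1,false),(3,false),(4,false),(2,true),(5,false),(4,false),(1,false),(5,false),(2,false),(4,false)]⟩]))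
 (.one .base)))
 (.fork (.fork (.one (.path 4 [⟨1112,[(110,true),(109,false)],[(0,false),(4,false),(5,false),(2,false),(4,false),(6,false),(4,false),(5,false),(4,false),(2,true)]⟩,⟨703,[(204,false),(172,false),(158,false),(172,false),(158,false)],[(0,false),(5,false),(2,false),(6,false),(4,false),(1,false),(5,false),(4,false),(2,true),(5,false),(4,false)]⟩,⟨1499,[(110,false)],[(0,false),(2,false),(4,false),(5,false),(2,false),(4,false),(1,false),(5,false),(6,false),(4,false)]⟩]))
 (.one .base))
 (.fork (.one (.path 7 [⟨490,[(109,false)],[(5,false),(4,false),(1,false),(5,false),(2,false),(4,false),(1,false),(6,false),(4,false),(5,false)]⟩,⟨1257,[(121,true),(121,true)],[(0,false),(5,false),(6,false),(4,false),(2,true),(5,false),(4,false),(5,false)]⟩,⟨3919,[(110,false)],[(1,false),(3,false),(6,false),(2,true),(5,false),(2,false),(4,false),(5,false),(6,false),(2,true)]⟩]))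
 (.one .base)))))))

/-- a part of the justifications -/
noncomputable def twJustT102 : BT Just := (.fork (.fork (.fork (.fork (.fork (.fork (.one (.lift 3 [0,3,2,1,0,3,2,1,3] ⟨77,[],[]⟩ ⟨78,[],[(0,false),(4,false),(5,false),(2,false),(4,false),(1,false),(6,false),(4,false),(5,false),(2,false)]⟩))
 (.one (.path 1 [⟨3499,[],[(2,false),(4,false),(3,false),(6,false),(4,false),(1,false),(5,false),(2,true)]⟩,⟨4169,[(110,false)],[(4,false),(1,false),(6,false),(4,false),(1,false),(4,false),(5,false),(6,false)]⟩])))
 (.fork (.one (.path 13 [⟨1718,[(109,false)],[(1,false),(3,false),(4,false),(5,false),(6,false),(4,false),(5,false),(2,true),(5,false)]⟩,⟨589,[(114,false),(113,false)],[(0,false),(5,false),(4,false),(5,false),(2,false)]⟩,⟨1281,[(204,true),(172,false),(158,false)],[(3,false),(4,false),(5,false),(2,false),(6,false),(4,false),(1,false),(4,false),(5,false),(2,true)]⟩]))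
 (.one .base)))
 (.fork (.fork (.one (.path 0 [⟨1101,[],[(5,false),(2,false),(4,false)]⟩,⟨655,[(114,true),(113,false)],[(2,false),(3,false),(4,false),(5,false),(2,false),(4,false),(6,false),(4,false),(5,false)]⟩]))
 (.one .base))
 (.fork (.one (.path 0 [⟨3006,[(110,false)],[(1,false),(2,false),(6,false),(4,false),(1,false),(3,false),(5,false),(2,true)]⟩,⟨3145,[],[(1,false),(3,false),(4,false),(1,false),(5,false),(4,false),(5,false),(4,false),(2,true),(5,false)]⟩]))
 (.one .base))))
 (.fork (.fork (.fork (.one (.path 4 [⟨436,[(163,false)],[(3,false),(4,false),(6,false),(4,false),(2,true),(5,false),(2,false),(4,false),(5,false),(6,false)]⟩,⟨537,[(121,false),(132,false),(121,false)],[(0,false),(2,false),(5,false),(6,false),(4,false),(2,true),(5,false),(4,false),(5,false),(2,false),(6,false)]⟩,⟨401,[],[(0,false),(4,false),(5,false),(6,false),(2,true),(5,false),(4,false),(1,false),(5,false),(6,false)]⟩]))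
 (.one .base))
 (.fork (.one (.path 0 [⟨1466,[],[(1,false),(3,false),(5,false),(2,false),(4,false),(1,false),(6,false),(4,false),(1,false),(5,false)]⟩,⟨1013,[],[(1,false),(5,false),(2,false),(4,false),(3,false),(6,false),(4,false),(1,false),(5,false)]⟩]))
 (.one .base)))
 (.fork (.fork (.one (.path 5 [⟨547,[],[(4,false),(3,false),(5,false),(2,true)]⟩,⟨888,[(163,false),(114,true),(163,true)],[(1,false),(4,false),(3,false),(6,false),(4,false),(2,true),(5,false),(4,false),(1,false),(6,false)]⟩,⟨701,[],[(1,false),(5,false),(2,false),(6,false),(4,false),(3,false),(5,false),(2,false),(4,false),(5,false),(6,false)]⟩]))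
 (.one .base))
 (.fork (.one (.path 0 [⟨3144,[(109,false)],[(2,false),(3,false),(4,false),(6,false),(4,false),(1,false),(5,false),(2,true)]⟩,⟨1528,[(110,true)],[(3,false),(4,false),(5,false),(4,false),(1,false),(2,true),(5,false),(4,false),(1,false),(4,false)]⟩]))
 (.one .base)))))
 (.fork (.fork (.fork (.fork (.one (.path 13 [⟨112,[],[(2,false),(3,false),(5,false),(4,false),(2,true),(5,false),(2,false),(4,false),(1,false)]⟩,⟨61,[(14,false)],[(1,false),(4,false),(3,false),(2,true),(5,false),(2,false)]⟩,⟨307,[(63,true)],[(0,false),(6,false),(4,false),(5,false),(4,false),(6,false),(2,true),(5,false),(4,false),(5,false)]⟩]))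
 (.one .base))
 (.fork (.one (.path 7 [⟨1811,[(109,false)],[(5,false),(2,false),(4,false)]⟩,⟨1544,[],[(3,false),(5,false),(4,false),(6,false),(4,false),(2,true),(5,false),(4,false),(2,true),(5,false)]⟩,⟨593,[(114,true),(163,false),(114,true)],[(2,false),(4,false),(1,false),(4,false),(5,false),(4,false),(6,false),(4,false),(1,false),(4,false)]⟩]))
 (.one .base)))
 (.fork (.fork (.one (.path 4 [⟨949,[(114,false),(163,false),(113,false)],[(5,false),(6,false),(4,false),(5,false),(2,false),(5,false),(4,false)]⟩,⟨1266,[(110,false),(109,false)],[(1,false),(2,false),(6,false),(4,false),(5,false),(4,false),(1,false),(2,true),(5,false),(4,false)]⟩,⟨1011,[(204,true),(172,false),(158,false),(172,false)],[(2,false),(6,false),(4,false),(1,false),(4,false),(1,false),(6,false),(4,false),(1,false),(5,false)]⟩]))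
 (.one .base))
 (.fork (.one (.path 1 [⟨2431,[],[(2,false)]⟩,⟨2908,[],[(1,false),(4,false),(1,false),(4,false),(5,false),(4,false),(6,false),(4,false),(2,true),(5,false),(2,true)]⟩]))
 (.one .base))))
 (.fork (.fork (.fork (.one (.path 0 [⟨458,[(114,true),(163,true)],[(3,false),(6,false),(4,false),(1,false),(4,false),(5,false),(6,false),(4,false)]⟩,⟨819,[],[(4,false),(5,false),(4,false),(1,false),(4,false),(5,false)]⟩]))
 (.one .base))
 (.fork (.one (.path 0 [⟨2724,[(109,false)],[(1,false),(4,false),(5,false),(6,false),(2,true),(5,false),(4,false),(5,false),(4,false)]⟩,⟨1510,[(109,false)],[(3,false),(4,false),(6,false),(2,true),(5,false),(4,false),(1,false),(4,false)]⟩]))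
 (.one .base)))
 (.fork (.fork (.one (.path 0 [⟨906,[],[(0,false),(4,false),(6,false),(4,false),(1,false),(4,false),(2,true),(5,false),(4,false),(5,false)]⟩,⟨507,[],[(0,false),(5,false),(6,false),(4,false),(1,false),(4,false),(2,true),(5,false),(4,false),(2,true)]⟩]))
 (.one .base))
 (.fork (.one (.path 0 [⟨1020,[(110,false)],[(1,false),(4,false),(5,false),(2,false),(6,false),(4,false),(1,false),(4,false),(5,false),(2,false),(6,false)]⟩,⟨3919,[],[(5,false),(6,false),(4,false),(1,false),(5,false),(4,false),(1,false),(6,false),(4,false),(5,false)]⟩]))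
 (.one .base))))))
 (.fork (.fork (.fork (.fork (.fork (.one (.path 1 [⟨195,[],[(1,false),(2,false),(6,false),(4,false),(5,false),(4,false),(1,false),(5,false),(6,false),(4,false)]⟩,⟨122,[],[(4,false),(1,false),(4,false),(5,false),(4,false),(2,true),(5,false),(4,false),(1,false),(4,false)]⟩]))
 (.one (.path 0 [⟨4206,[(3911,false),(3911,false),(3911,false)],[(0,false),(2,true),(5,false),(4,false),(1,false),(6,false),(2,true),(5,false),(4,false),(5,false)]⟩,⟨2837,[],[(2,false),(5,false),(4,false),(1,false),(3,false),(5,false),(6,false),(4,false),(1,false)]⟩])))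
 (.fork (.one (.path 0 [⟨1987,[],[(1,false),(4,false),(2,true)]⟩,⟨2116,[],[(2,false),(4,false),(3,false),(5,false),(6,false),(4,false),(2,true),(5,false),(4,false),(1,false)]⟩]))
 (.one .base)))
 (.fork (.fork (.one (.path 1 [⟨151,[(114,true),(113,false)],[(2,false),(6,false),(4,false),(5,false),(4,false),(1,false),(5,false),(6,false),(4,false),(2,true)]⟩,⟨673,[],[(6,false),(4,false),(5,false),(4,false),(5,false),(2,false),(6,false),(4,false),(1,false),(5,false)]⟩]))
 (.one .base))
 (.fork (.one (.path 0 [⟨1196,[(110,false)],[(0,false),(4,false),(1,false),(4,false),(5,false),(2,false),(5,false),(6,false)]⟩,⟨1397,[],[(0,false),(4,false),(2,true),(5,false),(4,false),(6,false),(2,true),(5,false),(2,false)]⟩]))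
 (.one .base))))
 (.fork (.fork (.fork (.one (.path 6 [⟨327,[],[(6,false)]⟩,⟨280,[],[(5,false),(4,false),(1,false),(6,false),(4,false),(1,false),(4,false),(5,false),(4,false)]⟩,⟨281,[(72,false),(64,true),(191,false)],[(1,false),(4,false),(1,false),(5,false),(4,false),(6,false),(4,false),(1,false),(2,true)]⟩]))
 (.one .base))
 (.fork (.one (.path 0 [⟨1683,[],[(5,false)]⟩,⟨407,[(58,false),(100,false)],[(2,true),(5,false),(4,false),(5,false),(2,false),(5,false)]⟩]))
 (.one .base)))
 (.fork (.fork (.one (.path 4 [⟨1102,[(114,true),(113,false)],[(1,false),(3,false),(4,false),(2,true),(5,false),(2,false),(4,false),(1,false)]⟩,⟨476,[(158,false),(204,true),(158,false),(204,true)],[(1,false),(3,false),(4,false),(5,false),(4,false),(2,true),(5,false),(2,false),(4,false),(5,false),(2,false)]⟩,⟨1191,[(114,true),(163,true),(114,true)],[(1,false),(4,false),(1,false),(2,true),(5,false),(4,false),(5,false),(4,false),(6,false),(4,false),(1,false)]⟩]))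
 (.one .base))
 (.fork (.one (.path 0 [⟨3534,[(110,true),(109,false)],[(0,false),(4,false),(5,false),(2,false),(4,false),(1,false),(4,false),(5,false),(4,false),(1,false),(2,true)]⟩,⟨2508,[],[(4,false),(1,false),(4,false),(2,true),(5,false),(2,false),(4,false),(1,false),(5,false),(2,true)]⟩]))
 (.one .base)))))
 (.fork (.fork (.fork (.fork (.one (.path 6 [⟨419,[(110,true)],[(6,false),(2,true),(5,false),(2,false),(4,false),(5,false),(2,false),(4,false),(1,false),(6,false)]⟩,⟨230,[],[(1,false),(3,false),(4,false),(5,false),(2,false),(4,false),(5,false),(2,true),(5,false),(4,false),(5,false)]⟩,⟨328,[(158,false),(204,true),(158,false),(204,true),(158,false)],[(1,false),(2,false),(4,false),(1,false),(4,false),(5,false),(4,false),(6,false),(4,false),(1,false),(2,true)]⟩]))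
 (.one .base))
 (.fork (.one (.path 0 [⟨360,[(110,true),(109,false)],[(1,false),(5,false),(4,false),(1,false),(5,false),(6,false),(4,false),(1,false),(2,true)]⟩,⟨1457,[],[(4,false),(2,true),(5,false),(4,false),(5,false),(2,false),(6,false),(4,false)]⟩]))
 (.one .base)))
 (.fork (.fork (.one (.path 10 [⟨1157,[],[(0,false),(5,false),(6,false)]⟩,⟨1372,[(110,false)],[(0,false),(2,false),(5,false),(2,false),(6,false),(4,false),(1,false),(4,false),(5,false),(2,true)]⟩,⟨1037,[(114,false),(113,false)],[(4,false),(1,false),(4,false),(5,false),(2,false),(4,false),(5,false),(4,false)]⟩]))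
 (.one .base))
 (.fork (.one (.path 0 [⟨1568,[(110,false)],[(3,false),(5,false),(2,false),(5,false)]⟩,⟨1777,[],[(1,false),(2,false),(5,false)]⟩]))
 (.one .base))))
 (.fork (.fork (.fork (.one (.path 0 [⟨273,[],[(4,false),(3,false),(5,false)]⟩,⟨582,[(163,false),(114,true),(113,false)],[(1,false),(3,false),(4,false),(1,false),(5,false),(2,false),(4,false),(5,false),(6,false),(2,true)]⟩]))
 (.one .base))
 (.fork (.one (.path 0 [⟨1614,[(110,true),(109,false)],[(0,false),(1,false),(6,false),(2,true),(5,false),(2,false),(4,false),(6,false)]⟩,⟨881,[],[(0,false),(1,false),(2,false),(4,false),(5,false),(6,false),(4,false),(5,false)]⟩]))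
 (.one .base)))
 (.fork (.fork (.one (.path 0 [⟨1750,[(110,false)],[(1,false),(3,false),(5,false),(4,false),(5,false),(2,false),(6,false),(4,false),(5,false)]⟩,⟨1373,[],[(0,false),(1,false),(5,false),(4,false),(6,false),(4,false),(5,false),(4,false),(1,false),(2,true)]⟩]))
 (.one .base))
 (.fork (.one (.path 4 [⟨3928,[(3911,false),(3912,false),(3911,false)],[(3,false),(5,false),(4,false),(1,false),(4,false),(2,true),(5,false),(4,false),(5,false),(2,true),(5,false)]⟩,⟨3242,[(110,true),(109,false)],[(2,false),(6,false),(4,false),(1,false),(5,false),(4,false),(1,false),(2,true),(5,false)]⟩,⟨1321,[],[(0,false),(6,false),(4,false),(1,false),(4,false),(6,false),(2,true),(5,false),(4,false),(2,true)]⟩]))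
 (.one .base)))))))

/-- a part of the justifications -/
noncomputable def twJustT103 : BT Just := (.fork (.fork (.fork (.fork (.fork (.fork (.one (.rev 50))
 (.one (.path 12 [⟨4143,[(3912,true),(3911,true),(3911,true),(3912,true),(3911,false)],[(1,false),(2,false),(4,false),(5,false),(2,false),(6,false),(4,false),(1,false),(4,false)]⟩,⟨4060,[],[(3,false),(4,false),(2,true),(5,false),(2,false),(4,false),(1,false)]⟩,⟨3936,[(3912,false),(3911,true),(3911,true)],[(4,false),(1,false),(4,false),(5,false),(2,false),(6,false),(4,false),(1,false)]⟩])))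
 (.fork (.one (.path 1 [⟨1606,[(110,false)],[(1,false),(5,false),(4,false),(1,false),(5,false),(6,false),(4,false),(5,false)]⟩,⟨969,[],[(1,false),(3,false),(4,false),(6,false),(2,true),(5,false),(4,false),(1,false),(4,false),(2,true)]⟩]))
 (.one .base)))
 (.fork (.fork (.one (.path 0 [⟨485,[],[(3,false),(6,false),(4,false),(2,true)]⟩,⟨1045,[(114,false),(163,false),(114,false)],[(0,false),(4,false),(1,false),(6,false),(2,true),(5,false),(4,false),(1,false),(4,false),(6,false)]⟩]))
 (.one .base))
 (.fork (.one (.path 1 [⟨2424,[(110,true),(109,false)],[(6,false),(2,true),(5,false),(2,false),(4,false),(5,false),(4,false),(1,false),(4,false),(2,true)]⟩,⟨2913,[],[(5,false),(2,false),(5,false),(6,false),(4,false),(5,false),(4,false),(2,true),(5,false),(4,false)]⟩]))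
 (.one .base))))
 (.fork (.fork (.fork (.one (.path 6 [⟨194,[(58,false),(57,false),(55,false)],[(0,false),(4,false),(5,false),(2,true)]⟩,⟨118,[],[(0,false),(4,false),(5,false),(2,false),(4,false),(1,false),(4,false),(5,false),(4,false),(1,false)]⟩,⟨515,[(64,false),(191,true),(63,true)],[(0,false),(4,false),(6,false),(2,true),(5,false),(2,false),(4,false),(5,false),(6,false),(4,false),(2,true)]⟩]))
 (.one .base))
 (.fork (.one (.path 0 [⟨1114,[(110,true)],[(2,false),(3,false),(5,false),(2,false),(4,false),(5,false),(6,false),(4,false),(2,true),(5,false)]⟩,⟨703,[],[(1,false),(4,false),(5,false),(2,false),(4,false),(1,false),(4,false),(1,false),(6,false),(4,false),(5,false)]⟩]))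
 (.one .base)))
 (.fork (.fork (.one (.path 2 [⟨315,[(163,true),(114,true)],[(1,false),(2,false),(4,false),(5,false),(6,false),(4,false),(1,false),(4,false),(1,false),(5,false),(4,false)]⟩,⟨326,[],[(2,false),(4,false),(5,false),(6,false),(4,false),(1,false),(4,false),(5,false),(6,false)]⟩,⟨359,[(100,false),(56,false),(100,false)],[(2,false),(4,false),(5,false),(4,false),(1,false),(4,false),(5,false),(2,false),(4,false)]⟩]))
 (.one .base))
 (.fork (.one (.path 0 [⟨1681,[],[(0,false)]⟩,⟨1361,[],[(0,false),(4,false),(1,false),(5,false),(4,false),(1,false)]⟩]))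
 (.one .base)))))
 (.fork (.fork (.fork (.fork (.one (.path 1 [⟨279,[],[(0,false),(1,false),(2,true)]⟩,⟨277,[(172,false),(158,false),(204,true),(172,false)],[(1,false),(5,false),(4,false),(6,false),(4,false),(2,true),(5,false),(2,false),(4,false),(6,false)]⟩]))
 (.one .base))
 (.fork (.one (.path 1 [⟨996,[(110,true),(109,false)],[(1,false),(4,false),(3,false),(6,false),(4,false),(5,false),(4,false),(1,false)]⟩,⟨1135,[],[(4,false),(1,false),(5,false),(4,false),(6,false),(4,false),(1,false),(2,true),(5,false),(4,false)]⟩]))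
 (.one .base)))
 (.fork (.fork (.one (.path 0 [⟨1228,[(109,false)],[(4,false),(1,false),(6,false),(4,false),(2,true),(5,false),(2,false),(4,false),(5,false),(4,false)]⟩,⟨518,[(114,true),(163,true),(114,false),(113,false)],[(0,false),(6,false),(4,false),(1,false),(2,true),(5,false),(4,false),(1,false),(6,false)]⟩]))
 (.one .base))
 (.fork (.one (.path 0 [⟨2994,[],[(4,false),(5,false),(2,false),(4,false),(1,false),(4,false),(5,false),(4,false),(6,false),(2,true)]⟩,⟨1839,[],[(1,false),(4,false),(5,false),(4,false),(1,false),(2,true)]⟩]))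
 (.one .base))))
 (.fork (.fork (.fork (.one (.path 13 [⟨563,[(57,false),(100,true),(83,true),(54,false)],[(0,false),(6,false),(2,true),(5,false),(4,false),(5,false),(6,false)]⟩,⟨654,[(110,false),(109,false)],[(1,false),(4,false),(6,false),(4,false),(1,false),(5,false),(4,false),(1,false),(4,false),(6,false)]⟩,⟨521,[(163,true),(114,true),(163,false),(114,false),(113,false)],[(4,false),(6,false),(4,false),(5,false),(2,false),(4,false),(5,false),(4,false),(1,false),(5,false)]⟩]))
 (.one .base))
 (.fork (.one (.path 0 [⟨1148,[(110,false)],[(1,false),(6,false),(2,true),(5,false),(4,false),(5,false),(4,false),(1,false),(4,false)]⟩,⟨2209,[],[(1,false),(4,false),(1,false),(4,false),(5,false),(6,false),(4,false),(5,false),(4,false),(6,false)]⟩]))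
 (.one .base)))
 (.fork (.fork (.one (.path 3 [⟨637,[],[(0,false),(3,false),(5,false),(6,false),(2,true)]⟩,⟨598,[(158,false),(204,false),(158,false),(204,false)],[(5,false),(2,false),(6,false),(4,false),(3,false),(5,false),(2,true),(5,false),(4,false),(6,false)]⟩,⟨1516,[(163,true),(114,true)],[(0,false),(4,false),(5,false),(6,false),(4,false),(5,false),(2,false),(4,false)]⟩]))
 (.one .base))
 (.fork (.one (.path 2 [⟨861,[(132,true),(121,true),(137,false)],[(1,false),(5,false),(6,false),(2,true)]⟩,⟨2886,[(110,false),(109,false)],[(0,false),(4,false),(5,false),(4,false),(6,false),(4,false),(1,false),(4,false),(1,false)]⟩,⟨3859,[],[(1,false),(5,false),(4,false),(3,false),(2,true),(5,false),(4,false),(1,false),(6,false),(2,true)]⟩]))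
 (.one .base))))))
 (.fork (.fork (.fork (.fork (.fork (.one (.path 1 [⟨129,[(163,false),(114,true)],[(1,false),(5,false),(6,false),(4,false),(1,false),(4,false),(2,true),(5,false)]⟩,⟨177,[],[(2,false),(5,false),(4,false),(1,false),(3,false),(6,false),(2,true),(5,false),(4,false),(1,false)]⟩]))
 (.one (.path 2 [⟨4129,[(3911,false)],[(4,false),(6,false),(4,false),(5,false),(4,false),(5,false),(2,true),(5,false),(4,false)]⟩,⟨3615,[],[(0,false),(2,false),(4,false),(5,false),(2,false),(4,false),(6,false),(4,false),(1,false),(5,false),(2,true)]⟩,⟨4130,[(110,false)],[(4,false),(1,false),(6,false),(4,false),(5,false),(2,false),(4,false),(5,false),(4,false),(2,true)]⟩])))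
 (.fork (.one (.path 1 [⟨728,[(110,true),(109,false)],[(2,false),(5,false),(4,false),(6,false),(2,true),(5,false),(4,false),(1,false),(5,false),(4,false)]⟩,⟨1143,[],[(4,false),(1,false),(3,false),(6,false),(4,false),(5,false),(2,false),(4,false),(1,false),(5,false)]⟩]))
 (.one .base)))
 (.fork (.fork (.one (.path 8 [⟨1063,[(163,false)],[(5,false),(6,false),(2,true),(5,false),(4,false),(1,false),(3,false)]⟩,⟨430,[(110,false),(109,false)],[(1,false),(5,false),(2,false),(4,false),(1,false),(5,false),(4,false),(5,false),(2,false)]⟩,⟨865,[(121,false),(137,true)],[(2,false),(4,false),(3,false),(6,false),(4,false),(5,false),(4,false),(1,false),(6,false),(4,false),(2,true)]⟩]))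
 (.one .base))
 (.fork (.one (.path 5 [⟨3002,[(110,false)],[(3,false),(2,true),(5,false),(4,false),(5,false),(6,false),(4,false)]⟩,⟨3066,[(110,false),(109,false)],[(0,false),(2,true),(5,false),(4,false),(1,false),(6,false),(4,false),(1,false),(5,false),(2,false)]⟩,⟨2245,[(110,true),(109,false)],[(2,false),(4,false),(1,false),(4,false),(5,false),(4,false),(6,false),(4,false),(5,false),(2,false)]⟩]))
 (.one .base))))
 (.fork (.fork (.fork (.one (.path 0 [⟨306,[(158,false)],[(3,false),(5,false),(4,false),(5,false),(6,false),(4,false),(1,false),(5,false),(2,true)]⟩,⟨683,[],[(1,false),(4,false),(5,false),(6,false),(4,false),(1,false),(4,false),(1,false)]⟩]))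
 (.one .base))
 (.fork (.one (.path 0 [⟨1861,[],[(2,false),(5,false)]⟩,⟨1747,[],[(4,false),(1,false),(4,false),(1,false),(6,false),(4,false),(1,false),(5,false),(4,false),(1,false)]⟩]))
 (.one .base)))
 (.fork (.fork (.one (.path 1 [⟨446,[(114,true),(163,false),(114,false)],[(1,false),(4,false),(3,false),(5,false),(2,false),(5,false),(6,false)]⟩,⟨785,[],[(1,false),(5,false),(6,false),(4,false),(1,false),(2,true)]⟩]))
 (.one .base))
 (.fork (.one (.path 0 [⟨3215,[],[(0,false),(2,false)]⟩,⟨3572,[],[(0,false),(1,false),(5,false),(2,false),(4,false),(1,false),(6,false),(4,false),(1,false),(4,false)]⟩]))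
 (.one .base)))))
 (.fork (.fork (.fork (.fork (.one (.path 7 [⟨351,[(132,true),(121,false),(137,false)],[(0,false),(1,false),(4,false),(6,false),(4,false),(1,false),(5,false),(2,false),(4,false),(6,false)]⟩,⟨324,[],[(0,false),(4,false),(5,false),(6,false),(4,false),(5,false),(4,false),(2,true),(5,false)]⟩,⟨228,[(158,false),(204,true)],[(4,false),(5,false),(6,false),(4,false),(1,false),(4,false)]⟩]))
 (.one .base))
 (.fork (.one (.path 0 [⟨410,[(110,false)],[(2,false),(3,false),(4,false),(5,false),(2,false),(4,false),(5,false),(4,false),(1,false)]⟩,⟨1015,[],[(1,false),(6,false),(4,false),(1,false),(5,false),(2,false),(4,false),(5,false),(6,false),(2,true)]⟩]))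
 (.one .base)))
 (.fork (.fork (.one (.path 2 [⟨723,[(100,false),(55,false)],[(0,false),(4,false),(5,false),(2,false),(4,false),(1,false),(5,false),(4,false),(5,false)]⟩,⟨1310,[(110,true)],[(0,false),(4,false),(5,false),(2,false),(4,false),(5,false),(4,false),(1,false),(2,true),(5,false)]⟩,⟨513,[(191,true),(65,false)],[(4,false),(3,false),(6,false),(4,false),(2,true),(5,false),(2,false),(4,false),(1,false),(5,false)]⟩]))
 (.one .base))
 (.fork (.one (.path 1 [⟨2292,[(110,false),(109,false)],[(6,false),(2,true),(5,false),(4,false),(1,false),(3,false),(5,false),(6,false)]⟩,⟨3323,[],[(0,false),(1,false),(5,false),(6,false),(4,false),(5,false),(2,true),(5,false)]⟩]))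
 (.one .base))))
 (.fork (.fork (.fork (.one (.path 0 [⟨346,[(163,true)],[(4,false),(5,false),(2,false),(4,false),(1,false),(4,false),(5,false),(6,false),(2,true),(5,false)]⟩,⟨877,[],[(1,false),(2,false),(6,false),(4,false),(5,false),(2,false),(4,false),(1,false),(4,false)]⟩]))
 (.one .base))
 (.fork (.one (.path 3 [⟨1718,[(109,false)],[(1,false),(2,false),(3,false),(4,false),(5,false),(6,false),(2,true),(5,false),(4,false),(5,false)]⟩,⟨1050,[(163,true),(114,true),(163,false)],[(0,false),(4,false),(5,false),(2,false),(4,false),(1,false),(5,false),(4,false),(6,false),(4,false)]⟩,⟨1887,[(114,false),(163,false),(114,false),(113,false)],[(0,false),(4,false),(5,false),(2,false),(6,false),(4,false),(5,false),(4,false),(5,false),(2,true)]⟩]))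
 (.one .base)))
 (.fork (.fork (.one (.path 5 [⟨1535,[],[(5,false),(2,true)]⟩,⟨1945,[(110,false),(109,false)],[(1,false),(3,false),(2,true),(5,false),(4,false),(1,false),(5,false),(4,false),(6,false),(4,false),(2,true)]⟩,⟨1948,[(109,false)],[(0,false),(5,false),(4,false),(6,false),(4,false),(1,false),(4,false),(5,false)]⟩]))
 (.one .base))
 (.fork (.one (.path 6 [⟨1223,[(114,false),(113,false)],[(0,false),(5,false),(2,false),(4,false)]⟩,⟨1002,[(109,false)],[(3,false),(4,false),(5,false),(4,false),(1,false),(5,false),(2,false),(4,false),(5,false)]⟩,⟨3903,[(204,true),(158,false),(204,true),(158,false),(204,true)],[(0,false),(5,false),(6,false),(4,false),(1,false),(4,false),(1,false),(5,false),(4,false)]⟩]))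
 (.one .base)))))))

/-- a part of the justifications -/
noncomputable def twJustT104 : BT Just := (.fork (.fork (.fork (.fork (.fork (.fork (.one (.path 0 [⟨62,[],[(2,true)]⟩,⟨107,[(11,true)],[(0,false),(3,false)]⟩]))
 (.one (.path 0 [⟨2138,[(110,true)],[(0,false),(2,false),(5,false),(4,false),(1,false),(5,false),(2,false),(4,false),(5,false),(4,false)]⟩,⟨3847,[],[(2,false),(3,false),(4,false),(6,false),(4,false),(5,false),(2,false),(4,false),(1,false),(4,false),(6,false)]⟩])))
 (.fork (.one (.path 0 [⟨1726,[(109,false)],[(0,false),(1,false),(2,false),(4,false),(5,false),(6,false),(2,true),(5,false),(4,false)]⟩,⟨1715,[],[(0,false),(6,false),(4,false),(1,false),(5,false),(4,false),(1,false),(4,false),(2,true)]⟩]))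
 (.one .base)))
 (.fork (.fork (.one (.path 2 [⟨223,[(54,false),(100,false),(57,false)],[(0,false),(4,false),(1,false),(4,false),(6,false),(2,true),(5,false),(4,false),(6,false),(2,true)]⟩,⟨1011,[(158,false),(204,true),(158,false),(204,true),(158,false)],[(1,false),(2,false),(6,false),(4,false),(3,false),(5,false),(2,true)]⟩,⟨579,[(110,true)],[(1,false),(2,false),(5,false),(6,false),(4,false),(5,false),(2,false),(4,false),(5,false),(4,false)]⟩]))
 (.one .base))
 (.fork (.one (.path 2 [⟨1853,[],[]⟩,⟨1714,[],[(4,false),(1,false),(5,false),(4,false),(2,true),(5,false)]⟩,⟨1889,[(163,true),(114,false),(163,false)],[(2,false),(4,false),(1,false),(4,false),(5,false),(4,false),(5,false),(6,false),(2,true)]⟩]))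
 (.one .base))))
 (.fork (.fork (.fork (.one (.path 5 [⟨547,[],[(2,false),(4,false),(5,false)]⟩,⟨179,[(114,true),(163,false),(114,true)],[(2,true),(5,false),(4,false),(5,false),(2,false),(4,false),(1,false),(4,false)]⟩,⟨275,[(204,false),(172,false),(158,false),(172,false),(158,false)],[(1,false),(2,false),(4,false),(6,false),(4,false),(5,false),(4,false),(2,true),(5,false)]⟩]))
 (.one .base))
 (.fork (.one (.path 0 [⟨1140,[(110,false)],[(1,false),(4,false),(3,false),(5,false),(4,false),(1,false),(4,false),(5,false),(4,false),(2,true)]⟩,⟨2277,[(83,false),(100,true)],[(0,false),(2,true),(5,false),(2,false),(4,false),(1,false),(4,false),(6,false),(4,false),(1,false),(4,false)]⟩]))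
 (.one .base)))
 (.fork (.fork (.one (.path 0 [⟨540,[(110,true),(109,false)],[(0,false),(4,false),(6,false),(4,false)]⟩,⟨601,[],[(4,false),(5,false),(4,false),(5,false),(6,false),(4,false),(5,false)]⟩]))
 (.one .base))
 (.fork (.one (.path 0 [⟨720,[],[(1,false),(4,false),(3,false),(5,false),(4,false),(1,false),(6,false)]⟩,⟨1465,[],[(0,false),(2,false),(6,false),(4,false),(1,false),(5,false),(4,false),(5,false),(6,false)]⟩]))
 (.one .base)))))
 (.fork (.fork (.fork (.fork (.one (.path 8 [⟨358,[(114,true),(163,true)],[(1,false),(2,false),(4,false),(1,false),(6,false),(4,false),(5,false),(2,true),(5,false)]⟩,⟨255,[(204,false),(172,false),(158,false),(204,true)],[(0,false),(1,false),(4,false),(5,false),(6,false),(2,true),(5,false),(4,false),(1,false),(5,false),(4,false)]⟩,⟨218,[],[(1,false),(6,false),(2,true),(5,false),(4,false),(5,false),(2,false),(6,false)]⟩]))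
 (.one .base))
 (.fork (.one (.path 1 [⟨1396,[(110,true),(109,false)],[(0,false),(5,false),(4,false),(6,false),(4,false),(5,false),(2,false),(4,false),(1,false),(5,false)]⟩,⟨471,[],[(1,false),(3,false),(4,false),(5,false),(2,true),(5,false),(4,false),(5,false),(2,false)]⟩]))
 (.one .base)))
 (.fork (.fork (.one (.path 5 [⟨1235,[(114,true),(163,true),(114,false)],[(2,false),(4,false),(1,false),(3,false),(6,false),(4,false),(5,false),(2,true),(5,false)]⟩,⟨1366,[(109,false)],[(0,false),(6,false),(2,true),(5,false),(4,false),(1,false),(5,false),(4,false),(6,false)]⟩,⟨941,[(114,false),(163,true),(114,true)],[(5,false),(2,false),(6,false),(4,false),(1,false),(5,false),(4,false),(5,false)]⟩]))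
 (.one .base))
 (.fork (.one (.path 0 [⟨1476,[],[(5,false),(4,false),(3,false),(5,false),(2,false),(6,false),(4,false),(5,false),(4,false)]⟩,⟨1912,[],[(0,false),(2,false),(4,false),(1,false),(5,false),(4,false),(1,false),(6,false),(4,false),(1,false),(5,false)]⟩]))
 (.one .base))))
 (.fork (.fork (.fork (.one (.path 2 [⟨805,[(158,false),(204,true),(158,false),(204,true)],[(2,false),(4,false),(6,false),(4,false),(1,false),(4,false),(1,false),(5,false),(6,false),(2,true)]⟩,⟨430,[(110,true),(109,false)],[(5,false),(2,false),(4,false),(3,false),(5,false),(2,false),(4,false),(5,false),(2,false)]⟩,⟨397,[(137,true),(121,false),(121,false),(121,false)],[(2,false),(4,false),(1,false),(5,false),(4,false),(6,false),(2,true),(5,false),(2,false)]⟩]))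
 (.one .base))
 (.fork (.one (.path 1 [⟨1814,[(110,true),(109,false)],[(0,false),(2,true),(5,false),(2,false),(4,false),(1,false),(5,false),(4,false),(6,false),(2,true)]⟩,⟨2281,[],[(2,false),(5,false),(4,false),(6,false),(2,true),(5,false),(4,false),(1,false),(4,false)]⟩]))
 (.one .base)))
 (.fork (.fork (.one (.path 13 [⟨1062,[(110,true),(109,false)],[(1,false),(6,false),(4,false),(1,false),(5,false),(4,false),(1,false)]⟩,⟨1729,[(163,false),(114,true)],[(0,false),(6,false),(2,true),(5,false),(4,false),(2,true),(5,false),(2,false),(4,false),(5,false),(2,true)]⟩,⟨1670,[],[(1,false),(2,true),(5,false),(4,false),(5,false),(2,false),(5,false),(4,false),(6,false),(4,false)]⟩]))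
 (.one .base))
 (.fork (.one (.path 1 [⟨1432,[(110,true),(109,false)],[(1,false),(2,false),(5,false),(6,false),(4,false),(2,true),(5,false),(2,false)]⟩,⟨3905,[],[(0,false),(1,false),(4,false),(5,false),(4,false),(2,true),(5,false),(4,false),(2,true)]⟩]))
 (.one .base))))))
 (.fork (.fork (.fork (.fork (.fork (.one (.path 11 [⟨131,[(137,true),(132,false),(121,false)],[(2,true),(5,false),(2,false)]⟩,⟨168,[(64,false),(191,false),(65,true),(63,false)],[(3,false),(4,false),(5,false),(2,false),(5,false),(4,false),(1,false)]⟩,⟨229,[(158,false),(204,false)],[(1,false),(5,false),(4,false),(5,false),(2,false),(4,false),(5,false),(4,false),(1,false)]⟩]))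
 (.one (.path 0 [⟨4275,[(3911,false)],[(1,false),(2,false),(4,false),(3,false),(5,false),(4,false),(1,false),(6,false),(2,true)]⟩,⟨4337,[(3911,false)],[(4,false),(1,false),(4,false),(6,false),(4,false),(1,false),(5,false),(2,false),(4,false),(1,false)]⟩])))
 (.fork (.one (.path 6 [⟨522,[(110,false)],[(1,false),(5,false),(4,false),(1,false),(5,false),(4,false),(6,false),(4,false),(2,true)]⟩,⟨672,[(114,true),(163,true),(114,true),(113,false)],[(0,false),(2,false),(4,false),(6,false),(4,false),(1,false),(4,false),(1,false),(5,false),(4,false),(2,true)]⟩,⟨437,[(132,true)],[(0,false),(2,false),(6,false),(4,false),(5,false),(2,true),(5,false),(4,false),(1,false),(4,false)]⟩]))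
 (.one .base)))
 (.fork (.fork (.one (.path 5 [⟨545,[(204,false),(158,false),(172,false)],[(1,false),(3,false),(4,false),(1,false),(4,false),(5,false),(4,false),(6,false),(4,false),(5,false)]⟩,⟨782,[(109,false)],[(0,false),(5,false),(6,false),(4,false),(2,true),(5,false),(4,false),(5,false)]⟩,⟨395,[(121,false),(137,false),(121,false),(121,false)],[(0,false),(1,false),(6,false),(4,false),(5,false),(2,false),(5,false),(4,false),(1,false),(4,false)]⟩]))
 (.one .base))
 (.fork (.one (.path 1 [⟨3017,[],[(3,false)]⟩,⟨1329,[],[(1,false),(2,true),(5,false),(4,false),(1,false),(5,false),(6,false),(4,false),(1,false),(5,false),(2,false)]⟩]))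
 (.one .base))))
 (.fork (.fork (.fork (.one (.path 0 [⟨266,[(163,true),(113,false)],[(1,false),(2,false),(4,false),(3,false),(6,false),(4,false),(5,false),(4,false)]⟩,⟨366,[(100,false),(83,false),(56,false),(54,false)],[(1,false),(3,false),(4,false),(1,false),(4,false),(6,false),(4,false),(1,false)]⟩]))
 (.one .base))
 (.fork (.one (.path 13 [⟨2618,[(109,false)],[(0,false),(4,false),(6,false),(4,false),(1,false),(4,false),(5,false),(2,true)]⟩,⟨1088,[(110,true),(109,false)],[(1,false),(6,false),(4,false),(1,false),(4,false),(5,false),(4,false),(1,false),(6,false)]⟩,⟨675,[(137,true),(121,false)],[(1,false),(3,false),(4,false),(5,false),(4,false),(6,false),(4,false),(5,false),(2,false),(4,false)]⟩]))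
 (.one .base)))
 (.fork (.fork (.one (.path 1 [⟨1424,[(114,true),(163,false),(113,false)],[(4,false),(6,false),(4,false),(2,true),(5,false),(4,false),(1,false),(6,false)]⟩,⟨1247,[],[(1,false),(2,false),(3,false),(4,false),(1,false),(5,false),(4,false),(6,false),(2,true),(5,false)]⟩]))
 (.one .base))
 (.fork (.one (.path 0 [⟨2914,[(109,false)],[(0,false),(2,false),(4,false),(1,false),(6,false),(4,false),(1,false),(5,false)]⟩,⟨3585,[],[(1,false),(4,false),(6,false),(4,false),(1,false),(2,true),(5,false)]⟩]))
 (.one .base)))))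
 (.fork (.fork (.fork (.fork (.one (.path 13 [⟨268,[(204,true),(158,false),(204,false),(172,false)],[(3,false),(6,false),(2,true),(5,false),(2,false),(4,false),(5,false),(4,false),(6,false),(2,true)]⟩,⟨151,[(163,false),(114,true),(163,true),(114,false)],[(2,false),(5,false),(4,false),(6,false),(4,false),(2,true),(5,false),(4,false),(5,false),(2,true)]⟩,⟨382,[(121,false),(137,true),(132,false),(121,false)],[(1,false),(3,false),(2,true),(5,false),(2,false),(4,false),(5,false),(4,false),(6,false),(2,true)]⟩]))
 (.one .base))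
 (.fork (.one (.path 5 [⟨2351,[(110,true)],[(6,false),(2,true),(5,false),(4,false),(6,false),(2,true),(5,false),(2,true)]⟩,⟨882,[],[(2,false),(6,false),(4,false),(3,false),(5,false),(4,false),(1,false),(4,false),(2,true),(5,false)]⟩,⟨1295,[(204,false),(172,false)],[(2,true),(5,false),(4,false),(5,false),(6,false),(4,false),(1,false),(4,false)]⟩]))
 (.one .base)))
 (.fork (.fork (.one (.path 0 [⟨576,[],[(1,false),(2,false),(5,false),(6,false),(4,false),(1,false),(4,false),(6,false),(2,true),(5,false),(2,true)]⟩,⟨1518,[],[(2,false),(3,false),(5,false),(6,false),(4,false),(1,false),(4,false),(6,false),(2,true),(5,false),(2,false)]⟩]))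
 (.one .base))
 (.fork (.one (.path 0 [⟨2373,[],[(2,true)]⟩,⟨3362,[(110,true),(109,false)],[(2,false),(3,false),(6,false),(4,false),(5,false),(2,true)]⟩]))
 (.one .base))))
 (.fork (.fork (.fork (.one (.path 3 [⟨695,[],[(1,false),(5,false),(6,false),(2,true)]⟩,⟨579,[(110,false),(109,false)],[(1,false),(4,false),(2,true),(5,false),(4,false),(2,true),(5,false),(2,false),(4,false),(6,false)]⟩,⟨580,[(110,false),(109,false)],[(1,false),(5,false),(4,false),(1,false),(6,false),(4,false),(5,false),(2,false),(5,false)]⟩]))
 (.one .base))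
 (.fork (.one (.path 1 [⟨2294,[(109,false)],[(2,false),(4,false),(3,false),(5,false),(4,false),(6,false),(4,false),(5,false),(2,false)]⟩,⟨2236,[],[(0,false),(4,false),(1,false),(4,false),(2,true),(5,false),(4,false),(2,true),(5,false),(2,true)]⟩]))
 (.one .base)))
 (.fork (.fork (.one (.path 0 [⟨868,[(110,false),(109,false)],[(2,false),(5,false),(4,false),(5,false),(4,false),(2,true),(5,false),(4,false),(1,false),(4,false)]⟩,⟨429,[],[(0,false),(4,false),(6,false),(4,false),(5,false),(4,false),(1,false),(6,false),(4,false),(2,true)]⟩]))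
 (.one .base))
 (.fork (.one (.path 0 [⟨3902,[(3912,false),(3911,true),(3912,false),(3911,false)],[(2,false),(5,false),(4,false),(5,false),(6,false),(4,false),(1,false),(4,false),(1,false),(2,true)]⟩,⟨863,[],[(5,false),(4,false),(2,true),(5,false),(4,false),(5,false),(2,false),(5,false),(6,false)]⟩]))
 (.one .base)))))))

/-- a part of the justifications -/
noncomputable def twJustT105 : BT Just := (.fork (.fork (.fork (.fork (.fork (.fork (.one (.ubase [(2,false)]))
 (.one (.path 1 [⟨4014,[(3912,false),(3911,false),(3912,true),(3911,true)],[(2,false),(6,false),(4,false),(1,false),(5,false),(4,false),(6,false),(2,true),(5,false),(2,true)]⟩,⟨3597,[],[(2,false),(6,false),(4,false),(3,false),(5,false),(2,false),(4,false),(1,false),(6,false)]⟩])))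
 (.fork (.one (.path 6 [⟨1175,[],[(1,false),(3,false),(5,false),(2,false)]⟩,⟨384,[],[(0,false),(4,false),(1,false),(2,true),(5,false),(4,false),(5,false)]⟩,⟨585,[(163,false)],[(1,false),(6,false),(4,false),(5,false),(2,false),(4,false),(1,false),(5,false),(6,false)]⟩]))
 (.one .base)))
 (.fork (.fork (.one (.path 2 [⟨848,[(110,false)],[(3,false),(5,false),(4,false),(5,false),(6,false),(4,false),(1,false),(5,false)]⟩,⟨672,[(163,false),(114,false),(113,false)],[(1,false),(2,false),(4,false),(6,false),(4,false),(5,false),(2,false),(4,false),(1,false),(4,false)]⟩,⟨961,[(121,true),(137,true),(121,true)],[(2,false),(4,false),(5,false),(4,false),(2,true),(5,false),(4,false),(1,false),(6,false)]⟩]))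
 (.one .base))
 (.fork (.one (.path 0 [⟨1278,[(110,false)],[(0,false),(1,false),(2,false),(6,false),(4,false),(5,false),(4,false),(5,false)]⟩,⟨1301,[],[(1,false),(6,false),(4,false),(1,false),(5,false),(4,false),(5,false)]⟩]))
 (.one .base))))
 (.fork (.fork (.fork (.one (.path 5 [⟨269,[(163,false),(114,false),(113,false)],[(0,false),(1,false),(6,false),(2,true),(5,false),(2,false),(4,false),(5,false),(2,true)]⟩,⟨445,[(158,false),(204,true),(172,false),(158,false)],[(1,false),(5,false),(2,false),(4,false),(5,false),(2,true),(5,false),(4,false),(5,false),(4,false)]⟩,⟨373,[(114,true),(163,true),(114,true)],[(6,false),(4,false),(1,false),(5,false),(4,false)]⟩]))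
 (.one .base))
 (.fork (.one (.path 3 [⟨108,[],[(0,false),(3,false)]⟩,⟨107,[(11,false),(14,false),(11,true)],[(0,false),(1,false),(4,false)]⟩,⟨2332,[],[(2,false),(3,false),(5,false),(4,false),(1,false),(6,false),(4,false)]⟩]))
 (.one .base)))
 (.fork (.fork (.one (.path 0 [⟨1227,[],[(2,false),(6,false)]⟩,⟨1477,[(109,false)],[(2,false),(5,false),(4,false),(1,false),(2,true),(5,false),(4,false),(5,false),(4,false)]⟩]))
 (.one .base))
 (.fork (.one (.path 0 [⟨2480,[],[(1,false),(2,true),(5,false),(4,false),(1,false),(3,false),(4,false),(5,false),(6,false),(4,false)]⟩,⟨1523,[],[(3,false),(5,false),(2,false),(4,false),(1,false),(4,false),(5,false),(4,false),(1,false)]⟩]))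
 (.one .base)))))
 (.fork (.fork (.fork (.fork (.one (.path 7 [⟨125,[(163,true),(114,false)],[(5,false),(2,false),(4,false),(5,false),(2,true),(5,false),(4,false),(1,false),(6,false)]⟩,⟨235,[(57,false),(83,false)],[(1,false),(5,false),(4,false),(3,false),(5,false),(6,false),(4,false),(1,false),(4,false),(2,true)]⟩,⟨251,[(114,true)],[(1,false),(2,true),(5,false),(2,false),(4,false),(5,false),(4,false),(1,false)]⟩]))
 (.one .base))
 (.fork (.one (.path 10 [⟨272,[(110,true)],[(1,false),(3,false),(5,false),(2,false),(4,false),(1,false),(5,false),(4,false),(5,false),(2,false),(4,false)]⟩,⟨1091,[(121,false),(132,false),(121,false),(132,false)],[(1,false),(4,false),(3,false),(5,false),(2,false),(4,false),(1,false),(4,false),(5,false)]⟩,⟨2070,[],[(1,false),(5,false),(4,false),(5,false),(4,false),(1,false),(4,false)]⟩]))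
 (.one .base)))
 (.fork (.fork (.one (.path 1 [⟨1105,[],[]⟩,⟨822,[(110,true)],[(0,false),(5,false),(4,false),(2,true),(5,false),(4,false),(1,false),(4,false),(6,false),(4,false)]⟩]))
 (.one .base))
 (.fork (.one (.path 2 [⟨1796,[(110,true),(109,false)],[(4,false),(2,true),(5,false),(2,false),(4,false),(1,false),(5,false),(4,false),(2,true),(5,false)]⟩,⟨693,[(158,false),(204,false),(158,false),(204,false),(158,false)],[(2,false),(6,false),(4,false),(5,false),(2,true)]⟩,⟨2347,[(110,true)],[(4,false),(1,false),(4,false),(1,false),(5,false),(2,false),(4,false)]⟩]))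
 (.one .base))))
 (.fork (.fork (.fork (.one (.path 10 [⟨166,[(137,true),(121,true),(132,false)],[(0,false),(4,false),(5,false),(2,true),(5,false),(4,false),(1,false),(4,false)]⟩,⟨550,[(204,false),(158,false),(204,true),(158,false),(172,false)],[(5,false),(4,false),(3,false),(5,false),(2,false),(5,false)]⟩,⟨447,[(204,false),(158,false),(172,false)],[(4,false),(5,false),(2,false),(4,false),(1,false),(5,false),(4,false),(6,false),(2,true)]⟩]))
 (.one .base))
 (.fork (.one (.path 0 [⟨1935,[],[(3,false),(5,false),(4,false)]⟩,⟨2693,[(110,false),(109,false)],[(1,false),(6,false),(2,true),(5,false),(4,false),(5,false),(2,true),(5,false),(4,false),(5,false)]⟩]))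
 (.one .base)))
 (.fork (.fork (.one (.path 0 [⟨333,[],[(5,false),(4,false),(2,true)]⟩,⟨1767,[],[(1,false),(2,false),(4,false),(1,false),(4,false),(5,false),(4,false),(6,false),(2,true),(5,false)]⟩]))
 (.one .base))
 (.fork (.one (.path 1 [⟨2770,[(109,false)],[(1,false),(3,false),(5,false),(4,false)]⟩,⟨3841,[],[(5,false),(2,false),(4,false),(1,false),(3,false),(5,false),(4,false),(6,false),(4,false),(2,true)]⟩]))
 (.one .base))))))
 (.fork (.fork (.fork (.fork (.fork (.one (.rev 138))
 (.one (.path 0 [⟨766,[],[(2,false),(5,false),(4,false),(3,false),(5,false),(6,false),(4,false),(5,false),(2,true)]⟩,⟨4037,[],[(2,false),(5,false),(4,false),(1,false),(4,false),(6,false),(2,true),(5,false),(4,false),(1,false),(6,false)]⟩])))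
 (.fork (.one (.path 4 [⟨1350,[(110,false),(109,false)],[(1,false),(5,false),(4,false),(5,false),(2,false),(4,false),(5,false),(4,false),(5,false)]⟩,⟨214,[(114,true)],[(0,false),(5,false),(2,true),(5,false),(4,false),(6,false)]⟩,⟨1387,[(114,false),(113,false)],[(0,false),(2,true),(5,false),(4,false),(1,false),(5,false),(6,false),(4,false),(1,false),(5,false)]⟩]))
 (.one .base)))
 (.fork (.fork (.one (.path 8 [⟨1066,[(109,false)],[(1,false),(2,false),(5,false),(4,false),(1,false),(2,true)]⟩,⟨544,[(114,true),(163,false),(114,true)],[(2,false),(4,false),(5,false),(2,false),(4,false),(5,false),(2,true),(5,false),(4,false),(6,false)]⟩,⟨599,[(132,false),(121,false),(137,false),(132,false)],[(3,false),(5,false),(2,false),(5,false),(4,false),(5,false),(6,false),(4,false),(1,false),(2,true)]⟩]))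
 (.one .base))
 (.fork (.one (.path 2 [⟨2202,[(109,false)],[(1,false),(4,false),(5,false),(4,false),(1,false),(5,false)]⟩,⟨2412,[(109,false)],[(0,false),(1,false),(6,false),(2,true),(5,false),(4,false),(5,false),(4,false)]⟩,⟨2114,[(110,false)],[(4,false),(5,false),(4,false),(6,false),(4,false),(5,false),(2,true)]⟩]))
 (.one .base))))
 (.fork (.fork (.fork (.one (.path 7 [⟨446,[(114,true),(163,false),(114,false)],[(1,false),(4,false),(3,false),(6,false),(2,true),(5,false),(4,false)]⟩,⟨629,[(204,false),(172,false),(158,false),(172,false)],[(0,false),(5,false),(4,false),(1,false),(5,false),(4,false),(6,false),(4,false),(1,false),(5,false),(2,false)]⟩,⟨642,[],[(5,false),(6,false),(4,false),(3,false),(2,true),(5,false),(2,false)]⟩]))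
 (.one .base))
 (.fork (.one (.path 0 [⟨1477,[],[(2,false),(3,false),(6,false)]⟩,⟨2606,[],[(3,false),(5,false),(4,false),(6,false),(4,false),(1,false),(4,false),(2,true),(5,false)]⟩]))
 (.one .base)))
 (.fork (.fork (.one (.path 4 [⟨238,[],[(4,false),(1,false),(2,true),(5,false),(4,false),(1,false),(5,false),(6,false),(4,false),(5,false)]⟩,⟨1465,[(54,false),(100,true)],[(0,false),(5,false),(4,false),(1,false),(6,false),(4,false),(1,false),(2,true),(5,false)]⟩,⟨1339,[(110,false)],[(1,false),(2,false),(5,false),(4,false),(1,false),(4,false),(6,false),(2,true),(5,false),(2,false),(4,false)]⟩]))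
 (.one .base))
 (.fork (.one (.path 0 [⟨3181,[],[(0,false),(3,false)]⟩,⟨2271,[(110,true)],[(1,false),(3,false),(5,false),(4,false),(5,false),(4,false),(1,false),(2,true)]⟩]))
 (.one .base)))))
 (.fork (.fork (.fork (.fork (.one (.path 2 [⟨345,[(132,false),(121,false),(121,false)],[(1,false),(2,false),(5,false),(4,false),(1,false),(4,false),(5,false),(6,false),(4,false)]⟩,⟨269,[(114,false),(163,false),(114,true)],[(0,false),(5,false),(6,false),(4,false),(1,false),(2,true),(5,false),(4,false),(5,false),(4,false)]⟩,⟨257,[(204,true),(158,false),(204,true),(158,false)],[(0,false),(1,false),(4,false),(5,false),(2,false),(5,false),(4,false),(5,false),(2,false),(5,false)]⟩]))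
 (.one .base))
 (.fork (.one (.path 0 [⟨2314,[(110,false)],[(5,false),(2,false),(4,false),(3,false),(5,false),(4,false),(2,true),(5,false),(2,false),(4,false),(5,false)]⟩,⟨2346,[],[(2,false),(5,false),(4,false),(2,true),(5,false),(2,false),(4,false),(5,false),(4,false),(6,false),(4,false)]⟩]))
 (.one .base)))
 (.fork (.fork (.one (.path 6 [⟨541,[(137,true),(121,false),(132,false)],[(3,false),(4,false),(2,true),(5,false),(4,false),(1,false),(6,false),(2,true)]⟩,⟨705,[(158,false),(204,true),(158,false),(172,false),(158,false)],[(1,false),(2,false),(5,false),(4,false),(1,false),(2,true),(5,false),(4,false)]⟩,⟨1367,[(114,true),(163,true),(114,false),(113,false)],[(1,false),(4,false),(5,false),(2,true),(5,false),(4,false),(5,false),(2,false),(6,false)]⟩]))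
 (.one .base))
 (.fork (.one (.path 0 [⟨2522,[(109,false)],[(0,false),(1,false),(5,false),(4,false),(6,false),(4,false),(5,false),(2,true)]⟩,⟨2932,[(110,false)],[(6,false),(4,false),(1,false),(5,false),(4,false),(5,false),(2,false),(5,false),(6,false)]⟩]))
 (.one .base))))
 (.fork (.fork (.fork (.one (.path 0 [⟨294,[(64,false),(191,false),(63,true)],[(1,false),(2,false),(6,false),(4,false),(1,false),(5,false),(4,false),(5,false),(4,false),(6,false)]⟩,⟨875,[],[(0,false),(5,false),(4,false),(1,false),(4,false),(5,false),(2,false),(6,false),(4,false),(1,false)]⟩]))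
 (.one .base))
 (.fork (.one (.path 0 [⟨467,[],[(2,false),(6,false),(4,false),(3,false)]⟩,⟨565,[(58,false),(56,false),(54,false)],[(6,false),(4,false),(1,false),(3,false),(2,true),(5,false)]⟩]))
 (.one .base)))
 (.fork (.fork (.one (.path 1 [⟨1600,[],[(4,false),(3,false),(6,false),(4,false),(1,false),(2,true)]⟩,⟨1247,[],[(5,false),(4,false),(3,false),(2,true),(5,false),(2,false),(4,false),(5,false),(2,false),(4,false),(1,false)]⟩]))
 (.one .base))
 (.fork (.one (.path 0 [⟨1939,[],[(3,false)]⟩,⟨3975,[(109,false)],[(4,false),(1,false),(4,false),(5,false),(4,false),(1,false),(6,false),(4,false),(5,false)]⟩]))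
 (.one .base)))))))

/-- a part of the justifications -/
noncomputable def twJustT106 : BT Just := (.fork (.fork (.fork (.fork (.fork (.fork (.one (.path 3 [⟨53,[],[(3,false),(4,false),(1,false),(5,false),(6,false)]⟩,⟨30,[(13,false),(15,false),(11,true),(14,false),(13,false),(14,false),(12,false)],[(1,false),(3,false),(5,false),(4,false),(1,false),(2,true),(5,false)]⟩,⟨59,[(28,true),(27,false)],[(1,false),(5,false),(2,false),(4,false),(3,false),(5,false),(4,false),(2,true),(5,false),(4,false),(1,false)]⟩]))
 (.one (.path 1 [⟨1890,[(110,false)],[(2,false),(5,false),(4,false),(6,false),(2,true),(5,false),(4,false),(1,false)]⟩,⟨3875,[],[(3,false),(5,false),(2,false),(5,false),(4,false),(6,false),(4,false),(1,false),(5,false),(4,false)]⟩])))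
 (.fork (.one (.path 0 [⟨1025,[],[(0,false),(2,false),(5,false)]⟩,⟨1765,[(114,false),(163,true),(114,true)],[(3,false),(2,true),(5,false),(4,false),(1,false),(6,false),(2,true),(5,false),(4,false),(1,false)]⟩]))
 (.one .base)))
 (.fork (.fork (.one (.path 10 [⟨405,[(172,false),(158,false),(204,false),(158,false)],[(2,false),(4,false),(1,false),(3,false),(5,false),(6,false),(4,false),(2,true)]⟩,⟨371,[(114,false),(163,false),(114,true),(113,false)],[(1,false),(5,false),(2,false),(4,false),(5,false),(2,false),(4,false),(5,false),(4,false),(2,true)]⟩,⟨673,[(121,true),(137,true),(121,true)],[(3,false),(6,false),(2,true),(5,false),(4,false),(1,false),(4,false),(6,false),(2,true),(5,false)]⟩]))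
 (.one .base))
 (.fork (.one (.path 0 [⟨2048,[(109,false)],[(1,false),(6,false),(4,false),(5,false),(4,false),(1,false),(4,false),(6,false)]⟩,⟨523,[],[(3,false),(2,true),(5,false),(4,false),(1,false),(6,false),(4,false),(5,false),(4,false)]⟩]))
 (.one .base))))
 (.fork (.fork (.fork (.one (.path 13 [⟨548,[(163,false)],[(1,false),(3,false),(5,false),(2,false),(4,false),(5,false),(6,false),(4,false)]⟩,⟨405,[(204,true),(158,false),(172,false),(158,false)],[(0,false),(5,false),(6,false),(4,false),(1,false),(4,false),(1,false),(6,false),(4,false),(2,true)]⟩,⟨535,[(114,false),(163,false),(114,false)],[(4,false),(3,false),(6,false),(4,false),(1,false),(4,false),(5,false),(2,false),(6,false)]⟩]))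
 (.one .base))
 (.fork (.one (.path 0 [⟨1687,[],[(2,false)]⟩,⟨2154,[(110,true),(109,false)],[(1,false),(3,false),(5,false),(2,false),(6,false),(4,false),(5,false),(4,false),(6,false),(2,true)]⟩]))
 (.one .base)))
 (.fork (.fork (.one (.path 6 [⟨1287,[(158,false),(172,false)],[(0,false),(2,false),(4,false),(1,false),(6,false),(4,false),(5,false),(2,false),(4,false),(5,false),(2,true)]⟩,⟨532,[(110,true)],[(3,false),(5,false),(2,false),(4,false),(5,false),(6,false),(4,false),(2,true),(5,false),(4,false),(6,false)]⟩,⟨955,[(163,false),(114,false),(163,true)],[(6,false),(4,false),(2,true),(5,false),(4,false),(1,false),(5,false),(2,false),(4,false)]⟩]))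
 (.one .base))
 (.fork (.one (.path 0 [⟨2249,[],[(2,false)]⟩,⟨2514,[(110,false)],[(1,false),(5,false),(4,false),(3,false),(2,true),(5,false),(4,false),(1,false),(6,false),(2,true)]⟩]))
 (.one .base)))))
 (.fork (.fork (.fork (.fork (.one (.path 11 [⟨177,[(100,false),(56,false),(54,false)],[(0,false),(2,true),(5,false),(2,true)]⟩,⟨190,[(158,false),(172,false),(158,false)],[(5,false),(4,false),(5,false),(2,false),(4,false),(5,false),(6,false),(4,false),(2,true)]⟩,⟨151,[(163,true),(114,false),(163,false)],[(4,false),(3,false),(5,false),(2,false),(4,false),(1,false),(5,false),(6,false),(4,false)]⟩]))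
 (.one .base))
 (.fork (.one (.path 0 [⟨1446,[],[(2,true),(5,false),(4,false),(5,false),(2,false),(4,false),(1,false)]⟩,⟨1281,[],[(5,false),(2,false),(5,false),(4,false),(1,false),(3,false),(5,false),(2,false),(4,false)]⟩]))
 (.one .base)))
 (.fork (.fork (.one (.path 6 [⟨460,[(163,false)],[(0,false),(2,false),(3,false),(5,false),(6,false),(2,true)]⟩,⟨459,[(191,true),(72,true),(63,false)],[(5,false),(2,false),(6,false),(4,false),(3,false),(5,false),(2,false),(4,false),(1,false)]⟩,⟨947,[(114,false),(163,false),(114,false)],[(5,false),(2,false),(4,false),(3,false),(6,false)]⟩]))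
 (.one .base))
 (.fork (.one (.path 0 [⟨2969,[],[(0,false),(2,false),(3,false),(5,false),(2,false),(6,false)]⟩,⟨1343,[],[(5,false),(2,false),(4,false),(5,false),(2,false),(4,false),(5,false),(2,false)]⟩]))
 (.one .base))))
 (.fork (.fork (.fork (.one (.path 11 [⟨151,[(114,true),(113,false)],[(1,false),(6,false),(2,true),(5,false),(4,false),(5,false),(4,false),(6,false),(2,true)]⟩,⟨221,[],[(1,false),(2,false),(4,false),(1,false),(3,false),(4,false),(5,false),(6,false),(4,false),(1,false),(5,false)]⟩,⟨521,[(114,false),(163,false),(114,true),(113,false)],[(0,false),(4,false),(6,false),(2,true),(5,false),(4,false),(1,false),(4,false),(5,false),(6,false)]⟩]))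
 (.one .base))
 (.fork (.one (.path 1 [⟨818,[],[(5,false),(2,false),(5,false),(4,false),(1,false),(5,false),(2,false),(4,false),(1,false)]⟩,⟨511,[],[(1,false),(2,false),(6,false),(4,false),(1,false),(4,false),(5,false),(4,false),(5,false),(2,false)]⟩]))
 (.one .base)))
 (.fork (.fork (.one (.path 0 [⟨1392,[(110,true),(109,false)],[(1,false),(3,false),(4,false),(1,false),(6,false),(4,false),(1,false),(5,false),(4,false),(2,true)]⟩,⟨1389,[],[(1,false),(4,false),(6,false),(4,false),(1,false),(5,false),(2,false),(4,false),(5,false),(2,true)]⟩]))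
 (.one .base))
 (.fork (.one (.path 1 [⟨903,[],[(0,false),(1,false),(2,false),(3,false),(5,false),(2,true)]⟩,⟨3839,[(100,true),(57,false),(54,false)],[(4,false),(1,false),(4,false),(6,false),(4,false),(1,false),(5,false),(4,false),(1,false),(6,false)]⟩]))
 (.one .base))))))
 (.fork (.fork (.fork (.fork (.fork (.one (.rev 202))
 (.one (.path 0 [⟨4264,[(3912,true),(3911,false),(3912,true),(3911,false),(3911,false)],[(1,false),(2,false),(5,false),(4,false),(5,false),(2,false),(4,false),(1,false),(4,false),(6,false)]⟩,⟨1023,[],[(2,false),(4,false),(1,false),(6,false),(4,false),(5,false),(2,true),(5,false),(4,false),(1,false)]⟩])))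
 (.fork (.one (.path 0 [⟨244,[(110,false),(109,false)],[(1,false),(4,false),(1,false),(4,false),(6,false),(4,false),(2,true),(5,false),(4,false)]⟩,⟨1597,[],[(5,false),(4,false),(1,false),(4,false),(5,false),(2,true),(5,false)]⟩]))
 (.one .base)))
 (.fork (.fork (.one (.path 7 [⟨947,[(114,true),(163,true),(113,false)],[(4,false),(5,false),(6,false),(4,false),(1,false),(5,false),(4,false),(2,true)]⟩,⟨974,[(110,false)],[(5,false),(4,false),(6,false),(4,false),(1,false),(5,false),(4,false),(1,false),(4,false)]⟩,⟨963,[(121,true),(137,false),(132,false)],[(0,false),(1,false),(4,false),(6,false),(4,false),(1,false),(4,false),(1,false),(5,false),(2,true)]⟩]))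
 (.one .base))
 (.fork (.one (.path 1 [⟨2843,[],[(0,false),(5,false),(2,false)]⟩,⟨2518,[(110,false),(109,false)],[(5,false),(4,false),(1,false),(4,false),(1,false),(5,false),(2,false),(6,false),(4,false)]⟩]))
 (.one .base))))
 (.fork (.fork (.fork (.one (.path 8 [⟨362,[],[(0,false),(6,false),(2,true),(5,false),(2,false),(4,false),(1,false),(4,false),(5,false),(6,false),(2,true)]⟩,⟨361,[(72,true),(64,true),(191,true)],[(3,false),(4,false),(5,false),(6,false),(4,false),(1,false),(2,true),(5,false),(4,false)]⟩,⟨598,[(158,false),(204,true),(158,false),(172,false)],[(0,false),(4,false),(1,false),(6,false),(4,false),(1,false),(4,false),(5,false),(2,false),(4,false),(1,false)]⟩]))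
 (.one .base))
 (.fork (.one (.path 0 [⟨2436,[(110,false)],[(3,false),(4,false),(2,true),(5,false),(4,false),(5,false),(6,false),(4,false),(2,true)]⟩,⟨1906,[(110,true)],[(0,false),(4,false),(1,false),(6,false),(4,false),(1,false),(5,false),(4,false),(2,true),(5,false)]⟩]))
 (.one .base)))
 (.fork (.fork (.one (.path 7 [⟨1401,[],[(4,false),(1,false),(3,false),(5,false),(6,false),(4,false)]⟩,⟨581,[(110,true)],[(5,false),(4,false),(1,false),(4,false),(6,false),(4,false),(5,false),(4,false),(6,false)]⟩,⟨1211,[(114,true),(163,true)],[(0,false),(2,true),(5,false),(4,false),(1,false),(4,false),(5,false),(2,false),(6,false)]⟩]))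
 (.one .base))
 (.fork (.one (.path 0 [⟨3433,[],[(0,false),(1,false),(3,false),(2,true)]⟩,⟨2950,[(110,true)],[(4,false),(1,false),(5,false),(4,false),(6,false),(4,false),(1,false),(2,true),(5,false),(4,false)]⟩]))
 (.one .base)))))
 (.fork (.fork (.fork (.fork (.one (.path 1 [⟨130,[],[(1,false),(3,false),(6,false)]⟩,⟨435,[(121,false)],[(3,false),(4,false),(6,false),(4,false),(5,false),(2,false),(5,false),(4,false)]⟩]))
 (.one .base))
 (.fork (.one (.path 0 [⟨1513,[],[(1,false),(5,false),(2,false),(4,false)]⟩,⟨1753,[(114,false),(163,false),(113,false)],[(1,false),(4,false),(3,false),(5,false),(2,false),(4,false),(5,false),(6,false),(4,false),(2,true),(5,false)]⟩]))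
 (.one .base)))
 (.fork (.fork (.one (.path 0 [⟨606,[(110,false)],[(4,false),(1,false),(5,false),(4,false),(5,false),(6,false),(4,false),(1,false),(4,false),(1,false)]⟩,⟨1251,[],[(0,false),(4,false),(1,false),(4,false),(6,false),(4,false),(2,true),(5,false),(4,false),(1,false),(5,false)]⟩]))
 (.one .base))
 (.fork (.one (.path 11 [⟨3152,[(110,false),(109,false)],[(3,false),(2,true),(5,false),(4,false),(5,false),(4,false),(6,false),(4,false)]⟩,⟨2695,[(110,false),(109,false)],[(1,false),(5,false),(2,false),(4,false),(5,false),(4,false),(1,false),(6,false),(2,true)]⟩,⟨2454,[(110,true),(109,false)],[(0,false),(1,false),(6,false),(4,false),(2,true),(5,false),(4,false),(2,true),(5,false)]⟩]))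
 (.one .base))))
 (.fork (.fork (.fork (.one (.path 8 [⟨667,[(121,false),(137,false)],[(0,false),(2,false),(5,false),(2,false),(4,false),(5,false),(4,false),(2,true),(5,false),(2,false)]⟩,⟨658,[(110,true),(109,false)],[(0,false),(1,false),(6,false),(4,false),(2,true),(5,false),(2,false),(4,false),(5,false),(2,true)]⟩,⟨753,[(163,true),(114,false),(113,false)],[(3,false),(5,false),(2,false),(5,false),(4,false),(1,false),(6,false)]⟩]))
 (.one .base))
 (.fork (.one (.path 0 [⟨1250,[],[(0,false),(1,false),(4,false),(2,true),(5,false),(4,false),(1,false),(4,false),(2,true)]⟩,⟨971,[],[(0,false),(6,false),(4,false),(5,false),(2,false),(5,false),(4,false),(1,false),(5,false),(4,false)]⟩]))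
 (.one .base)))
 (.fork (.fork (.one (.path 0 [⟨302,[],[(2,false),(3,false),(4,false),(6,false),(4,false),(1,false),(4,false),(5,false),(2,false),(4,false),(5,false)]⟩,⟨466,[],[(5,false),(4,false),(5,false),(2,false),(5,false),(4,false),(1,false),(5,false),(2,false),(6,false)]⟩]))
 (.one .base))
 (.fork (.one (.path 1 [⟨424,[(158,false),(204,true),(158,false),(204,true)],[(2,false),(5,false),(4,false),(3,false),(5,false),(6,false),(2,true),(5,false),(4,false)]⟩,⟨4027,[],[(0,false),(4,false),(2,true),(5,false),(2,false),(4,false),(1,false),(4,false),(6,false),(4,false)]⟩]))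
 (.one .base)))))))

/-- a part of the justifications -/
noncomputable def twJustT107 : BT Just := (.fork (.fork (.fork (.fork (.fork (.fork (.one (.path 3 [⟨36,[(28,true)],[(1,false),(3,false),(4,false),(1,false),(4,false),(5,false),(4,false),(2,true),(5,false)]⟩,⟨39,[(28,true)],[(0,false),(1,false),(4,false),(5,false),(4,false),(6,false),(4,false),(5,false),(4,false),(6,false)]⟩,⟨31,[(28,true)],[(4,false),(5,false),(4,false),(6,false),(4,false),(1,false),(4,false),(6,false),(2,true)]⟩]))
 (.one (.path 0 [⟨3886,[(3912,false),(3911,true)],[(1,false),(2,false),(4,false),(3,false),(5,false),(4,false),(1,false),(2,true),(5,false)]⟩,⟨1893,[],[(3,false),(4,false),(5,false),(2,false),(4,false),(1,false),(5,false)]⟩])))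
 (.fork (.one (.path 4 [⟨1084,[(109,false)],[(2,false),(3,false),(6,false),(4,false),(1,false),(5,false)]⟩,⟨601,[(121,true),(137,true),(132,false)],[(2,false),(3,false),(4,false),(1,false),(4,false),(6,false),(4,false),(5,false)]⟩,⟨1999,[(110,false),(109,false)],[(1,false),(4,false),(5,false),(4,false),(5,false),(6,false),(4,false),(1,false),(4,false),(6,false)]⟩]))
 (.one .base)))
 (.fork (.fork (.one (.path 13 [⟨1053,[(114,false),(163,true),(113,false)],[(6,false),(4,false),(1,false),(5,false),(4,false),(5,false),(6,false),(4,false),(5,false)]⟩,⟨874,[(110,false),(109,false)],[(4,false),(3,false),(6,false),(4,false),(1,false),(5,false),(4,false),(2,true),(5,false)]⟩,⟨877,[(121,false),(132,false),(121,false),(137,false)],[(2,false),(3,false),(4,false),(1,false),(4,false),(5,false),(2,false),(4,false),(1,false),(4,false)]⟩]))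
 (.one .base))
 (.fork (.one (.path 0 [⟨2599,[],[(2,true)]⟩,⟨3096,[],[(5,false),(2,false),(5,false)]⟩]))
 (.one .base))))
 (.fork (.fork (.fork (.one (.path 10 [⟨261,[(172,false),(158,false),(204,false),(158,false)],[(4,false),(5,false),(4,false),(1,false),(4,false),(1,false),(5,false),(6,false),(4,false),(1,false)]⟩,⟨180,[(204,true)],[(2,true),(5,false),(4,false),(1,false),(3,false),(5,false),(4,false),(6,false),(4,false)]⟩,⟨385,[(114,false),(163,false),(113,false)],[(5,false),(2,false),(4,false),(3,false),(5,false),(2,false),(4,false),(5,false),(6,false)]⟩]))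
 (.one .base))
 (.fork (.one (.path 1 [⟨464,[(110,true)],[(0,false),(4,false),(1,false),(5,false),(2,false),(4,false),(5,false),(6,false),(4,false)]⟩,⟨1469,[],[(4,false),(1,false),(4,false),(1,false)]⟩]))
 (.one .base)))
 (.fork (.fork (.one (.path 0 [⟨831,[],[(2,false),(4,false)]⟩,⟨652,[],[(6,false),(4,false),(1,false),(4,false),(1,false),(5,false),(4,false),(6,false)]⟩]))
 (.one .base))
 (.fork (.one (.path 0 [⟨1878,[(110,true)],[(0,false),(2,false),(5,false),(6,false),(4,false),(1,false),(4,false),(6,false),(2,true)]⟩,⟨2031,[],[(0,false),(5,false),(6,false),(4,false),(2,true),(5,false),(4,false),(5,false),(6,false)]⟩]))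
 (.one .base)))))
 (.fork (.fork (.fork (.fork (.one (.path 7 [⟨148,[(137,true),(121,false),(137,true),(132,false)],[(0,false),(5,false),(6,false),(4,false),(1,false),(5,false),(4,false),(5,false),(6,false)]⟩,⟨125,[],[(0,false),(4,false),(2,true),(5,false),(2,false),(4,false),(5,false),(4,false),(1,false),(4,false)]⟩,⟨247,[(57,false),(54,false)],[(4,false),(5,false),(4,false),(6,false),(4,false),(5,false),(4,false),(5,false),(6,false),(2,true)]⟩]))
 (.one .base))
 (.fork (.one (.path 3 [⟨2154,[(110,false),(109,false)],[(0,false),(1,false),(6,false),(4,false),(1,false),(2,true),(5,false),(4,false),(5,false),(4,false)]⟩,⟨2201,[],[(2,false),(5,false),(4,false),(1,false),(4,false),(6,false),(4,false),(5,false),(2,false)]⟩,⟨2011,[],[(2,false),(5,false),(4,false),(1,false),(3,false),(5,false),(4,false),(6,false),(4,false)]⟩]))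
 (.one .base)))
 (.fork (.fork (.one (.path 0 [⟨1244,[(110,true)],[(1,false),(4,false),(1,false),(2,true),(5,false),(4,false),(1,false)]⟩,⟨1203,[],[(3,false),(4,false)]⟩]))
 (.one .base))
 (.fork (.one (.path 0 [⟨1491,[],[(0,false),(4,false),(2,true)]⟩,⟨2300,[],[(0,false),(1,false),(2,false),(4,false),(5,false),(2,false),(4,false),(1,false),(6,false),(4,false),(1,false)]⟩]))
 (.one .base))))
 (.fork (.fork (.fork (.one (.path 3 [⟨707,[(158,false)],[(1,false),(2,false),(3,false)]⟩,⟨566,[],[(2,false),(3,false),(5,false),(6,false),(4,false),(2,true),(5,false),(4,false),(1,false)]⟩,⟨567,[(55,false),(100,true),(83,false)],[(5,false),(4,false),(1,false),(4,false),(6,false),(2,true),(5,false),(4,false),(1,false),(5,false)]⟩]))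
 (.one .base))
 (.fork (.one (.path 1 [⟨2052,[(110,true),(109,false)],[(1,false),(4,false),(6,false),(4,false),(5,false),(4,false),(1,false),(4,false),(1,false),(6,false)]⟩,⟨1241,[],[(1,false),(2,false),(4,false),(1,false),(3,false),(6,false),(4,false),(5,false)]⟩]))
 (.one .base)))
 (.fork (.fork (.one (.path 1 [⟨636,[(110,false),(109,false)],[(5,false),(2,false),(5,false),(4,false),(6,false),(4,false),(5,false),(4,false),(5,false)]⟩,⟨635,[(64,true),(191,true),(65,false)],[(0,false),(2,false),(5,false),(4,false),(2,true),(5,false),(2,false),(4,false),(5,false),(2,true)]⟩]))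
 (.one .base))
 (.fork (.one (.path 1 [⟨1395,[],[(2,false),(4,false),(1,false),(6,false)]⟩,⟨3845,[(110,true),(109,false)],[(1,false),(4,false),(1,false),(3,false),(5,false),(4,false),(2,true),(5,false)]⟩]))
 (.one .base))))))
 (.fork (.fork (.fork (.fork (.fork (.one (.rev 170))
 (.one (.path 0 [⟨4106,[],[(1,false),(4,false),(1,false),(6,false),(4,false),(1,false),(5,false),(2,false),(4,false),(1,false)]⟩,⟨4053,[],[(5,false),(4,false),(1,false),(6,false),(4,false),(2,true),(5,false),(4,false),(1,false),(2,true)]⟩])))
 (.fork (.one (.path 10 [⟨127,[(110,true)],[(1,false),(6,false),(2,true),(5,false),(2,false),(4,false),(3,false)]⟩,⟨361,[(64,true),(191,true),(72,true),(63,false)],[(2,false),(5,false),(4,false),(2,true),(5,false),(4,false),(1,false),(5,false),(2,false),(4,false)]⟩,⟨791,[(158,false)],[(1,false),(2,true),(5,false),(4,false),(1,false),(3,false),(4,false),(5,false)]⟩]))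
 (.one .base)))
 (.fork (.fork (.one (.path 9 [⟨436,[(163,false)],[(3,false),(4,false),(6,false),(4,false),(2,true),(5,false),(4,false),(2,true)]⟩,⟨166,[(121,false)],[(0,false),(1,false),(4,false),(5,false),(4,false),(6,false),(4,false),(5,false),(2,false),(4,false)]⟩,⟨1113,[(158,false),(204,true),(172,false),(158,false)],[(6,false),(2,true),(5,false),(2,false),(4,false),(3,false),(5,false),(4,false),(6,false),(2,true)]⟩]))
 (.one .base))
 (.fork (.one (.path 1 [⟨2876,[(110,true),(109,false)],[(3,false),(4,false),(1,false),(4,false),(6,false),(2,true),(5,false),(2,true)]⟩,⟨2969,[],[(6,false),(4,false),(1,false),(3,false),(2,true),(5,false),(4,false),(5,false),(6,false),(2,true)]⟩]))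
 (.one .base))))
 (.fork (.fork (.fork (.one (.path 0 [⟨319,[],[(4,false),(3,false),(5,false),(2,false)]⟩,⟨585,[],[(0,false),(5,false),(2,false),(6,false),(4,false),(1,false),(5,false),(4,false),(5,false),(4,false)]⟩]))
 (.one .base))
 (.fork (.one (.path 13 [⟨2640,[(110,true),(109,false)],[(2,false),(3,false),(5,false),(4,false),(6,false),(4,false),(1,false),(2,true)]⟩,⟨2374,[(109,false)],[(2,false),(5,false),(4,false),(6,false),(4,false),(5,false),(4,false),(1,false),(6,false)]⟩,⟨2423,[],[(3,false),(5,false),(2,false),(4,false),(5,false),(4,false),(2,true),(5,false),(2,false),(4,false)]⟩]))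
 (.one .base)))
 (.fork (.fork (.one (.path 13 [⟨682,[(110,false)],[(3,false),(4,false),(5,false),(2,false),(4,false),(5,false),(4,false),(6,false),(4,false),(2,true),(5,false)]⟩,⟨559,[(158,false)],[(2,true),(5,false),(4,false),(6,false),(2,true),(5,false),(4,false),(5,false),(4,false)]⟩,⟨1486,[(109,false)],[(4,false),(5,false),(2,true),(5,false),(4,false),(1,false),(5,false),(4,false),(6,false),(2,true)]⟩]))
 (.one .base))
 (.fork (.one (.path 0 [⟨1508,[(109,false)],[(0,false),(2,false),(5,false),(4,false),(6,false),(4,false),(1,false),(4,false),(6,false),(2,true)]⟩,⟨3507,[],[(3,false),(5,false),(2,false),(4,false)]⟩]))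
 (.one .base)))))
 (.fork (.fork (.fork (.fork (.one (.path 3 [⟨343,[(137,false),(132,true),(121,false),(137,false)],[(0,false),(6,false),(4,false),(1,false),(2,true),(5,false),(4,false),(5,false),(2,false),(5,false)]⟩,⟨189,[(114,true),(163,false),(114,true),(113,false)],[(2,false),(4,false),(1,false),(5,false),(6,false),(4,false),(2,true),(5,false),(4,false),(1,false)]⟩,⟨405,[(204,false),(172,false)],[(1,false),(4,false),(1,false),(4,false),(5,false),(4,false),(6,false),(2,true),(5,false)]⟩]))
 (.one .base))
 (.fork (.one (.path 4 [⟨546,[],[(5,false),(4,false),(6,false),(2,true),(5,false),(4,false),(5,false),(2,false),(6,false)]⟩,⟨319,[],[(6,false),(2,true),(5,false),(4,false),(1,false),(6,false),(4,false),(2,true)]⟩,⟨585,[(163,false),(114,true),(163,true),(114,false)],[(1,false),(5,false),(2,false),(4,false),(1,false),(6,false)]⟩]))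
 (.one .base)))
 (.fork (.fork (.one (.path 0 [⟨889,[],[(2,false)]⟩,⟨1335,[(110,true)],[(4,false),(6,false),(4,false),(1,false),(5,false),(2,true)]⟩]))
 (.one .base))
 (.fork (.one (.path 2 [⟨3272,[(110,true),(109,false)],[(4,false),(3,false),(5,false),(2,true),(5,false),(4,false),(6,false)]⟩,⟨1861,[(109,false)],[(5,false),(4,false),(1,false),(4,false),(1,false),(6,false),(4,false),(5,false)]⟩,⟨1769,[],[(0,false),(2,false),(4,false),(5,false),(2,true),(5,false),(4,false),(5,false),(2,false),(6,false)]⟩]))
 (.one .base))))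
 (.fork (.fork (.fork (.one (.path 6 [⟨591,[],[(0,false),(3,false),(5,false),(2,true)]⟩,⟨750,[(158,false),(204,false),(158,false),(204,false)],[(4,false),(5,false),(2,false),(5,false),(4,false),(5,false),(4,false),(6,false),(2,true)]⟩,⟨933,[(114,true),(163,true),(113,false)],[(4,false),(5,false),(4,false),(2,true),(5,false),(2,false),(4,false),(5,false),(6,false)]⟩]))
 (.one .base))
 (.fork (.one (.path 2 [⟨2797,[],[(2,true),(5,false),(4,false),(1,false),(2,true)]⟩,⟨1528,[(110,false)],[(4,false),(5,false),(4,false),(1,false),(4,false),(1,false),(6,false),(4,false),(1,false)]⟩,⟨2417,[(110,false),(109,false)],[(0,false),(2,false),(6,false),(4,false),(1,false),(5,false),(4,false),(5,false),(2,true)]⟩]))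
 (.one .base)))
 (.fork (.fork (.one (.path 0 [⟨896,[(110,true),(109,false)],[(1,false),(2,true),(5,false),(2,false),(4,false),(3,false),(6,false)]⟩,⟨1619,[],[(5,false),(4,false),(6,false),(2,true),(5,false),(4,false),(5,false),(4,false)]⟩]))
 (.one .base))
 (.fork (.one (.path 2 [⟨2022,[(110,true),(109,false)],[(3,false),(4,false),(5,false),(4,false),(6,false),(4,false),(1,false),(2,true),(5,false)]⟩,⟨3268,[],[(1,false),(4,false),(1,false),(4,false),(6,false),(4,false),(5,false),(4,false)]⟩,⟨3979,[(109,false)],[(1,false),(5,false),(2,false),(4,false),(6,false),(4,false),(5,false),(4,false),(5,false),(2,true),(5,false)]⟩]))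
 (.one .base)))))))

/-- a part of the justifications -/
noncomputable def twJustT108 : BT Just := (.fork (.fork (.fork (.fork (.fork (.fork (.one .def')
 (.one (.path 0 [⟨2616,[],[(4,false),(1,false),(4,false),(1,false),(6,false),(4,false),(5,false),(2,false)]⟩,⟨4124,[(110,true),(109,false)],[(2,true),(5,false),(2,false),(4,false),(1,false),(3,false),(4,false),(6,false),(4,false)]⟩])))
 (.fork (.one (.path 0 [⟨1188,[(110,false)],[(1,false),(2,false),(4,false),(3,false),(6,false),(4,false),(1,false),(4,false),(5,false),(2,true)]⟩,⟨1195,[],[(5,false),(2,false),(4,false),(1,false),(5,false),(6,false),(2,true)]⟩]))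
 (.one .base)))
 (.fork (.fork (.one (.path 8 [⟨1105,[(172,false),(158,false),(204,false)],[(5,false),(4,false),(3,false),(6,false),(2,true),(5,false),(4,false),(1,false)]⟩,⟨1076,[(110,true),(109,false)],[(1,false),(3,false),(4,false),(5,false),(2,false),(5,false),(6,false),(4,false),(1,false),(5,false),(4,false)]⟩,⟨977,[(121,true),(132,true),(121,false)],[(1,false),(5,false),(6,false),(4,false),(5,false),(2,false),(4,false),(5,false),(4,false),(5,false)]⟩]))
 (.one .base))
 (.fork (.one (.path 0 [⟨225,[],[(3,false),(2,true)]⟩,⟨1307,[(58,false),(100,false)],[(0,false),(4,false),(5,false),(4,false),(2,true),(5,false),(2,false),(4,false),(5,false),(6,false)]⟩]))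
 (.one .base))))
 (.fork (.fork (.fork (.one (.path 0 [⟨180,[(204,true),(158,false)],[(1,false),(4,false),(5,false),(4,false),(6,false),(2,true),(5,false),(4,false)]⟩,⟨339,[],[(0,false),(1,false),(2,true),(5,false),(4,false),(5,false),(2,false),(5,false)]⟩]))
 (.one .base))
 (.fork (.one (.path 2 [⟨2219,[(110,false),(109,false)],[(6,false),(4,false),(1,false),(3,false)]⟩,⟨1628,[(110,true),(109,false)],[(0,false),(4,false),(6,false),(4,false),(1,false),(5,false),(4,false),(5,false),(6,false),(4,false),(1,false)]⟩,⟨985,[(204,false),(158,false),(204,true),(172,false)],[(2,false),(5,false),(2,false),(4,false),(1,false),(6,false),(4,false),(1,false),(4,false)]⟩]))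
 (.one .base)))
 (.fork (.fork (.one (.path 7 [⟨1296,[(110,true),(109,false)],[(5,false),(4,false),(2,true),(5,false),(2,false),(4,false),(5,false),(2,false),(4,false)]⟩,⟨353,[(158,false),(204,false),(158,false),(204,false)],[(1,false),(5,false),(4,false),(2,true),(5,false),(2,false),(4,false),(5,false),(2,false),(4,false)]⟩,⟨413,[(63,false),(191,false),(63,false)],[(5,false),(4,false),(1,false),(4,false),(6,false),(2,true),(5,false),(4,false),(1,false)]⟩]))
 (.one .base))
 (.fork (.one (.path 0 [⟨1312,[(109,false)],[(5,false),(4,false),(3,false),(5,false),(2,false),(5,false),(4,false),(6,false),(4,false)]⟩,⟨2692,[],[(2,false),(3,false),(5,false),(2,false),(4,false),(5,false),(6,false),(2,true)]⟩]))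
 (.one .base)))))
 (.fork (.fork (.fork (.fork (.one (.path 2 [⟨126,[(191,false),(191,false),(65,false)],[(0,false),(4,false),(1,false),(6,false),(2,true)]⟩,⟨127,[(110,true),(109,false)],[(2,false),(4,false),(1,false),(3,false),(6,false)]⟩,⟨279,[(64,true),(63,false)],[(6,false),(4,false),(1,false),(3,false),(4,false),(2,true)]⟩]))
 (.one .base))
 (.fork (.one (.path 0 [⟨1364,[(110,true)],[(2,false),(5,false),(6,false),(4,false),(1,false),(5,false),(4,false),(5,false),(2,true)]⟩,⟨847,[],[(1,false),(2,false),(3,false),(5,false),(4,false),(1,false),(5,false),(4,false),(2,true)]⟩]))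
 (.one .base)))
 (.fork (.fork (.one (.path 0 [⟨371,[],[]⟩,⟨977,[(121,false),(137,true),(121,false),(132,false)],[(4,false),(1,false),(4,false),(5,false),(4,false),(6,false),(2,true),(5,false),(2,true)]⟩]))
 (.one .base))
 (.fork (.one (.path 0 [⟨3290,[(110,false),(109,false)],[(2,false),(4,false),(1,false),(4,false),(6,false),(4,false),(1,false),(5,false),(4,false),(1,false),(4,false)]⟩,⟨2516,[(110,true),(109,false)],[(2,false),(4,false),(6,false),(4,false),(5,false),(4,false),(1,false),(5,false),(2,false),(4,false)]⟩]))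
 (.one .base))))
 (.fork (.fork (.fork (.one (.path 6 [⟨221,[],[(2,false),(5,false),(2,true)]⟩,⟨320,[(114,false),(163,true)],[(6,false),(4,false),(2,true),(5,false),(4,false),(5,false),(2,false),(5,false)]⟩,⟨679,[(204,true),(158,false),(204,false),(172,false),(158,false)],[(3,false),(5,false),(4,false),(1,false),(4,false),(5,false),(6,false),(4,false),(2,true)]⟩]))
 (.one .base))
 (.fork (.one (.path 0 [⟨1736,[(110,true),(109,false)],[(1,false),(2,false),(4,false),(6,false),(4,false),(5,false),(4,false),(1,false),(4,false),(1,false),(2,true)]⟩,⟨1885,[],[(5,false),(4,false),(2,true),(5,false),(2,false),(4,false),(5,false),(4,false),(6,false)]⟩]))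
 (.one .base)))
 (.fork (.fork (.one (.path 0 [⟨151,[(114,true),(113,false)],[(5,false),(4,false),(1,false),(4,false),(1,false),(5,false),(2,true)]⟩,⟨1427,[],[(1,false),(6,false),(4,false),(1,false),(5,false),(4,false),(5,false),(6,false),(4,false),(1,false)]⟩]))
 (.one .base))
 (.fork (.one (.path 4 [⟨1774,[(109,false)],[(0,false),(4,false),(1,false),(6,false),(4,false),(5,false),(2,false),(4,false),(5,false),(4,false)]⟩,⟨209,[(114,true),(163,true),(114,false)],[(2,true),(5,false),(4,false),(1,false),(5,false),(4,false),(5,false),(6,false)]⟩,⟨3905,[(172,false)],[(5,false),(2,false),(6,false),(4,false),(5,false),(4,false),(1,false),(5,false)]⟩]))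
 (.one .base))))))
 (.fork (.fork (.fork (.fork (.fork (.one (.path 4 [⟨124,[(83,true),(57,false)],[(2,false),(4,false),(1,false),(4,false),(6,false),(4,false),(1,false),(5,false),(4,false),(1,false),(4,false)]⟩,⟨149,[],[(4,false),(3,false),(6,false),(4,false),(1,false),(5,false),(4,false),(1,false),(6,false),(2,true)]⟩,⟨150,[(137,true),(132,false),(121,false)],[(1,false),(5,false),(2,false),(6,false),(4,false),(5,false),(2,false),(4,false),(1,false),(5,false),(2,true)]⟩]))
 (.one (.path 0 [⟨225,[],[(3,false),(5,false),(2,false)]⟩,⟨4319,[(83,false),(56,false)],[(3,false),(5,false),(4,false),(1,false),(5,false),(2,false),(6,false),(4,false)]⟩])))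
 (.fork (.one (.path 0 [⟨313,[],[(0,false),(1,false)]⟩,⟨1535,[(114,false)],[(1,false),(2,false),(4,false),(5,false),(6,false),(4,false),(5,false),(2,true)]⟩]))
 (.one .base)))
 (.fork (.fork (.one (.path 1 [⟨427,[],[(2,false),(6,false),(4,false)]⟩,⟨1193,[(163,false),(114,false)],[(0,false),(1,false),(6,false),(4,false),(2,true),(5,false),(4,false),(6,false)]⟩]))
 (.one .base))
 (.fork (.one (.path 1 [⟨3097,[],[(1,false),(2,false),(6,false)]⟩,⟨3253,[(110,false),(109,false)],[(5,false),(4,false),(3,false),(5,false),(6,false),(4,false),(1,false),(4,false),(5,false)]⟩]))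
 (.one .base))))
 (.fork (.fork (.fork (.one (.path 0 [⟨227,[],[(2,false)]⟩,⟨505,[(172,false)],[(1,false),(5,false),(2,false),(4,false),(3,false),(5,false),(4,false),(1,false),(2,true),(5,false)]⟩]))
 (.one .base))
 (.fork (.one (.path 0 [⟨482,[(109,false)],[(1,false),(4,false),(1,false),(6,false),(4,false),(1,false),(5,false),(4,false),(1,false),(2,true),(5,false)]⟩,⟨1087,[],[(3,false),(5,false),(6,false),(4,false),(2,true),(5,false),(2,false),(4,false),(1,false),(5,false)]⟩]))
 (.one .base)))
 (.fork (.fork (.one (.path 1 [⟨1424,[(114,true),(163,false),(113,false)],[(0,false),(4,false),(6,false),(4,false),(2,true),(5,false),(2,false),(4,false),(5,false),(2,false),(6,false)]⟩,⟨1599,[],[(2,true),(5,false),(4,false),(5,false),(2,true),(5,false),(4,false),(1,false),(4,false)]⟩]))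
 (.one .base))
 (.fork (.one (.path 0 [⟨1311,[],[(5,false),(2,false),(6,false),(4,false)]⟩,⟨2569,[(109,false)],[(2,false),(4,false),(5,false),(2,false),(4,false),(5,false),(2,true),(5,false),(4,false),(5,false),(4,false)]⟩]))
 (.one .base)))))
 (.fork (.fork (.fork (.fork (.one (.path 0 [⟨357,[],[(0,false),(4,false),(6,false),(4,false),(2,true)]⟩,⟨460,[(114,true),(163,true),(114,true)],[(0,false),(3,false),(5,false),(6,false),(2,true)]⟩]))
 (.one .base))
 (.fork (.one (.path 0 [⟨2349,[],[(3,false),(5,false)]⟩,⟨1147,[(110,false)],[(1,false),(2,true),(5,false),(4,false),(1,false),(4,false),(6,false),(4,false),(1,false),(5,false)]⟩]))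
 (.one .base)))
 (.fork (.fork (.one (.path 1 [⟨1499,[],[]⟩,⟨940,[(110,false)],[(5,false),(6,false),(4,false),(5,false),(4,false),(1,false),(6,false)]⟩]))
 (.one .base))
 (.fork (.one (.path 0 [⟨913,[],[(3,false),(6,false),(2,true)]⟩,⟨1483,[(110,true)],[(2,false),(5,false),(4,false),(1,false),(3,false),(5,false),(4,false),(6,false),(2,true)]⟩]))
 (.one .base))))
 (.fork (.fork (.fork (.one (.path 4 [⟨683,[(172,false)],[(2,false),(5,false),(2,false),(6,false),(4,false),(1,false),(4,false),(1,false),(5,false),(4,false)]⟩,⟨902,[(110,true),(109,false)],[(1,false),(2,false),(4,false),(5,false),(2,false),(6,false),(4,false),(5,false),(2,true)]⟩,⟨721,[(54,false),(100,true),(83,true),(54,false)],[(3,false),(4,false),(5,false),(6,false),(2,true),(5,false)]⟩]))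
 (.one .base))
 (.fork (.one (.path 1 [⟨1647,[],[(1,false),(2,false)]⟩,⟨2319,[(110,false),(109,false)],[(3,false),(4,false),(1,false),(5,false),(2,false),(6,false),(4,false),(1,false),(5,false)]⟩]))
 (.one .base)))
 (.fork (.fork (.one (.path 9 [⟨1452,[(110,false)],[(0,false),(4,false),(1,false),(4,false),(6,false),(4,false),(1,false),(4,false),(5,false),(2,false),(5,false),(6,false)]⟩,⟨216,[(158,false),(204,true)],[(2,false),(5,false),(4,false),(5,false),(6,false),(4,false),(2,true),(5,false),(2,false)]⟩,⟨947,[(163,true),(114,false),(163,false),(113,false)],[(3,false),(6,false),(4,false),(5,false),(4,false),(1,false),(6,false),(4,false),(2,true),(5,false)]⟩]))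
 (.one .base))
 (.fork (.one (.path 0 [⟨3952,[(3912,false),(3911,true),(3912,false),(3911,false)],[(5,false),(4,false),(1,false),(4,false),(1,false),(2,true)]⟩,⟨3937,[],[(1,false),(6,false),(4,false),(2,true),(5,false),(4,false),(5,false)]⟩]))
 (.one .base)))))))

/-- a part of the justifications -/
noncomputable def twJustT109 : BT Just := (.fork (.fork (.fork (.fork (.fork (.fork (.one (.lift 1 (wOf 19 0x3543582343231230123) ⟨18,[(13,false),(15,false),(11,false),(14,false)],[]⟩ ⟨18,[(14,true),(13,false),(15,false),(11,false),(14,false)],[(1,false),(4,false),(1,false),(5,false),(4,false),(6,false),(4,false),(1,false),(4,false),(5,false),(6,false)]⟩))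
 (.one (.path 1 [⟨4028,[(3912,false),(3911,true)],[(4,false),(5,false),(4,false),(5,false),(2,false),(5,false),(4,false),(5,false),(6,false)]⟩,⟨1191,[],[(1,false),(2,false),(3,false),(4,false),(5,false),(4,false),(1,false),(4,false),(6,false),(2,true)]⟩])))
 (.fork (.one (.path 10 [⟨982,[(109,false)],[(0,false),(1,false),(4,false),(5,false),(4,false),(2,true),(5,false),(4,false),(2,true)]⟩,⟨345,[(121,true),(137,false),(132,false),(121,false)],[(0,false),(5,false),(2,false),(4,false),(1,false),(6,false),(4,false),(5,false),(4,false),(6,false),(2,true)]⟩,⟨1781,[(114,true),(163,true),(114,true)],[(0,false),(2,false),(6,false),(4,false),(1,false),(4,false),(5,false),(4,false),(1,false),(4,false)]⟩]))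
 (.one .base)))
 (.fork (.fork (.one (.path 0 [⟨334,[],[(0,false),(4,false),(5,false),(6,false),(4,false),(5,false),(4,false),(1,false),(4,false),(2,true)]⟩,⟨1013,[],[(4,false),(1,false),(6,false),(2,true),(5,false),(4,false),(1,false)]⟩]))
 (.one .base))
 (.fork (.one (.path 1 [⟨2426,[],[(1,false),(2,true),(5,false),(4,false),(1,false),(6,false),(4,false),(5,false)]⟩,⟨2157,[],[(1,false),(3,false),(5,false),(2,false),(4,false),(1,false),(5,false),(6,false)]⟩]))
 (.one .base))))
 (.fork (.fork (.fork (.one (.path 2 [⟨343,[(121,true),(132,true),(121,false)],[(3,false),(4,false),(5,false),(2,true)]⟩,⟨406,[],[(0,false),(2,true)]⟩,⟨370,[(204,false),(158,false),(204,true),(158,false),(172,false)],[(1,false),(2,false),(3,false),(5,false),(4,false),(1,false),(5,false),(4,false),(6,false),(4,false)]⟩]))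
 (.one .base))
 (.fork (.one (.path 1 [⟨1700,[(110,false)],[(4,false),(6,false),(4,false),(1,false),(5,false),(4,false),(1,false),(5,false)]⟩,⟨2490,[],[(0,false),(4,false),(2,true),(5,false),(4,false),(2,true),(5,false),(4,false),(2,true),(5,false)]⟩]))
 (.one .base)))
 (.fork (.fork (.one (.path 1 [⟨1231,[],[(0,false),(5,false),(2,false)]⟩,⟨913,[(110,false),(109,false)],[(1,false),(3,false),(5,false),(4,false),(6,false),(4,false),(1,false),(2,true),(5,false),(4,false)]⟩]))
 (.one .base))
 (.fork (.one (.path 0 [⟨2613,[],[(3,false),(5,false),(6,false)]⟩,⟨3323,[(110,true)],[(1,false),(2,false),(4,false),(5,false),(4,false),(2,true),(5,false),(4,false)]⟩]))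
 (.one .base)))))
 (.fork (.fork (.fork (.fork (.one (.path 1 [⟨279,[],[(1,false),(3,false)]⟩,⟨188,[(158,false),(204,false)],[(0,false),(2,false),(6,false),(4,false),(5,false),(2,true),(5,false),(4,false),(5,false),(2,false),(6,false)]⟩]))
 (.one .base))
 (.fork (.one (.path 0 [⟨404,[(110,false)],[(1,false),(5,false),(4,false),(3,false),(6,false),(4,false),(2,true),(5,false),(2,true)]⟩,⟨229,[],[(2,false),(3,false),(4,false),(1,false),(4,false),(6,false),(4,false)]⟩]))
 (.one .base)))
 (.fork (.fork (.one (.path 7 [⟨265,[(100,true),(55,false),(83,false)],[(0,false),(5,false),(2,false),(4,false),(5,false),(6,false),(4,false),(1,false),(4,false),(1,false),(2,true)]⟩,⟨458,[(114,false),(163,false),(113,false)],[(1,false),(4,false),(3,false),(6,false),(4,false),(5,false),(2,false),(4,false),(1,false),(6,false),(4,false)]⟩,⟨231,[],[(3,false),(2,true),(5,false),(4,false),(1,false),(5,false),(2,false),(6,false)]⟩]))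
 (.one .base))
 (.fork (.one (.path 0 [⟨2031,[],[(1,false)]⟩,⟨3340,[],[(4,false),(6,false),(4,false),(2,true),(5,false),(4,false),(1,false),(6,false),(4,false)]⟩]))
 (.one .base))))
 (.fork (.fork (.fork (.one (.path 9 [⟨634,[],[(0,false),(1,false),(6,false),(2,true),(5,false),(2,false)]⟩,⟨536,[(204,true),(172,false),(158,false),(172,false),(158,false)],[(4,false),(1,false),(5,false),(4,false),(5,false),(2,false),(5,false)]⟩,⟨755,[(114,false),(113,false)],[(5,false),(4,false),(3,false),(2,true),(5,false),(4,false),(2,true),(5,false),(4,false),(1,false)]⟩]))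
 (.one .base))
 (.fork (.one (.path 4 [⟨1147,[],[(0,false),(1,false),(2,false),(5,false),(6,false),(2,true)]⟩,⟨1184,[(110,true)],[(5,false),(4,false),(6,false),(2,true),(5,false),(2,false),(4,false),(1,false),(4,false)]⟩,⟨1818,[(110,true)],[(2,false),(4,false),(1,false),(4,false),(5,false),(2,true),(5,false),(4,false),(1,false),(4,false)]⟩]))
 (.one .base)))
 (.fork (.fork (.one (.path 0 [⟨1772,[],[(0,false),(1,false),(2,false),(6,false),(4,false),(5,false),(4,false),(2,true),(5,false),(2,true)]⟩,⟨1595,[],[(0,false),(4,false),(5,false),(4,false),(6,false),(4,false),(2,true),(5,false),(4,false),(5,false)]⟩]))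
 (.one .base))
 (.fork (.one (.path 0 [⟨3259,[],[(0,false),(6,false),(2,true)]⟩,⟨3841,[(110,true),(109,false)],[(1,false),(3,false),(4,false),(6,false),(2,true),(5,false),(4,false),(5,false),(2,true)]⟩]))
 (.one .base))))))
 (.fork (.fork (.fork (.fork (.fork (.one (.rev 154))
 (.one (.path 0 [⟨2184,[],[(1,false),(4,false),(6,false),(4,false),(2,true),(5,false),(4,false),(5,false),(6,false)]⟩,⟨4052,[(110,true)],[(6,false),(2,true),(5,false),(2,false),(4,false),(3,false),(5,false),(2,false),(4,false),(6,false)]⟩])))
 (.fork (.one (.path 2 [⟨175,[],[(2,false),(3,false),(4,false),(1,false)]⟩,⟨291,[(163,false)],[(1,false),(2,false),(4,false),(6,false),(4,false),(1,false),(4,false),(5,false),(2,true),(5,false)]⟩,⟨301,[(158,false),(172,false),(158,false),(204,false),(172,false)],[(1,false),(5,false),(4,false),(6,false),(4,false),(1,false),(2,true),(5,false),(4,false),(1,false),(5,false)]⟩]))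
 (.one .base)))
 (.fork (.fork (.one (.path 1 [⟨664,[(110,false)],[(0,false),(1,false),(5,false),(2,false),(4,false),(1,false),(5,false),(2,true)]⟩,⟨607,[],[(1,false),(2,false),(5,false),(4,false),(1,false),(3,false),(4,false),(6,false),(2,true),(5,false),(4,false)]⟩]))
 (.one .base))
 (.fork (.one (.path 0 [⟨2861,[],[]⟩,⟨1487,[(110,false)],[(4,false),(5,false),(6,false),(4,false),(5,false),(4,false)]⟩]))
 (.one .base))))
 (.fork (.fork (.fork (.one (.path 8 [⟨537,[(137,true),(132,false),(121,false),(132,false)],[(1,false),(2,false),(3,false),(6,false),(4,false),(5,false),(2,false),(4,false),(1,false),(6,false)]⟩,⟨166,[(132,false),(121,false),(132,false)],[(1,false),(3,false),(5,false),(4,false),(1,false),(4,false),(5,false),(6,false),(2,true)]⟩,⟨441,[(204,false),(158,false),(204,false),(158,false),(204,false)],[(0,false),(6,false),(2,true),(5,false),(4,false),(5,false),(2,false),(5,false),(4,false),(6,false)]⟩]))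
 (.one .base))
 (.fork (.one (.path 7 [⟨1324,[],[(1,false),(5,false),(4,false),(3,false),(6,false),(4,false),(1,false),(5,false),(4,false),(2,true)]⟩,⟨2402,[(109,false)],[(4,false),(1,false),(4,false),(5,false),(2,false),(5,false),(4,false),(6,false)]⟩,⟨1998,[],[(5,false),(2,false),(5,false),(6,false),(4,false),(1,false),(3,false)]⟩]))
 (.one .base)))
 (.fork (.fork (.one (.path 10 [⟨1486,[(110,true),(109,false)],[(4,false),(1,false),(4,false),(1,false),(5,false),(6,false),(4,false),(2,true),(5,false),(2,true)]⟩,⟨1018,[(110,false)],[(5,false),(6,false),(4,false),(3,false),(2,true),(5,false),(4,false),(1,false)]⟩,⟨126,[(64,true),(191,true),(72,true),(64,false)],[(6,false),(4,false),(3,false),(5,false),(2,false),(4,false)]⟩]))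
 (.one .base))
 (.fork (.one (.path 0 [⟨3532,[(110,true)],[(5,false),(6,false),(4,false),(5,false),(4,false),(2,true)]⟩,⟨2716,[],[(3,false),(4,false),(1,false),(5,false),(4,false),(5,false),(2,false),(5,false),(4,false),(5,false)]⟩]))
 (.one .base)))))
 (.fork (.fork (.fork (.fork (.one (.path 10 [⟨173,[(64,true),(63,false)],[(4,false),(2,true)]⟩,⟨136,[],[(2,false),(4,false),(3,false),(5,false),(4,false),(6,false),(4,false),(5,false),(4,false)]⟩,⟨401,[(121,true),(137,true),(121,true),(132,false)],[(0,false),(2,false),(4,false),(6,false),(4,false),(5,false),(4,false),(1,false),(6,false)]⟩]))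
 (.one .base))
 (.fork (.one (.path 1 [⟨830,[(110,false)],[(1,false),(3,false),(4,false),(5,false),(2,false),(5,false),(4,false),(5,false),(4,false),(1,false)]⟩,⟨2401,[],[(1,false),(4,false),(5,false),(4,false),(2,true),(5,false),(4,false),(1,false),(4,false),(2,true)]⟩]))
 (.one .base)))
 (.fork (.fork (.one (.path 1 [⟨1289,[],[(0,false),(1,false),(3,false),(5,false)]⟩,⟨742,[(109,false)],[(3,false),(4,false),(5,false),(6,false),(2,true),(5,false),(4,false),(5,false),(2,false)]⟩]))
 (.one .base))
 (.fork (.one (.path 0 [⟨2468,[(110,true)],[(0,false),(4,false),(1,false),(4,false),(5,false),(4,false),(6,false),(4,false),(1,false),(5,false),(2,false)]⟩,⟨1490,[(109,false)],[(0,false),(5,false),(2,false),(4,false),(6,false),(4,false),(5,false),(2,true),(5,false),(4,false)]⟩]))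
 (.one .base))))
 (.fork (.fork (.fork (.one (.path 1 [⟨412,[],[(1,false),(4,false),(1,false),(5,false),(4,false),(5,false),(6,false),(4,false),(1,false),(4,false),(6,false)]⟩,⟨463,[],[(1,false),(4,false),(3,false),(6,false),(4,false),(5,false),(2,false),(4,false),(1,false),(6,false)]⟩]))
 (.one .base))
 (.fork (.one (.path 3 [⟨2323,[],[(4,false),(5,false),(6,false),(2,true),(5,false),(4,false)]⟩,⟨2698,[],[(4,false),(5,false),(6,false),(4,false),(5,false),(4,false),(1,false)]⟩,⟨2697,[(109,false)],[(4,false),(3,false),(6,false),(2,true),(5,false),(4,false),(1,false),(5,false),(2,false),(4,false)]⟩]))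
 (.one .base)))
 (.fork (.fork (.one (.path 3 [⟨1328,[(109,false)],[(1,false),(4,false),(5,false),(2,true),(5,false),(4,false),(1,false),(6,false),(4,false),(1,false)]⟩,⟨326,[(110,true),(109,false)],[(1,false),(5,false),(6,false),(4,false),(1,false),(4,false),(2,true),(5,false),(2,false)]⟩,⟨905,[(83,false),(100,true),(57,false),(54,false)],[(2,false),(5,false),(4,false),(1,false),(5,false),(6,false),(4,false),(5,false),(2,false)]⟩]))
 (.one .base))
 (.fork (.one (.path 0 [⟨3603,[],[(0,false),(4,false),(2,true)]⟩,⟨3987,[(110,true),(109,false)],[(1,false),(6,false),(4,false),(5,false),(4,false),(1,false),(6,false),(4,false),(5,false)]⟩]))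
 (.one .base)))))))

/-- a part of the justifications -/
noncomputable def twJustT110 : BT Just := (.fork (.fork (.fork (.fork (.fork (.fork (.one (.rev 90))
 (.one (.path 1 [⟨1510,[(109,false)],[(0,false),(1,false),(6,false),(2,true),(5,false),(2,false),(4,false),(5,false),(2,false),(4,false),(6,false)]⟩,⟨3953,[],[(0,false),(2,true),(5,false),(4,false),(2,true),(5,false),(4,false),(6,false)]⟩])))
 (.fork (.one (.path 7 [⟨1356,[(110,false)],[(4,false),(3,false),(6,false),(4,false),(1,false),(4,false),(5,false),(2,false),(6,false)]⟩,⟨1219,[(114,false),(113,false)],[(0,false),(2,false),(4,false),(1,false),(5,false),(4,false),(1,false),(6,false)]⟩,⟨1692,[],[(5,false),(2,true),(5,false),(4,false),(5,false),(2,false),(4,false),(5,false)]⟩]))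
 (.one .base)))
 (.fork (.fork (.one (.path 4 [⟨685,[(204,false),(172,false),(158,false),(204,true),(158,false)],[(2,false),(4,false),(6,false),(4,false),(1,false),(4,false),(1,false),(5,false),(4,false),(2,true)]⟩,⟨606,[(110,true)],[(1,false),(2,false),(4,false),(6,false),(4,false),(1,false),(5,false),(4,false),(1,false)]⟩,⟨777,[(121,true),(137,false),(121,false)],[(1,false),(5,false),(6,false),(4,false),(1,false),(5,false),(2,false),(4,false),(5,false)]⟩]))
 (.one .base))
 (.fork (.one (.path 0 [⟨2057,[],[(0,false),(4,false),(6,false),(2,true)]⟩,⟨2452,[],[(0,false),(1,false),(2,false),(5,false),(4,false),(5,false),(2,true),(5,false),(4,false),(6,false)]⟩]))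
 (.one .base))))
 (.fork (.fork (.fork (.one (.path 11 [⟨372,[(137,false),(132,true),(121,false),(137,false)],[(1,false),(2,false),(5,false),(4,false),(6,false),(4,false),(1,false),(4,false),(5,false),(2,true)]⟩,⟨381,[(114,false),(163,false),(114,false),(113,false)],[(2,false),(4,false),(3,false),(6,false),(4,false),(1,false)]⟩,⟨481,[(121,true),(137,false),(132,false)],[(0,false),(1,false),(5,false),(2,false),(4,false),(5,false),(2,false),(4,false),(5,false),(4,false),(2,true)]⟩]))
 (.one .base))
 (.fork (.one (.path 4 [⟨2486,[],[(3,false),(4,false),(5,false),(2,false),(4,false),(5,false),(4,false),(6,false)]⟩,⟨1822,[(110,true),(109,false)],[(0,false),(2,false),(4,false),(6,false),(4,false),(5,false),(2,false),(4,false),(1,false)]⟩,⟨2500,[(110,true)],[(1,false),(4,false),(1,false),(3,false),(4,false),(6,false),(4,false),(5,false),(2,false),(4,false)]⟩]))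
 (.one .base)))
 (.fork (.fork (.one (.path 5 [⟨623,[(158,false),(204,false),(172,false)],[(2,false),(3,false),(5,false),(2,false),(6,false),(4,false),(1,false),(5,false),(2,true)]⟩,⟨1117,[(204,true),(158,false),(204,false),(172,false)],[(0,false),(1,false),(6,false),(2,true),(5,false),(4,false),(5,false),(4,false),(1,false)]⟩,⟨1479,[(110,true),(109,false)],[(1,false),(4,false),(1,false),(5,false),(6,false),(4,false),(5,false),(2,false),(4,false),(6,false)]⟩]))
 (.one .base))
 (.fork (.one (.path 0 [⟨3237,[],[(2,false),(3,false)]⟩,⟨3579,[(110,true),(109,false)],[(1,false),(4,false),(1,false),(3,false),(6,false),(4,false),(2,true),(5,false),(4,false),(6,false),(2,true)]⟩]))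
 (.one .base)))))
 (.fork (.fork (.fork (.fork (.one (.path 1 [⟨134,[(137,false),(132,false),(121,false)],[(0,false),(4,false),(1,false),(4,false),(6,false),(4,false),(5,false),(2,false),(5,false)]⟩,⟨298,[(63,true)],[(6,false),(2,true),(5,false),(2,false),(4,false),(1,false),(3,false),(5,false)]⟩]))
 (.one .base))
 (.fork (.one (.path 7 [⟨604,[(110,true),(109,false)],[(5,false),(4,false),(1,false),(5,false),(4,false),(5,false),(2,false),(6,false)]⟩,⟨760,[(121,false),(137,true),(121,false),(121,false)],[(2,false),(4,false),(5,false),(6,false),(4,false),(1,false),(4,false),(1,false),(6,false),(2,true)]⟩,⟨1727,[],[(6,false),(4,false),(5,false),(4,false),(1,false),(5,false),(4,false),(2,true)]⟩]))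
 (.one .base)))
 (.fork (.fork (.one (.path 4 [⟨222,[(114,true),(163,true),(114,true)],[(2,true),(5,false),(4,false),(5,false),(6,false),(2,true),(5,false),(4,false)]⟩,⟨867,[(132,false),(121,false),(121,false)],[(1,false),(2,false),(4,false),(5,false),(6,false),(4,false),(1,false),(4,false),(5,false)]⟩,⟨1331,[(110,true)],[(2,false),(3,false),(6,false),(4,false),(1,false),(4,false),(5,false),(4,false),(2,true)]⟩]))
 (.one .base))
 (.fork (.one (.path 0 [⟨2030,[(110,true)],[(2,false),(3,false),(4,false),(5,false),(2,true),(5,false),(4,false),(5,false),(4,false),(2,true)]⟩,⟨3387,[],[(3,false),(6,false),(4,false),(2,true),(5,false),(4,false),(6,false),(2,true),(5,false),(2,true)]⟩]))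
 (.one .base))))
 (.fork (.fork (.fork (.one (.path 6 [⟨539,[(137,true),(121,true),(132,true)],[(4,false),(5,false),(6,false),(4,false),(2,true),(5,false),(2,true)]⟩,⟨830,[],[(1,false),(2,false),(3,false),(4,false),(1,false),(4,false),(5,false),(4,false),(5,false)]⟩,⟨420,[],[(1,false),(2,false),(5,false),(6,false),(4,false),(5,false),(2,false),(4,false),(6,false)]⟩]))
 (.one .base))
 (.fork (.one (.path 1 [⟨1907,[],[(0,false),(2,true),(5,false),(2,false)]⟩,⟨2469,[(110,true),(109,false)],[(1,false),(2,false),(3,false),(4,false),(1,false),(6,false),(4,false),(1,false),(5,false)]⟩]))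
 (.one .base)))
 (.fork (.fork (.one (.path 4 [⟨222,[(114,true),(163,true),(114,true)],[(1,false),(5,false),(4,false),(6,false),(4,false),(5,false),(4,false),(2,true),(5,false),(4,false)]⟩,⟨875,[(137,false),(121,false),(137,true),(132,false),(121,false)],[(2,false),(3,false),(4,false),(5,false),(4,false),(1,false),(5,false),(4,false)]⟩,⟨1866,[(110,false),(109,false)],[(0,false),(1,false),(4,false),(5,false),(2,false),(4,false),(1,false),(5,false),(6,false),(4,false)]⟩]))
 (.one .base))
 (.fork (.one (.path 6 [⟨866,[],[(1,false),(4,false),(1,false),(3,false),(5,false),(4,false),(5,false),(2,true),(5,false),(4,false),(5,false)]⟩,⟨437,[(137,true),(121,false)],[(1,false),(6,false),(2,true),(5,false),(2,false),(4,false),(1,false),(5,false),(6,false)]⟩,⟨3857,[(110,true)],[(4,false),(2,true),(5,false),(2,false),(4,false),(1,false),(5,false),(4,false),(1,false)]⟩]))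
 (.one .base))))))
 (.fork (.fork (.fork (.fork (.fork (.one (.path 0 [⟨217,[],[(0,false),(6,false),(4,false),(2,true),(5,false),(2,false)]⟩,⟨211,[],[(3,false),(4,false),(1,false),(4,false),(5,false),(2,false),(5,false),(4,false),(5,false),(4,false)]⟩]))
 (.one (.path 0 [⟨4182,[(3912,true),(3911,false),(3912,true)],[(0,false),(2,false),(4,false),(5,false),(4,false),(1,false),(6,false),(4,false)]⟩,⟨2715,[],[(1,false),(4,false),(1,false),(4,false),(5,false),(6,false),(4,false)]⟩])))
 (.fork (.one (.path 1 [⟨1992,[],[(1,false),(5,false),(4,false),(3,false),(5,false),(6,false),(4,false),(1,false)]⟩,⟨1999,[],[(0,false),(1,false),(5,false),(2,false),(4,false),(6,false),(4,false),(1,false),(5,false),(4,false)]⟩]))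
 (.one .base)))
 (.fork (.fork (.one (.path 0 [⟨597,[],[(0,false)]⟩,⟨1129,[(204,false),(172,false),(158,false),(204,false),(158,false)],[(4,false),(2,true),(5,false),(2,false),(4,false),(5,false),(4,false),(5,false),(2,true),(5,false)]⟩]))
 (.one .base))
 (.fork (.one (.path 0 [⟨2879,[],[(4,false),(2,true)]⟩,⟨2266,[(110,true)],[(5,false),(2,false),(4,false),(1,false),(3,false),(5,false),(4,false),(5,false),(6,false)]⟩]))
 (.one .base))))
 (.fork (.fork (.fork (.one (.path 0 [⟨604,[(110,true),(109,false)],[(1,false),(6,false),(4,false),(2,true),(5,false),(2,false),(4,false),(5,false),(4,false)]⟩,⟨609,[],[(4,false),(1,false),(4,false),(5,false),(6,false),(4,false),(1,false),(5,false),(2,true)]⟩]))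
 (.one .base))
 (.fork (.one (.path 0 [⟨2657,[],[(1,false),(2,false)]⟩,⟨2343,[(109,false)],[(3,false),(5,false),(6,false),(4,false),(5,false),(2,true),(5,false)]⟩]))
 (.one .base)))
 (.fork (.fork (.one (.path 3 [⟨1039,[(114,true),(163,true),(113,false)],[(1,false),(4,false),(5,false),(4,false),(2,true),(5,false),(2,false),(4,false),(5,false),(2,false)]⟩,⟨1294,[],[(2,false),(4,false),(5,false),(6,false),(2,true),(5,false),(4,false),(6,false)]⟩,⟨613,[(204,false),(158,false),(172,false),(158,false)],[(1,false),(4,false),(1,false),(5,false),(2,false),(4,false),(5,false),(6,false),(2,true),(5,false)]⟩]))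
 (.one .base))
 (.fork (.one (.path 0 [⟨2899,[],[(2,false),(6,false),(4,false),(3,false),(5,false),(2,false)]⟩,⟨1527,[],[(0,false),(1,false),(5,false),(2,false),(6,false),(4,false),(5,false),(4,false),(6,false)]⟩]))
 (.one .base)))))
 (.fork (.fork (.fork (.fork (.one (.path 3 [⟨149,[(114,true),(113,false)],[(0,false),(2,false),(6,false)]⟩,⟨273,[(121,false),(121,false),(121,false)],[(2,false),(3,false),(6,false),(4,false)]⟩,⟨423,[(113,false)],[(0,false),(4,false),(6,false)]⟩]))
 (.one .base))
 (.fork (.one (.path 3 [⟨1521,[],[(0,false),(1,false),(2,false),(5,false),(6,false),(2,true)]⟩,⟨1875,[(110,true),(109,false)],[(3,false),(5,false),(2,false),(5,false),(4,false),(1,false),(4,false),(5,false),(2,false)]⟩,⟨2090,[(110,false)],[(1,false),(2,true),(5,false),(4,false),(5,false),(2,false),(4,false),(6,false)]⟩]))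
 (.one .base)))
 (.fork (.fork (.one (.path 1 [⟨1006,[],[(0,false),(1,false),(4,false),(6,false),(4,false),(1,false),(4,false),(1,false),(6,false),(4,false)]⟩,⟨740,[(172,false),(158,false),(204,false),(158,false)],[(0,false),(6,false),(4,false),(1,false),(5,false),(4,false),(1,false),(4,false),(6,false),(2,true)]⟩]))
 (.one .base))
 (.fork (.one (.path 0 [⟨921,[],[(5,false),(2,false)]⟩,⟨2051,[(114,true),(163,true)],[(1,false),(2,false),(5,false),(4,false),(1,false),(3,false),(4,false),(5,false),(4,false),(6,false)]⟩]))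
 (.one .base))))
 (.fork (.fork (.fork (.one (.path 7 [⟨553,[(158,false),(204,true),(158,false)],[(0,false),(5,false),(4,false),(6,false),(4,false),(2,true),(5,false),(4,false),(1,false),(6,false)]⟩,⟨855,[(163,true),(114,false),(113,false)],[(4,false),(1,false),(6,false),(4,false),(2,true),(5,false),(4,false),(5,false),(2,false)]⟩,⟨641,[],[(0,false),(1,false),(4,false),(1,false),(6,false),(4,false),(1,false),(5,false)]⟩]))
 (.one .base))
 (.fork (.one (.path 1 [⟨426,[(110,false)],[(0,false),(5,false),(4,false),(5,false),(6,false),(4,false),(5,false),(2,false)]⟩,⟨779,[],[(1,false),(3,false),(4,false),(5,false),(4,false),(1,false),(4,false),(5,false),(6,false)]⟩]))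
 (.one .base)))
 (.fork (.fork (.one (.path 0 [⟨560,[],[(2,true),(5,false),(4,false),(1,false),(6,false),(2,true),(5,false),(4,false),(1,false),(5,false)]⟩,⟨693,[],[(0,false),(4,false),(1,false),(4,false),(6,false),(2,true),(5,false),(2,false),(4,false),(1,false),(6,false)]⟩]))
 (.one .base))
 (.fork (.one (.path 8 [⟨3908,[],[(1,false),(3,false),(4,false),(1,false),(4,false),(6,false),(4,false),(2,true),(5,false),(2,false),(4,false),(6,false)]⟩,⟨261,[(204,false),(172,false),(158,false),(204,true)],[(4,false),(6,false),(4,false),(1,false),(4,false),(1,false),(5,false),(4,false),(2,true)]⟩,⟨229,[(204,true),(158,false),(204,false)],[(1,false),(2,true),(5,false),(4,false),(1,false),(3,false),(4,false),(5,false),(2,false),(6,false)]⟩]))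
 (.one .base)))))))

/-- a part of the justifications -/
noncomputable def twJustT111 : BT Just := (.fork (.fork (.fork (.fork (.fork (.fork (.one (.path 6 [⟨31,[(49,true),(28,true)],[(4,false),(3,false),(2,true),(5,false),(2,false),(4,false),(5,false),(2,false)]⟩,⟨50,[(14,false),(11,false)],[(5,false),(2,false),(4,false),(5,false),(4,false),(2,true),(5,false),(4,false),(2,true),(5,false)]⟩,⟨52,[(11,false),(14,false),(13,false),(15,false),(10,false),(13,false)],[(0,false),(4,false),(1,false),(5,false),(6,false),(4,false),(1,false),(4,false),(5,false),(4,false)]⟩]))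
 (.one (.path 2 [⟨4129,[(3911,false),(3912,true),(3911,true)],[(4,false),(5,false),(6,false),(4,false),(1,false),(5,false),(4,false),(5,false)]⟩,⟨2060,[],[(1,false),(4,false),(5,false),(2,false),(4,false),(5,false),(4,false),(5,false),(2,false)]⟩,⟨2242,[],[(2,false),(5,false),(2,false),(4,false),(1,false),(4,false),(5,false),(2,true),(5,false),(4,false)]⟩])))
 (.fork (.one (.path 10 [⟨1711,[(109,false)],[(3,false),(4,false),(5,false),(6,false),(4,false),(2,true),(5,false),(2,false),(4,false),(1,false)]⟩,⟨181,[(121,true),(132,true),(121,false)],[(2,false),(5,false),(4,false),(1,false),(5,false),(4,false),(1,false),(6,false),(4,false),(1,false)]⟩,⟨1431,[(172,false)],[(1,false),(4,false),(1,false),(3,false),(6,false),(4,false),(5,false),(2,false),(4,false),(6,false)]⟩]))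
 (.one .base)))
 (.fork (.fork (.one (.path 7 [⟨541,[(121,true),(137,false),(132,true)],[(2,false),(4,false),(3,false),(5,false),(6,false),(4,false),(1,false),(5,false)]⟩,⟨319,[(204,true),(158,false),(172,false)],[(4,false),(6,false),(4,false),(1,false),(4,false),(1,false),(5,false),(4,false)]⟩,⟨585,[(163,true),(114,true),(163,false),(114,false)],[(1,false),(3,false),(4,false),(6,false),(4,false),(1,false),(4,false),(2,true),(5,false)]⟩]))
 (.one .base))
 (.fork (.one (.path 0 [⟨2893,[],[(4,false),(5,false),(2,false)]⟩,⟨2418,[(109,false)],[(1,false),(6,false),(2,true),(5,false),(4,false),(3,false)]⟩]))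
 (.one .base))))
 (.fork (.fork (.fork (.one (.path 0 [⟨462,[(110,true)],[(0,false),(6,false),(2,true),(5,false),(4,false),(2,true),(5,false),(2,false),(4,false),(5,false)]⟩,⟨515,[],[(6,false),(4,false),(1,false),(3,false),(5,false),(4,false),(5,false),(2,false)]⟩]))
 (.one .base))
 (.fork (.one (.path 2 [⟨1760,[(110,true)],[(6,false),(2,true),(5,false),(4,false),(3,false),(6,false),(2,true),(5,false),(2,false)]⟩,⟨1561,[(163,true),(114,true)],[(0,false),(4,false),(5,false),(2,false),(4,false),(1,false),(4,false),(5,false),(6,false),(2,true)]⟩,⟨2131,[(110,true)],[(5,false),(4,false),(1,false),(3,false),(6,false),(4,false),(5,false),(2,false)]⟩]))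
 (.one .base)))
 (.fork (.fork (.one (.path 0 [⟨1424,[(114,true),(163,false),(113,false)],[(4,false),(3,false),(6,false),(4,false),(2,true),(5,false),(2,false),(4,false),(6,false)]⟩,⟨1077,[],[(0,false),(2,false),(6,false),(4,false),(5,false),(4,false),(5,false),(6,false),(4,false),(2,true)]⟩]))
 (.one .base))
 (.fork (.one (.path 0 [⟨2146,[],[(3,false),(4,false),(1,false),(6,false),(4,false),(1,false),(5,false),(4,false),(6,false)]⟩,⟨920,[(110,false)],[(1,false),(4,false),(5,false),(2,false),(6,false),(4,false),(5,false)]⟩]))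
 (.one .base)))))
 (.fork (.fork (.fork (.fork (.one (.path 0 [⟨284,[],[(3,false),(5,false),(2,false),(6,false),(4,false),(5,false),(2,false),(4,false),(6,false)]⟩,⟨309,[],[(3,false),(5,false),(6,false),(4,false),(1,false),(5,false),(2,false),(4,false),(6,false)]⟩]))
 (.one .base))
 (.fork (.one (.path 10 [⟨1766,[],[(1,false),(3,false),(5,false),(4,false),(5,false),(6,false),(4,false),(1,false),(2,true)]⟩,⟨1580,[(114,false),(163,false),(114,false)],[(4,false),(5,false),(2,false),(4,false),(5,false),(4,false),(6,false),(2,true),(5,false),(4,false)]⟩,⟨574,[(163,true),(114,true),(163,false)],[(2,true),(5,false),(4,false),(1,false),(4,false),(5,false),(4,false),(2,true),(5,false)]⟩]))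
 (.one .base)))
 (.fork (.fork (.one (.path 0 [⟨326,[(110,true)],[(4,false),(1,false),(4,false),(1,false),(6,false),(4,false),(5,false)]⟩,⟨905,[],[(4,false),(6,false),(4,false),(1,false),(5,false)]⟩]))
 (.one .base))
 (.fork (.one (.path 0 [⟨1800,[(110,false)],[(1,false),(2,false),(3,false),(4,false),(5,false),(6,false),(4,false),(5,false),(2,true)]⟩,⟨1001,[],[(1,false),(4,false),(5,false),(2,false),(4,false),(5,false),(4,false),(6,false),(4,false),(2,true),(5,false)]⟩]))
 (.one .base))))
 (.fork (.fork (.fork (.one (.path 6 [⟨650,[(110,true)],[(1,false),(2,false),(3,false),(4,false),(5,false),(2,true)]⟩,⟨143,[(163,false),(114,true)],[(1,false),(5,false),(4,false),(1,false),(2,true)]⟩,⟨173,[(65,false),(63,true),(191,true),(64,false)],[(2,false),(3,false),(4,false),(5,false),(4,false),(6,false),(4,false)]⟩]))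
 (.one .base))
 (.fork (.one (.path 7 [⟨378,[],[(3,false),(5,false),(2,false),(6,false),(4,false),(1,false),(5,false),(4,false),(2,true)]⟩,⟨284,[],[(0,false),(4,false),(5,false),(4,false),(6,false),(4,false),(1,false),(4,false),(5,false),(2,false),(5,false)]⟩,⟨635,[(191,true),(72,true),(65,false)],[(1,false),(2,false),(5,false),(4,false),(1,false),(4,false),(6,false),(2,true),(5,false),(2,false)]⟩]))
 (.one .base)))
 (.fork (.fork (.one (.path 6 [⟨1378,[(109,false)],[(2,true),(5,false),(4,false),(5,false),(2,false),(5,false),(4,false),(6,false),(4,false)]⟩,⟨1195,[],[(0,false),(4,false),(5,false),(4,false),(2,true),(5,false),(2,false),(4,false),(5,false),(2,false),(4,false)]⟩,⟨1498,[(109,false)],[(5,false),(6,false),(4,false),(1,false),(4,false),(2,true),(5,false),(2,false),(4,false)]⟩]))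
 (.one .base))
 (.fork (.one (.path 0 [⟨669,[],[(0,false),(2,true),(5,false)]⟩,⟨3885,[],[(6,false),(2,true),(5,false),(4,false),(6,false),(2,true),(5,false),(4,false),(5,false)]⟩]))
 (.one .base))))))
 (.fork (.fork (.fork (.fork (.fork (.one (.path 13 [⟨118,[],[(3,false),(2,true),(5,false),(2,false),(4,false),(5,false),(2,false),(4,false),(1,false),(4,false)]⟩,⟨130,[(64,false),(72,false),(65,false)],[(4,false),(6,false),(4,false),(5,false),(4,false),(1,false),(5,false),(2,false),(4,false)]⟩,⟨166,[(121,true),(137,true),(121,false)],[(4,false),(5,false),(4,false),(5,false),(6,false),(2,true),(5,false),(4,false),(6,false)]⟩]))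
 (.one (.path 0 [⟨3840,[(3912,false),(3911,true)],[(4,false),(3,false),(6,false),(2,true),(5,false),(4,false),(5,false),(6,false),(4,false),(2,true)]⟩,⟨3915,[],[(2,false),(4,false),(1,false),(3,false),(4,false),(5,false),(2,false),(6,false),(4,false),(1,false),(4,false)]⟩])))
 (.fork (.one (.path 4 [⟨2062,[],[(4,false),(5,false),(6,false),(4,false),(1,false),(4,false),(2,true)]⟩,⟨410,[(110,false),(109,false)],[(1,false),(6,false),(4,false),(5,false),(4,false),(5,false),(2,true),(5,false)]⟩,⟨719,[(83,true),(57,false)],[(0,false),(1,false),(5,false),(6,false),(4,false),(5,false),(4,false),(2,true)]⟩]))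
 (.one .base)))
 (.fork (.fork (.one (.path 6 [⟨460,[(163,false)],[(1,false),(5,false),(2,false),(6,false)]⟩,⟨492,[(64,false),(191,true),(72,true),(63,true)],[(0,false),(1,false),(4,false),(5,false),(4,false),(2,true),(5,false),(2,true)]⟩,⟨999,[(204,true),(158,false),(204,false),(172,false),(158,false)],[(3,false),(4,false),(5,false),(2,false),(4,false),(1,false),(5,false),(4,false),(6,false)]⟩]))
 (.one .base))
 (.fork (.one (.path 0 [⟨2680,[(110,false)],[(0,false),(4,false),(2,true),(5,false),(4,false),(2,true),(5,false),(4,false),(6,false)]⟩,⟨2275,[],[(1,false),(4,false),(6,false),(4,false),(5,false),(2,true),(5,false),(4,false),(5,false),(2,true)]⟩]))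
 (.one .base))))
 (.fork (.fork (.fork (.one (.path 7 [⟨559,[(158,false),(204,false),(158,false),(204,false),(158,false)],[(5,false),(6,false),(4,false),(1,false),(4,false),(1,false),(5,false),(2,false)]⟩,⟨238,[],[(0,false),(2,false),(5,false),(4,false),(1,false),(5,false),(2,false),(6,false),(4,false)]⟩,⟨407,[(57,false),(83,true),(54,false)],[(0,false),(2,false),(5,false),(2,false),(4,false),(1,false),(6,false),(4,false),(1,false),(5,false)]⟩]))
 (.one .base))
 (.fork (.one (.path 2 [⟨517,[],[(1,false),(6,false),(4,false)]⟩,⟨2049,[(163,true),(114,false),(163,false)],[(4,false),(5,false),(2,false),(6,false),(4,false),(5,false),(4,false),(1,false),(4,false),(2,true)]⟩,⟨1503,[(110,true)],[(1,false),(2,false),(4,false),(1,false),(3,false),(5,false),(6,false),(4,false),(5,false),(2,true),(5,false)]⟩]))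
 (.one .base)))
 (.fork (.fork (.one (.path 1 [⟨794,[(114,false),(163,true),(114,true),(113,false)],[(0,false),(5,false),(4,false),(6,false),(4,false),(5,false)]⟩,⟨1607,[],[(1,false),(3,false),(4,false),(6,false),(4,false),(2,true),(5,false),(4,false),(2,true),(5,false),(4,false)]⟩]))
 (.one .base))
 (.fork (.one (.path 0 [⟨3522,[],[(6,false),(2,true),(5,false),(4,false),(1,false),(6,false),(4,false),(1,false),(5,false)]⟩,⟨3131,[],[(0,false),(5,false),(4,false),(1,false),(5,false),(6,false),(4,false),(1,false),(5,false),(4,false),(6,false)]⟩]))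
 (.one .base)))))
 (.fork (.fork (.fork (.fork (.one (.path 1 [⟨370,[],[(5,false),(2,false),(4,false),(3,false),(5,false),(4,false),(6,false),(4,false),(1,false),(2,true)]⟩,⟨302,[],[(0,false),(1,false),(2,false),(5,false),(6,false)]⟩]))
 (.one .base))
 (.fork (.one (.path 1 [⟨2124,[],[(1,false),(4,false),(3,false),(6,false),(4,false),(2,true),(5,false),(4,false),(1,false),(2,true)]⟩,⟨2446,[(110,false)],[(0,false),(1,false),(4,false),(5,false),(6,false),(4,false),(2,true),(5,false),(2,false),(4,false),(5,false)]⟩]))
 (.one .base)))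
 (.fork (.fork (.one (.path 0 [⟨139,[],[(2,false),(6,false),(4,false),(1,false),(3,false),(5,false),(2,true)]⟩,⟨1421,[],[(0,false),(6,false),(4,false),(1,false),(5,false),(4,false),(5,false),(4,false),(2,true),(5,false)]⟩]))
 (.one .base))
 (.fork (.one (.path 0 [⟨3041,[],[(3,false),(5,false),(2,true)]⟩,⟨3495,[],[(0,false),(1,false),(2,false),(6,false),(4,false),(1,false),(5,false),(4,false),(1,false),(6,false),(2,true)]⟩]))
 (.one .base))))
 (.fork (.fork (.fork (.one (.path 2 [⟨436,[(163,false)],[(1,false),(4,false),(1,false),(4,false),(6,false),(4,false),(2,true),(5,false),(4,false),(6,false),(2,true)]⟩,⟨166,[(121,false)],[(3,false),(4,false),(1,false),(5,false),(4,false),(1,false),(6,false),(4,false),(5,false),(2,false)]⟩,⟨693,[(204,false),(158,false),(204,false),(158,false),(204,false)],[(5,false),(6,false),(4,false),(1,false),(4,false),(1,false),(6,false),(2,true)]⟩]))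
 (.one .base))
 (.fork (.one (.path 3 [⟨682,[(110,false)],[(2,false),(5,false),(2,false),(4,false),(1,false),(3,false),(6,false),(4,false),(1,false)]⟩,⟨1615,[(204,false),(172,false),(158,false),(172,false),(158,false)],[(5,false),(2,false),(4,false),(1,false),(4,false),(1,false),(6,false),(4,false),(5,false),(2,true)]⟩,⟨2105,[(109,false)],[(2,false),(6,false),(4,false),(1,false),(5,false),(4,false),(1,false),(5,false)]⟩]))
 (.one .base)))
 (.fork (.fork (.one (.path 0 [⟨1934,[(110,false),(109,false)],[(1,false),(2,false),(5,false),(4,false),(6,false),(4,false),(5,false),(2,false),(4,false),(6,false)]⟩,⟨1654,[(109,false)],[(5,false),(2,false),(5,false),(4,false),(5,false),(4,false),(6,false),(4,false),(2,true)]⟩]))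
 (.one .base))
 (.fork (.one (.path 2 [⟨1071,[(114,false),(113,false)],[(2,false),(4,false),(1,false),(3,false)]⟩,⟨2313,[(110,false),(109,false)],[(1,false),(2,false),(3,false),(6,false),(4,false),(5,false),(2,false),(4,false),(5,false),(6,false),(2,true)]⟩,⟨3947,[(110,true)],[(2,false),(4,false),(1,false),(3,false),(5,false),(4,false),(2,true),(5,false)]⟩]))
 (.one .base)))))))

/-- a part of the justifications -/
noncomputable def twJustT112 : BT Just := (.fork (.fork (.fork (.fork (.fork (.fork (.one (.rev 122))
 (.one (.path 1 [⟨580,[],[(0,false),(4,false),(1,false),(5,false),(4,false),(2,true),(5,false),(2,false),(4,false),(6,false)]⟩,⟨3997,[],[(5,false),(2,false),(4,false),(6,false),(4,false),(1,false),(4,false),(5,false)]⟩])))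
 (.fork (.one (.path 0 [⟨1612,[(110,true)],[(0,false),(4,false),(6,false),(4,false),(5,false),(2,false),(4,false),(5,false),(4,false),(1,false),(5,false)]⟩,⟨787,[],[(1,false),(3,false),(4,false),(6,false),(4,false),(2,true),(5,false),(2,true)]⟩]))
 (.one .base)))
 (.fork (.fork (.one (.path 0 [⟨1112,[(110,true)],[(0,false),(4,false),(5,false),(6,false),(4,false),(5,false),(2,false),(4,false),(6,false)]⟩,⟨799,[],[(2,false),(4,false),(6,false),(4,false),(5,false),(4,false),(5,false),(6,false),(2,true),(5,false)]⟩]))
 (.one .base))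
 (.fork (.one (.path 0 [⟨654,[(110,false)],[(5,false),(2,false),(4,false),(1,false),(5,false),(4,false),(1,false),(6,false),(2,true)]⟩,⟨1725,[],[(0,false),(1,false),(5,false),(4,false),(5,false),(2,false),(5,false),(4,false),(5,false),(6,false)]⟩]))
 (.one .base))))
 (.fork (.fork (.fork (.one (.path 7 [⟨115,[(65,false),(72,false)],[(4,false),(6,false),(4,false),(2,true),(5,false),(4,false),(2,true)]⟩,⟨465,[(110,true)],[(0,false),(2,false),(4,false),(5,false),(2,false),(6,false),(4,false),(5,false),(2,true),(5,false)]⟩,⟨559,[],[(3,false),(5,false),(4,false),(5,false),(2,true),(5,false),(4,false),(5,false)]⟩]))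
 (.one .base))
 (.fork (.one (.path 0 [⟨1460,[(109,false)],[(0,false),(4,false),(1,false),(4,false),(5,false),(6,false),(4,false),(5,false),(2,false),(4,false)]⟩,⟨1461,[],[(2,false),(5,false),(6,false),(4,false),(2,true),(5,false),(2,false),(4,false),(6,false)]⟩]))
 (.one .base)))
 (.fork (.fork (.one (.path 6 [⟨408,[(110,false),(109,false)],[(1,false),(5,false),(6,false),(4,false),(3,false),(2,true),(5,false),(4,false),(1,false),(4,false),(6,false)]⟩,⟨237,[(83,false),(57,false),(54,false)],[(3,false),(4,false),(1,false),(4,false),(5,false),(4,false),(5,false),(6,false),(4,false)]⟩,⟨1506,[(110,false)],[(1,false),(2,false),(4,false),(6,false),(4,false),(1,false),(4,false),(5,false),(6,false)]⟩]))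
 (.one .base))
 (.fork (.one (.path 1 [⟨2107,[],[(0,false),(5,false),(2,false),(4,false),(1,false),(5,false),(2,true)]⟩,⟨3357,[(110,true),(109,false)],[(2,false),(4,false),(6,false),(4,false),(5,false),(4,false),(2,true),(5,false),(4,false),(6,false)]⟩]))
 (.one .base)))))
 (.fork (.fork (.fork (.fork (.one (.path 4 [⟨171,[],[(1,false),(6,false),(2,true),(5,false)]⟩,⟨209,[],[(1,false),(2,false)]⟩,⟨229,[(204,true),(158,false)],[(1,false),(5,false),(2,false),(4,false),(1,false),(4,false),(5,false),(4,false)]⟩]))
 (.one .base))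
 (.fork (.one (.path 1 [⟨2099,[],[(6,false),(2,true),(5,false),(2,true)]⟩,⟨2307,[(110,false)],[(1,false),(2,false),(5,false),(4,false),(1,false),(4,false),(6,false),(4,false),(5,false),(2,false)]⟩]))
 (.one .base)))
 (.fork (.fork (.one (.path 6 [⟨469,[],[(1,false),(2,false)]⟩,⟨381,[(163,true),(114,false),(113,false)],[(0,false),(1,false),(5,false),(2,false),(4,false)]⟩,⟨873,[(132,false),(121,false),(121,false)],[(1,false),(4,false),(5,false),(6,false),(4,false),(5,false),(4,false),(2,true)]⟩]))
 (.one .base))
 (.fork (.one (.path 0 [⟨2056,[],[(1,false),(4,false),(5,false),(4,false),(5,false),(6,false),(2,true),(5,false),(4,false),(6,false)]⟩,⟨1945,[],[(1,false),(2,false),(3,false),(4,false),(6,false),(4,false),(5,false),(2,false)]⟩]))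
 (.one .base))))
 (.fork (.fork (.fork (.one (.path 1 [⟨182,[(158,false),(204,false),(158,false),(204,false)],[(5,false),(4,false),(3,false),(6,false),(4,false),(1,false),(2,true)]⟩,⟨763,[],[(1,false),(5,false),(4,false),(5,false),(2,false),(4,false),(6,false),(4,false),(1,false),(5,false)]⟩]))
 (.one .base))
 (.fork (.one (.path 6 [⟨2527,[],[(1,false),(5,false),(2,true)]⟩,⟨2553,[(110,true),(109,false)],[(1,false),(2,true),(5,false),(2,false),(4,false),(3,false),(5,false),(4,false),(1,false),(2,true)]⟩,⟨2446,[(109,false)],[(2,false),(3,false),(4,false),(1,false),(4,false),(5,false),(4,false),(5,false),(2,true)]⟩]))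
 (.one .base)))
 (.fork (.fork (.one (.path 0 [⟨1910,[(110,true),(109,false)],[(3,false),(4,false),(6,false),(2,true),(5,false),(4,false),(5,false),(2,false),(6,false)]⟩,⟨1704,[],[(0,false),(2,false),(6,false),(4,false),(5,false),(4,false),(2,true),(5,false)]⟩]))
 (.one .base))
 (.fork (.one (.path 2 [⟨2338,[],[(4,false),(3,false),(2,true),(5,false),(4,false)]⟩,⟨732,[(110,true),(109,false)],[(0,false),(4,false),(5,false),(6,false),(4,false),(5,false),(4,false),(2,true)]⟩,⟨3937,[(110,false),(109,false)],[(1,false),(2,true),(5,false),(4,false),(5,false),(4,false),(1,false),(2,true)]⟩]))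
 (.one .base))))))
 (.fork (.fork (.fork (.fork (.fork (.one (.path 7 [⟨202,[(163,true),(114,true)],[(0,false),(6,false),(2,true),(5,false),(2,false),(4,false),(5,false),(4,false),(6,false),(2,true),(5,false)]⟩,⟨193,[],[(3,false),(5,false),(4,false),(6,false),(4,false),(1,false),(4,false),(2,true),(5,false),(2,false)]⟩,⟨223,[(83,true),(56,false),(54,false)],[(1,false),(2,false),(3,false),(4,false),(1,false),(5,false),(4,false),(6,false),(2,true)]⟩]))
 (.one (.path 8 [⟨4336,[(4322,false),(4321,true)],[(3,false),(5,false),(2,false),(5,false),(4,false),(6,false),(4,false),(1,false),(4,false),(6,false)]⟩,⟨4180,[(3912,false),(3911,false),(3912,true),(3911,true)],[(0,false),(6,false),(4,false),(1,false),(4,false),(1,false),(5,false),(2,false),(6,false),(4,false)]⟩,⟨2060,[(110,false)],[(4,false),(5,false),(2,false),(4,false),(1,false),(5,false),(4,false),(5,false),(4,false)]⟩])))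
 (.fork (.one (.path 0 [⟨2019,[],[(0,false),(2,true)]⟩,⟨2054,[(110,true),(109,false)],[(1,false),(5,false),(4,false),(1,false),(4,false),(6,false),(2,true),(5,false),(2,false),(4,false),(1,false)]⟩]))
 (.one .base)))
 (.fork (.fork (.one (.path 1 [⟨252,[(204,true),(172,false)],[(0,false),(4,false),(2,true),(5,false),(4,false),(2,true),(5,false),(4,false),(1,false)]⟩,⟨1239,[(114,true),(163,false)],[(0,false),(2,false),(4,false),(6,false),(4,false),(5,false),(2,false),(4,false),(5,false),(2,false)]⟩]))
 (.one .base))
 (.fork (.one (.path 0 [⟨2957,[],[(3,false),(4,false),(5,false),(4,false)]⟩,⟨1508,[(110,true),(109,false)],[(3,false),(4,false),(6,false),(2,true),(5,false),(2,true)]⟩]))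
 (.one .base))))
 (.fork (.fork (.fork (.one (.path 2 [⟨391,[(121,true),(132,false),(121,false)],[(3,false),(2,true)]⟩,⟨165,[],[(0,false),(2,false),(5,false),(6,false),(4,false),(1,false),(5,false),(2,false),(4,false),(1,false)]⟩,⟨585,[(114,false)],[(1,false),(4,false),(5,false),(6,false),(4,false),(5,false),(4,false),(6,false),(2,true)]⟩]))
 (.one .base))
 (.fork (.one (.path 0 [⟨2403,[],[]⟩,⟨2520,[],[(4,false),(1,false),(4,false),(2,true),(5,false),(2,false),(4,false),(1,false),(4,false)]⟩]))
 (.one .base)))
 (.fork (.fork (.one (.path 4 [⟨389,[(121,false),(137,true),(132,false),(121,false)],[(1,false),(4,false),(6,false),(4,false),(2,true),(5,false),(4,false),(5,false),(2,false),(6,false)]⟩,⟨296,[(114,false),(163,true)],[(2,false),(5,false),(6,false),(4,false),(5,false),(4,false),(2,true),(5,false),(4,false),(1,false)]⟩,⟨1079,[(121,false),(137,false),(121,false)],[(4,false),(6,false),(4,false),(5,false),(4,false),(2,true),(5,false),(4,false),(5,false)]⟩]))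
 (.one .base))
 (.fork (.one (.path 7 [⟨478,[(114,true),(163,false)],[(3,false),(4,false),(1,false),(4,false),(2,true),(5,false),(2,false),(4,false)]⟩,⟨211,[],[(5,false),(2,false),(6,false),(4,false),(5,false),(4,false),(1,false),(5,false),(2,false)]⟩,⟨3831,[(110,false)],[(2,false),(3,false),(4,false),(5,false),(4,false),(1,false),(6,false),(4,false),(1,false)]⟩]))
 (.one .base)))))
 (.fork (.fork (.fork (.fork (.one (.path 13 [⟨144,[(58,false),(57,false),(55,false)],[(5,false),(2,false),(4,false),(1,false),(6,false),(4,false),(1,false),(5,false),(2,true)]⟩,⟨372,[(121,true),(132,false)],[(4,false),(1,false),(4,false),(5,false),(4,false),(1,false),(4,false),(5,false),(2,true)]⟩,⟨385,[(114,false),(113,false)],[(0,false),(1,false),(2,false),(5,false),(4,false),(6,false),(4,false),(2,true)]⟩]))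
 (.one .base))
 (.fork (.one (.path 13 [⟨2211,[],[(1,false),(6,false),(4,false),(3,false),(2,true),(5,false),(2,false),(4,false),(1,false),(4,false)]⟩,⟨2225,[(110,true)],[(0,false),(5,false),(4,false),(1,false),(6,false),(4,false),(5,false),(4,false)]⟩,⟨1940,[(110,false),(109,false)],[(1,false),(2,false),(5,false),(4,false),(5,false),(2,false),(5,false),(4,false),(1,false)]⟩]))
 (.one .base)))
 (.fork (.fork (.one (.path 13 [⟨490,[(109,false)],[(0,false),(5,false),(2,true),(5,false),(4,false),(1,false),(4,false),(6,false),(4,false),(1,false)]⟩,⟨253,[],[(0,false),(2,true),(5,false),(4,false),(2,true),(5,false),(4,false),(2,true)]⟩,⟨1411,[(121,true),(137,true),(121,true)],[(0,false),(1,false),(6,false),(4,false),(5,false),(4,false),(6,false),(2,true),(5,false)]⟩]))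
 (.one .base))
 (.fork (.one (.path 0 [⟨3392,[(110,true)],[(0,false),(4,false),(6,false),(4,false),(1,false),(2,true)]⟩,⟨1857,[],[(2,false),(3,false),(5,false),(4,false),(5,false),(6,false),(4,false)]⟩]))
 (.one .base))))
 (.fork (.fork (.fork (.one (.path 3 [⟨586,[],[(0,false),(1,false),(6,false),(2,true),(5,false),(2,false),(4,false),(1,false),(4,false),(5,false)]⟩,⟨670,[(114,false),(113,false)],[(6,false),(2,true),(5,false),(4,false),(1,false),(3,false),(2,true),(5,false),(4,false),(6,false)]⟩,⟨539,[(137,true),(132,false),(121,false),(121,false)],[(1,false),(5,false),(2,false),(4,false),(3,false),(5,false),(4,false),(6,false),(4,false)]⟩]))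
 (.one .base))
 (.fork (.one (.path 1 [⟨2365,[],[(3,false),(4,false)]⟩,⟨2342,[(110,false)],[(0,false),(4,false),(1,false),(4,false),(5,false),(2,true),(5,false),(4,false)]⟩]))
 (.one .base)))
 (.fork (.fork (.one (.path 0 [⟨902,[(110,false),(109,false)],[(5,false),(4,false),(5,false),(4,false),(6,false),(2,true),(5,false),(2,false)]⟩,⟨1461,[],[(2,false),(4,false),(5,false),(2,false),(4,false),(6,false),(4,false),(5,false),(2,false),(4,false)]⟩]))
 (.one .base))
 (.fork (.one (.path 1 [⟨3894,[(3912,false)],[(0,false),(1,false),(2,false),(6,false),(4,false),(5,false),(2,false),(4,false),(5,false),(2,true),(5,false)]⟩,⟨1087,[],[(1,false),(2,false),(4,false),(5,false),(4,false),(6,false),(2,true)]⟩]))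
 (.one .base)))))))

/-- a part of the justifications -/
noncomputable def twJustT113 : BT Just := (.fork (.fork (.fork (.fork (.fork (.fork (.one .def')
 (.one (.path 7 [⟨4036,[(3912,true),(3911,false)],[(0,false),(1,false),(4,false),(5,false),(6,false),(4,false),(1,false),(4,false),(2,true),(5,false)]⟩,⟨871,[(137,false),(121,true),(137,true),(132,false)],[(5,false),(6,false),(2,true),(5,false),(4,false),(6,false)]⟩,⟨3633,[(110,false)],[(4,false),(1,false),(4,false),(5,false),(4,false),(5,false),(2,false),(5,false)]⟩])))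
 (.fork (.one (.path 0 [⟨686,[(109,false)],[(2,false),(5,false),(4,false),(1,false),(4,false),(5,false),(2,false),(4,false)]⟩,⟨627,[],[(4,false),(1,false),(6,false),(4,false),(1,false),(4,false),(6,false),(2,true),(5,false),(4,false),(1,false)]⟩]))
 (.one .base)))
 (.fork (.fork (.one (.path 1 [⟨396,[(110,true)],[(2,false),(5,false),(4,false),(6,false),(4,false),(1,false),(4,false),(5,false),(6,false),(4,false)]⟩,⟨965,[],[(2,true),(5,false),(4,false),(1,false),(5,false),(4,false),(1,false)]⟩]))
 (.one .base))
 (.fork (.one (.path 0 [⟨2054,[],[(5,false),(2,false),(6,false),(4,false),(5,false)]⟩,⟨3070,[],[(1,false),(2,false),(5,false),(4,false),(3,false),(6,false),(2,true),(5,false),(2,true)]⟩]))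
 (.one .base))))
 (.fork (.fork (.fork (.one (.path 1 [⟨344,[(114,true),(163,true),(114,false),(113,false)],[(1,false),(2,false),(6,false),(4,false),(1,false),(4,false),(5,false),(6,false),(4,false),(2,true)]⟩,⟨135,[(132,true),(121,false),(137,false),(121,false)],[(1,false),(3,false),(5,false),(4,false),(2,true),(5,false),(2,false),(4,false),(5,false),(4,false)]⟩]))
 (.one .base))
 (.fork (.one (.path 1 [⟨986,[],[(2,false),(4,false),(1,false),(3,false),(6,false),(4,false),(5,false),(2,false),(4,false),(6,false)]⟩,⟨1269,[],[(0,false),(1,false),(5,false),(4,false),(6,false),(4,false),(1,false),(4,false),(5,false),(4,false)]⟩]))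
 (.one .base)))
 (.fork (.fork (.one (.path 0 [⟨1237,[],[(2,false),(3,false)]⟩,⟨1321,[],[(0,false),(1,false),(6,false),(4,false),(5,false),(4,false),(1,false),(5,false)]⟩]))
 (.one .base))
 (.fork (.one (.path 1 [⟨2019,[],[(3,false)]⟩,⟨3157,[(110,true),(109,false)],[(1,false),(2,false),(3,false),(4,false),(5,false),(2,false),(4,false),(5,false),(2,false),(4,false)]⟩]))
 (.one .base)))))
 (.fork (.fork (.fork (.fork (.one (.path 11 [⟨71,[(100,true),(83,true)],[(1,false),(4,false),(3,false),(5,false),(4,false),(1,false),(4,false),(5,false),(2,true)]⟩,⟨111,[(10,false),(13,false),(14,false),(13,false),(15,false),(11,true),(9,false)],[(1,false),(4,false),(1,false),(3,false),(6,false),(4,false),(5,false),(2,false),(4,false),(1,false)]⟩,⟨239,[(114,true),(163,true),(114,false)],[(1,false),(4,false),(1,false),(6,false),(4,false),(5,false)]⟩]))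
 (.one (.rev 4358)))
 (.fork (.one (.path 8 [⟨1058,[(110,false)],[(0,false),(5,false),(4,false),(6,false),(2,true),(5,false),(4,false),(1,false),(5,false),(6,false)]⟩,⟨655,[(163,true),(114,true),(163,false),(113,false)],[(2,false),(3,false),(4,false),(1,false),(4,false),(5,false),(4,false),(5,false),(2,false),(5,false)]⟩,⟨2266,[(110,false),(109,false)],[(4,false),(3,false),(6,false),(4,false),(1,false),(5,false),(4,false),(1,false),(2,true),(5,false)]⟩]))
 (.one .base)))
 (.fork (.fork (.one (.path 2 [⟨1263,[(158,false),(204,true),(158,false),(204,true),(158,false)],[(0,false),(1,false),(5,false),(2,false),(6,false)]⟩,⟨360,[],[(0,false),(4,false),(5,false),(6,false),(4,false),(5,false),(4,false),(6,false)]⟩,⟨1013,[(100,false),(55,false)],[(0,false),(6,false),(2,true),(5,false),(2,false),(4,false),(5,false),(4,false),(1,false),(5,false),(2,false),(6,false)]⟩]))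
 (.one .base))
 (.fork (.one (.path 2 [⟨2668,[],[(6,false),(2,true),(5,false),(4,false),(1,false),(4,false),(6,false),(4,false),(1,false),(2,true)]⟩,⟨636,[],[(4,false),(5,false),(2,true),(5,false),(4,false),(5,false),(4,false),(1,false),(6,false)]⟩,⟨411,[(64,true),(65,true),(191,true)],[(5,false),(6,false),(2,true),(5,false),(4,false),(5,false),(4,false),(6,false)]⟩]))
 (.one .base))))
 (.fork (.fork (.fork (.one (.path 0 [⟨543,[],[(2,false),(3,false)]⟩,⟨743,[(163,true),(114,false),(163,false)],[(1,false),(2,false),(3,false),(4,false),(1,false),(6,false),(4,false),(5,false),(2,true)]⟩]))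
 (.one .base))
 (.fork (.one (.path 3 [⟨512,[],[(5,false),(4,false),(1,false),(4,false),(6,false),(4,false),(1,false),(2,true),(5,false)]⟩,⟨141,[(83,true),(55,false)],[(1,false),(3,false),(5,false),(4,false),(2,true),(5,false),(2,false),(4,false),(6,false)]⟩,⟨1641,[(191,true),(72,true),(65,false),(64,true)],[(0,false),(6,false),(4,false),(1,false),(5,false),(4,false),(1,false),(6,false),(4,false),(5,false)]⟩]))
 (.one .base)))
 (.fork (.fork (.one (.path 6 [⟨466,[],[(6,false),(4,false),(5,false)]⟩,⟨208,[],[(4,false),(1,false),(4,false),(1,false),(5,false),(4,false),(1,false)]⟩,⟨1717,[(163,false),(113,false)],[(1,false),(4,false),(6,false),(4,false),(1,false),(4,false),(1,false)]⟩]))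
 (.one .base))
 (.fork (.one (.path 5 [⟨1094,[(109,false)],[(0,false),(2,false),(4,false),(5,false),(6,false),(2,true)]⟩,⟨431,[(121,true),(137,false),(132,true)],[(0,false),(6,false),(4,false),(1,false),(2,true),(5,false),(4,false),(5,false),(4,false),(2,true),(5,false)]⟩,⟨3835,[(114,true),(163,true),(114,true)],[(0,false),(5,false),(2,false),(4,false),(1,false),(6,false),(4,false),(1,false),(4,false),(6,false)]⟩]))
 (.one .base))))))
 (.fork (.fork (.fork (.fork (.fork (.one (.path 10 [⟨134,[(132,false),(121,false),(132,false),(121,false),(132,false),(121,false)],[(1,false),(4,false),(5,false),(4,false),(5,false),(6,false),(4,false),(5,false)]⟩,⟨62,[(72,true)],[(0,false),(1,false),(4,false),(1,false),(6,false),(2,true),(5,false),(4,false),(6,false)]⟩,⟨107,[(15,false),(13,false),(14,false),(13,false),(15,false),(9,false)],[(2,false),(4,false),(5,false),(6,false),(4,false),(1,false),(4,false),(1,false)]⟩]))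
 (.one (.path 0 [⟨2123,[],[(0,false),(1,false)]⟩,⟨4007,[],[(6,false),(4,false),(5,false),(2,false),(4,false),(1,false),(5,false),(4,false),(5,false),(2,true)]⟩])))
 (.fork (.one (.path 2 [⟨1728,[],[(2,false),(5,false),(4,false),(3,false),(5,false),(2,true),(5,false),(4,false),(6,false)]⟩,⟨1739,[(114,true),(163,false),(113,false)],[(0,false),(6,false),(2,true),(5,false),(4,false),(1,false),(4,false),(5,false),(2,false)]⟩,⟨2086,[(109,false)],[(5,false),(4,false),(2,true),(5,false),(2,false),(4,false),(5,false),(2,false),(4,false),(5,false)]⟩]))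
 (.one .base)))
 (.fork (.fork (.one (.path 7 [⟨964,[],[(0,false),(5,false),(2,false),(4,false),(5,false),(4,false),(2,true),(5,false),(2,false)]⟩,⟨663,[],[(3,false),(6,false),(2,true),(5,false),(2,false),(4,false),(5,false),(2,false),(4,false),(1,false)]⟩,⟨579,[(110,true),(109,false)],[(1,false),(3,false),(5,false),(6,false),(4,false),(2,true),(5,false),(2,false)]⟩]))
 (.one .base))
 (.fork (.one (.path 0 [⟨2137,[],[(6,false)]⟩,⟨3164,[(110,false)],[(0,false),(6,false),(4,false),(5,false),(2,false),(5,false),(4,false),(1,false),(4,false),(6,false)]⟩]))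
 (.one .base))))
 (.fork (.fork (.fork (.one (.path 9 [⟨531,[(114,false),(113,false)],[(2,false),(4,false),(3,false),(6,false)]⟩,⟨520,[],[(4,false),(6,false),(2,true),(5,false),(2,false),(4,false),(5,false),(2,false),(4,false)]⟩,⟨574,[(114,false),(163,true),(114,false)],[(0,false),(2,false),(5,false),(4,false),(1,false),(6,false),(4,false),(1,false),(4,false)]⟩]))
 (.one .base))
 (.fork (.one (.path 2 [⟨1153,[(110,true)],[(1,false),(6,false),(2,true),(5,false),(4,false),(5,false),(2,true),(5,false)]⟩,⟨1593,[],[(1,false),(4,false),(6,false),(4,false),(5,false),(4,false),(1,false),(6,false),(4,false)]⟩,⟨2492,[(109,false)],[(1,false),(4,false),(3,false),(6,false),(2,true),(5,false),(4,false),(5,false),(2,true)]⟩]))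
 (.one .base)))
 (.fork (.fork (.one (.path 1 [⟨1592,[],[(1,false),(6,false),(2,true),(5,false),(2,false),(4,false),(5,false),(2,false),(4,false)]⟩,⟨1514,[(163,true),(114,false),(113,false)],[(1,false),(4,false),(1,false),(5,false),(2,false),(4,false),(1,false),(5,false),(2,true)]⟩]))
 (.one .base))
 (.fork (.one (.path 0 [⟨3322,[(110,true),(109,false)],[(0,false),(6,false),(4,false),(1,false),(4,false),(1,false),(5,false),(6,false),(2,true)]⟩,⟨2819,[],[(0,false),(6,false),(4,false),(2,true),(5,false),(4,false),(6,false),(2,true),(5,false),(2,false)]⟩]))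
 (.one .base)))))
 (.fork (.fork (.fork (.fork (.one (.path 8 [⟨332,[(137,false),(132,true),(121,true)],[(5,false),(2,true),(5,false),(4,false),(1,false),(5,false),(4,false),(6,false),(2,true)]⟩,⟨124,[(57,false),(55,false),(54,false)],[(1,false),(4,false),(5,false),(2,false),(4,false),(5,false),(2,true),(5,false),(4,false),(1,false)]⟩,⟨164,[(163,false)],[(5,false),(6,false),(4,false),(1,false),(3,false),(5,false),(4,false),(2,true)]⟩]))
 (.one .base))
 (.fork (.one (.path 13 [⟨1238,[],[(5,false),(2,false),(4,false),(3,false),(6,false),(4,false),(1,false),(5,false),(4,false)]⟩,⟨390,[],[(0,false),(1,false),(4,false),(1,false),(5,false),(6,false),(4,false),(5,false),(2,false),(5,false)]⟩,⟨299,[(132,false),(121,false)],[(1,false),(2,false),(5,false),(4,false),(3,false),(5,false),(2,true),(5,false)]⟩]))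
 (.one .base)))
 (.fork (.fork (.one (.path 2 [⟨605,[(121,false),(121,false)],[(1,false),(2,false),(5,false),(2,true)]⟩,⟨326,[(109,false)],[(2,false),(5,false),(4,false),(2,true),(5,false),(2,false),(4,false),(5,false),(4,false)]⟩,⟨813,[(55,false),(83,false),(55,false)],[(1,false),(3,false),(4,false),(5,false),(4,false),(5,false),(2,false),(6,false),(4,false)]⟩]))
 (.one .base))
 (.fork (.one (.path 1 [⟨2326,[(110,true)],[(1,false),(3,false),(6,false),(4,false),(1,false),(5,false),(2,false),(4,false),(5,false)]⟩,⟨825,[],[(0,false),(6,false),(4,false),(5,false),(2,false),(4,false),(1,false),(5,false)]⟩]))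
 (.one .base))))
 (.fork (.fork (.fork (.one (.path 7 [⟨159,[(83,true),(57,false)],[(5,false),(4,false),(1,false),(4,false),(1,false),(6,false),(4,false),(2,true),(5,false)]⟩,⟨695,[(158,false),(172,false),(158,false)],[(4,false),(3,false),(2,true),(5,false),(2,false),(4,false),(1,false),(4,false),(5,false)]⟩,⟨564,[(110,false),(109,false)],[(1,false),(4,false),(1,false),(3,false),(6,false),(4,false),(1,false),(2,true),(5,false)]⟩]))
 (.one .base))
 (.fork (.one (.path 1 [⟨1004,[],[(1,false),(4,false),(2,true),(5,false),(4,false),(1,false),(5,false),(4,false),(6,false),(2,true)]⟩,⟨893,[],[(3,false),(5,false),(2,false),(4,false),(1,false),(5,false),(6,false),(4,false),(5,false)]⟩]))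
 (.one .base)))
 (.fork (.fork (.one (.path 2 [⟨1758,[(110,false),(109,false)],[(1,false),(3,false),(4,false),(6,false),(2,true),(5,false),(4,false),(1,false),(2,true),(5,false)]⟩,⟨1316,[(163,true),(114,true),(163,false),(114,false),(113,false)],[(3,false),(6,false),(4,false),(1,false),(2,true)]⟩,⟨1865,[],[(4,false),(6,false),(4,false),(1,false),(4,false),(1,false),(6,false),(4,false),(2,true)]⟩]))
 (.one .base))
 (.fork (.one (.path 5 [⟨1909,[(110,true),(109,false)],[(1,false),(6,false),(2,true),(5,false),(4,false),(5,false),(4,false)]⟩,⟨2434,[(110,true),(109,false)],[(0,false),(4,false),(1,false),(4,false),(5,false),(4,false),(2,true),(5,false)]⟩,⟨3841,[(110,true),(109,false)],[(1,false),(5,false),(4,false),(1,false),(6,false),(2,true),(5,false)]⟩]))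
 (.one .base)))))))

/-- a part of the justifications -/
noncomputable def twJustT114 : BT Just := (.fork (.fork (.fork (.fork (.fork (.fork (.one (.rev 70))
 (.one (.path 0 [⟨1538,[],[(4,false),(5,false),(2,false),(4,false),(5,false),(6,false),(2,true),(5,false),(4,false)]⟩,⟨3887,[],[(0,false),(2,false),(6,false),(4,false),(1,false),(4,false),(1,false),(5,false),(4,false)]⟩])))
 (.fork (.one (.path 0 [⟨540,[(110,true),(109,false)],[(0,false),(2,false),(6,false)]⟩,⟨135,[(132,true),(121,false),(137,false),(121,false)],[(5,false),(4,false),(6,false),(4,false),(2,true),(5,false),(4,false),(5,false)]⟩]))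
 (.one .base)))
 (.fork (.fork (.one (.path 0 [⟨625,[],[(2,false),(6,false),(4,false),(3,false),(5,false),(2,false)]⟩,⟨924,[],[(1,false),(3,false),(4,false),(1,false),(5,false)]⟩]))
 (.one .base))
 (.fork (.one (.path 1 [⟨2850,[(110,false)],[(4,false),(1,false),(3,false),(6,false),(2,true),(5,false),(4,false),(1,false),(5,false)]⟩,⟨2343,[],[(0,false),(4,false),(5,false),(6,false),(4,false),(1,false),(5,false),(4,false),(1,false)]⟩]))
 (.one .base))))
 (.fork (.fork (.fork (.one (.path 0 [⟨310,[],[(1,false),(2,false),(5,false),(4,false),(5,false),(2,false),(6,false)]⟩,⟨307,[],[(1,false),(2,false),(4,false),(1,false),(6,false),(4,false),(5,false),(2,false),(4,false)]⟩]))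
 (.one .base))
 (.fork (.one (.path 0 [⟨1052,[],[(0,false),(6,false),(4,false),(5,false),(4,false),(6,false),(2,true),(5,false)]⟩,⟨841,[],[(0,false),(1,false),(6,false),(4,false),(5,false),(4,false),(6,false),(2,true),(5,false),(2,true)]⟩]))
 (.one .base)))
 (.fork (.fork (.one (.path 2 [⟨687,[(158,false),(204,true),(158,false),(172,false)],[(3,false),(5,false),(4,false),(5,false),(2,true),(5,false),(4,false),(1,false),(4,false)]⟩,⟨648,[(110,false),(109,false)],[(1,false),(5,false),(4,false),(3,false),(6,false),(2,true),(5,false),(4,false)]⟩,⟨1547,[(114,true),(163,false),(114,true),(113,false)],[(0,false),(5,false),(4,false),(6,false),(4,false),(1,false),(2,true)]⟩]))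
 (.one .base))
 (.fork (.one (.path 0 [⟨1902,[(109,false)],[(1,false),(2,false),(4,false),(3,false),(6,false),(4,false),(5,false),(2,false),(4,false),(1,false),(4,false)]⟩,⟨359,[],[(4,false),(5,false),(2,false),(6,false),(4,false),(5,false),(4,false),(2,true),(5,false),(4,false)]⟩]))
 (.one .base)))))
 (.fork (.fork (.fork (.fork (.one (.path 5 [⟨159,[],[(3,false),(6,false),(2,true)]⟩,⟨169,[],[(0,false),(1,false),(4,false),(6,false),(4,false),(1,false),(4,false)]⟩,⟨279,[(65,false),(64,false),(72,true)],[(2,false),(3,false),(5,false),(4,false),(5,false),(6,false),(2,true)]⟩]))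
 (.one .base))
 (.fork (.one (.path 2 [⟨1426,[(110,true)],[(1,false),(4,false),(5,false),(2,false),(5,false),(4,false),(1,false),(5,false),(2,false),(6,false)]⟩,⟨667,[(121,true),(132,true),(121,false)],[(2,false),(3,false),(4,false),(1,false),(4,false),(6,false),(4,false),(5,false),(4,false),(2,true)]⟩,⟨2170,[(110,false),(109,false)],[(2,false),(3,false),(4,false),(5,false),(4,false),(5,false),(2,true),(5,false),(4,false)]⟩]))
 (.one .base)))
 (.fork (.fork (.one (.path 5 [⟨784,[],[(1,false),(2,false),(6,false)]⟩,⟨750,[(158,false),(204,false),(172,false)],[(3,false),(4,false),(5,false),(2,false),(5,false),(4,false),(1,false)]⟩,⟨523,[(163,false),(114,true),(163,true),(114,false),(113,false)],[(3,false),(5,false),(4,false),(1,false),(5,false),(2,false)]⟩]))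
 (.one .base))
 (.fork (.one (.path 0 [⟨2459,[],[(6,false),(2,true)]⟩,⟨3320,[(110,false),(109,false)],[(3,false),(2,true),(5,false),(4,false),(1,false),(4,false),(6,false),(4,false),(1,false),(5,false)]⟩]))
 (.one .base))))
 (.fork (.fork (.fork (.one (.path 5 [⟨587,[],[(5,false),(6,false),(2,true)]⟩,⟨362,[(172,false),(158,false),(204,false),(158,false)],[(0,false),(4,false),(6,false),(4,false),(1,false),(4,false),(5,false),(4,false),(1,false)]⟩,⟨363,[(64,false),(191,false),(65,true),(64,false)],[(2,false),(3,false),(4,false),(5,false),(2,true),(5,false),(4,false),(5,false),(2,false),(4,false)]⟩]))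
 (.one .base))
 (.fork (.one (.path 13 [⟨2639,[(109,false)],[(0,false),(2,false),(4,false),(5,false),(2,false),(4,false),(5,false),(4,false),(2,true),(5,false),(4,false),(1,false)]⟩,⟨652,[(109,false)],[(3,false),(4,false),(6,false),(4,false),(2,true),(5,false),(2,false),(4,false),(1,false),(4,false)]⟩,⟨1893,[(114,true),(113,false)],[(0,false),(5,false),(4,false),(5,false),(6,false),(4,false),(5,false),(2,true),(5,false)]⟩]))
 (.one .base)))
 (.fork (.fork (.one (.path 1 [⟨1280,[(110,true)],[(1,false),(4,false),(2,true),(5,false),(2,false),(4,false),(5,false),(6,false)]⟩,⟨551,[],[(0,false),(5,false),(4,false),(6,false),(4,false),(1,false),(5,false),(2,false)]⟩]))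
 (.one .base))
 (.fork (.one (.loop 1 (wOf 13 0x3464641232010) [⟨3888,[],[(4,false),(3,false),(5,false),(6,false),(2,true),(5,false),(4,false),(5,false),(2,true),(5,false)]⟩,⟨1899,[(114,false),(163,false),(114,false),(113,false)],[(0,false),(1,false),(4,false),(6,false),(4,false),(5,false),(4,false),(1,false),(5,false),(2,true)]⟩,⟨1033,[(110,false)],[(4,false),(3,false),(5,false),(2,true),(5,false),(4,false),(5,false),(2,false),(6,false)]⟩,⟨3851,[(110,false)],[(1,false),(2,false),(4,false),(5,false),(6,false),(4,false),(1,false),(5,false),(4,false),(1,false)]⟩]))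
 (.one .base))))))
 (.fork (.fork (.fork (.fork (.fork (.one (.rev 198))
 (.one (.path 0 [⟨4240,[(3912,false),(3911,false)],[(1,false),(4,false),(6,false),(4,false),(5,false),(4,false),(2,true),(5,false),(4,false),(1,false)]⟩,⟨4201,[],[(5,false),(4,false),(1,false),(5,false),(2,false),(4,false),(1,false),(6,false),(4,false),(1,false)]⟩])))
 (.fork (.one (.path 1 [⟨1420,[(109,false)],[(0,false),(4,false),(5,false),(6,false),(2,true),(5,false),(4,false),(1,false),(5,false),(6,false)]⟩,⟨1419,[(121,true),(121,true)],[(1,false),(3,false),(5,false),(4,false),(6,false),(2,true),(5,false),(4,false),(1,false),(5,false),(6,false)]⟩]))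
 (.one .base)))
 (.fork (.fork (.one (.path 0 [⟨706,[(114,true),(163,true),(114,true)],[(4,false),(1,false),(5,false),(4,false),(5,false),(4,false),(2,true),(5,false)]⟩,⟨441,[],[(4,false),(5,false),(2,false),(6,false),(4,false),(1,false),(4,false),(5,false),(4,false),(6,false)]⟩]))
 (.one .base))
 (.fork (.one (.path 0 [⟨2776,[],[(1,false),(4,false),(1,false),(5,false),(4,false),(6,false),(4,false),(1,false),(4,false),(1,false)]⟩,⟨1934,[(110,false),(109,false)],[(3,false),(4,false),(6,false),(2,true),(5,false),(2,false),(4,false),(5,false),(4,false),(1,false)]⟩]))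
 (.one .base))))
 (.fork (.fork (.fork (.one (.path 2 [⟨697,[],[(4,false),(1,false),(4,false),(1,false)]⟩,⟨662,[],[(1,false),(5,false),(4,false),(1,false),(3,false),(5,false),(4,false),(6,false),(4,false),(2,true)]⟩,⟨539,[(121,true),(121,true)],[(1,false),(4,false),(5,false),(6,false),(4,false),(5,false),(4,false),(6,false),(2,true),(5,false)]⟩]))
 (.one .base))
 (.fork (.one (.path 2 [⟨1941,[(110,true)],[(0,false),(1,false),(6,false),(2,true),(5,false),(4,false),(1,false),(5,false),(6,false),(2,true)]⟩,⟨2099,[(109,false)],[(2,false),(3,false),(5,false),(4,false),(1,false),(4,false),(2,true),(5,false),(2,false)]⟩,⟨1486,[(110,true),(109,false)],[(0,false),(4,false),(1,false),(6,false),(4,false),(5,false),(4,false)]⟩]))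
 (.one .base)))
 (.fork (.fork (.one (.path 2 [⟨189,[(163,true),(114,false),(163,false),(113,false)],[(6,false),(4,false),(3,false),(2,true),(5,false),(2,false),(4,false),(1,false),(6,false)]⟩,⟨270,[(158,false),(204,false),(158,false),(204,false),(172,false)],[(1,false),(5,false),(4,false),(1,false),(4,false),(2,true),(5,false),(2,false),(4,false),(5,false)]⟩,⟨1229,[(114,false),(163,false)],[(0,false),(6,false),(2,true),(5,false),(4,false),(5,false),(2,false),(6,false)]⟩]))
 (.one .base))
 (.fork (.one (.path 0 [⟨3164,[],[(2,false),(3,false),(4,false),(6,false),(4,false),(5,false),(2,false)]⟩,⟨2650,[(110,false),(109,false)],[(3,false),(4,false),(1,false),(5,false),(4,false),(5,false),(4,false),(2,true),(5,false)]⟩]))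
 (.one .base)))))
 (.fork (.fork (.fork (.fork (.one (.path 1 [⟨263,[],[(0,false),(2,false)]⟩,⟨447,[(158,false),(204,true),(158,false),(204,true),(158,false)],[(3,false),(4,false),(5,false),(2,false),(4,false),(6,false),(4,false)]⟩]))
 (.one .base))
 (.fork (.one (.path 5 [⟨1122,[(110,false)],[(4,false),(1,false),(3,false),(5,false),(2,false),(4,false),(5,false),(4,false),(2,true)]⟩,⟨445,[(204,true),(158,false),(172,false),(158,false)],[(1,false),(4,false),(5,false),(4,false),(6,false),(4,false),(1,false),(5,false),(4,false),(2,true)]⟩,⟨1765,[(163,true),(114,true)],[(0,false),(1,false),(5,false),(6,false),(4,false),(1,false),(5,false),(2,false),(4,false)]⟩]))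
 (.one .base)))
 (.fork (.fork (.one (.path 0 [⟨396,[(110,true)],[(1,false),(5,false),(4,false),(5,false),(2,true),(5,false),(4,false),(1,false),(5,false),(2,true)]⟩,⟨1091,[],[(1,false),(5,false),(4,false),(1,false),(3,false),(4,false),(5,false),(2,false)]⟩]))
 (.one .base))
 (.fork (.one (.path 0 [⟨3322,[(110,true),(109,false)],[(2,false),(6,false),(4,false),(1,false),(4,false),(1,false),(5,false)]⟩,⟨3263,[],[(6,false),(4,false),(5,false),(4,false),(1,false)]⟩]))
 (.one .base))))
 (.fork (.fork (.fork (.one (.path 0 [⟨372,[(132,false),(121,false),(137,false),(121,false)],[(0,false),(5,false),(2,true),(5,false),(4,false),(1,false),(5,false),(6,false),(4,false),(1,false)]⟩,⟨941,[],[(1,false),(3,false),(2,true),(5,false),(2,false),(4,false),(1,false),(5,false),(6,false),(4,false)]⟩]))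
 (.one .base))
 (.fork (.one (.path 3 [⟨1956,[(110,true)],[(3,false),(6,false),(4,false),(1,false),(2,true),(5,false),(4,false),(5,false),(2,true),(5,false)]⟩,⟨2520,[(110,true),(109,false)],[(2,true),(5,false),(4,false),(5,false),(4,false),(6,false),(4,false),(1,false),(4,false)]⟩,⟨1998,[(110,false)],[(2,false),(3,false),(4,false),(1,false),(5,false),(4,false),(1,false),(6,false),(4,false),(1,false)]⟩]))
 (.one .base)))
 (.fork (.fork (.one (.path 0 [⟨1384,[(110,false)],[(4,false),(5,false),(2,false),(6,false),(4,false),(5,false),(4,false),(2,true),(5,false),(4,false)]⟩,⟨1051,[],[(0,false),(1,false),(4,false),(1,false),(5,false),(2,false),(6,false),(4,false),(5,false),(2,true)]⟩]))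
 (.one .base))
 (.fork (.one (.path 2 [⟨1301,[],[(1,false)]⟩,⟨2343,[(110,false),(109,false)],[(0,false),(2,false),(4,false),(6,false),(4,false),(5,false),(4,false),(6,false),(2,true),(5,false),(2,false)]⟩,⟨3933,[(109,false)],[(1,false),(4,false),(2,true),(5,false),(4,false),(1,false),(4,false),(5,false)]⟩]))
 (.one .base)))))))

/-- a part of the justifications -/
noncomputable def twJustT115 : BT Just := (.fork (.fork (.fork (.fork (.fork (.fork (.one (.path 1 [⟨37,[],[(1,false)]⟩,⟨32,[(11,true),(14,false),(10,false)],[(0,false),(4,false),(6,false),(4,false),(1,false),(4,false),(1,false),(5,false),(6,false),(4,false)]⟩]))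
 (.one (.path 7 [⟨4073,[(3912,true),(3911,false),(3911,false),(3912,false)],[(0,false),(5,false),(6,false),(4,false),(2,true),(5,false),(4,false),(2,true),(5,false)]⟩,⟨4107,[(3912,false),(3911,false),(3912,true),(3911,false)],[(1,false),(3,false),(4,false),(6,false),(4,false),(5,false),(2,false),(4,false),(1,false),(5,false),(6,false)]⟩,⟨3092,[],[(0,false),(6,false),(2,true),(5,false),(4,false),(1,false),(5,false),(2,false),(4,false),(1,false)]⟩])))
 (.fork (.one (.path 0 [⟨962,[],[(5,false),(4,false),(1,false),(3,false),(4,false),(5,false),(6,false),(4,false),(2,true)]⟩,⟨965,[],[(2,false),(4,false),(1,false),(5,false),(4,false),(1,false),(6,false),(4,false),(1,false),(5,false)]⟩]))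
 (.one .base)))
 (.fork (.fork (.one (.path 5 [⟨935,[],[(1,false),(3,false),(5,false),(2,true)]⟩,⟨174,[(110,true)],[(4,false),(1,false),(4,false),(1,false),(5,false),(4,false),(6,false),(2,true),(5,false),(4,false)]⟩,⟨337,[(63,false),(191,true),(63,true)],[(0,false),(1,false),(6,false),(4,false),(5,false),(2,false),(4,false),(1,false),(4,false)]⟩]))
 (.one .base))
 (.fork (.one (.path 0 [⟨1408,[(110,false),(109,false)],[(2,true),(5,false),(2,false),(4,false),(5,false),(6,false),(4,false),(2,true),(5,false),(4,false)]⟩,⟨767,[],[(2,false),(3,false),(4,false),(5,false),(2,false),(4,false),(1,false),(5,false),(6,false),(2,true)]⟩]))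
 (.one .base))))
 (.fork (.fork (.fork (.one (.path 0 [⟨445,[],[(0,false),(1,false),(6,false)]⟩,⟨521,[(114,true),(163,true),(114,false)],[(0,false),(2,false),(5,false),(4,false),(6,false),(4,false),(2,true),(5,false)]⟩]))
 (.one .base))
 (.fork (.one (.path 2 [⟨1502,[(109,false)],[(1,false),(4,false),(5,false),(2,false),(4,false),(6,false),(4,false),(1,false),(5,false),(4,false)]⟩,⟨552,[],[(0,false),(2,false),(5,false),(2,false),(4,false),(6,false),(4,false),(5,false)]⟩,⟨447,[(204,false),(172,false),(158,false),(172,false),(158,false)],[(1,false),(4,false),(1,false),(6,false),(2,true),(5,false),(4,false),(6,false)]⟩]))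
 (.one .base)))
 (.fork (.fork (.one (.path 4 [⟨660,[],[(4,false),(6,false),(2,true),(5,false),(4,false),(6,false),(2,true),(5,false),(4,false)]⟩,⟨781,[(137,false),(132,false),(121,false),(137,false)],[(4,false),(6,false),(4,false),(5,false),(2,false),(4,false),(5,false),(6,false),(2,true)]⟩,⟨1345,[(110,true),(109,false)],[(2,false),(6,false),(4,false),(1,false),(3,false),(5,false),(2,true)]⟩]))
 (.one .base))
 (.fork (.one (.path 1 [⟨1384,[(110,false)],[(1,false),(4,false),(6,false),(4,false),(1,false),(2,true),(5,false),(4,false),(1,false),(4,false)]⟩,⟨1381,[],[(1,false),(4,false),(1,false),(3,false),(6,false),(4,false),(2,true),(5,false),(2,false)]⟩]))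
 (.one .base)))))
 (.fork (.fork (.fork (.fork (.one (.path 7 [⟨120,[(121,false),(137,true),(132,false)],[(3,false),(6,false),(4,false),(1,false),(4,false),(5,false),(2,false),(6,false),(4,false)]⟩,⟨156,[(28,false),(21,false),(20,false),(49,true)],[(0,false),(5,false),(4,false),(1,false),(5,false),(2,false),(6,false),(4,false),(1,false)]⟩,⟨255,[(204,false),(158,false),(172,false)],[(3,false),(4,false),(6,false),(4,false),(5,false),(4,false),(1,false),(4,false)]⟩]))
 (.one .base))
 (.fork (.one (.path 7 [⟨1578,[],[(6,false),(4,false),(1,false),(3,false),(4,false),(2,true),(5,false),(2,true)]⟩,⟨269,[(114,false),(163,false),(113,false)],[(6,false),(4,false),(1,false),(2,true),(5,false),(4,false),(5,false),(4,false),(6,false),(2,true)]⟩,⟨1170,[(172,false),(158,false),(172,false)],[(0,false),(1,false),(4,false),(1,false),(5,false),(6,false),(4,false),(2,true),(5,false),(4,false)]⟩]))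
 (.one .base)))
 (.fork (.fork (.one (.path 0 [⟨858,[],[(0,false),(2,false),(5,false),(6,false),(4,false),(2,true),(5,false),(4,false),(1,false),(4,false),(2,true)]⟩,⟨1065,[],[(5,false),(2,false),(4,false),(1,false),(4,false),(6,false),(4,false),(5,false),(2,true)]⟩]))
 (.one .base))
 (.fork (.one (.path 0 [⟨1642,[(110,true),(109,false)],[(1,false),(3,false),(4,false),(5,false),(4,false),(1,false),(4,false),(2,true)]⟩,⟨727,[],[(4,false),(5,false),(2,false),(4,false),(1,false),(5,false),(6,false),(4,false),(5,false)]⟩]))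
 (.one .base))))
 (.fork (.fork (.fork (.one (.path 6 [⟨362,[(158,false),(204,true),(158,false),(204,true)],[(2,false),(3,false),(4,false),(5,false),(6,false),(2,true),(5,false),(4,false),(1,false),(6,false)]⟩,⟨354,[(191,true),(191,true),(72,true),(64,false)],[(5,false),(2,false),(4,false),(6,false),(4,false),(1,false),(4,false)]⟩,⟨555,[(172,false),(158,false),(172,false)],[(4,false),(3,false),(6,false),(4,false),(1,false),(2,true),(5,false),(4,false),(1,false)]⟩]))
 (.one .base))
 (.fork (.one (.path 5 [⟨1068,[(110,false),(109,false)],[(1,false),(2,false),(3,false),(4,false),(5,false),(4,false),(5,false),(2,false),(6,false)]⟩,⟨616,[(163,true),(114,true),(163,false),(113,false)],[(1,false),(5,false),(6,false),(4,false),(1,false),(4,false),(6,false)]⟩,⟨625,[(158,false),(204,false),(158,false),(204,true),(158,false)],[(1,false),(3,false),(4,false),(5,false),(2,false),(4,false),(1,false),(5,false),(6,false),(2,true)]⟩]))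
 (.one .base)))
 (.fork (.fork (.one (.path 2 [⟨552,[(110,false)],[(1,false),(2,true),(5,false),(4,false),(5,false),(4,false),(1,false),(4,false),(2,true)]⟩,⟨789,[],[(4,false),(5,false),(4,false),(6,false),(2,true),(5,false),(4,false),(5,false),(2,false)]⟩,⟨1816,[(109,false)],[(4,false),(5,false),(4,false),(5,false),(6,false),(4,false),(1,false),(4,false),(2,true)]⟩]))
 (.one .base))
 (.fork (.one (.path 4 [⟨1535,[],[(0,false),(3,false),(5,false),(6,false),(2,true),(5,false)]⟩,⟨2147,[(110,false),(109,false)],[(1,false),(3,false),(4,false),(5,false),(6,false),(4,false),(1,false),(5,false)]⟩,⟨3851,[(110,false),(109,false)],[(2,false),(5,false),(6,false),(4,false),(1,false),(3,false),(4,false),(5,false),(2,false),(6,false)]⟩]))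
 (.one .base))))))
 (.fork (.fork (.fork (.fork (.fork (.one (.rev 166))
 (.one (.path 0 [⟨782,[(109,false)],[(0,false),(2,false),(6,false),(4,false),(1,false)]⟩,⟨4035,[],[(2,false),(4,false),(3,false),(5,false),(6,false),(4,false),(5,false)]⟩])))
 (.fork (.one (.path 1 [⟨1136,[(110,false),(109,false)],[(4,false),(3,false),(5,false),(2,false),(6,false),(4,false),(1,false),(4,false),(6,false)]⟩,⟨1435,[],[(1,false),(4,false),(2,true),(5,false),(2,false),(4,false),(1,false),(5,false),(4,false),(2,true)]⟩]))
 (.one .base)))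
 (.fork (.fork (.one (.path 2 [⟨239,[],[(5,false),(6,false),(2,true)]⟩,⟨353,[(204,true),(158,false),(204,true)],[(1,false),(4,false),(3,false),(5,false),(4,false),(6,false),(2,true),(5,false),(4,false),(1,false),(5,false)]⟩,⟨126,[(191,false),(191,false),(65,false)],[(2,true),(5,false),(4,false),(5,false),(4,false),(1,false),(4,false)]⟩]))
 (.one .base))
 (.fork (.one (.path 1 [⟨2525,[],[(2,false)]⟩,⟨2906,[],[(4,false),(1,false),(3,false),(5,false),(4,false),(6,false),(4,false),(1,false),(5,false),(2,false),(4,false)]⟩]))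
 (.one .base))))
 (.fork (.fork (.fork (.one (.path 11 [⟨328,[],[(0,false),(2,false),(4,false),(1,false),(5,false),(4,false),(5,false),(2,false)]⟩,⟨331,[(57,false),(83,false),(100,true)],[(0,false),(5,false),(2,false),(4,false),(5,false),(2,true),(5,false),(4,false),(5,false)]⟩,⟨675,[],[(4,false),(1,false),(4,false),(5,false),(2,false),(4,false),(5,false),(2,false),(4,false)]⟩]))
 (.one .base))
 (.fork (.one (.path 0 [⟨626,[(110,true)],[(1,false),(4,false),(1,false),(6,false),(4,false),(2,true),(5,false),(2,true)]⟩,⟨1441,[],[(5,false),(6,false),(2,true)]⟩]))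
 (.one .base)))
 (.fork (.fork (.one (.path 1 [⟨1100,[(110,true),(109,false)],[(4,false),(1,false),(3,false),(4,false),(2,true)]⟩,⟨1291,[],[(0,false),(4,false),(5,false),(2,false),(5,false),(4,false)]⟩]))
 (.one .base))
 (.fork (.one (.path 1 [⟨3501,[],[(0,false),(2,false)]⟩,⟨3651,[],[(0,false),(1,false),(4,false),(5,false),(6,false),(4,false),(2,true),(5,false),(4,false),(1,false)]⟩]))
 (.one .base)))))
 (.fork (.fork (.fork (.fork (.one (.path 7 [⟨267,[(114,true),(163,false)],[(0,false),(1,false),(2,false),(4,false),(5,false),(4,false),(6,false),(4,false),(5,false)]⟩,⟨157,[(172,false),(158,false),(204,true)],[(1,false),(3,false),(5,false),(2,false),(4,false)]⟩,⟨156,[(28,false),(49,false),(20,false),(28,false),(20,false)],[(5,false),(4,false),(1,false),(6,false),(4,false),(1,false),(4,false),(6,false),(2,true)]⟩]))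
 (.one .base))
 (.fork (.one (.path 1 [⟨534,[],[(4,false),(1,false),(5,false),(4,false),(1,false),(5,false),(6,false),(4,false),(2,true),(5,false)]⟩,⟨1727,[],[(1,false),(5,false),(4,false),(1,false),(3,false),(4,false),(6,false),(4,false),(1,false),(5,false),(2,false)]⟩]))
 (.one .base)))
 (.fork (.fork (.one (.path 6 [⟨275,[(172,false),(158,false),(204,false),(172,false)],[(4,false),(5,false),(4,false),(1,false),(4,false),(1,false),(5,false),(6,false),(4,false),(1,false)]⟩,⟨573,[(110,true)],[(3,false),(5,false),(4,false),(5,false),(2,false),(5,false),(4,false),(6,false)]⟩,⟨761,[(114,false)],[(1,false),(5,false),(2,false),(4,false),(3,false),(5,false),(2,false),(4,false),(5,false)]⟩]))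
 (.one .base))
 (.fork (.one (.path 13 [⟨1175,[],[(0,false),(4,false),(1,false),(5,false),(4,false),(6,false),(2,true),(5,false),(4,false),(5,false)]⟩,⟨2980,[],[(0,false),(5,false),(2,false),(6,false),(4,false),(5,false),(2,false),(4,false),(5,false),(2,false)]⟩,⟨3199,[],[(1,false),(5,false),(2,false),(6,false),(4,false),(1,false),(5,false),(4,false),(1,false)]⟩]))
 (.one .base))))
 (.fork (.fork (.fork (.one (.path 7 [⟨757,[(114,true),(163,true)],[(1,false),(4,false),(1,false),(3,false),(2,true),(5,false)]⟩,⟨438,[],[(0,false),(4,false),(5,false),(4,false),(6,false),(4,false),(1,false),(4,false),(5,false),(2,false),(5,false)]⟩,⟨863,[(132,false),(121,false),(132,false)],[(1,false),(3,false),(4,false),(5,false),(6,false),(4,false),(5,false)]⟩]))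
 (.one .base))
 (.fork (.one (.path 2 [⟨1300,[(110,true),(109,false)],[(3,false),(5,false),(2,false),(5,false),(6,false),(4,false),(1,false),(4,false)]⟩,⟨549,[(204,false)],[(2,false),(4,false),(3,false),(5,false),(2,false),(6,false),(4,false)]⟩,⟨1003,[(204,false),(172,false),(158,false),(204,false)],[(3,false),(6,false),(2,true),(5,false),(4,false),(1,false),(6,false),(2,true)]⟩]))
 (.one .base)))
 (.fork (.fork (.one (.path 0 [⟨1456,[(110,true),(109,false)],[(3,false),(5,false),(4,false),(6,false),(2,true),(5,false),(4,false),(5,false),(2,false)]⟩,⟨455,[],[(6,false),(4,false),(1,false),(4,false),(5,false),(2,false),(4,false),(1,false),(6,false)]⟩]))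
 (.one .base))
 (.fork (.one (.path 2 [⟨3871,[(110,false)],[(3,false),(4,false),(6,false),(4,false),(5,false),(2,true),(5,false),(4,false)]⟩,⟨3952,[(3911,false),(3912,false),(3911,true),(3912,true)],[(1,false),(5,false),(4,false),(5,false),(2,false),(5,false),(4,false)]⟩,⟨3841,[],[(1,false),(3,false),(2,true),(5,false),(4,false),(5,false),(2,false)]⟩]))
 (.one .base)))))))

/-- a part of the justifications -/
noncomputable def twJustT116 : BT Just := (.fork (.fork (.fork (.fork (.fork (.fork (.one (.path 0 [⟨88,[(100,false),(83,true)],[(2,true),(5,false),(2,false),(4,false),(5,false),(4,false),(1,false),(2,true)]⟩,⟨76,[(100,false),(83,false)],[(0,false),(1,false),(5,false),(2,false),(4,false),(5,false),(2,false),(4,false),(5,false),(4,false),(2,true)]⟩]))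
 (.one (.path 0 [⟨1116,[(110,false),(109,false)],[(6,false),(2,true),(5,false),(4,false),(2,true),(5,false),(2,false),(4,false),(5,false),(2,true)]⟩,⟨3903,[],[(0,false),(1,false),(2,false),(4,false),(6,false),(4,false),(5,false),(4,false)]⟩])))
 (.fork (.one (.path 3 [⟨1823,[],[(4,false),(3,false),(5,false),(2,false)]⟩,⟨820,[(110,false),(109,false)],[(4,false),(6,false),(4,false),(1,false),(4,false),(5,false),(2,true)]⟩,⟨1141,[(83,true),(58,false),(56,false),(54,false)],[(1,false),(4,false),(2,true),(5,false),(2,false),(4,false),(1,false),(4,false),(1,false)]⟩]))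
 (.one .base)))
 (.fork (.fork (.one (.path 10 [⟨275,[],[(1,false),(5,false),(2,false)]⟩,⟨1014,[(110,false),(109,false)],[(4,false),(5,false),(2,false),(4,false),(5,false),(2,true),(5,false),(4,false),(1,false),(6,false)]⟩,⟨1015,[(57,false),(83,false)],[(3,false),(4,false),(6,false),(4,false),(1,false),(5,false),(4,false),(5,false),(2,false)]⟩]))
 (.one .base))
 (.fork (.one (.path 0 [⟨2885,[],[(6,false)]⟩,⟨2459,[(109,false)],[(0,false),(5,false),(4,false),(5,false),(2,false),(5,false),(4,false),(6,false),(4,false),(1,false)]⟩]))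
 (.one .base))))
 (.fork (.fork (.fork (.one (.path 0 [⟨224,[(204,true),(172,false),(158,false),(172,false),(158,false)],[(0,false),(4,false),(1,false),(4,false),(6,false),(4,false),(1,false),(4,false),(1,false)]⟩,⟨457,[],[(0,false),(4,false),(5,false),(4,false),(6,false),(4,false),(5,false),(4,false)]⟩]))
 (.one .base))
 (.fork (.one (.path 0 [⟨694,[(110,false)],[(1,false),(6,false),(4,false),(3,false),(5,false),(4,false),(1,false),(2,true),(5,false),(4,false)]⟩,⟨797,[],[(1,false),(6,false),(4,false),(1,false),(4,false),(5,false),(2,false),(4,false),(5,false),(2,true)]⟩]))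
 (.one .base)))
 (.fork (.fork (.one (.path 5 [⟨459,[(63,true)],[(0,false),(1,false),(2,true)]⟩,⟨143,[(163,true)],[(5,false),(4,false),(6,false),(4,false),(5,false),(4,false),(2,true),(5,false),(2,false)]⟩,⟨1637,[(64,false),(72,true)],[(2,false),(4,false),(1,false),(4,false),(5,false),(6,false),(4,false)]⟩]))
 (.one .base))
 (.fork (.one (.path 0 [⟨2695,[],[(0,false),(1,false),(5,false)]⟩,⟨3290,[(110,false)],[(0,false),(5,false),(4,false),(6,false),(2,true),(5,false),(4,false),(1,false),(6,false)]⟩]))
 (.one .base)))))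
 (.fork (.fork (.fork (.fork (.one (.path 6 [⟨122,[(100,false),(55,false)],[(4,false),(1,false),(5,false),(4,false),(1,false),(4,false),(6,false),(4,false),(2,true),(5,false)]⟩,⟨127,[],[(1,false),(5,false),(2,false),(4,false),(3,false),(5,false),(2,false),(4,false),(5,false),(2,true)]⟩,⟨337,[(65,false),(72,false),(64,true)],[(3,false),(4,false),(1,false),(5,false),(4,false),(1,false),(4,false),(2,true),(5,false)]⟩]))
 (.one .base))
 (.fork (.one (.path 0 [⟨1766,[],[(0,false),(6,false),(2,true),(5,false),(2,false),(4,false),(5,false),(6,false),(2,true),(5,false),(4,false)]⟩,⟨949,[],[(1,false),(4,false),(1,false),(4,false),(6,false),(2,true),(5,false),(2,false),(4,false),(5,false)]⟩]))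
 (.one .base)))
 (.fork (.fork (.one (.path 1 [⟨189,[],[(0,false),(2,true),(5,false)]⟩,⟨687,[(158,false),(204,true),(158,false),(172,false),(158,false)],[(1,false),(5,false),(4,false),(5,false),(6,false),(2,true),(5,false),(4,false),(1,false),(5,false)]⟩]))
 (.one .base))
 (.fork (.one (.path 0 [⟨3000,[(110,true),(109,false)],[(5,false),(2,false),(4,false),(5,false),(2,false),(4,false),(1,false),(4,false)]⟩,⟨2730,[],[(6,false),(4,false),(5,false),(4,false),(5,false),(6,false)]⟩]))
 (.one .base))))
 (.fork (.fork (.fork (.one (.path 6 [⟨489,[(121,false),(121,false)],[(2,false)]⟩,⟨338,[],[(3,false),(4,false),(6,false),(4,false),(2,true),(5,false),(2,false),(4,false)]⟩,⟨413,[(64,true),(63,false),(191,false)],[(2,false),(3,false),(5,false),(2,false),(6,false),(4,false),(5,false)]⟩]))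
 (.one .base))
 (.fork (.one (.path 3 [⟨2491,[],[(0,false),(1,false),(6,false)]⟩,⟨822,[(110,true)],[(2,false),(4,false),(3,false),(5,false),(2,false),(4,false),(1,false),(6,false)]⟩,⟨1520,[(110,false),(109,false)],[(0,false),(2,false),(4,false),(5,false),(4,false),(6,false),(4,false),(2,true),(5,false),(4,false),(6,false)]⟩]))
 (.one .base)))
 (.fork (.fork (.one (.path 7 [⟨1537,[],[(5,false),(2,true),(5,false),(4,false)]⟩,⟨1582,[(110,false)],[(0,false),(4,false),(1,false),(6,false),(4,false),(1,false),(2,true),(5,false),(4,false),(5,false),(2,false)]⟩,⟨383,[(114,false)],[(6,false),(4,false),(1,false),(4,false),(5,false),(2,false),(5,false)]⟩]))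
 (.one .base))
 (.fork (.one (.path 6 [⟨3618,[],[(0,false),(5,false),(4,false),(6,false),(2,true),(5,false),(2,false),(4,false),(6,false)]⟩,⟨1704,[(110,true),(109,false)],[(1,false),(4,false),(3,false),(6,false),(2,true),(5,false),(4,false),(1,false),(4,false),(6,false)]⟩,⟨3865,[(110,false),(109,false)],[(4,false),(1,false),(5,false),(6,false),(4,false),(5,false),(2,false),(5,false)]⟩]))
 (.one .base))))))
 (.fork (.fork (.fork (.fork (.fork (.one (.path 6 [⟨67,[],[(0,false),(2,false),(5,false),(4,false),(1,false),(4,false),(5,false),(2,false),(6,false)]⟩,⟨66,[(27,false),(20,false)],[(1,false),(2,false),(4,false),(1,false),(4,false),(5,false),(6,false),(4,false),(5,false)]⟩,⟨226,[(100,true),(55,false)],[(1,false),(4,false),(3,false),(5,false),(2,false),(4,false),(5,false),(2,false),(4,false),(5,false)]⟩]))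
 (.one (.path 6 [⟨2278,[],[(1,false),(2,false),(4,false),(1,false),(3,false),(5,false),(4,false),(6,false),(4,false),(1,false),(2,true)]⟩,⟨409,[(57,false),(83,false)],[(2,true),(5,false),(4,false),(5,false),(2,false),(5,false),(6,false),(4,false),(5,false),(4,false)]⟩,⟨4325,[(110,true),(109,false)],[(4,false),(2,true),(5,false),(4,false),(1,false),(4,false),(6,false),(2,true)]⟩])))
 (.fork (.one (.path 2 [⟨1153,[(110,true)],[(3,false),(5,false),(2,false),(5,false),(6,false),(4,false),(5,false),(2,false)]⟩,⟨1755,[(163,true),(114,false),(163,false),(113,false)],[(0,false),(4,false),(5,false),(4,false),(6,false),(4,false),(1,false),(4,false),(1,false),(2,true)]⟩,⟨2033,[(109,false)],[(0,false),(1,false),(5,false),(4,false),(6,false),(4,false),(1,false),(5,false),(4,false),(1,false),(4,false)]⟩]))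
 (.one .base)))
 (.fork (.fork (.one (.path 1 [⟨779,[],[(0,false),(5,false),(2,false),(5,false)]⟩,⟨1178,[(110,true),(109,false)],[(5,false),(2,false),(6,false),(4,false),(3,false),(5,false),(2,false),(4,false),(5,false),(2,false),(6,false)]⟩]))
 (.one .base))
 (.fork (.one (.path 0 [⟨1464,[(110,false),(109,false)],[(4,false),(6,false),(4,false),(1,false),(2,true),(5,false),(4,false),(5,false)]⟩,⟨1015,[],[(2,false),(3,false),(6,false),(4,false),(1,false),(5,false),(4,false),(1,false)]⟩]))
 (.one .base))))
 (.fork (.fork (.fork (.one (.path 2 [⟨678,[],[(4,false),(6,false),(4,false),(1,false),(2,true),(5,false),(4,false),(6,false)]⟩,⟨362,[],[(1,false),(2,false),(4,false),(1,false),(4,false),(6,false),(4,false)]⟩,⟨281,[(64,false),(191,true),(72,true),(63,false)],[(1,false),(3,false),(4,false),(1,false),(5,false),(4,false),(6,false),(4,false)]⟩]))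
 (.one .base))
 (.fork (.one (.path 2 [⟨564,[(110,false),(109,false)],[(1,false),(3,false),(4,false),(5,false),(4,false),(6,false),(4,false),(5,false),(4,false),(2,true)]⟩,⟨359,[(57,false),(100,true),(83,false),(54,false)],[(0,false),(6,false),(4,false),(5,false),(2,false),(4,false),(5,false),(4,false),(5,false)]⟩,⟨1814,[(109,false)],[(0,false),(2,false),(5,false),(4,false),(1,false),(5,false),(6,false),(4,false),(2,true)]⟩]))
 (.one .base)))
 (.fork (.fork (.one (.path 0 [⟨189,[],[(1,false),(5,false),(2,false)]⟩,⟨1611,[(158,false),(204,true),(158,false),(172,false),(158,false)],[(1,false),(5,false),(4,false),(1,false),(4,false),(6,false),(4,false),(1,false),(5,false),(2,true)]⟩]))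
 (.one .base))
 (.fork (.one (.path 0 [⟨2636,[],[(0,false),(6,false),(4,false),(2,true),(5,false),(4,false),(1,false),(6,false)]⟩,⟨3348,[(110,false),(109,false)],[(0,false),(1,false),(4,false),(6,false),(4,false),(5,false),(4,false),(1,false),(5,false),(6,false)]⟩]))
 (.one .base)))))
 (.fork (.fork (.fork (.fork (.one (.path 1 [⟨253,[],[(1,false)]⟩,⟨349,[(121,true),(137,true),(121,false)],[(6,false),(4,false),(5,false),(4,false),(2,true),(5,false),(2,false)]⟩]))
 (.one .base))
 (.fork (.one (.path 0 [⟨2039,[],[(1,false),(6,false),(2,true),(5,false)]⟩,⟨2478,[(110,false)],[(3,false),(5,false),(2,false),(5,false),(4,false),(5,false),(2,false),(4,false),(1,false),(4,false),(5,false)]⟩]))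
 (.one .base)))
 (.fork (.fork (.one (.path 13 [⟨682,[(110,false)],[(0,false),(1,false),(6,false),(2,true),(5,false),(4,false),(5,false),(4,false),(1,false),(2,true)]⟩,⟨305,[(204,false)],[(3,false),(4,false),(5,false),(2,false),(5,false),(4,false),(5,false),(2,false),(5,false),(6,false)]⟩,⟨545,[(204,true),(158,false)],[(2,false),(4,false),(1,false),(5,false),(6,false),(4,false),(2,true),(5,false),(4,false)]⟩]))
 (.one .base))
 (.fork (.one (.path 0 [⟨1238,[],[(5,false),(2,false),(4,false),(1,false),(4,false),(5,false),(2,false),(6,false)]⟩,⟨1537,[],[(2,false),(3,false),(5,false),(2,false),(4,false),(5,false),(2,false),(4,false),(5,false),(6,false),(2,true)]⟩]))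
 (.one .base))))
 (.fork (.fork (.fork (.one (.path 1 [⟨715,[],[(2,false)]⟩,⟨951,[(163,false),(114,false),(163,true)],[(1,false),(2,false),(6,false),(4,false),(3,false),(5,false),(2,false),(4,false)]⟩]))
 (.one .base))
 (.fork (.one (.path 1 [⟨2252,[(110,true)],[(2,false),(4,false),(5,false),(2,false),(4,false),(1,false),(4,false),(5,false),(6,false),(4,false)]⟩,⟨1846,[(110,false),(109,false)],[(4,false),(5,false),(4,false),(2,true),(5,false),(4,false),(5,false),(2,true)]⟩]))
 (.one .base)))
 (.fork (.fork (.one (.path 6 [⟨684,[],[(4,false),(3,false),(2,true),(5,false),(2,false),(4,false),(1,false),(4,false),(6,false)]⟩,⟨169,[(204,true),(172,false),(158,false)],[(3,false),(6,false),(4,false),(1,false),(5,false),(4,false),(5,false),(6,false),(2,true)]⟩,⟨1641,[(65,true),(191,true),(191,true),(64,false)],[(0,false),(4,false),(5,false)]⟩]))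
 (.one .base))
 (.fork (.one (.path 0 [⟨3904,[(3911,true),(3912,false),(3911,true)],[(5,false),(4,false),(2,true),(5,false),(4,false),(1,false),(5,false),(6,false),(2,true)]⟩,⟨681,[],[(1,false),(4,false),(6,false),(2,true),(5,false),(4,false),(1,false),(5,false),(2,false),(4,false)]⟩]))
 (.one .base)))))))

/-- a part of the justifications -/
noncomputable def twJustT117 : BT Just := (.fork (.fork (.fork (.fork (.fork (.fork (.one (.lift 1 (wOf 20 0x34543572343231230123) ⟨18,[(13,false),(15,false),(11,true),(14,false),(10,false)],[]⟩ ⟨18,[(10,true),(13,false),(15,false),(11,true),(14,false),(10,false)],[(5,false),(4,false),(6,false),(4,false),(2,true),(5,false),(2,false),(4,false),(5,false),(6,false)]⟩))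
 (.one (.path 0 [⟨4109,[],[(0,false),(2,false),(4,false),(1,false)]⟩,⟨2913,[],[(5,false),(2,false),(4,false),(5,false),(2,false),(4,false),(5,false),(4,false)]⟩])))
 (.fork (.one (.path 0 [⟨1140,[(110,false)],[(4,false),(3,false),(5,false),(4,false),(1,false),(4,false),(5,false),(4,false)]⟩,⟨1139,[(83,false),(100,true)],[(0,false),(1,false),(4,false),(5,false),(4,false),(6,false),(4,false),(5,false),(4,false),(2,true)]⟩]))
 (.one .base)))
 (.fork (.fork (.one (.path 1 [⟨957,[],[(3,false),(5,false),(2,true)]⟩,⟨732,[(110,false),(109,false)],[(1,false),(2,false),(4,false),(6,false),(4,false),(5,false),(4,false),(1,false),(4,false),(6,false)]⟩]))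
 (.one .base))
 (.fork (.one (.path 0 [⟨3015,[],[(3,false),(4,false),(6,false),(4,false),(5,false)]⟩,⟨3049,[(109,false)],[(3,false),(6,false),(4,false),(5,false),(2,false),(4,false),(5,false),(6,false)]⟩]))
 (.one .base))))
 (.fork (.fork (.fork (.one (.path 7 [⟨368,[(163,true),(114,true),(113,false)],[(5,false),(4,false),(3,false),(2,true),(5,false),(2,false),(4,false),(5,false),(4,false),(2,true),(5,false)]⟩,⟨282,[(110,false)],[(2,false),(6,false),(4,false),(1,false),(4,false),(5,false),(2,false),(4,false),(5,false),(2,false)]⟩,⟨361,[(65,true),(191,false),(64,true),(191,true)],[(6,false),(4,false),(1,false),(2,true)]⟩]))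
 (.one .base))
 (.fork (.one (.path 7 [⟨2206,[(110,false)],[(0,false),(1,false),(5,false),(4,false),(6,false),(4,false),(2,true),(5,false),(4,false),(1,false),(2,true)]⟩,⟨1264,[(109,false)],[(4,false),(2,true),(5,false),(2,false),(4,false),(1,false),(4,false),(6,false),(4,false)]⟩,⟨1299,[(172,false),(158,false),(204,false),(172,false)],[(4,false),(5,false),(4,false),(6,false),(4,false),(5,false),(2,true)]⟩]))
 (.one .base)))
 (.fork (.fork (.one (.path 1 [⟨432,[(163,true),(114,true),(113,false)],[(2,false),(4,false),(1,false),(5,false),(6,false),(4,false),(5,false),(2,false),(4,false)]⟩,⟨1081,[],[(4,false),(5,false),(4,false),(5,false),(2,true),(5,false),(4,false),(1,false),(6,false)]⟩]))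
 (.one .base))
 (.fork (.one (.path 0 [⟨2352,[(109,false)],[(2,false),(4,false),(5,false),(4,false),(5,false),(2,true),(5,false),(4,false)]⟩,⟨2733,[],[(0,false),(2,false),(4,false),(1,false),(5,false),(4,false),(5,false),(6,false),(4,false),(2,true)]⟩]))
 (.one .base)))))
 (.fork (.fork (.fork (.fork (.one (.path 7 [⟨168,[(64,true),(191,false),(65,true),(63,false)],[(0,false),(2,false),(4,false),(5,false),(2,true),(5,false),(4,false),(1,false),(6,false)]⟩,⟨216,[(158,false),(204,true),(158,false)],[(0,false),(1,false),(6,false),(4,false),(5,false),(2,false),(4,false),(1,false),(4,false)]⟩,⟨251,[(114,false),(113,false)],[(0,false),(5,false),(2,true),(5,false),(4,false),(1,false),(4,false),(6,false),(4,false),(5,false)]⟩]))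
 (.one .base))
 (.fork (.one (.path 2 [⟨990,[(110,true),(109,false)],[(4,false),(1,false),(4,false),(2,true),(5,false)]⟩,⟨499,[(204,false)],[(6,false),(2,true),(5,false),(2,false),(4,false),(1,false),(3,false),(5,false),(6,false)]⟩,⟨1735,[(114,true),(163,true),(113,false)],[(1,false),(3,false),(5,false),(2,false),(4,false),(1,false),(5,false)]⟩]))
 (.one .base)))
 (.fork (.fork (.one (.path 5 [⟨199,[(204,true),(172,false),(158,false),(172,false),(158,false)],[(5,false),(2,false),(4,false),(1,false),(6,false),(4,false),(1,false),(5,false),(4,false),(5,false)]⟩,⟨635,[(65,true),(191,false),(65,false),(64,true)],[(2,false),(4,false),(1,false),(3,false),(5,false),(6,false),(4,false),(1,false),(5,false),(2,false)]⟩,⟨1023,[],[(1,false),(3,false),(5,false),(2,false),(4,false),(1,false),(5,false),(2,true)]⟩]))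
 (.one .base))
 (.fork (.one (.path 1 [⟨2586,[(110,false)],[(6,false),(2,true),(5,false),(4,false),(1,false),(5,false),(2,false),(6,false)]⟩,⟨1650,[(110,true)],[(3,false),(5,false),(2,false),(5,false),(4,false),(5,false),(2,false),(5,false),(4,false),(1,false)]⟩]))
 (.one .base))))
 (.fork (.fork (.fork (.one (.path 4 [⟨362,[(158,false)],[(0,false),(4,false),(6,false),(2,true),(5,false),(2,false),(4,false),(1,false),(4,false),(5,false)]⟩,⟨294,[(64,true),(191,true),(63,false)],[(1,false),(5,false),(4,false),(1,false),(4,false),(2,true),(5,false),(4,false)]⟩,⟨771,[(137,true),(121,true),(132,true)],[(4,false),(6,false),(4,false),(5,false),(2,true),(5,false),(4,false),(5,false),(2,true),(5,false)]⟩]))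
 (.one .base))
 (.fork (.one (.path 3 [⟨490,[(109,false)],[(1,false),(4,false),(1,false),(5,false),(4,false),(5,false),(4,false),(6,false),(4,false),(1,false),(5,false)]⟩,⟨393,[(121,true),(137,false),(132,false)],[(0,false),(5,false),(4,false),(1,false),(5,false),(6,false),(4,false),(1,false),(5,false),(4,false),(6,false)]⟩,⟨545,[(158,false),(204,false),(158,false),(204,true),(158,false)],[(4,false),(5,false),(2,false),(5,false),(4,false),(5,false),(4,false),(6,false),(4,false)]⟩]))
 (.one .base)))
 (.fork (.fork (.one (.path 1 [⟨654,[(110,false)],[(0,false),(5,false),(2,false),(4,false),(1,false),(5,false),(4,false),(5,false),(2,false),(5,false)]⟩,⟨1715,[],[(4,false),(3,false),(2,true),(5,false),(2,false),(4,false),(5,false),(2,false),(4,false),(1,false)]⟩]))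
 (.one .base))
 (.fork (.one (.path 0 [⟨1521,[],[(2,false),(3,false)]⟩,⟨3855,[],[(0,false),(2,false),(5,false),(4,false),(6,false),(4,false),(5,false),(2,true),(5,false),(4,false)]⟩]))
 (.one .base))))))
 (.fork (.fork (.fork (.fork (.fork (.one (.rev 150))
 (.one (.path 0 [⟨1434,[],[(3,false),(5,false),(2,false),(4,false),(5,false),(6,false),(4,false),(1,false),(5,false)]⟩,⟨3903,[],[(5,false),(2,false),(4,false),(1,false),(5,false),(4,false),(6,false),(4,false),(2,true)]⟩])))
 (.fork (.one (.path 0 [⟨816,[(109,false)],[(1,false),(4,false),(1,false),(6,false),(4,false),(1,false),(5,false),(2,true)]⟩,⟨507,[],[(0,false),(2,false),(4,false),(6,false),(4,false),(5,false),(2,false)]⟩]))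
 (.one .base)))
 (.fork (.fork (.one (.path 2 [⟨790,[],[(0,false),(4,false),(5,false),(6,false),(4,false),(5,false)]⟩,⟨261,[(172,false),(158,false),(204,false),(158,false)],[(1,false),(4,false),(1,false),(6,false),(4,false),(1,false),(4,false),(5,false),(4,false),(5,false)]⟩,⟨257,[(204,true)],[(5,false),(2,false),(4,false),(1,false),(3,false),(6,false),(4,false),(5,false)]⟩]))
 (.one .base))
 (.fork (.one (.path 0 [⟨1491,[],[(4,false),(3,false),(5,false)]⟩,⟨2026,[],[(1,false),(4,false),(6,false),(4,false),(1,false),(5,false),(4,false),(1,false),(5,false),(2,true)]⟩]))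
 (.one .base))))
 (.fork (.fork (.fork (.one (.path 6 [⟨661,[(121,true),(137,true),(121,true),(132,false)],[(3,false),(4,false),(1,false),(5,false),(2,false),(4,false),(6,false),(4,false),(1,false),(5,false)]⟩,⟨442,[(110,true),(109,false)],[(5,false),(2,false),(6,false),(4,false),(1,false),(4,false),(5,false),(2,true)]⟩,⟨638,[(158,false),(204,true),(158,false),(204,true)],[(5,false),(4,false),(1,false),(4,false),(6,false),(4,false),(5,false),(4,false),(5,false)]⟩]))
 (.one .base))
 (.fork (.one (.path 1 [⟨2689,[],[(0,false),(2,true)]⟩,⟨2581,[(110,false),(109,false)],[(0,false),(2,false),(6,false),(4,false),(1,false),(5,false),(4,false),(1,false),(6,false),(2,true)]⟩]))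
 (.one .base)))
 (.fork (.fork (.one (.path 2 [⟨1354,[(110,false),(109,false)],[(4,false),(3,false),(5,false),(2,false),(4,false),(1,false),(4,false),(6,false),(4,false)]⟩,⟨195,[(163,true),(114,true),(163,false)],[(1,false),(3,false),(5,false),(4,false),(1,false),(5,false),(2,false),(6,false),(4,false),(5,false),(2,true)]⟩,⟨409,[(58,false),(56,false),(54,false)],[(2,false),(5,false),(4,false),(5,false),(4,false),(1,false),(4,false)]⟩]))
 (.one .base))
 (.fork (.one (.path 0 [⟨3463,[],[(2,true)]⟩,⟨2910,[(110,false),(109,false)],[(1,false),(5,false),(4,false),(6,false),(4,false),(1,false),(5,false),(2,false),(4,false),(1,false)]⟩]))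
 (.one .base)))))
 (.fork (.fork (.fork (.fork (.one (.path 6 [⟨159,[(58,false),(57,false),(55,false)],[(4,false),(3,false),(5,false),(2,false),(5,false)]⟩,⟨280,[(204,false),(172,false),(158,false),(204,true)],[(0,false),(5,false),(6,false),(4,false),(5,false),(4,false),(6,false),(2,true)]⟩,⟨173,[(65,false),(64,true),(191,true),(64,false)],[(1,false),(3,false),(4,false),(5,false),(2,false),(5,false),(4,false),(1,false),(6,false)]⟩]))
 (.one .base))
 (.fork (.one (.path 0 [⟨844,[(110,false)],[(1,false),(2,false),(3,false),(4,false),(6,false),(4,false),(1,false),(4,false),(5,false),(2,true)]⟩,⟨1353,[],[(2,false),(4,false),(5,false),(2,false),(4,false),(1,false),(5,false),(6,false),(2,true)]⟩]))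
 (.one .base)))
 (.fork (.fork (.one (.path 5 [⟨182,[(172,false)],[(1,false),(3,false),(4,false),(6,false),(4,false),(5,false),(2,false),(4,false)]⟩,⟨382,[(137,false),(121,true),(137,true)],[(6,false),(2,true),(5,false),(2,false),(4,false),(5,false),(4,false),(1,false),(2,true),(5,false)]⟩,⟨651,[(163,false),(114,true),(163,true),(114,false)],[(3,false),(4,false),(2,true),(5,false),(2,false),(4,false),(5,false),(4,false),(2,true)]⟩]))
 (.one .base))
 (.fork (.one (.path 0 [⟨1300,[(110,true),(109,false)],[(6,false),(2,true),(5,false),(4,false),(1,false),(4,false),(5,false),(2,false)]⟩,⟨1305,[],[(0,false),(1,false),(4,false),(1,false),(5,false),(4,false),(6,false),(4,false),(1,false),(4,false)]⟩]))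
 (.one .base))))
 (.fork (.fork (.fork (.one (.path 7 [⟨502,[],[(2,true),(5,false),(2,false),(4,false),(1,false),(5,false),(6,false),(4,false),(2,true)]⟩,⟨362,[(204,false),(172,false),(158,false),(204,true)],[(6,false),(2,true),(5,false),(2,false),(4,false),(5,false),(2,false),(4,false),(5,false),(6,false)]⟩,⟨126,[(191,false),(72,false),(65,true),(64,false)],[(1,false),(3,false),(4,false),(5,false),(4,false),(6,false),(4,false),(5,false),(2,false),(4,false),(5,false)]⟩]))
 (.one .base))
 (.fork (.one (.path 0 [⟨906,[],[(0,false),(5,false),(2,false),(5,false),(6,false),(4,false),(5,false),(4,false),(1,false),(4,false),(6,false)]⟩,⟨815,[],[(0,false),(1,false),(4,false),(5,false),(2,false),(4,false),(1,false),(6,false),(4,false),(1,false),(5,false)]⟩]))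
 (.one .base)))
 (.fork (.fork (.one (.path 0 [⟨636,[(110,false),(109,false)],[(0,false),(4,false),(1,false),(6,false),(4,false),(5,false),(4,false),(1,false),(5,false),(2,true)]⟩,⟨725,[],[(1,false),(2,false),(4,false),(5,false),(6,false),(4,false),(5,false),(4,false),(2,true)]⟩]))
 (.one .base))
 (.fork (.one (.path 4 [⟨2018,[],[(2,false),(4,false),(1,false),(4,false),(5,false),(4,false),(6,false),(4,false),(1,false),(4,false)]⟩,⟨786,[],[(0,false),(4,false),(2,true),(5,false),(2,false),(4,false),(5,false),(4,false),(1,false),(6,false)]⟩,⟨3905,[(204,true),(172,false),(158,false),(204,true),(158,false)],[(2,false),(4,false),(5,false),(2,false),(4,false),(5,false),(4,false),(2,true),(5,false)]⟩]))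
 (.one .base)))))))

/-- a part of the justifications -/
noncomputable def twJustT118 : BT Just := (.fork (.fork (.fork (.fork (.fork (.fork (.one (.rev 86))
 (.one (.path 0 [⟨3124,[(109,false)],[(2,false),(6,false),(4,false),(5,false),(2,false),(4,false),(1,false),(5,false),(2,true)]⟩,⟨3987,[],[(0,false),(1,false),(4,false),(5,false),(4,false),(2,true),(5,false),(4,false),(6,false)]⟩])))
 (.fork (.one (.path 3 [⟨1718,[(109,false)],[(3,false),(6,false),(4,false),(5,false),(4,false),(6,false),(2,true),(5,false),(4,false),(6,false)]⟩,⟨1383,[],[(1,false),(5,false),(4,false),(5,false),(6,false),(4,false),(1,false),(4,false),(1,false),(6,false)]⟩,⟨1506,[(110,true)],[(2,false),(5,false),(2,false),(6,false),(4,false),(1,false),(3,false),(4,false),(5,false),(2,false)]⟩]))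
 (.one .base)))
 (.fork (.fork (.one (.path 0 [⟨362,[],[(3,false),(6,false),(2,true),(5,false),(4,false),(1,false),(4,false),(5,false),(6,false)]⟩,⟨126,[(191,false),(64,false),(191,true),(63,false)],[(2,false),(6,false),(4,false)]⟩]))
 (.one .base))
 (.fork (.one (.path 1 [⟨2690,[(110,false),(109,false)],[(2,false),(5,false),(2,false),(6,false),(4,false),(1,false),(4,false),(5,false),(2,true)]⟩,⟨2776,[],[(3,false),(5,false),(4,false),(5,false),(2,false),(5,false),(4,false),(1,false),(6,false),(4,false)]⟩]))
 (.one .base))))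
 (.fork (.fork (.fork (.one (.path 7 [⟨351,[(121,true),(132,false),(121,false)],[(2,false),(5,false),(4,false),(2,true)]⟩,⟨232,[],[(0,false),(2,false),(5,false),(4,false),(2,true),(5,false),(2,false),(4,false),(5,false),(2,false),(6,false)]⟩,⟨468,[(57,false),(83,false),(100,false),(54,false)],[(1,false),(2,false),(6,false),(4,false),(5,false),(2,false),(4,false),(5,false),(4,false),(2,true),(5,false)]⟩]))
 (.one .base))
 (.fork (.one (.path 0 [⟨2336,[(110,false)],[(2,true),(5,false),(2,false),(4,false),(3,false),(5,false),(2,false),(6,false)]⟩,⟨2323,[],[(0,false),(5,false),(2,false),(4,false),(6,false),(4,false),(5,false),(2,false),(4,false),(5,false),(2,true)]⟩]))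
 (.one .base)))
 (.fork (.fork (.one (.path 13 [⟨1445,[(204,false)],[(3,false),(4,false),(1,false),(4,false),(5,false),(2,true),(5,false),(4,false),(1,false),(5,false),(2,true)]⟩,⟨1080,[(110,false)],[(0,false),(1,false),(4,false),(5,false),(2,false),(4,false),(1,false),(6,false),(4,false)]⟩,⟨1186,[(132,true),(121,true),(137,false)],[(0,false),(4,false),(6,false),(4,false),(1,false),(5,false),(4,false),(1,false),(5,false),(6,false)]⟩]))
 (.one .base))
 (.fork (.one (.path 0 [⟨3245,[],[(3,false),(5,false),(2,false),(6,false)]⟩,⟨2079,[],[(4,false),(1,false),(3,false),(4,false),(5,false),(2,false),(4,false),(5,false),(4,false),(2,true)]⟩]))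
 (.one .base)))))
 (.fork (.fork (.fork (.fork (.one (.path 5 [⟨166,[(121,true)],[(5,false),(6,false),(2,true),(5,false),(4,false),(3,false)]⟩,⟨160,[(158,false),(204,false),(158,false),(204,false)],[(0,false),(4,false),(5,false),(2,true),(5,false),(4,false),(1,false),(4,false)]⟩,⟨235,[(58,false)],[(1,false),(4,false),(1,false),(5,false),(4,false),(6,false),(4,false),(1,false),(4,false),(5,false),(2,true)]⟩]))
 (.one .base))
 (.fork (.one (.path 1 [⟨2315,[],[(0,false),(2,false)]⟩,⟨1325,[],[(2,false),(6,false),(4,false),(1,false),(4,false),(5,false),(6,false),(2,true)]⟩]))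
 (.one .base)))
 (.fork (.fork (.one (.path 6 [⟨1233,[],[(1,false),(2,false),(3,false),(5,false)]⟩,⟨838,[],[(0,false),(2,false),(4,false),(1,false),(4,false),(5,false),(2,false),(6,false),(4,false),(1,false),(4,false),(6,false)]⟩,⟨651,[(114,false),(163,true),(114,true)],[(6,false),(2,true),(5,false),(4,false),(1,false),(4,false),(5,false),(2,false)]⟩]))
 (.one .base))
 (.fork (.one (.path 0 [⟨1568,[(110,false)],[(4,false),(3,false)]⟩,⟨1577,[],[(1,false),(2,false),(4,false),(6,false),(4,false),(5,false),(4,false),(6,false)]⟩]))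
 (.one .base))))
 (.fork (.fork (.fork (.one (.path 1 [⟨458,[(114,true),(163,true)],[(3,false),(6,false),(4,false),(1,false),(4,false),(5,false),(6,false),(4,false),(2,true)]⟩,⟨561,[],[(2,false),(5,false),(4,false),(6,false),(4,false),(5,false),(4,false),(5,false),(6,false)]⟩]))
 (.one .base))
 (.fork (.one (.path 3 [⟨2471,[(110,false)],[(1,false),(3,false),(2,true),(5,false),(4,false),(5,false),(2,false),(6,false)]⟩,⟨1836,[(110,false)],[(2,false),(4,false),(5,false),(4,false),(6,false),(2,true),(5,false),(4,false),(5,false),(2,false)]⟩,⟨1931,[(110,true)],[(1,false),(2,false),(6,false),(4,false),(5,false),(2,true),(5,false),(4,false),(5,false),(4,false)]⟩]))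
 (.one .base)))
 (.fork (.fork (.one (.path 0 [⟨1094,[(109,false)],[(2,false),(4,false),(3,false),(5,false),(4,false),(6,false),(4,false),(1,false),(2,true)]⟩,⟨1079,[],[(1,false),(2,false),(4,false),(5,false),(4,false),(2,true),(5,false),(4,false),(2,true)]⟩]))
 (.one .base))
 (.fork (.one (.path 4 [⟨3444,[],[(1,false),(2,false),(5,false),(4,false),(2,true),(5,false),(4,false),(2,true),(5,false),(4,false)]⟩,⟨1378,[(109,false)],[(5,false),(2,false),(4,false),(6,false),(4,false),(5,false),(4,false),(2,true)]⟩,⟨3885,[(163,true),(114,true),(163,false),(114,false),(113,false)],[(2,false),(6,false),(4,false),(1,false),(5,false),(4,false),(1,false),(5,false),(6,false),(4,false)]⟩]))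
 (.one .base))))))
 (.fork (.fork (.fork (.fork (.fork (.one (.path 2 [⟨202,[],[]⟩,⟨193,[],[(2,false),(5,false),(2,false)]⟩,⟨192,[(58,false),(55,false)],[(1,false),(5,false),(2,false)]⟩]))
 (.one (.path 0 [⟨4210,[(3911,true),(3912,false),(3911,false)],[(3,false),(5,false),(4,false),(5,false),(6,false),(4,false),(1,false),(5,false),(4,false)]⟩,⟨3132,[],[(3,false),(6,false),(4,false),(1,false),(5,false),(2,false),(4,false),(1,false),(5,false),(4,false)]⟩])))
 (.fork (.one (.path 2 [⟨2234,[(109,false)],[(6,false),(2,true),(5,false),(2,false),(4,false),(5,false),(2,true),(5,false)]⟩,⟨1222,[(110,true)],[(4,false),(3,false),(5,false),(2,false),(6,false),(4,false),(1,false),(4,false),(5,false),(4,false)]⟩,⟨1189,[(114,true),(163,true)],[(4,false),(1,false),(4,false),(5,false),(4,false),(1,false),(6,false)]⟩]))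
 (.one .base)))
 (.fork (.fork (.one (.path 6 [⟨585,[(114,false)],[(1,false),(3,false),(5,false),(6,false),(4,false),(2,true),(5,false),(4,false),(6,false)]⟩,⟨764,[],[(1,false),(2,false),(5,false),(4,false),(5,false),(2,true),(5,false),(4,false),(1,false),(5,false)]⟩,⟨661,[(137,false),(132,true),(121,true),(137,false)],[(5,false),(6,false),(4,false),(1,false),(3,false),(5,false),(2,false),(4,false)]⟩]))
 (.one .base))
 (.fork (.one (.path 3 [⟨2386,[(110,false),(109,false)],[(5,false),(4,false),(1,false),(5,false),(4,false),(5,false),(6,false),(4,false)]⟩,⟨3100,[],[(4,false),(1,false),(6,false),(4,false),(1,false),(4,false),(5,false),(4,false)]⟩,⟨2130,[(110,true)],[(2,false),(5,false),(4,false),(3,false),(5,false),(6,false),(4,false),(1,false)]⟩]))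
 (.one .base))))
 (.fork (.fork (.fork (.one (.path 0 [⟨354,[(191,true),(191,true),(72,true),(64,false)],[(4,false),(6,false),(4,false),(1,false),(4,false),(2,true)]⟩,⟨701,[],[(1,false),(3,false),(6,false),(2,true),(5,false)]⟩]))
 (.one .base))
 (.fork (.one (.path 1 [⟨1979,[],[(2,false),(3,false)]⟩,⟨2712,[],[(2,true),(5,false),(4,false),(1,false),(6,false),(2,true),(5,false),(4,false)]⟩]))
 (.one .base)))
 (.fork (.fork (.one (.path 0 [⟨589,[],[(6,false),(2,true)]⟩,⟨1445,[(158,false),(204,true)],[(5,false),(4,false),(5,false),(4,false),(1,false),(6,false),(4,false),(1,false)]⟩]))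
 (.one .base))
 (.fork (.one (.path 0 [⟨3341,[],[(4,false),(5,false)]⟩,⟨3550,[],[(5,false),(2,false),(6,false),(4,false),(1,false),(4,false),(1,false),(6,false),(4,false)]⟩]))
 (.one .base)))))
 (.fork (.fork (.fork (.fork (.one (.path 1 [⟨428,[(114,true),(163,true)],[(4,false),(5,false),(4,false),(1,false),(6,false),(2,true)]⟩,⟨271,[],[(3,false),(5,false),(4,false),(1,false),(4,false),(5,false),(6,false),(2,true)]⟩]))
 (.one .base))
 (.fork (.one (.path 3 [⟨2315,[],[(6,false),(2,true),(5,false),(4,false),(2,true)]⟩,⟨1742,[],[(5,false),(4,false),(1,false),(2,true),(5,false),(4,false),(1,false),(6,false),(4,false)]⟩,⟨1069,[(163,false),(114,false),(113,false)],[(1,false),(6,false),(4,false),(1,false),(5,false),(4,false),(1,false),(2,true),(5,false)]⟩]))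
 (.one .base)))
 (.fork (.fork (.one (.path 1 [⟨762,[],[(4,false),(1,false),(3,false),(6,false),(2,true),(5,false),(4,false),(1,false),(5,false),(6,false),(4,false)]⟩,⟨855,[],[(2,false),(4,false),(1,false),(4,false),(5,false),(2,true),(5,false),(4,false),(1,false),(4,false)]⟩]))
 (.one .base))
 (.fork (.one (.path 1 [⟨827,[],[]⟩,⟨3529,[(110,true),(109,false)],[(1,false),(2,false),(5,false),(4,false),(3,false),(6,false),(2,true),(5,false),(4,false),(2,true)]⟩]))
 (.one .base))))
 (.fork (.fork (.fork (.one (.path 7 [⟨259,[(172,false),(158,false),(204,true)],[(0,false),(2,false),(5,false),(6,false),(4,false),(1,false),(5,false),(2,false)]⟩,⟨197,[],[(3,false),(2,true),(5,false),(4,false),(6,false),(2,true),(5,false),(2,false)]⟩,⟨411,[(65,true),(63,false)],[(0,false),(1,false),(2,false),(4,false),(5,false),(4,false),(6,false),(4,false),(1,false),(4,false)]⟩]))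
 (.one .base))
 (.fork (.one (.path 1 [⟨1939,[],[(5,false),(2,false),(5,false)]⟩,⟨2592,[(110,false)],[(0,false),(1,false),(2,true),(5,false),(2,false),(4,false),(5,false)]⟩]))
 (.one .base)))
 (.fork (.fork (.one (.path 7 [⟨1594,[(109,false)],[(5,false),(6,false),(4,false),(1,false),(4,false),(1,false),(5,false),(2,false),(6,false),(4,false)]⟩,⟨1757,[],[(4,false),(3,false),(5,false),(6,false),(4,false),(1,false),(4,false),(2,true),(5,false)]⟩,⟨1927,[(110,false),(109,false)],[(0,false),(4,false),(6,false),(4,false),(1,false),(5,false),(4,false),(1,false),(6,false),(4,false)]⟩]))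
 (.one .base))
 (.fork (.one (.path 0 [⟨3928,[(3911,false),(3912,false),(3911,false)],[(5,false),(4,false),(1,false),(4,false),(2,true),(5,false),(2,false),(4,false),(1,false),(5,false)]⟩,⟨2858,[],[(3,false),(5,false),(2,false),(4,false),(1,false),(6,false),(4,false),(5,false),(4,false),(6,false)]⟩]))
 (.one .base)))))))

/-- a part of the justifications -/
noncomputable def twJustT119 : BT Just := (.fork (.fork (.fork (.fork (.fork (.fork (.one (.lift 1 (wOf 22 0x321323645323123467401) ⟨52,[(13,false),(14,false),(13,false),(11,true),(14,false),(13,false),(11,false),(14,false),(13,false),(11,true)],[]⟩ ⟨52,[(14,true),(13,false),(14,false),(13,false),(11,true),(14,false),(13,false),(11,false),(14,false),(13,false),(11,true)],[(2,true),(5,false),(2,false)]⟩))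
 (.one (.path 0 [⟨4057,[],[]⟩,⟨1829,[(110,false),(109,false)],[(5,false),(2,false),(4,false),(1,false),(5,false),(4,false),(2,true),(5,false),(2,true)]⟩])))
 (.fork (.one (.path 0 [⟨1657,[],[(1,false),(3,false),(5,false),(4,false),(2,true),(5,false),(2,false)]⟩,⟨1148,[],[(0,false),(4,false),(6,false),(2,true),(5,false),(4,false),(1,false),(5,false),(4,false),(1,false),(2,true)]⟩]))
 (.one .base)))
 (.fork (.fork (.one (.path 7 [⟨166,[(121,true),(137,true),(121,true),(132,false)],[(2,false),(3,false),(4,false),(1,false),(4,false),(5,false),(2,false),(4,false),(1,false)]⟩,⟨550,[(204,false),(158,false),(204,true),(158,false),(172,false)],[(6,false),(4,false),(5,false),(2,false),(4,false),(1,false),(5,false)]⟩,⟨881,[(204,true),(158,false),(204,false),(172,false),(158,false)],[(0,false),(5,false),(6,false),(4,false),(5,false),(4,false),(2,true),(5,false)]⟩]))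
 (.one .base))
 (.fork (.one (.path 0 [⟨1446,[],[(2,true),(5,false),(4,false),(5,false),(4,false),(1,false)]⟩,⟨809,[],[(0,false),(2,false),(5,false),(2,false),(6,false),(4,false),(1,false),(5,false),(4,false)]⟩]))
 (.one .base))))
 (.fork (.fork (.fork (.one (.path 6 [⟨128,[],[(4,false),(3,false),(5,false),(2,false),(5,false)]⟩,⟨398,[(114,false),(163,true)],[(2,false),(4,false),(1,false),(5,false),(4,false),(1,false),(4,false),(2,true),(5,false),(2,false)]⟩,⟨539,[(137,false),(121,true),(137,true)],[(2,true),(5,false),(4,false),(1,false),(4,false),(5,false),(2,true),(5,false)]⟩]))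
 (.one .base))
 (.fork (.one (.path 0 [⟨2492,[],[(4,false),(1,false),(5,false),(2,false),(4,false),(1,false),(6,false),(4,false),(1,false)]⟩,⟨2407,[],[(5,false),(2,false),(6,false),(4,false),(5,false),(4,false),(1,false),(6,false),(4,false),(2,true)]⟩]))
 (.one .base)))
 (.fork (.fork (.one (.path 0 [⟨597,[],[(0,false),(2,false),(4,false),(5,false),(2,false)]⟩,⟨1174,[(204,false),(158,false),(204,true),(172,false)],[(2,false),(3,false),(4,false),(5,false),(2,true),(5,false)]⟩]))
 (.one .base))
 (.fork (.one (.path 0 [⟨2164,[(110,false)],[(0,false),(1,false),(2,false),(6,false),(4,false),(1,false),(5,false),(4,false),(5,false)]⟩,⟨3332,[(109,false)],[(1,false),(4,false),(3,false),(5,false),(4,false),(1,false),(6,false),(4,false),(2,true)]⟩]))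
 (.one .base)))))
 (.fork (.fork (.fork (.fork (.one (.path 13 [⟨175,[],[(1,false),(2,true),(5,false),(4,false),(5,false),(2,false),(4,false),(1,false)]⟩,⟨284,[],[(6,false),(4,false),(1,false),(5,false),(4,false),(5,false),(6,false)]⟩,⟨140,[(63,true)],[(4,false),(1,false),(4,false),(6,false),(4,false),(5,false),(4,false),(5,false),(2,false),(6,false)]⟩]))
 (.one .base))
 (.fork (.one (.path 1 [⟨1756,[(110,true),(109,false)],[(2,false),(3,false),(5,false),(4,false),(6,false),(4,false),(1,false),(5,false)]⟩,⟨931,[],[(4,false),(5,false),(2,false),(4,false),(5,false),(4,false),(5,false),(2,false),(6,false)]⟩]))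
 (.one .base)))
 (.fork (.fork (.one (.path 1 [⟨454,[(110,false)],[(3,false),(4,false),(5,false),(6,false),(2,true),(5,false),(4,false),(6,false)]⟩,⟨813,[],[(0,false),(1,false),(4,false),(6,false),(2,true),(5,false),(4,false),(6,false)]⟩]))
 (.one .base))
 (.fork (.one (.path 0 [⟨3319,[],[(5,false),(6,false)]⟩,⟨2385,[],[(5,false),(4,false),(1,false),(4,false),(1,false),(5,false),(2,true)]⟩]))
 (.one .base))))
 (.fork (.fork (.fork (.one (.path 2 [⟨744,[(110,false),(109,false)],[(1,false),(4,false),(5,false),(2,false),(4,false),(5,false),(4,false),(2,true),(5,false),(2,false),(4,false),(5,false)]⟩,⟨678,[],[(4,false),(3,false),(6,false),(4,false),(5,false),(2,false),(4,false),(6,false)]⟩,⟨501,[(204,false),(158,false),(204,true),(172,false)],[(0,false),(2,false),(4,false),(6,false),(4,false),(5,false),(2,false),(4,false)]⟩]))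
 (.one .base))
 (.fork (.one (.path 1 [⟨2050,[(110,true)],[(1,false),(2,false),(4,false),(1,false),(5,false),(6,false),(4,false),(1,false),(5,false),(2,true)]⟩,⟨523,[],[(5,false),(4,false),(1,false),(2,true)]⟩]))
 (.one .base)))
 (.fork (.fork (.one (.path 1 [⟨1343,[],[(3,false),(4,false),(5,false),(2,false),(5,false)]⟩,⟨825,[(110,true),(109,false)],[(1,false),(2,false),(4,false),(3,false),(5,false),(2,false),(4,false),(1,false),(5,false)]⟩]))
 (.one .base))
 (.fork (.one (.path 0 [⟨760,[(137,false)],[(4,false),(1,false),(5,false),(6,false),(4,false),(1,false),(5,false),(2,false)]⟩,⟨3877,[],[(2,false),(4,false),(1,false),(5,false),(6,false),(4,false),(1,false),(5,false),(2,false)]⟩]))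
 (.one .base))))))
 (.fork (.fork (.fork (.fork (.fork (.one (.path 8 [⟨62,[(65,false),(72,false)],[(0,false),(6,false),(4,false),(1,false),(5,false),(2,false),(4,false)]⟩,⟨61,[(13,false),(15,false),(11,true),(14,false),(13,false),(14,false),(13,false)],[(1,false),(3,false),(5,false),(2,false),(4,false),(1,false),(4,false),(6,false),(4,false),(1,false)]⟩,⟨168,[(64,false)],[(2,false),(3,false),(4,false),(1,false),(4,false),(6,false)]⟩]))
 (.one (.path 0 [⟨3884,[(3912,true)],[(1,false),(5,false),(4,false),(1,false),(4,false),(5,false),(2,false),(6,false)]⟩,⟨471,[],[(2,false),(4,false),(5,false),(2,false),(4,false),(5,false),(6,false),(2,true)]⟩])))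
 (.fork (.one (.path 1 [⟨1040,[(110,false)],[(5,false),(2,false),(4,false),(1,false),(4,false),(5,false),(6,false),(2,true),(5,false)]⟩,⟨947,[],[(0,false),(4,false),(5,false),(2,false),(4,false),(1,false),(4,false),(5,false),(4,false)]⟩]))
 (.one .base)))
 (.fork (.fork (.one (.path 4 [⟨1197,[(114,false),(113,false)],[(0,false),(1,false),(5,false),(2,false),(4,false),(6,false)]⟩,⟨964,[(110,true),(109,false)],[(1,false),(4,false),(3,false),(5,false),(4,false),(1,false),(4,false),(5,false),(6,false)]⟩,⟨967,[(121,false),(137,true),(121,false),(132,false)],[(4,false),(1,false),(4,false),(2,true),(5,false),(2,false),(4,false),(1,false),(6,false)]⟩]))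
 (.one .base))
 (.fork (.one (.path 0 [⟨1651,[],[(2,true)]⟩,⟨2119,[(110,false),(109,false)],[(0,false),(1,false),(4,false),(1,false),(6,false),(4,false),(5,false),(4,false)]⟩]))
 (.one .base))))
 (.fork (.fork (.fork (.one (.path 1 [⟨445,[],[(2,false),(5,false),(6,false),(2,true)]⟩,⟨653,[(114,true),(163,true),(114,false)],[(0,false),(2,false),(4,false),(5,false),(2,false),(4,false),(6,false),(4,false),(1,false)]⟩]))
 (.one .base))
 (.fork (.one (.path 0 [⟨516,[],[(3,false),(5,false),(2,true),(5,false),(4,false),(5,false),(4,false),(1,false),(4,false)]⟩,⟨1143,[],[(2,true),(5,false),(4,false),(1,false),(3,false),(4,false),(5,false),(2,false),(4,false)]⟩]))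
 (.one .base)))
 (.fork (.fork (.one (.path 1 [⟨1045,[],[(2,false),(6,false)]⟩,⟨1520,[],[(3,false),(6,false),(4,false),(1,false),(5,false),(4,false),(2,true),(5,false)]⟩]))
 (.one .base))
 (.fork (.one (.path 0 [⟨996,[(110,true),(109,false)],[(1,false),(3,false),(4,false),(6,false),(4,false),(5,false),(2,false),(4,false),(5,false)]⟩,⟨638,[],[(1,false),(6,false),(4,false),(3,false),(5,false),(2,false),(4,false),(5,false),(2,true)]⟩]))
 (.one .base)))))
 (.fork (.fork (.fork (.fork (.one (.path 0 [⟨391,[],[(1,false),(2,false),(3,false),(4,false)]⟩,⟨230,[(110,false)],[(3,false),(4,false),(5,false),(6,false),(2,true),(5,false),(4,false),(1,false),(4,false),(6,false)]⟩]))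
 (.one .base))
 (.fork (.one (.path 0 [⟨1124,[(110,true)],[(2,false),(4,false),(5,false),(2,true),(5,false),(4,false),(5,false)]⟩,⟨551,[],[(1,false),(5,false),(4,false),(5,false),(4,false),(1,false),(2,true)]⟩]))
 (.one .base)))
 (.fork (.fork (.one (.path 4 [⟨144,[],[(0,false),(3,false),(5,false),(2,false),(5,false),(6,false)]⟩,⟨969,[(121,false),(137,false),(132,false),(121,false)],[(1,false),(2,false),(5,false),(4,false),(3,false),(5,false),(2,false)]⟩,⟨1326,[(110,false)],[(0,false),(6,false),(4,false),(5,false),(4,false),(1,false),(4,false)]⟩]))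
 (.one .base))
 (.fork (.one (.path 0 [⟨3346,[],[(0,false),(1,false),(4,false),(1,false),(5,false),(4,false),(2,true),(5,false),(4,false),(1,false)]⟩,⟨3467,[],[(0,false),(1,false),(2,false),(6,false),(4,false),(1,false),(5,false),(4,false),(2,true),(5,false),(4,false)]⟩]))
 (.one .base))))
 (.fork (.fork (.fork (.one (.path 13 [⟨645,[],[(3,false),(4,false),(6,false),(2,true),(5,false),(4,false),(1,false),(5,false),(2,false),(4,false)]⟩,⟨494,[(109,false)],[(4,false),(1,false),(3,false),(4,false),(5,false),(6,false),(2,true),(5,false),(4,false),(1,false)]⟩,⟨787,[(204,false),(172,false),(158,false),(204,false),(158,false)],[(1,false),(2,false),(5,false),(4,false),(3,false),(6,false),(2,true),(5,false),(4,false)]⟩]))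
 (.one .base))
 (.fork (.one (.path 0 [⟨1000,[],[(1,false),(5,false),(4,false),(1,false),(3,false),(5,false),(6,false),(4,false),(1,false),(5,false),(2,false)]⟩,⟨1287,[],[(1,false),(4,false),(1,false),(4,false),(5,false),(4,false),(6,false),(4,false),(1,false),(4,false),(2,true)]⟩]))
 (.one .base)))
 (.fork (.fork (.one (.path 5 [⟨425,[(132,false)],[(1,false),(4,false),(2,true),(5,false),(4,false),(1,false),(5,false),(6,false),(4,false),(2,true)]⟩,⟨396,[],[(3,false),(2,true),(5,false),(4,false),(5,false),(6,false),(4,false),(2,true),(5,false)]⟩,⟨1407,[(121,true),(137,true),(132,false)],[(2,false),(3,false),(4,false),(6,false),(4,false),(1,false),(4,false)]⟩]))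
 (.one .base))
 (.fork (.one (.path 7 [⟨346,[(114,false),(163,true),(114,true),(113,false)],[(4,false),(1,false),(5,false),(4,false),(6,false),(4,false),(2,true),(5,false),(2,false)]⟩,⟨607,[],[(2,false),(5,false),(2,false),(4,false),(1,false),(4,false),(5,false)]⟩,⟨3841,[(110,true),(109,false)],[(4,false),(5,false),(4,false),(2,true),(5,false),(4,false)]⟩]))
 (.one .base)))))))

/-- a part of the justifications -/
noncomputable def twJustT120 : BT Just := (.fork (.fork (.fork (.fork (.fork (.fork (.one .def')
 (.one (.path 0 [⟨2207,[],[(0,false),(1,false),(2,true)]⟩,⟨3947,[(110,true)],[(5,false),(6,false),(2,true),(5,false),(4,false),(5,false),(4,false),(2,true)]⟩])))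
 (.fork (.one (.path 1 [⟨1470,[(110,false)],[(4,false),(6,false),(4,false),(1,false),(4,false),(5,false),(6,false),(4,false)]⟩,⟨1805,[],[(1,false),(5,false),(4,false),(1,false)]⟩]))
 (.one .base)))
 (.fork (.fork (.one (.path 0 [⟨354,[(191,true),(191,true),(72,true),(64,false)],[(2,false),(4,false),(6,false),(4,false),(1,false),(4,false)]⟩,⟨1113,[],[(1,false),(2,false),(3,false),(5,false),(6,false)]⟩]))
 (.one .base))
 (.fork (.one (.path 0 [⟨1016,[(109,false)],[(2,false),(5,false),(4,false),(3,false),(5,false),(6,false),(4,false),(5,false)]⟩,⟨723,[],[(3,false),(4,false),(1,false),(4,false),(6,false),(4,false),(1,false)]⟩]))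
 (.one .base))))
 (.fork (.fork (.fork (.one (.path 6 [⟨553,[(172,false),(158,false),(204,false),(172,false)],[(0,false),(2,false),(5,false),(4,false),(5,false),(6,false),(4,false),(2,true),(5,false),(2,false)]⟩,⟨344,[(114,false),(163,true),(114,true)],[(1,false),(2,false),(3,false),(5,false),(6,false),(4,false),(1,false),(5,false),(2,true)]⟩,⟨543,[(132,true),(121,false),(137,false),(121,false)],[(4,false),(5,false),(6,false),(4,false),(5,false),(4,false),(6,false),(2,true)]⟩]))
 (.one .base))
 (.fork (.one (.path 10 [⟨1086,[(110,true)],[(2,false),(3,false),(4,false),(5,false),(6,false),(4,false),(2,true),(5,false),(4,false)]⟩,⟨487,[],[(6,false),(4,false),(5,false),(4,false),(5,false),(2,false),(6,false),(4,false),(1,false),(5,false)]⟩,⟨2537,[],[(5,false),(2,false),(4,false),(5,false),(4,false),(5,false),(2,false)]⟩]))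
 (.one .base)))
 (.fork (.fork (.one (.path 13 [⟨1515,[(110,true),(109,false)],[(0,false),(4,false),(1,false),(5,false),(4,false),(6,false),(2,true)]⟩,⟨289,[(163,false)],[(0,false),(1,false),(2,false),(4,false),(5,false),(2,false),(4,false),(1,false),(5,false)]⟩,⟨740,[(158,false),(204,true),(158,false),(204,true),(158,false)],[(2,false),(4,false),(3,false),(5,false),(6,false),(4,false),(2,true),(5,false),(4,false),(6,false)]⟩]))
 (.one .base))
 (.fork (.one (.path 0 [⟨2887,[],[(0,false),(1,false),(2,false),(4,false)]⟩,⟨2783,[],[(0,false),(2,false),(6,false),(4,false),(1,false),(5,false),(4,false),(1,false),(5,false),(2,true)]⟩]))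
 (.one .base)))))
 (.fork (.fork (.fork (.fork (.one (.path 12 [⟨266,[(163,true),(114,true),(113,false)],[(3,false),(5,false),(4,false),(5,false),(4,false),(6,false),(2,true),(5,false),(2,false)]⟩,⟨144,[(55,false),(83,true),(54,false)],[(2,false),(3,false),(4,false),(1,false),(5,false),(4,false),(2,true),(5,false),(4,false)]⟩,⟨135,[(137,false),(121,true),(137,true),(132,false),(121,false)],[(4,false),(5,false),(6,false),(4,false),(5,false),(2,false),(5,false),(4,false),(6,false)]⟩]))
 (.one .base))
 (.fork (.one (.path 7 [⟨1674,[(110,false)],[(4,false),(3,false),(6,false),(2,true),(5,false),(4,false),(6,false),(2,true)]⟩,⟨2165,[(110,true),(109,false)],[(1,false),(4,false),(1,false),(2,true),(5,false),(4,false),(5,false)]⟩,⟨2167,[(110,true)],[(0,false),(2,false),(6,false),(4,false),(5,false),(2,false),(4,false),(5,false),(2,false)]⟩]))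
 (.one .base)))
 (.fork (.fork (.one (.path 1 [⟨296,[(114,true),(163,true),(114,false),(113,false)],[(1,false),(3,false),(5,false),(4,false),(5,false),(6,false),(4,false),(2,true),(5,false)]⟩,⟨1091,[],[(0,false),(6,false),(4,false),(5,false),(2,false),(4,false),(1,false),(5,false),(4,false),(2,true)]⟩]))
 (.one .base))
 (.fork (.one (.path 0 [⟨923,[],[(2,false),(3,false),(4,false),(6,false)]⟩,⟨2450,[(110,true)],[(0,false),(5,false),(6,false),(4,false),(5,false),(4,false),(1,false),(6,false)]⟩]))
 (.one .base))))
 (.fork (.fork (.fork (.one (.path 5 [⟨445,[(158,false)],[(1,false),(4,false),(6,false),(4,false),(1,false),(2,true)]⟩,⟨544,[(163,true),(114,true),(163,false),(113,false)],[(0,false),(5,false),(4,false),(2,true),(5,false),(2,false),(4,false),(5,false),(6,false)]⟩,⟨431,[(121,true),(132,false)],[(0,false),(1,false),(2,false),(6,false),(4,false),(5,false),(4,false),(5,false),(2,false),(5,false)]⟩]))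
 (.one .base))
 (.fork (.one (.path 0 [⟨1659,[],[(0,false),(1,false),(5,false)]⟩,⟨1691,[(110,true)],[(2,false),(5,false),(4,false),(2,true),(5,false),(4,false),(1,false),(6,false)]⟩]))
 (.one .base)))
 (.fork (.fork (.one (.path 1 [⟨732,[(110,true),(109,false)],[(4,false),(5,false),(2,false),(4,false),(5,false),(4,false),(5,false),(6,false),(2,true),(5,false)]⟩,⟨580,[],[(4,false),(5,false),(4,false),(1,false),(6,false),(4,false),(2,true),(5,false)]⟩]))
 (.one .base))
 (.fork (.one (.path 2 [⟨2638,[(110,true)],[(2,false),(5,false),(4,false),(6,false),(4,false),(1,false),(4,false),(1,false),(6,false),(2,true)]⟩,⟨2611,[],[(1,false),(3,false),(5,false),(2,false),(4,false),(1,false),(4,false)]⟩,⟨3929,[(110,true)],[(0,false),(2,false),(4,false),(5,false),(2,false),(4,false),(5,false),(2,false),(4,false),(5,false)]⟩]))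
 (.one .base))))))
 (.fork (.fork (.fork (.fork (.fork (.one (.path 0 [⟨144,[],[(1,false),(2,false),(5,false),(2,true)]⟩,⟨241,[(121,true),(132,false)],[(2,false),(3,false),(5,false),(4,false),(6,false),(4,false),(1,false),(4,false),(6,false)]⟩]))
 (.one (.path 4 [⟨4328,[(4321,true)],[(0,false),(4,false),(2,true),(5,false),(2,false),(4,false),(5,false),(2,false),(4,false),(1,false),(5,false)]⟩,⟨2278,[],[(2,false),(4,false),(5,false),(2,false),(6,false)]⟩,⟨2277,[(83,false),(100,true),(57,false)],[(1,false),(4,false),(1,false),(3,false),(6,false),(4,false),(5,false)]⟩])))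
 (.fork (.one (.path 2 [⟨534,[],[(0,false),(1,false),(4,false),(6,false),(2,true),(5,false),(4,false),(1,false),(4,false),(5,false)]⟩,⟨320,[(163,true),(114,false),(163,false)],[(1,false),(5,false),(2,false),(4,false),(1,false),(3,false),(5,false),(6,false),(2,true)]⟩,⟨441,[(172,false),(158,false),(172,false)],[(2,false),(3,false),(4,false),(1,false),(5,false),(4,false),(1,false),(4,false),(6,false),(4,false),(2,true)]⟩]))
 (.one .base)))
 (.fork (.fork (.one (.path 11 [⟨938,[(172,false),(158,false),(172,false),(158,false)],[(3,false),(6,false),(4,false),(2,true),(5,false),(2,false),(4,false),(1,false),(6,false)]⟩,⟨428,[(114,false),(163,false),(114,true)],[(1,false),(3,false),(2,true),(5,false),(4,false),(5,false),(2,true)]⟩,⟨869,[(121,true),(132,true),(121,false),(132,false)],[(0,false),(1,false),(4,false),(6,false),(4,false),(1,false),(5,false),(4,false),(6,false)]⟩]))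
 (.one .base))
 (.fork (.one (.path 8 [⟨1024,[(110,true)],[(0,false),(2,false),(4,false),(1,false),(4,false),(5,false),(4,false),(2,true)]⟩,⟨2809,[],[(1,false),(4,false),(1,false),(3,false),(5,false),(4,false),(5,false),(2,false)]⟩,⟨2548,[],[(0,false),(6,false),(4,false),(1,false),(4,false),(6,false),(2,true),(5,false)]⟩]))
 (.one .base))))
 (.fork (.fork (.fork (.one (.path 8 [⟨657,[(163,false),(114,true),(163,true),(114,false),(113,false)],[(2,false),(3,false),(4,false),(1,false),(6,false),(4,false),(5,false),(2,false)]⟩,⟨652,[(110,true),(109,false)],[(1,false),(4,false),(1,false),(3,false),(4,false),(5,false),(2,false),(6,false),(4,false)]⟩,⟨428,[(114,true),(163,true)],[(4,false),(3,false),(6,false),(2,true),(5,false),(4,false),(1,false)]⟩]))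
 (.one .base))
 (.fork (.one (.path 0 [⟨1876,[],[(1,false),(5,false),(4,false),(1,false),(4,false),(2,true),(5,false)]⟩,⟨2465,[],[(0,false),(2,false),(5,false),(6,false),(4,false),(2,true),(5,false),(4,false),(1,false),(5,false)]⟩]))
 (.one .base)))
 (.fork (.fork (.one (.path 3 [⟨296,[(114,true),(163,true),(114,false),(113,false)],[(0,false),(1,false),(5,false),(4,false),(5,false),(6,false),(4,false),(2,true),(5,false),(4,false)]⟩,⟨861,[(121,true),(137,false),(132,true)],[(1,false),(4,false),(1,false),(5,false),(4,false),(2,true),(5,false),(4,false),(1,false),(6,false)]⟩,⟨1036,[(110,false),(109,false)],[(4,false),(5,false),(4,false),(1,false),(5,false),(4,false),(6,false),(4,false)]⟩]))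
 (.one .base))
 (.fork (.one (.path 1 [⟨127,[(110,true)],[(2,false),(3,false),(6,false)]⟩,⟨3829,[(64,true),(191,true),(72,true),(64,true)],[(4,false),(5,false),(2,false),(5,false),(6,false),(4,false),(5,false),(4,false),(6,false)]⟩]))
 (.one .base)))))
 (.fork (.fork (.fork (.fork (.one (.path 3 [⟨255,[],[(0,false),(1,false),(3,false),(5,false),(2,true)]⟩,⟨500,[(114,true),(163,true),(114,true),(113,false)],[(1,false),(4,false),(1,false),(2,true),(5,false),(4,false),(5,false),(2,false),(4,false),(6,false),(4,false)]⟩,⟨501,[(172,false)],[(3,false),(2,true),(5,false),(2,false),(4,false),(5,false),(4,false),(6,false),(4,false)]⟩]))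
 (.one .base))
 (.fork (.one (.path 3 [⟨2267,[],[(0,false),(1,false),(3,false),(5,false),(6,false),(2,true)]⟩,⟨2399,[(110,false),(109,false)],[(5,false),(2,false),(4,false),(1,false),(3,false),(4,false),(6,false),(4,false),(5,false),(2,false)]⟩,⟨2443,[(110,true)],[(2,false),(3,false),(4,false),(5,false),(4,false),(1,false),(4,false),(5,false),(2,false),(4,false)]⟩]))
 (.one .base)))
 (.fork (.fork (.one (.path 6 [⟨682,[(110,false)],[(4,false),(5,false),(4,false),(6,false),(2,true),(5,false),(4,false),(1,false)]⟩,⟨342,[(204,true),(158,false),(172,false)],[(4,false),(3,false),(5,false),(4,false),(1,false),(4,false),(2,true),(5,false),(4,false),(2,true)]⟩,⟨841,[(163,false),(114,true),(113,false)],[(0,false),(1,false),(5,false),(6,false),(4,false),(5,false),(4,false),(1,false)]⟩]))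
 (.one .base))
 (.fork (.one (.path 1 [⟨3097,[],[(1,false),(6,false)]⟩,⟨2770,[(110,false)],[(1,false),(2,false),(3,false),(5,false),(4,false),(2,true),(5,false),(4,false),(1,false),(6,false),(2,true)]⟩]))
 (.one .base))))
 (.fork (.fork (.fork (.one (.path 0 [⟨331,[],[(5,false),(2,false),(6,false)]⟩,⟨777,[(137,true),(132,true),(121,false),(132,false)],[(1,false),(4,false),(1,false),(5,false),(4,false),(1,false),(6,false),(2,true)]⟩]))
 (.one .base))
 (.fork (.one (.path 4 [⟨2885,[],[(0,false),(2,false),(3,false),(5,false),(2,false)]⟩,⟨3031,[(110,false)],[(0,false),(1,false),(6,false),(4,false),(1,false),(4,false),(5,false),(4,false),(1,false),(2,true)]⟩,⟨2776,[(109,false)],[(2,true),(5,false),(4,false),(3,false),(5,false),(2,false),(5,false),(6,false),(4,false),(1,false)]⟩]))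
 (.one .base)))
 (.fork (.fork (.one (.path 4 [⟨1318,[(110,false)],[(0,false),(2,false),(6,false),(4,false),(5,false),(4,false),(5,false),(6,false),(2,true)]⟩,⟨698,[(110,false),(109,false)],[(1,false),(2,true),(5,false),(2,false),(4,false),(1,false),(5,false),(4,false),(1,false),(6,false)]⟩,⟨989,[(158,false),(204,true),(158,false),(204,true)],[(4,false),(1,false),(4,false)]⟩]))
 (.one .base))
 (.fork (.one (.path 0 [⟨3940,[(3911,false),(3911,false),(3911,false)],[(5,false),(6,false),(4,false),(1,false),(4,false),(1,false),(6,false),(4,false),(1,false),(5,false)]⟩,⟨2054,[],[(5,false),(6,false),(4,false),(5,false),(2,true),(5,false),(4,false),(1,false)]⟩]))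
 (.one .base)))))))

/-- a part of the justifications -/
noncomputable def twJustT121 : BT Just := (.fork (.fork (.fork (.fork (.fork (.fork (.one (.ubase [(6,false)]))
 (.one (.path 0 [⟨4049,[(3911,true),(3911,true)],[(6,false),(4,false),(5,false),(4,false),(1,false),(2,true)]⟩,⟨4068,[(110,true)],[(4,false),(5,false),(4,false),(1,false),(5,false),(4,false),(2,true),(5,false)]⟩])))
 (.fork (.one (.path 1 [⟨666,[(110,false),(109,false)],[(0,false),(1,false),(6,false),(4,false),(5,false),(2,false),(4,false),(5,false)]⟩,⟨979,[],[(1,false),(5,false),(2,false),(6,false),(4,false),(3,false),(5,false),(4,false),(1,false)]⟩]))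
 (.one .base)))
 (.fork (.fork (.one (.path 0 [⟨346,[(163,true)],[(0,false),(4,false),(5,false),(4,false),(1,false),(4,false),(5,false),(2,false),(5,false)]⟩,⟨779,[],[(1,false),(2,false),(5,false),(4,false),(1,false),(4,false),(5,false),(6,false),(4,false)]⟩]))
 (.one .base))
 (.fork (.one (.path 0 [⟨1650,[(110,true)],[(1,false),(2,false),(3,false),(4,false),(1,false),(6,false),(4,false),(1,false),(5,false),(4,false)]⟩,⟨823,[],[(1,false),(3,false),(2,true),(5,false),(4,false),(5,false),(4,false),(6,false),(4,false)]⟩]))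
 (.one .base))))
 (.fork (.fork (.fork (.one (.path 9 [⟨421,[],[(0,false),(5,false),(2,true),(5,false)]⟩,⟨472,[(109,false)],[(1,false),(6,false),(4,false),(5,false),(4,false),(1,false),(4,false),(5,false),(2,false)]⟩,⟨519,[(163,true),(114,false),(163,false)],[(4,false),(5,false),(2,false),(5,false),(4,false),(5,false),(4,false),(1,false)]⟩]))
 (.one .base))
 (.fork (.one (.path 4 [⟨1156,[],[(0,false),(1,false),(4,false),(5,false),(6,false),(4,false),(1,false),(5,false),(2,true)]⟩,⟨1898,[(110,true)],[(0,false),(2,false),(4,false),(6,false),(4,false),(1,false),(5,false),(4,false),(5,false),(6,false)]⟩,⟨1367,[],[(0,false),(1,false),(6,false),(2,true),(5,false),(4,false),(1,false),(5,false),(2,false),(4,false),(6,false)]⟩]))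
 (.one .base)))
 (.fork (.fork (.one (.path 1 [⟨473,[],[(0,false),(1,false),(3,false),(6,false),(2,true)]⟩,⟨777,[(137,true),(132,true),(121,false),(132,false)],[(3,false),(4,false),(1,false),(6,false),(2,true),(5,false),(4,false),(1,false),(5,false)]⟩]))
 (.one .base))
 (.fork (.one (.path 0 [⟨3364,[],[(1,false),(6,false),(2,true),(5,false),(4,false),(1,false),(4,false),(6,false),(4,false)]⟩,⟨3395,[],[(2,false),(4,false),(1,false),(3,false),(4,false)]⟩]))
 (.one .base)))))
 (.fork (.fork (.fork (.fork (.one (.path 7 [⟨148,[(137,true),(132,false),(121,false),(132,false)],[(1,false),(2,false),(4,false),(1,false),(3,false),(4,false),(5,false),(4,false),(1,false),(6,false)]⟩,⟨267,[(114,true),(163,false)],[(4,false),(2,true),(5,false),(4,false),(1,false),(5,false),(6,false),(4,false),(1,false),(4,false)]⟩,⟨259,[],[(1,false),(2,true),(5,false),(4,false),(5,false),(2,false),(4,false),(5,false),(6,false),(2,true)]⟩]))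
 (.one .base))
 (.fork (.one (.path 1 [⟨496,[(110,false),(109,false)],[(3,false),(4,false),(2,true),(5,false),(4,false),(2,true),(5,false),(2,false),(4,false),(5,false),(4,false),(2,true)]⟩,⟨1127,[],[(3,false),(4,false),(1,false),(4,false),(5,false),(2,true),(5,false),(4,false),(1,false),(4,false)]⟩]))
 (.one .base)))
 (.fork (.fork (.one (.path 4 [⟨1001,[(158,false),(204,false),(172,false)],[(1,false),(5,false),(6,false),(4,false),(2,true),(5,false)]⟩,⟨612,[],[(0,false),(2,false),(4,false),(1,false),(4,false),(5,false),(4,false),(6,false),(4,false)]⟩,⟨603,[(137,true),(121,false),(137,true)],[(1,false),(2,false),(5,false),(4,false),(1,false),(3,false),(6,false),(4,false)]⟩]))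
 (.one .base))
 (.fork (.one (.path 0 [⟨1184,[(110,false),(109,false)],[(2,false),(5,false),(2,false),(4,false),(1,false),(5,false),(4,false),(2,true)]⟩,⟨2681,[],[(0,false),(2,true),(5,false),(2,false),(4,false),(1,false),(5,false),(4,false),(2,true),(5,false)]⟩]))
 (.one .base))))
 (.fork (.fork (.fork (.one (.path 0 [⟨547,[],[(4,false),(1,false),(3,false),(6,false),(2,true)]⟩,⟨470,[],[(0,false),(1,false),(5,false),(2,true)]⟩]))
 (.one .base))
 (.fork (.one (.path 0 [⟨1490,[(109,false)],[(2,false),(3,false),(4,false),(5,false),(4,false),(1,false),(5,false),(6,false),(4,false)]⟩,⟨1180,[(109,false)],[(3,false),(4,false),(6,false),(4,false),(2,true),(5,false),(2,false),(4,false),(1,false),(6,false)]⟩]))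
 (.one .base)))
 (.fork (.fork (.one (.path 1 [⟨812,[(110,false)],[(2,false),(6,false),(4,false),(1,false),(4,false),(5,false),(6,false),(2,true)]⟩,⟨503,[],[(2,false),(6,false),(4,false),(1,false),(5,false),(4,false),(5,false),(6,false),(2,true)]⟩]))
 (.one .base))
 (.fork (.one (.path 6 [⟨1343,[],[(2,true),(5,false),(2,true)]⟩,⟨380,[(110,true)],[(0,false),(5,false),(6,false),(4,false),(1,false),(5,false),(2,false),(4,false)]⟩,⟨3835,[(163,true)],[(2,false),(5,false),(4,false),(3,false),(5,false),(6,false),(4,false)]⟩]))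
 (.one .base))))))
 (.fork (.fork (.fork (.fork (.fork (.one (.rev 142))
 (.one (.path 1 [⟨3039,[],[(3,false),(4,false),(2,true)]⟩,⟨3943,[(110,true)],[(1,false),(2,false),(4,false),(1,false),(5,false),(6,false),(4,false)]⟩])))
 (.fork (.one (.path 0 [⟨1194,[],[(4,false),(1,false),(4,false),(5,false),(4,false),(6,false),(4,false),(2,true),(5,false)]⟩,⟨471,[],[(4,false),(1,false),(5,false),(4,false),(6,false),(2,true),(5,false),(4,false),(1,false)]⟩]))
 (.one .base)))
 (.fork (.fork (.one (.path 1 [⟨581,[],[(2,true),(5,false)]⟩,⟨929,[(114,false),(113,false)],[(1,false),(4,false),(1,false),(5,false),(2,false),(4,false),(5,false),(4,false),(1,false),(2,true),(5,false),(4,false)]⟩]))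
 (.one .base))
 (.fork (.one (.path 2 [⟨1345,[(109,false)],[(2,false),(5,false),(6,false),(2,true)]⟩,⟨3076,[(110,true)],[(1,false),(3,false),(5,false),(2,false),(4,false),(5,false),(4,false),(1,false),(4,false),(2,true)]⟩,⟨2836,[],[(1,false),(6,false),(2,true),(5,false),(4,false),(1,false),(6,false),(4,false)]⟩]))
 (.one .base))))
 (.fork (.fork (.fork (.one (.path 4 [⟨486,[(114,true),(163,true),(114,false),(113,false)],[(2,false),(5,false),(4,false),(1,false),(3,false),(4,false),(2,true),(5,false),(2,false),(4,false)]⟩,⟨431,[(137,false),(132,false),(121,false),(137,false)],[(1,false),(4,false),(2,true),(5,false),(4,false),(1,false),(4,false),(5,false),(2,true)]⟩,⟨315,[],[(0,false),(4,false),(1,false),(6,false),(4,false),(1,false),(4,false),(5,false),(4,false),(2,true),(5,false)]⟩]))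
 (.one .base))
 (.fork (.one (.path 4 [⟨686,[(109,false)],[(0,false),(4,false),(1,false),(4,false),(5,false),(4,false),(6,false),(4,false),(5,false),(2,true)]⟩,⟨687,[(204,true),(172,false),(158,false),(204,false),(158,false)],[(3,false),(5,false),(2,true),(5,false),(4,false),(1,false),(5,false),(4,false),(6,false),(4,false)]⟩,⟨1696,[],[(2,false),(4,false),(5,false),(2,true),(5,false),(4,false),(1,false),(5,false),(4,false),(6,false),(4,false)]⟩]))
 (.one .base)))
 (.fork (.fork (.one (.path 8 [⟨1325,[],[(0,false),(1,false),(3,false),(2,true),(5,false),(2,false)]⟩,⟨367,[(110,false),(109,false)],[(2,false),(6,false),(4,false),(3,false),(5,false),(2,true),(5,false),(4,false),(5,false),(2,false),(6,false)]⟩,⟨647,[(114,false),(113,false)],[(5,false),(4,false),(3,false),(6,false),(4,false),(5,false),(2,false),(4,false),(5,false)]⟩]))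
 (.one .base))
 (.fork (.one (.path 1 [⟨3471,[],[(3,false),(4,false),(5,false),(2,false),(5,false)]⟩,⟨3436,[],[(0,false),(5,false),(2,false),(5,false),(4,false),(1,false),(4,false),(6,false)]⟩]))
 (.one .base)))))
 (.fork (.fork (.fork (.fork (.one (.path 9 [⟨135,[(132,false)],[(0,false),(4,false),(5,false),(2,false),(5,false),(4,false),(5,false),(2,false),(6,false)]⟩,⟨376,[],[(0,false),(5,false),(4,false),(6,false),(4,false),(1,false),(4,false),(5,false),(6,false),(2,true)]⟩,⟨176,[(114,true),(163,true)],[(3,false),(5,false),(2,true),(5,false),(4,false),(5,false),(4,false),(2,true)]⟩]))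
 (.one .base))
 (.fork (.one (.path 1 [⟨1568,[(110,false)],[(2,false),(3,false)]⟩,⟨368,[(163,false),(114,false)],[(1,false),(4,false),(1,false),(6,false),(4,false),(5,false),(2,true),(5,false),(4,false)]⟩]))
 (.one .base)))
 (.fork (.fork (.one (.path 3 [⟨481,[(121,false),(121,false)],[(0,false),(1,false),(6,false),(2,true),(5,false),(4,false)]⟩,⟨639,[(110,false)],[(1,false),(2,false),(4,false),(1,false),(4,false),(5,false),(6,false),(4,false),(1,false),(5,false)]⟩,⟨581,[],[(6,false),(4,false),(2,true),(5,false),(4,false),(6,false),(2,true),(5,false),(4,false),(2,true)]⟩]))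
 (.one .base))
 (.fork (.one (.path 1 [⟨2996,[(110,true),(109,false)],[(1,false),(4,false),(6,false),(4,false),(1,false),(5,false),(4,false),(1,false)]⟩,⟨2516,[(110,true),(109,false)],[(1,false),(2,false),(3,false),(4,false),(1,false),(5,false),(4,false),(6,false),(2,true),(5,false)]⟩]))
 (.one .base))))
 (.fork (.fork (.fork (.one (.path 13 [⟨644,[],[(2,false),(4,false),(1,false),(4,false),(1,false),(5,false),(4,false),(6,false),(4,false),(5,false)]⟩,⟨761,[(114,true)],[(5,false),(2,false),(5,false),(4,false),(1,false),(3,false),(6,false),(4,false),(1,false)]⟩,⟨324,[(110,true)],[(5,false),(2,false),(5,false),(4,false),(1,false),(5,false),(2,false),(6,false),(4,false),(5,false)]⟩]))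
 (.one .base))
 (.fork (.one (.path 0 [⟨2933,[],[(3,false),(6,false)]⟩,⟨1935,[],[(5,false),(4,false),(3,false),(6,false),(4,false),(1,false),(4,false),(5,false),(6,false),(2,true)]⟩]))
 (.one .base)))
 (.fork (.fork (.one (.path 0 [⟨1534,[],[(0,false),(4,false),(5,false),(2,false),(4,false),(1,false),(4,false),(6,false),(4,false),(5,false)]⟩,⟨947,[],[(0,false),(1,false),(2,true),(5,false),(4,false),(1,false),(6,false),(4,false),(5,false),(2,true)]⟩]))
 (.one .base))
 (.fork (.one (.path 0 [⟨2901,[],[(0,false),(2,false),(3,false),(5,false)]⟩,⟨3845,[(110,true),(109,false)],[(0,false),(5,false),(4,false),(1,false),(5,false),(2,true)]⟩]))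
 (.one .base)))))))

/-- a part of the justifications -/
noncomputable def twJustT122 : BT Just := (.fork (.fork (.fork (.fork (.fork (.fork (.one (.path 1 [⟨71,[],[(1,false),(3,false),(5,false),(2,false),(4,false),(1,false),(5,false),(6,false),(4,false),(1,false)]⟩,⟨52,[],[(0,false),(2,false),(5,false),(2,false),(4,false),(5,false),(6,false),(2,true),(5,false),(4,false)]⟩]))
 (.one (.path 1 [⟨2423,[],[(0,false),(1,false)]⟩,⟨3987,[(110,true),(109,false)],[(0,false),(2,false),(4,false),(1,false),(5,false),(4,false),(6,false),(4,false),(5,false),(4,false)]⟩])))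
 (.fork (.one (.path 4 [⟨1066,[(109,false)],[(0,false),(1,false),(2,false),(3,false),(5,false),(6,false),(2,true)]⟩,⟨1735,[(114,false),(163,false),(114,false),(113,false)],[(5,false),(2,false),(4,false),(1,false),(3,false),(4,false),(5,false),(4,false),(6,false)]⟩,⟨1489,[(110,true)],[(0,false),(6,false),(4,false),(2,true),(5,false),(4,false),(2,true),(5,false),(2,true)]⟩]))
 (.one .base)))
 (.fork (.fork (.one (.path 1 [⟨536,[(204,false),(172,false),(158,false),(204,true)],[(1,false),(4,false),(1,false),(4,false),(5,false),(6,false),(4,false),(5,false),(4,false),(2,true)]⟩,⟨959,[],[(2,false),(6,false),(4,false),(5,false),(4,false),(1,false),(2,true),(5,false)]⟩]))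
 (.one .base))
 (.fork (.one (.path 2 [⟨2723,[(110,false)],[(4,false),(2,true),(5,false),(4,false),(1,false),(6,false),(4,false)]⟩,⟨2913,[(110,true),(109,false)],[(3,false),(6,false),(2,true),(5,false),(4,false),(5,false),(2,true),(5,false),(4,false)]⟩,⟨1679,[(110,false)],[(0,false),(2,false),(5,false),(4,false),(6,false),(4,false),(5,false),(2,false),(4,false),(1,false)]⟩]))
 (.one .base))))
 (.fork (.fork (.fork (.one (.path 6 [⟨358,[(114,true),(163,true)],[(1,false),(3,false),(4,false),(1,false),(4,false),(6,false),(4,false),(1,false)]⟩,⟨499,[],[(6,false),(4,false)]⟩,⟨291,[(114,false),(163,false),(114,false)],[(4,false),(6,false),(4,false),(1,false),(4,false),(1,false),(6,false),(2,true)]⟩]))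
 (.one .base))
 (.fork (.one (.path 4 [⟨410,[(109,false)],[(2,true),(5,false),(2,false),(4,false),(3,false),(5,false),(6,false),(2,true),(5,false),(4,false)]⟩,⟨1141,[(57,false),(83,false),(100,false),(54,false)],[(1,false),(4,false),(1,false),(6,false),(4,false),(1,false),(5,false),(4,false),(5,false),(2,false),(6,false)]⟩,⟨2108,[(110,true)],[(0,false),(1,false),(2,false),(5,false),(4,false),(1,false),(6,false),(4,false),(1,false),(5,false),(4,false)]⟩]))
 (.one .base)))
 (.fork (.fork (.one (.path 13 [⟨362,[(158,false)],[(6,false),(2,true),(5,false),(4,false),(6,false),(2,true),(5,false)]⟩,⟨513,[(191,false),(64,true),(72,false)],[(1,false),(5,false),(4,false),(6,false),(4,false),(2,true),(5,false),(4,false),(1,false),(6,false)]⟩,⟨1489,[(110,true),(109,false)],[(3,false),(5,false),(2,true),(5,false),(4,false),(1,false),(5,false),(4,false),(6,false),(2,true)]⟩]))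
 (.one .base))
 (.fork (.one (.path 0 [⟨2736,[],[(5,false),(2,false),(4,false),(1,false),(4,false),(5,false),(2,false),(4,false),(5,false)]⟩,⟨3371,[],[(3,false),(5,false),(4,false),(5,false),(2,false),(5,false),(4,false),(5,false),(2,false)]⟩]))
 (.one .base)))))
 (.fork (.fork (.fork (.fork (.one (.path 10 [⟨130,[(72,true),(191,false)],[(3,false),(4,false),(1,false),(5,false),(4,false),(6,false),(4,false),(1,false),(5,false),(2,false)]⟩,⟨273,[(121,false),(132,false),(121,false),(137,false)],[(1,false),(5,false),(4,false),(3,false),(2,true),(5,false),(4,false),(2,true),(5,false),(2,false)]⟩,⟨149,[(114,true),(163,false)],[(2,false),(6,false),(4,false),(1,false),(5,false),(4,false),(1,false)]⟩]))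
 (.one .base))
 (.fork (.one (.path 8 [⟨1683,[(110,true),(109,false)],[(4,false),(1,false),(5,false),(4,false),(5,false),(4,false),(2,true),(5,false),(4,false)]⟩,⟨813,[(83,true),(55,false)],[(0,false),(4,false),(5,false),(2,false),(4,false),(5,false),(4,false),(6,false),(4,false),(1,false)]⟩,⟨1875,[],[(4,false),(1,false),(3,false),(4,false),(5,false),(2,false),(4,false),(1,false),(4,false),(5,false)]⟩]))
 (.one .base)))
 (.fork (.fork (.one (.path 10 [⟨959,[],[(0,false),(3,false)]⟩,⟨1234,[],[(2,false),(5,false),(2,false),(4,false),(3,false),(5,false),(2,false),(4,false),(5,false),(2,true)]⟩,⟨939,[(114,false),(163,false)],[(1,false),(3,false),(5,false),(6,false),(4,false),(1,false),(2,true),(5,false),(4,false)]⟩]))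
 (.one .base))
 (.fork (.one (.path 0 [⟨2467,[],[(1,false),(5,false)]⟩,⟨2115,[(110,false)],[(1,false),(4,false),(3,false),(5,false),(4,false),(6,false),(2,true),(5,false),(4,false),(6,false)]⟩]))
 (.one .base))))
 (.fork (.fork (.fork (.one (.path 0 [⟨759,[],[(0,false),(5,false),(2,true),(5,false)]⟩,⟨781,[(137,true)],[(0,false),(5,false),(4,false),(1,false),(5,false),(4,false),(6,false),(4,false),(5,false)]⟩]))
 (.one .base))
 (.fork (.one (.path 1 [⟨2844,[(110,true)],[(0,false),(2,false),(5,false),(4,false),(2,true),(5,false),(2,false),(4,false),(1,false),(5,false),(6,false)]⟩,⟨2386,[(110,false),(109,false)],[(4,false),(6,false),(4,false),(1,false),(5,false),(4,false),(1,false),(4,false),(6,false)]⟩]))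
 (.one .base)))
 (.fork (.fork (.one (.path 3 [⟨637,[],[(0,false),(2,false),(3,false),(5,false),(6,false),(2,true)]⟩,⟨623,[(158,false),(204,true),(172,false),(158,false)],[(1,false),(4,false),(5,false),(4,false),(6,false),(4,false),(5,false),(4,false),(2,true),(5,false)]⟩,⟨740,[(158,false),(172,false),(158,false),(204,false),(158,false)],[(6,false),(2,true),(5,false),(4,false),(1,false),(2,true),(5,false),(4,false)]⟩]))
 (.one .base))
 (.fork (.one (.path 2 [⟨1494,[(110,true)],[(4,false),(1,false),(3,false),(5,false),(6,false),(4,false),(1,false),(2,true),(5,false)]⟩,⟨2904,[(110,false)],[(0,false),(2,false),(4,false),(5,false),(2,false),(4,false),(5,false),(4,false),(6,false),(2,true)]⟩,⟨3861,[(110,false),(109,false)],[(2,false),(4,false),(6,false),(4,false),(1,false),(5,false),(4,false),(1,false),(2,true),(5,false)]⟩]))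
 (.one .base))))))
 (.fork (.fork (.fork (.fork (.fork (.one (.path 13 [⟨195,[],[(2,false),(4,false),(1,false),(3,false),(4,false),(6,false),(4,false),(5,false),(2,false),(4,false),(6,false)]⟩,⟨124,[(57,false),(55,false),(54,false)],[(1,false),(4,false),(1,false),(5,false),(4,false),(1,false),(4,false),(2,true),(5,false),(2,false)]⟩,⟨153,[(163,false)],[(2,false),(3,false),(5,false),(2,false),(4,false),(1,false),(4,false),(5,false),(2,true)]⟩]))
 (.one (.path 0 [⟨3916,[(3912,false),(3911,true)],[(1,false),(6,false),(4,false),(1,false),(3,false),(2,true),(5,false),(4,false)]⟩,⟨3839,[(100,false),(57,false),(54,false)],[(3,false),(4,false),(6,false),(4,false),(1,false),(2,true),(5,false)]⟩])))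
 (.fork (.one (.path 1 [⟨950,[],[(2,true),(5,false),(2,false),(4,false),(5,false),(6,false),(4,false),(2,true),(5,false),(2,true)]⟩,⟨1026,[(114,false),(163,false),(114,true)],[(4,false),(1,false),(4,false),(5,false),(2,false),(4,false),(6,false)]⟩]))
 (.one .base)))
 (.fork (.fork (.one (.path 5 [⟨151,[(114,true),(163,true),(114,false)],[(0,false),(4,false),(2,true),(5,false),(2,false),(4,false),(5,false),(4,false),(2,true),(5,false),(4,false),(6,false)]⟩,⟨661,[(132,true),(121,true),(137,false),(132,false)],[(0,false),(4,false),(1,false),(5,false),(6,false),(4,false),(1,false),(5,false),(4,false)]⟩,⟨1161,[(110,false),(109,false)],[(4,false),(1,false),(3,false),(2,true),(5,false),(4,false),(5,false),(2,false),(6,false)]⟩]))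
 (.one .base))
 (.fork (.one (.path 0 [⟨1144,[(110,true)],[(4,false),(1,false),(3,false),(4,false),(5,false),(2,false),(4,false),(6,false)]⟩,⟨1641,[],[(4,false),(5,false),(6,false),(4,false),(1,false),(4,false),(2,true),(5,false),(4,false),(2,true)]⟩]))
 (.one .base))))
 (.fork (.fork (.fork (.one (.path 6 [⟨144,[(57,false),(100,false),(56,false)],[(0,false),(6,false),(4,false),(2,true),(5,false),(2,false),(4,false),(1,false),(6,false)]⟩,⟨155,[],[(2,false),(4,false),(1,false),(4,false),(5,false),(4,false),(1,false),(4,false),(5,false),(2,false)]⟩,⟨569,[(63,false),(191,true),(65,false)],[(0,false),(6,false),(4,false),(5,false),(2,false),(4,false),(1,false),(5,false),(4,false),(1,false)]⟩]))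
 (.one .base))
 (.fork (.one (.path 1 [⟨360,[(110,true),(109,false)],[(1,false),(4,false),(6,false),(4,false),(2,true),(5,false),(4,false),(1,false),(4,false),(6,false)]⟩,⟨1461,[],[(0,false),(1,false),(2,false),(4,false),(6,false),(4,false),(1,false),(4,false),(5,false),(2,false),(6,false)]⟩]))
 (.one .base)))
 (.fork (.fork (.one (.path 7 [⟨959,[],[(4,false)]⟩,⟨1234,[],[(0,false),(1,false),(4,false),(1,false),(6,false),(4,false),(2,true),(5,false),(4,false)]⟩,⟨418,[(163,false),(114,true),(163,true),(114,false),(113,false)],[(4,false),(1,false),(4,false),(6,false),(2,true),(5,false),(4,false),(1,false),(5,false),(6,false)]⟩]))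
 (.one .base))
 (.fork (.one (.path 0 [⟨2516,[(110,true),(109,false)],[(2,false),(5,false),(4,false),(1,false),(6,false),(4,false),(1,false),(4,false),(5,false),(6,false),(4,false)]⟩,⟨2767,[],[(5,false),(4,false),(5,false),(2,false),(5,false),(4,false),(5,false),(2,false),(5,false),(6,false)]⟩]))
 (.one .base)))))
 (.fork (.fork (.fork (.fork (.one (.path 7 [⟨459,[(72,true),(63,true)],[(0,false),(4,false),(6,false),(4,false),(1,false),(5,false),(2,false),(4,false)]⟩,⟨320,[(114,false),(163,false),(114,false)],[(0,false),(1,false),(2,false),(4,false),(6,false),(4,false),(5,false),(2,false)]⟩,⟨441,[(172,false),(158,false),(172,false)],[(1,false),(2,false),(6,false),(4,false),(1,false),(5,false),(4,false),(5,false),(4,false),(6,false)]⟩]))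
 (.one .base))
 (.fork (.one (.path 0 [⟨2295,[],[(3,false),(4,false),(1,false)]⟩,⟨1688,[(110,true),(109,false)],[(0,false),(1,false),(5,false),(2,false),(6,false),(4,false),(5,false),(4,false),(2,true)]⟩]))
 (.one .base)))
 (.fork (.fork (.one (.path 13 [⟨782,[(110,false)],[(4,false),(1,false),(5,false),(2,false),(6,false),(4,false),(5,false),(4,false),(6,false)]⟩,⟨526,[(137,false),(121,true)],[(2,false),(3,false),(5,false),(4,false),(1,false),(4,false),(6,false),(2,true),(5,false),(2,true)]⟩,⟨849,[(163,true),(114,false)],[(1,false),(5,false),(4,false),(5,false),(2,false),(4,false),(1,false),(6,false),(4,false),(1,false)]⟩]))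
 (.one .base))
 (.fork (.one (.path 0 [⟨988,[(110,true),(109,false)],[(5,false),(2,true),(5,false),(4,false),(5,false),(2,false),(4,false),(5,false),(6,false),(4,false),(2,true)]⟩,⟨1009,[],[(0,false),(4,false),(5,false),(6,false),(4,false),(1,false),(4,false),(1,false),(5,false),(4,false)]⟩]))
 (.one .base))))
 (.fork (.fork (.fork (.one (.path 1 [⟨372,[(132,false),(121,false),(137,false),(121,false)],[(2,false),(3,false),(4,false),(5,false),(2,false),(4,false),(5,false),(6,false),(4,false),(2,true),(5,false)]⟩,⟨835,[],[(1,false),(4,false),(2,true),(5,false),(4,false),(6,false),(2,true),(5,false),(4,false),(1,false)]⟩]))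
 (.one .base))
 (.fork (.one (.path 0 [⟨2472,[],[(3,false),(5,false),(2,false),(4,false),(5,false),(2,true),(5,false),(4,false),(1,false),(4,false)]⟩,⟨2691,[],[(2,false),(4,false),(5,false),(4,false),(1,false),(2,true),(5,false),(4,false),(5,false)]⟩]))
 (.one .base)))
 (.fork (.fork (.one (.path 0 [⟨1384,[(110,false)],[(5,false),(2,false),(6,false),(4,false),(5,false),(4,false),(2,true),(5,false),(4,false),(2,true)]⟩,⟨1767,[],[(3,false),(5,false),(4,false),(5,false),(4,false),(1,false),(6,false),(4,false),(2,true)]⟩]))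
 (.one .base))
 (.fork (.one (.path 1 [⟨938,[(204,true),(158,false),(204,false)],[(2,false),(3,false),(6,false),(4,false),(1,false),(5,false),(4,false),(1,false),(6,false)]⟩,⟨4033,[],[(4,false),(1,false),(3,false),(5,false),(2,false),(4,false),(5,false),(6,false),(2,true),(5,false)]⟩]))
 (.one .base)))))))

/-- a part of the justifications -/
noncomputable def twJustT123 : BT Just := (.fork (.fork (.fork (.fork (.fork (.fork (.one (.path 3 [⟨39,[],[(0,false),(1,false),(3,false)]⟩,⟨43,[(28,false)],[(1,false),(6,false),(4,false),(2,true),(5,false),(4,false),(1,false),(5,false),(2,false),(6,false)]⟩,⟨32,[(11,false),(14,false),(10,false)],[(2,false),(6,false),(4,false),(5,false),(4,false),(6,false),(2,true),(5,false),(4,false),(2,true)]⟩]))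
 (.one (.path 2 [⟨3850,[(3912,false),(3911,true),(3911,true),(3912,true),(3911,false)],[(3,false),(4,false),(1,false),(5,false),(6,false)]⟩,⟨2815,[(109,false)],[(5,false),(4,false),(5,false),(4,false),(1,false),(4,false),(6,false),(4,false)]⟩,⟨3326,[(109,false)],[(0,false),(2,false),(5,false),(6,false),(4,false),(1,false),(4,false),(6,false),(2,true),(5,false),(2,true)]⟩])))
 (.fork (.one (.path 1 [⟨1315,[],[(3,false),(6,false)]⟩,⟨1897,[],[(5,false),(4,false),(5,false),(6,false),(4,false)]⟩]))
 (.one .base)))
 (.fork (.fork (.one (.path 6 [⟨314,[(114,true)],[(0,false),(2,true),(5,false),(4,false),(5,false),(2,true)]⟩,⟨200,[],[(1,false),(2,false),(3,false),(5,false),(4,false),(5,false),(4,false),(2,true),(5,false),(4,false),(5,false)]⟩,⟨881,[(204,false),(172,false),(158,false),(172,false),(158,false)],[(0,false),(4,false),(1,false),(5,false),(4,false),(5,false),(6,false),(4,false),(1,false),(5,false)]⟩]))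
 (.one .base))
 (.fork (.one (.path 0 [⟨2694,[(110,false)],[(0,false),(1,false),(4,false),(6,false),(4,false),(5,false),(4,false),(6,false)]⟩,⟨1924,[(110,false),(109,false)],[(1,false),(5,false),(4,false),(3,false),(6,false),(2,true),(5,false),(2,true)]⟩]))
 (.one .base))))
 (.fork (.fork (.fork (.one (.path 5 [⟨466,[],[(4,false),(6,false),(4,false),(1,false),(5,false),(2,false),(4,false),(5,false),(2,true)]⟩,⟨326,[(110,true),(109,false)],[(5,false),(4,false),(3,false),(6,false),(2,true),(5,false)]⟩,⟨237,[(54,false),(100,true),(83,false)],[(4,false),(1,false),(3,false),(4,false),(5,false),(6,false),(4,false)]⟩]))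
 (.one .base))
 (.fork (.one (.path 1 [⟨968,[(110,false),(109,false)],[(2,false),(3,false),(5,false),(4,false),(1,false),(5,false),(2,false),(6,false)]⟩,⟨975,[],[(2,false),(3,false),(5,false),(4,false),(5,false),(2,false),(5,false),(6,false),(4,false),(5,false)]⟩]))
 (.one .base)))
 (.fork (.fork (.one (.path 0 [⟨745,[],[(0,false),(2,true)]⟩,⟨956,[],[(1,false),(3,false),(4,false),(5,false),(2,false),(4,false),(5,false),(4,false),(2,true),(5,false)]⟩]))
 (.one .base))
 (.fork (.one (.path 0 [⟨1900,[(110,false),(109,false)],[(2,false),(5,false),(6,false),(4,false),(5,false),(4,false),(6,false),(2,true),(5,false),(2,false)]⟩,⟨593,[],[(0,false),(4,false),(1,false),(4,false),(5,false),(2,false),(4,false),(5,false),(4,false)]⟩]))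
 (.one .base)))))
 (.fork (.fork (.fork (.fork (.one (.path 0 [⟨160,[(158,false),(204,false),(158,false),(204,false)],[(2,true),(5,false),(2,false),(4,false),(1,false),(5,false),(6,false),(4,false),(2,true),(5,false)]⟩,⟨247,[],[(0,false),(5,false),(2,false),(4,false),(5,false),(2,false),(6,false),(4,false),(1,false)]⟩]))
 (.one .base))
 (.fork (.one (.path 6 [⟨1814,[(110,true)],[(0,false),(5,false),(4,false),(2,true),(5,false),(4,false),(1,false),(6,false),(4,false),(2,true)]⟩,⟨1762,[(110,true),(109,false)],[(1,false),(2,false),(5,false),(4,false),(1,false),(3,false),(5,false),(4,false),(6,false),(4,false),(2,true)]⟩,⟨519,[(163,false),(114,false)],[(5,false),(2,false),(5,false),(4,false),(6,false),(4,false),(1,false),(4,false),(5,false),(2,true)]⟩]))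
 (.one .base)))
 (.fork (.fork (.one (.path 3 [⟨1042,[(110,false),(109,false)],[(0,false),(1,false),(4,false),(6,false),(2,true),(5,false),(2,false),(4,false),(1,false),(5,false),(6,false)]⟩,⟨189,[(114,false),(163,true),(114,true)],[(0,false),(2,false),(4,false),(1,false),(5,false),(6,false),(4,false)]⟩,⟨1301,[(204,true),(158,false),(204,false),(172,false)],[(1,false),(4,false),(5,false),(2,false),(4,false),(1,false),(5,false),(4,false),(6,false)]⟩]))
 (.one .base))
 (.fork (.one (.path 0 [⟨1671,[],[(0,false),(2,false),(5,false)]⟩,⟨1822,[],[(0,false),(5,false),(2,false),(4,false),(1,false),(5,false),(6,false),(4,false),(5,false),(2,false)]⟩]))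
 (.one .base))))
 (.fork (.fork (.fork (.one (.path 6 [⟨509,[(58,false),(57,false),(55,false)],[(0,false),(5,false),(4,false),(5,false),(2,false),(5,false)]⟩,⟨380,[],[(0,false),(6,false),(4,false),(5,false),(4,false),(1,false),(6,false),(4,false),(5,false)]⟩,⟨745,[(163,true)],[(5,false),(2,false),(4,false),(6,false),(4,false),(5,false),(4,false),(5,false),(2,false)]⟩]))
 (.one .base))
 (.fork (.one (.path 2 [⟨966,[],[(2,false),(4,false),(5,false),(4,false),(2,true),(5,false),(4,false),(1,false),(2,true),(5,false)]⟩,⟨537,[(121,false),(137,true),(132,false)],[(4,false),(6,false),(4,false),(1,false),(4,false),(5,false),(4,false),(2,true)]⟩,⟨965,[(137,true),(121,false),(137,true),(132,false)],[(1,false),(2,false),(6,false),(4,false),(5,false),(2,false),(4,false),(1,false),(6,false)]⟩]))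
 (.one .base)))
 (.fork (.fork (.one (.path 1 [⟨1153,[],[(0,false),(1,false),(2,true)]⟩,⟨1559,[(163,true),(114,false),(163,false),(113,false)],[(0,false),(2,false),(4,false),(5,false),(4,false),(1,false)]⟩]))
 (.one .base))
 (.fork (.one (.path 6 [⟨1717,[(114,false),(113,false)],[(4,false),(6,false),(2,true),(5,false)]⟩,⟨2339,[(109,false)],[(1,false),(4,false),(1,false),(4,false),(6,false),(4,false),(1,false),(4,false),(5,false),(6,false)]⟩,⟨3861,[(110,false)],[(1,false),(3,false),(5,false),(2,false),(4,false),(5,false),(4,false),(6,false),(4,false)]⟩]))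
 (.one .base))))))
 (.fork (.fork (.fork (.fork (.fork (.one (.path 0 [⟨165,[],[(2,false),(3,false),(5,false)]⟩,⟨171,[],[(0,false),(1,false),(5,false),(6,false),(2,true)]⟩]))
 (.one (.path 0 [⟨3444,[],[(1,false),(3,false),(5,false),(2,false),(4,false),(5,false),(6,false),(4,false),(1,false),(4,false)]⟩,⟨3993,[],[(0,false),(4,false),(1,false),(6,false),(2,true),(5,false),(4,false),(5,false),(4,false),(2,true)]⟩])))
 (.fork (.one (.path 1 [⟨1244,[(110,true)],[(1,false),(6,false),(4,false),(5,false),(4,false),(1,false),(5,false),(6,false)]⟩,⟨1591,[],[(4,false),(3,false),(2,true),(5,false),(4,false),(1,false),(4,false),(5,false),(2,true)]⟩]))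
 (.one .base)))
 (.fork (.fork (.one (.path 0 [⟨589,[],[(0,false),(2,false),(3,false),(5,false)]⟩,⟨1109,[(158,false),(204,true)],[(5,false),(2,false),(5,false),(6,false),(4,false),(5,false),(2,false),(4,false),(5,false)]⟩]))
 (.one .base))
 (.fork (.one (.path 0 [⟨1818,[(110,true)],[(1,false),(4,false),(1,false),(5,false),(2,false),(6,false),(4,false),(5,false),(2,true)]⟩,⟨2170,[(109,false)],[(2,true),(5,false),(4,false),(1,false),(5,false),(6,false),(4,false),(1,false),(5,false)]⟩]))
 (.one .base))))
 (.fork (.fork (.fork (.one (.path 11 [⟨623,[(158,false),(204,true),(158,false),(172,false),(158,false)],[(5,false),(4,false),(5,false),(2,false),(4,false),(5,false),(2,true)]⟩,⟨245,[(172,false),(158,false),(204,false),(158,false)],[(5,false),(4,false),(5,false),(2,true),(5,false),(4,false),(5,false)]⟩,⟨403,[(158,false),(204,false)],[(4,false),(1,false),(3,false),(5,false),(4,false),(2,true),(5,false)]⟩]))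
 (.one .base))
 (.fork (.one (.path 2 [⟨970,[(110,true)],[(4,false),(1,false),(6,false),(2,true),(5,false),(4,false),(5,false),(6,false),(2,true)]⟩,⟨1413,[(137,true),(132,false),(121,false),(121,false)],[(5,false),(2,false),(4,false),(6,false),(4,false),(1,false),(5,false),(4,false)]⟩,⟨2222,[(110,false),(109,false)],[(3,false),(6,false),(2,true),(5,false),(4,false),(1,false),(4,false),(6,false),(2,true),(5,false),(2,false)]⟩]))
 (.one .base)))
 (.fork (.fork (.one (.path 8 [⟨556,[(109,false)],[(0,false),(5,false),(6,false),(4,false),(5,false),(4,false),(2,true),(5,false),(2,false),(4,false),(6,false)]⟩,⟨1451,[(158,false),(204,true),(158,false),(204,true),(158,false)],[(1,false),(6,false),(2,true),(5,false),(4,false),(5,false),(2,false),(6,false),(4,false),(1,false)]⟩,⟨1029,[(110,true)],[(3,false),(4,false),(6,false),(2,true),(5,false)]⟩]))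
 (.one .base))
 (.fork (.one (.path 0 [⟨3249,[],[(3,false)]⟩,⟨3360,[(109,false)],[(2,false),(4,false),(5,false),(4,false),(1,false),(4,false),(1,false),(5,false)]⟩]))
 (.one .base)))))
 (.fork (.fork (.fork (.fork (.one (.path 7 [⟨155,[(121,true),(137,true),(132,true),(121,false)],[(2,false),(4,false),(6,false),(4,false),(1,false),(5,false),(4,false),(5,false),(2,false),(6,false)]⟩,⟨117,[(63,false)],[(2,false),(5,false),(6,false),(4,false),(1,false),(2,true),(5,false),(4,false),(1,false)]⟩,⟨214,[(114,false),(163,true)],[(0,false),(5,false),(4,false),(1,false),(2,true),(5,false),(4,false),(1,false),(6,false),(4,false)]⟩]))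
 (.one .base))
 (.fork (.one (.path 0 [⟨498,[],[(0,false),(2,false),(4,false),(1,false),(4,false),(5,false)]⟩,⟨557,[],[(3,false),(5,false),(2,false),(6,false),(4,false),(1,false),(5,false)]⟩]))
 (.one .base)))
 (.fork (.fork (.one (.path 10 [⟨263,[(83,true),(100,false),(55,false)],[(1,false),(2,false),(3,false),(4,false),(5,false),(4,false),(6,false),(4,false),(1,false),(2,true),(5,false)]⟩,⟨883,[(172,false),(158,false)],[(1,false),(3,false),(5,false),(4,false),(5,false),(6,false),(4,false)]⟩,⟨1037,[(163,true),(114,false),(163,false),(113,false)],[(5,false),(6,false),(4,false),(5,false)]⟩]))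
 (.one .base))
 (.fork (.one (.path 0 [⟨1902,[(109,false)],[(1,false),(4,false),(1,false),(5,false),(4,false),(5,false),(4,false),(6,false),(4,false),(1,false)]⟩,⟨901,[],[(1,false),(6,false),(4,false),(1,false),(5,false),(4,false),(5,false),(4,false),(6,false),(4,false)]⟩]))
 (.one .base))))
 (.fork (.fork (.fork (.one (.path 4 [⟨469,[],[(3,false),(2,true),(5,false),(2,true)]⟩,⟨381,[(163,true)],[(1,false),(5,false),(2,false),(4,false),(1,false)]⟩,⟨661,[(121,false),(121,false),(121,false)],[(6,false),(4,false),(5,false),(2,false),(4,false),(5,false),(2,false)]⟩]))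
 (.one .base))
 (.fork (.one (.path 0 [⟨1080,[(110,false)],[(0,false),(4,false),(2,true),(5,false),(4,false),(6,false),(2,true),(5,false),(2,false)]⟩,⟨981,[],[(4,false),(1,false),(4,false),(5,false),(2,false),(4,false),(5,false),(4,false)]⟩]))
 (.one .base)))
 (.fork (.fork (.one (.path 4 [⟨278,[],[(4,false),(6,false),(4,false),(1,false),(4,false),(1,false),(5,false),(2,true)]⟩,⟨1289,[(158,false),(172,false),(158,false)],[(1,false),(2,false),(4,false),(1,false),(5,false),(6,false)]⟩,⟨1155,[(110,false)],[(2,false),(5,false),(4,false),(3,false),(6,false),(2,true),(5,false),(4,false),(2,true)]⟩]))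
 (.one .base))
 (.fork (.one (.path 1 [⟨2286,[],[(1,false),(4,false),(1,false),(5,false),(2,false),(6,false),(4,false),(5,false),(4,false),(5,false),(2,true)]⟩,⟨3939,[],[(5,false),(4,false),(1,false),(4,false),(5,false),(4,false),(6,false),(2,true),(5,false)]⟩]))
 (.one .base)))))))

/-- a part of the justifications -/
noncomputable def twJustT124 : BT Just := (.fork (.fork (.fork (.fork (.fork (.fork (.one .def')
 (.one (.path 0 [⟨3303,[],[(0,false),(3,false)]⟩,⟨3985,[(109,false)],[(1,false),(3,false),(4,false),(2,true),(5,false),(4,false),(1,false),(4,false),(5,false),(2,false)]⟩])))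
 (.fork (.one (.path 1 [⟨1185,[],[]⟩,⟨1603,[(121,true),(137,true),(132,false),(121,false)],[(2,false),(4,false),(3,false),(5,false),(2,false),(6,false),(4,false),(5,false)]⟩]))
 (.one .base)))
 (.fork (.fork (.one (.path 5 [⟨491,[],[(3,false),(5,false),(6,false),(2,true)]⟩,⟨492,[(64,true),(191,true),(191,true)],[(1,false),(5,false),(2,false),(6,false),(4,false)]⟩,⟨229,[(172,false),(158,false)],[(1,false),(2,false),(5,false),(6,false),(4,false),(5,false),(2,false),(4,false),(5,false),(2,true)]⟩]))
 (.one .base))
 (.fork (.one (.path 0 [⟨1485,[],[]⟩,⟨2177,[(109,false)],[(4,false),(3,false),(5,false),(2,true),(5,false)]⟩]))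
 (.one .base))))
 (.fork (.fork (.fork (.one (.path 13 [⟨167,[],[(2,false),(4,false),(5,false),(4,false),(1,false),(5,false),(2,false),(4,false)]⟩,⟨541,[],[(1,false),(6,false),(2,true),(5,false),(4,false),(5,false),(2,false),(4,false),(1,false)]⟩,⟨550,[(158,false),(204,true),(158,false),(172,false),(158,false)],[(6,false),(4,false),(1,false),(4,false),(5,false),(6,false),(2,true),(5,false)]⟩]))
 (.one .base))
 (.fork (.one (.path 0 [⟨1336,[(110,false)],[(0,false),(6,false),(2,true),(5,false),(4,false),(1,false),(5,false),(6,false),(4,false),(1,false)]⟩,⟨2161,[],[(3,false),(4,false),(1,false),(4,false),(6,false),(4,false),(1,false),(5,false),(4,false),(5,false)]⟩]))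
 (.one .base)))
 (.fork (.fork (.one (.path 1 [⟨1432,[(110,true),(109,false)],[(5,false),(6,false),(2,true),(5,false),(4,false)]⟩,⟨495,[],[(1,false),(2,false),(3,false),(5,false),(4,false),(6,false),(4,false),(2,true)]⟩]))
 (.one .base))
 (.fork (.one (.path 1 [⟨2519,[],[(0,false),(3,false),(2,true),(5,false)]⟩,⟨1528,[(109,false)],[(3,false),(5,false),(4,false),(1,false),(5,false)]⟩]))
 (.one .base)))))
 (.fork (.fork (.fork (.fork (.one (.path 5 [⟨282,[(110,false)],[(4,false),(5,false),(2,false),(5,false),(4,false),(5,false),(2,false),(4,false),(1,false),(6,false)]⟩,⟨361,[(64,false),(65,false),(191,false),(63,false)],[(1,false),(2,false),(3,false),(6,false),(4,false),(5,false),(4,false),(6,false),(2,true)]⟩,⟨252,[(204,true),(172,false)],[(0,false),(2,false),(5,false),(2,false),(6,false),(4,false),(5,false),(2,false),(4,false),(6,false)]⟩]))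
 (.one .base))
 (.fork (.one (.path 2 [⟨1877,[],[(1,false),(5,false),(2,false),(4,false),(1,false)]⟩,⟨380,[(110,false)],[(0,false),(5,false),(6,false),(2,true),(5,false),(4,false),(5,false),(6,false)]⟩,⟨1555,[(163,false),(114,true),(163,true)],[(4,false),(1,false),(4,false),(6,false),(2,true),(5,false),(4,false),(6,false),(2,true)]⟩]))
 (.one .base)))
 (.fork (.fork (.one (.path 3 [⟨267,[(114,false),(163,false)],[(3,false),(4,false),(5,false),(2,false),(4,false),(5,false),(4,false),(6,false)]⟩,⟨1101,[(204,false),(158,false),(204,true),(172,false),(158,false)],[(5,false),(4,false),(1,false),(6,false),(4,false),(1,false)]⟩,⟨375,[(163,true),(114,false),(113,false)],[(1,false),(3,false),(4,false),(5,false),(6,false),(4,false),(1,false),(4,false),(2,true),(5,false),(4,false)]⟩]))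
 (.one .base))
 (.fork (.one (.path 0 [⟨1676,[(110,true),(109,false)],[(4,false),(3,false),(2,true),(5,false),(2,false),(4,false),(5,false),(6,false),(4,false)]⟩,⟨2441,[],[(3,false),(6,false),(4,false),(2,true),(5,false),(4,false),(2,true),(5,false),(4,false)]⟩]))
 (.one .base))))
 (.fork (.fork (.fork (.one (.path 5 [⟨785,[(204,false),(158,false),(204,false),(158,false)],[(0,false),(2,false),(6,false),(4,false),(5,false),(4,false),(2,true)]⟩,⟨876,[(110,true),(109,false)],[(5,false),(6,false),(4,false),(1,false),(4,false),(1,false),(6,false),(4,false),(1,false)]⟩,⟨869,[(137,true),(121,true),(137,true),(132,true)],[(6,false),(2,true),(5,false),(2,false),(4,false),(5,false),(2,true),(5,false),(4,false),(5,false)]⟩]))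
 (.one .base))
 (.fork (.one (.path 0 [⟨1072,[(110,false),(109,false)],[(1,false),(2,false),(3,false),(5,false),(4,false),(5,false),(4,false),(1,false)]⟩,⟨1557,[],[(1,false),(2,false),(5,false),(4,false),(1,false),(5,false)]⟩]))
 (.one .base)))
 (.fork (.fork (.one (.path 10 [⟨365,[],[(0,false),(1,false),(6,false),(2,true),(5,false),(2,false)]⟩,⟨565,[(58,false),(55,false),(100,true)],[(5,false),(2,false),(4,false),(3,false),(5,false),(2,false),(4,false)]⟩,⟨1318,[(110,true),(109,false)],[(4,false),(1,false),(4,false),(6,false),(4,false),(1,false),(4,false),(6,false),(2,true),(5,false),(2,true)]⟩]))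
 (.one .base))
 (.fork (.one (.path 6 [⟨1744,[(110,true)],[(1,false),(4,false),(6,false),(4,false),(1,false),(5,false),(4,false),(5,false),(4,false)]⟩,⟨2051,[(114,true)],[(1,false),(2,false),(5,false),(4,false),(3,false),(5,false),(2,false),(5,false)]⟩,⟨3931,[(110,true),(109,false)],[(6,false),(4,false),(3,false),(2,true),(5,false),(2,false),(4,false),(5,false),(2,false),(6,false)]⟩]))
 (.one .base))))))
 (.fork (.fork (.fork (.fork (.fork (.one (.path 0 [⟨214,[(114,true)],[(1,false),(4,false),(1,false),(5,false),(6,false),(4,false),(1,false),(4,false),(6,false),(2,true)]⟩,⟨209,[],[(0,false),(2,false),(6,false),(4,false),(1,false),(5,false),(4,false),(2,true),(5,false),(4,false)]⟩]))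
 (.one (.path 1 [⟨4234,[(3911,false),(3911,false),(3912,true)],[(1,false),(5,false),(6,false),(4,false),(5,false),(4,false),(1,false),(4,false),(6,false),(2,true)]⟩,⟨4325,[],[(5,false),(4,false),(1,false),(5,false),(6,false),(4,false),(5,false)]⟩])))
 (.fork (.one (.path 10 [⟨1956,[(110,true),(109,false)],[(2,false),(4,false),(5,false),(2,false),(4,false),(5,false),(6,false),(4,false),(2,true)]⟩,⟨2285,[],[(0,false),(1,false),(4,false),(5,false),(2,false),(5,false),(6,false),(4,false),(1,false),(4,false),(6,false)]⟩,⟨2128,[],[(3,false),(4,false),(5,false),(2,false),(4,false),(5,false),(4,false),(1,false),(5,false),(6,false),(2,true)]⟩]))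
 (.one .base)))
 (.fork (.fork (.one (.path 2 [⟨807,[(204,true),(172,false)],[(3,false),(5,false),(2,false),(4,false),(5,false),(6,false),(4,false)]⟩,⟨606,[(109,false)],[(3,false),(5,false),(4,false),(5,false),(6,false),(2,true),(5,false),(4,false),(5,false),(2,false)]⟩,⟨981,[(132,true),(121,false),(132,false),(121,false)],[(3,false),(5,false),(2,false),(6,false),(4,false),(5,false),(4,false),(6,false),(2,true),(5,false)]⟩]))
 (.one .base))
 (.fork (.one (.path 1 [⟨1740,[(109,false)],[(4,false),(1,false),(4,false),(6,false),(4,false),(2,true)]⟩,⟨471,[],[(0,false),(2,true),(5,false),(4,false),(1,false),(5,false),(6,false),(4,false),(2,true)]⟩]))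
 (.one .base))))
 (.fork (.fork (.fork (.one (.path 1 [⟨385,[],[(0,false),(5,false),(6,false)]⟩,⟨734,[(109,false)],[(0,false),(2,false),(4,false),(6,false),(4,false),(5,false),(2,false),(4,false),(1,false),(5,false)]⟩]))
 (.one .base))
 (.fork (.one (.path 0 [⟨2130,[(110,false),(109,false)],[(0,false),(5,false),(2,false),(6,false),(4,false),(5,false),(2,true),(5,false),(4,false),(1,false),(6,false)]⟩,⟨1151,[],[(1,false),(2,false),(6,false),(4,false),(3,false),(5,false),(4,false),(6,false),(2,true),(5,false)]⟩]))
 (.one .base)))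
 (.fork (.fork (.one (.path 5 [⟨458,[(114,true),(163,true)],[(0,false),(5,false),(4,false),(5,false),(6,false),(4,false),(1,false),(4,false),(5,false)]⟩,⟨1463,[(100,false),(57,false),(54,false)],[(1,false),(2,false),(5,false),(4,false),(1,false),(3,false),(4,false),(6,false),(4,false),(2,true)]⟩,⟨1687,[(110,true),(109,false)],[(3,false),(4,false),(5,false),(2,false),(4,false),(1,false),(5,false),(4,false),(1,false),(4,false)]⟩]))
 (.one .base))
 (.fork (.one (.path 0 [⟨2378,[(110,false),(109,false)],[(5,false),(4,false),(3,false)]⟩,⟨3547,[],[(3,false),(4,false),(1,false),(5,false),(4,false),(5,false),(4,false),(6,false),(4,false)]⟩]))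
 (.one .base)))))
 (.fork (.fork (.fork (.fork (.one (.path 11 [⟨353,[],[(0,false),(4,false),(5,false),(2,true)]⟩,⟨294,[(65,false),(191,true)],[(4,false),(3,false),(5,false),(2,false),(4,false),(1,false)]⟩,⟨299,[(137,false),(121,false),(137,true),(132,false),(121,false)],[(4,false),(5,false),(2,false),(5,false),(4,false),(5,false),(6,false),(4,false),(2,true)]⟩]))
 (.one .base))
 (.fork (.one (.path 13 [⟨844,[(110,false)],[(3,false),(4,false),(6,false),(4,false),(2,true),(5,false),(2,false),(4,false),(5,false),(6,false)]⟩,⟨1049,[(114,true),(163,true),(114,false),(113,false)],[(3,false),(5,false),(4,false),(6,false),(4,false),(5,false)]⟩,⟨2051,[(163,true),(114,true),(163,false),(113,false)],[(0,false),(1,false),(4,false),(5,false),(2,true),(5,false),(4,false),(1,false),(6,false),(4,false),(1,false)]⟩]))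
 (.one .base)))
 (.fork (.fork (.one (.path 0 [⟨772,[(110,true),(109,false)],[(2,false),(3,false),(4,false),(1,false),(5,false),(4,false),(6,false),(4,false),(1,false),(2,true)]⟩,⟨1075,[],[(0,false),(2,false),(4,false),(1,false),(4,false),(5,false),(2,false),(4,false),(5,false),(2,true)]⟩]))
 (.one .base))
 (.fork (.one (.path 0 [⟨3366,[],[(0,false),(4,false),(6,false),(4,false),(2,true),(5,false),(4,false),(5,false),(6,false),(2,true)]⟩,⟨1670,[(109,false)],[(0,false),(1,false),(4,false),(5,false),(6,false),(4,false),(1,false),(2,true)]⟩]))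
 (.one .base))))
 (.fork (.fork (.fork (.one (.path 6 [⟨592,[(204,true),(158,false),(204,true),(172,false)],[(0,false),(5,false),(2,false),(4,false),(5,false),(6,false),(4,false),(5,false),(2,true),(5,false)]⟩,⟨521,[(163,true),(114,true),(163,false),(114,false)],[(0,false),(4,false),(6,false),(4,false),(1,false),(4,false),(1,false),(5,false),(4,false)]⟩,⟨924,[(109,false)],[(0,false),(5,false),(6,false),(4,false),(1,false),(4,false),(1,false),(5,false),(2,true)]⟩]))
 (.one .base))
 (.fork (.one (.path 7 [⟨1643,[(110,true),(109,false)],[(4,false),(1,false),(3,false),(4,false),(5,false),(2,true),(5,false),(4,false),(1,false),(4,false)]⟩,⟨2619,[(110,true),(109,false)],[(0,false),(2,false),(6,false),(4,false),(5,false),(4,false),(1,false),(6,false),(2,true),(5,false)]⟩,⟨2471,[(110,true),(109,false)],[(2,true),(5,false),(4,false),(1,false),(5,false),(6,false),(4,false),(5,false),(2,false)]⟩]))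
 (.one .base)))
 (.fork (.fork (.one (.path 6 [⟨556,[(110,true),(109,false)],[(1,false),(5,false),(4,false),(5,false),(2,false),(6,false),(4,false),(5,false),(4,false),(2,true)]⟩,⟨809,[(204,true),(172,false),(158,false),(172,false)],[(6,false),(2,true),(5,false),(4,false),(5,false),(2,false),(5,false),(4,false),(6,false)]⟩,⟨1471,[(109,false)],[(0,false),(4,false),(1,false),(4,false),(6,false),(4,false),(1,false),(4,false),(5,false),(2,false),(6,false)]⟩]))
 (.one .base))
 (.fork (.one (.path 7 [⟨4022,[(3912,false),(3911,true)],[(0,false),(5,false),(4,false),(6,false),(2,true),(5,false),(4,false),(5,false),(6,false),(4,false)]⟩,⟨1575,[(114,true),(163,false),(114,true)],[(1,false),(2,false),(3,false),(5,false),(4,false),(1,false),(6,false),(4,false),(2,true),(5,false)]⟩,⟨3949,[],[(1,false),(4,false),(6,false),(4,false),(1,false),(4,false),(1,false),(5,false),(2,true)]⟩]))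
 (.one .base)))))))

/-- a part of the justifications -/
noncomputable def twJustT125 : BT Just := (.fork (.fork (.fork (.fork (.fork (.fork (.one (.path 6 [⟨19,[],[(5,false),(6,false)]⟩,⟨30,[(11,true),(14,false),(13,false),(14,false)],[(4,false),(1,false),(6,false),(4,false),(5,false),(4,false),(1,false),(6,false),(2,true)]⟩,⟨29,[(23,false),(20,false)],[(1,false),(2,false),(6,false),(4,false),(3,false),(5,false),(4,false),(1,false),(6,false),(4,false)]⟩]))
 (.one (.path 0 [⟨4095,[],[(1,false),(6,false)]⟩,⟨2580,[(109,false)],[(4,false),(3,false),(5,false),(4,false),(6,false),(2,true),(5,false),(4,false),(1,false)]⟩])))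
 (.fork (.one (.path 4 [⟨2022,[(110,true),(109,false)],[(0,false),(4,false),(5,false),(2,false),(4,false),(6,false),(4,false),(1,false)]⟩,⟨1042,[(110,true),(109,false)],[(3,false),(4,false),(6,false),(4,false),(1,false),(5,false),(4,false),(5,false),(2,false),(6,false)]⟩,⟨1316,[(114,false),(163,true),(114,true),(113,false)],[(4,false),(6,false),(4,false),(5,false),(2,false),(4,false),(5,false),(4,false),(6,false)]⟩]))
 (.one .base)))
 (.fork (.fork (.one (.path 1 [⟨202,[],[(1,false),(3,false),(6,false)]⟩,⟨292,[(204,false)],[(4,false),(1,false),(5,false),(2,false),(6,false),(4,false),(1,false),(4,false)]⟩]))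
 (.one .base))
 (.fork (.one (.path 0 [⟨1276,[(110,false),(109,false)],[(0,false),(1,false),(4,false),(5,false),(4,false)]⟩,⟨1275,[(158,false),(204,true),(158,false)],[(2,false),(4,false),(3,false),(5,false),(4,false),(1,false),(4,false),(6,false)]⟩]))
 (.one .base))))
 (.fork (.fork (.fork (.one (.path 8 [⟨541,[(121,false),(137,true),(132,false)],[(2,true),(5,false),(4,false),(5,false),(2,false),(4,false),(6,false),(4,false),(5,false)]⟩,⟨167,[(204,true)],[(1,false),(2,false),(3,false),(4,false),(5,false),(4,false),(2,true),(5,false),(2,true)]⟩,⟨343,[(121,true),(121,true)],[(1,false),(5,false),(4,false),(6,false),(4,false),(5,false),(4,false),(5,false),(2,true)]⟩]))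
 (.one .base))
 (.fork (.one (.path 2 [⟨2505,[],[(2,false),(3,false),(4,false),(1,false)]⟩,⟨174,[(110,true),(109,false)],[(0,false),(4,false),(5,false),(6,false),(4,false),(5,false),(2,false),(4,false),(5,false)]⟩,⟨569,[(64,true),(191,true),(72,true),(64,true)],[(0,false),(4,false),(5,false),(4,false),(6,false),(4,false),(5,false),(4,false),(6,false),(2,true)]⟩]))
 (.one .base)))
 (.fork (.fork (.one (.path 6 [⟨432,[(114,false),(163,true),(114,false)],[(1,false),(5,false),(4,false),(3,false),(6,false),(2,true),(5,false),(2,false),(4,false),(5,false)]⟩,⟨1030,[(121,false),(137,true),(121,false),(121,false)],[(0,false),(6,false),(4,false),(5,false),(2,false)]⟩,⟨1177,[(110,false),(109,false)],[(2,false),(3,false),(4,false),(6,false),(4,false),(1,false),(5,false)]⟩]))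
 (.one .base))
 (.fork (.one (.path 1 [⟨2571,[],[]⟩,⟨3199,[(110,false)],[(3,false),(2,true),(5,false),(4,false),(5,false),(6,false),(4,false),(5,false),(2,false)]⟩]))
 (.one .base)))))
 (.fork (.fork (.fork (.fork (.one (.path 3 [⟨152,[],[(0,false),(3,false),(2,true),(5,false),(2,true)]⟩,⟨218,[],[(2,false),(4,false),(1,false),(3,false),(5,false),(4,false),(1,false),(6,false),(4,false)]⟩,⟨120,[(137,true),(132,false)],[(4,false),(6,false),(4,false),(5,false),(4,false),(2,true),(5,false),(4,false),(1,false),(4,false)]⟩]))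
 (.one .base))
 (.fork (.one (.path 2 [⟨1486,[(109,false)],[(0,false),(2,true),(5,false),(4,false),(1,false)]⟩,⟨1220,[(110,true)],[(0,false),(5,false),(2,false),(4,false),(6,false),(4,false),(1,false),(4,false),(6,false)]⟩,⟨1355,[(114,false),(113,false)],[(1,false),(2,false),(5,false),(4,false),(1,false),(2,true)]⟩]))
 (.one .base)))
 (.fork (.fork (.one (.path 7 [⟨814,[(110,false),(109,false)],[(2,false),(3,false),(4,false),(5,false),(4,false),(2,true),(5,false),(4,false),(5,false)]⟩,⟨194,[(57,false),(100,false),(56,false)],[(2,false),(6,false),(4,false),(5,false),(4,false),(1,false),(4,false),(1,false),(6,false)]⟩,⟨1227,[(114,true),(163,false),(114,false)],[(1,false),(2,true),(5,false),(4,false),(5,false),(6,false),(4,false)]⟩]))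
 (.one .base))
 (.fork (.one (.path 3 [⟨2451,[],[(0,false),(5,false),(4,false),(6,false),(4,false),(2,true)]⟩,⟨2145,[(110,false),(109,false)],[(1,false),(3,false),(4,false),(1,false),(2,true),(5,false),(4,false),(5,false),(6,false),(4,false),(2,true)]⟩,⟨928,[(110,false),(109,false)],[(0,false),(1,false),(4,false),(5,false),(4,false),(1,false),(6,false),(4,false)]⟩]))
 (.one .base))))
 (.fork (.fork (.fork (.one (.path 9 [⟨491,[],[(0,false),(3,false),(6,false),(2,true)]⟩,⟨492,[(64,true),(191,true),(72,true),(63,false)],[(1,false),(5,false),(4,false),(3,false),(2,true),(5,false),(2,false),(4,false),(5,false),(2,false),(4,false)]⟩,⟨555,[(158,false),(172,false),(158,false),(204,false)],[(1,false),(5,false),(4,false),(5,false),(2,false),(5,false),(4,false)]⟩]))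
 (.one .base))
 (.fork (.one (.path 5 [⟨1328,[(109,false)],[(0,false),(1,false),(6,false),(4,false),(5,false),(2,false),(4,false),(5,false),(4,false),(2,true)]⟩,⟨2793,[(110,false),(109,false)],[(1,false),(4,false),(1,false),(3,false),(2,true)]⟩,⟨2629,[(110,false)],[(3,false),(4,false),(6,false),(4,false),(5,false),(2,false),(4,false),(5,false),(2,true)]⟩]))
 (.one .base)))
 (.fork (.fork (.one (.path 3 [⟨490,[(109,false)],[(1,false),(2,true),(5,false),(4,false),(1,false),(3,false),(5,false),(6,false),(4,false)]⟩,⟨981,[(137,true),(121,true),(137,true)],[(4,false),(3,false),(5,false),(4,false),(1,false),(6,false),(4,false),(2,true),(5,false),(2,false)]⟩,⟨736,[(110,false),(109,false)],[(0,false),(1,false),(2,false),(5,false),(4,false),(6,false),(4,false),(5,false),(4,false),(2,true)]⟩]))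
 (.one .base))
 (.fork (.one (.path 2 [⟨2183,[(110,true)],[(1,false),(3,false),(6,false),(2,true),(5,false),(2,false),(4,false),(1,false),(6,false)]⟩,⟨3554,[(109,false)],[(1,false),(2,false),(4,false),(6,false),(4,false),(1,false),(5,false),(2,true)]⟩,⟨3851,[(110,false),(109,false)],[(0,false),(5,false),(6,false),(2,true),(5,false),(4,false),(1,false),(5,false),(4,false),(1,false)]⟩]))
 (.one .base))))))
 (.fork (.fork (.fork (.fork (.fork (.one (.path 6 [⟨92,[(100,false)],[(1,false),(3,false),(5,false),(2,false),(6,false),(4,false),(5,false),(4,false),(6,false)]⟩,⟨60,[(100,true)],[(0,false),(5,false),(4,false),(5,false),(6,false),(4,false),(1,false),(4,false),(1,false),(6,false)]⟩,⟨156,[(23,false),(28,true),(25,false),(21,false),(20,false)],[(1,false),(2,false),(5,false),(4,false),(1,false),(6,false),(4,false),(1,false),(4,false)]⟩]))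
 (.one (.path 0 [⟨2736,[],[(5,false),(2,false),(4,false),(1,false),(4,false),(5,false),(2,false),(4,false),(5,false),(2,false)]⟩,⟨4205,[],[(1,false),(2,false),(5,false),(4,false),(3,false),(5,false),(2,true),(5,false),(4,false),(1,false),(5,false)]⟩])))
 (.fork (.one (.path 2 [⟨1122,[(109,false)],[(0,false),(1,false),(5,false),(6,false),(4,false),(2,true),(5,false),(4,false),(1,false),(4,false)]⟩,⟨306,[(172,false)],[(3,false),(5,false),(4,false),(1,false),(4,false),(5,false),(6,false),(4,false)]⟩,⟨1011,[(172,false),(158,false),(204,false),(172,false)],[(3,false),(5,false),(2,false),(4,false),(5,false),(6,false),(4,false),(1,false),(5,false),(2,true)]⟩]))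
 (.one .base)))
 (.fork (.fork (.one (.path 1 [⟨710,[(109,false)],[(4,false),(6,false),(4,false),(1,false),(4,false),(1,false),(6,false),(4,false),(2,true)]⟩,⟨1115,[],[(1,false),(4,false),(5,false),(2,false),(4,false),(5,false),(6,false),(4,false),(2,true),(5,false),(4,false),(6,false)]⟩]))
 (.one .base))
 (.fork (.one (.path 0 [⟨2687,[],[(2,false),(6,false)]⟩,⟨1819,[],[(2,false),(5,false),(4,false),(6,false),(2,true),(5,false),(4,false),(2,true),(5,false),(2,true)]⟩]))
 (.one .base))))
 (.fork (.fork (.fork (.one (.path 13 [⟨537,[(137,true),(121,true),(132,true)],[(4,false),(3,false),(2,true),(5,false),(4,false),(1,false),(6,false),(4,false),(1,false)]⟩,⟨148,[(132,false)],[(4,false),(1,false),(4,false),(5,false),(6,false),(2,true),(5,false),(4,false),(1,false),(6,false)]⟩,⟨477,[(114,true),(163,false)],[(1,false),(6,false),(2,true),(5,false),(2,false),(4,false),(5,false)]⟩]))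
 (.one .base))
 (.fork (.one (.path 1 [⟨2589,[],[(0,false)]⟩,⟨2359,[(109,false)],[(0,false),(2,false),(6,false),(4,false),(5,false),(4,false),(1,false),(2,true),(5,false),(4,false),(6,false)]⟩]))
 (.one .base)))
 (.fork (.fork (.one (.path 1 [⟨1588,[(109,false)],[(0,false),(1,false),(5,false),(4,false),(5,false),(2,false),(6,false),(4,false),(5,false),(2,true)]⟩,⟨1189,[],[(2,false),(5,false),(4,false),(5,false),(6,false),(2,true),(5,false),(4,false),(5,false),(2,true)]⟩]))
 (.one .base))
 (.fork (.one (.path 0 [⟨2150,[(110,true)],[(1,false),(4,false),(3,false),(2,true),(5,false),(4,false),(1,false),(4,false),(6,false)]⟩,⟨2003,[],[(0,false),(4,false),(1,false),(6,false),(4,false),(2,true),(5,false),(4,false)]⟩]))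
 (.one .base)))))
 (.fork (.fork (.fork (.fork (.one (.path 14 [⟨404,[(110,false)],[(1,false),(5,false),(4,false),(3,false),(6,false),(4,false),(2,true),(5,false),(2,true)]⟩,⟨229,[],[(2,false),(3,false),(4,false),(1,false),(4,false),(6,false),(4,false)]⟩,⟨392,[(110,true)],[(0,false),(1,false),(6,false),(2,true),(5,false),(4,false),(1,false),(5,false)]⟩,⟨155,[(137,false),(121,false),(137,true),(121,false)],[(2,false),(3,false),(6,false),(4,false),(5,false),(4,false),(1,false),(4,false),(2,true),(5,false)]⟩,⟨307,[],[(2,false),(3,false),(6,false),(4,false),(5,false),(2,false),(4,false),(5,false),(4,false),(2,true)]⟩,⟨374,[],[(1,false),(5,false),(4,false),(3,false),(2,true),(5,false),(2,false),(4,false),(5,false),(6,false),(4,false)]⟩,⟨315,[],[(1,false),(3,false),(4,false),(1,false),(5,false),(2,false),(4,false),(6,false),(4,false),(1,false)]⟩]))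
 (.one .base))
 (.fork (.one (.path 0 [⟨1937,[],[(2,false),(6,false)]⟩,⟨2180,[(110,false),(109,false)],[(4,false),(1,false),(5,false),(2,false),(4,false),(1,false),(5,false),(4,false),(5,false)]⟩]))
 (.one .base)))
 (.fork (.fork (.one (.path 2 [⟨160,[(172,false)],[(2,false),(5,false),(4,false),(5,false),(2,false),(4,false),(1,false),(4,false),(5,false),(6,false)]⟩,⟨263,[(56,false),(83,false),(58,false),(54,false)],[(6,false),(4,false),(1,false),(3,false),(2,true),(5,false),(4,false),(5,false)]⟩,⟨1305,[(204,true),(158,false)],[(3,false),(5,false),(6,false),(2,true),(5,false),(4,false)]⟩]))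
 (.one .base))
 (.fork (.one (.path 1 [⟨573,[],[]⟩,⟨1537,[(114,true),(113,false)],[(2,false),(5,false),(2,false),(4,false),(6,false),(4,false),(1,false),(4,false),(1,false),(5,false)]⟩]))
 (.one .base))))
 (.fork (.fork (.fork (.one (.path 1 [⟨844,[(110,false)],[(5,false),(4,false),(6,false),(2,true),(5,false),(2,false),(4,false),(5,false),(4,false),(6,false)]⟩,⟨845,[],[(6,false),(4,false),(3,false),(5,false),(2,false),(5,false),(4,false),(1,false)]⟩]))
 (.one .base))
 (.fork (.one (.path 2 [⟨2278,[],[(1,false),(2,false),(4,false),(1,false),(3,false),(5,false),(6,false),(4,false),(5,false),(2,true)]⟩,⟨2277,[(58,false),(54,false)],[(1,false),(2,false),(5,false),(4,false),(6,false),(2,true),(5,false),(4,false),(1,false),(5,false)]⟩,⟨2571,[],[(0,false),(2,false),(4,false),(5,false),(4,false),(1,false),(6,false),(4,false),(5,false),(4,false),(2,true)]⟩]))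
 (.one .base)))
 (.fork (.fork (.one (.path 1 [⟨1470,[(110,false)],[(4,false),(3,false),(6,false),(4,false),(1,false),(4,false),(5,false),(6,false),(2,true)]⟩,⟨411,[],[(2,false),(4,false),(6,false),(4,false),(5,false),(2,false),(4,false),(1,false)]⟩]))
 (.one .base))
 (.fork (.one (.path 2 [⟨3603,[(110,true)],[(2,false),(4,false),(1,false),(3,false),(4,false),(6,false),(4,false),(1,false),(5,false),(2,true)]⟩,⟨3637,[(110,false),(109,false)],[(0,false),(1,false),(4,false),(1,false),(5,false),(6,false),(4,false),(5,false),(2,false),(5,false),(4,false)]⟩,⟨3939,[(110,true),(109,false)],[(1,false),(3,false),(2,true),(5,false),(2,false),(4,false),(1,false),(5,false)]⟩]))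
 (.one .base)))))))

/-- a part of the justifications -/
noncomputable def twJustT126 : BT Just := (.fork (.fork (.fork (.fork (.fork (.fork (.one (.rev 94))
 (.one (.path 0 [⟨2716,[],[(1,false),(2,false),(4,false),(3,false),(6,false),(4,false),(1,false),(5,false),(4,false),(2,true)]⟩,⟨4104,[(109,false)],[(0,false),(5,false),(2,false),(6,false),(4,false),(1,false),(5,false),(4,false),(1,false),(2,true)]⟩])))
 (.fork (.one (.path 6 [⟨640,[],[(1,false),(2,false),(4,false),(5,false),(4,false),(1,false),(6,false),(2,true)]⟩,⟨1292,[(110,false)],[(3,false),(5,false),(2,false),(5,false),(6,false),(4,false),(1,false)]⟩,⟨691,[(172,false),(158,false)],[(5,false),(6,false),(2,true),(5,false),(4,false),(3,false)]⟩]))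
 (.one .base)))
 (.fork (.fork (.one (.path 11 [⟨342,[(204,false),(158,false),(204,false)],[(1,false),(2,false),(4,false),(1,false),(3,false),(5,false),(6,false),(4,false),(2,true)]⟩,⟨149,[(114,false),(163,true),(114,true),(113,false)],[(0,false),(2,false),(6,false),(4,false),(5,false),(4,false),(5,false),(2,false),(5,false),(6,false)]⟩,⟨977,[(121,false),(132,false),(121,false),(132,false)],[(2,true),(5,false),(4,false),(1,false),(5,false),(4,false),(1,false),(6,false)]⟩]))
 (.one .base))
 (.fork (.one (.path 0 [⟨1474,[(110,false)],[(2,false),(3,false),(5,false),(4,false),(2,true),(5,false),(4,false),(1,false),(4,false)]⟩,⟨2281,[],[(4,false),(2,true),(5,false),(4,false),(1,false),(4,false),(1,false),(5,false),(2,false)]⟩]))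
 (.one .base))))
 (.fork (.fork (.fork (.one (.path 2 [⟨148,[(137,false),(132,true),(121,true),(137,false)],[(0,false),(4,false),(1,false),(6,false),(4,false),(2,true)]⟩,⟨149,[(114,false),(113,false)],[(1,false),(2,false),(3,false),(4,false),(6,false),(4,false),(1,false),(4,false)]⟩,⟨539,[(121,false),(121,false),(121,false)],[(1,false),(4,false),(1,false),(4,false),(6,false),(4,false),(1,false)]⟩]))
 (.one .base))
 (.fork (.one (.path 0 [⟨1404,[],[(5,false),(2,false),(6,false),(4,false),(3,false),(5,false),(4,false),(2,true),(5,false)]⟩,⟨1195,[],[(0,false),(1,false),(2,false),(5,false),(6,false),(4,false),(2,true),(5,false),(2,false),(4,false),(1,false)]⟩]))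
 (.one .base)))
 (.fork (.fork (.one (.path 2 [⟨617,[(158,false)],[(0,false),(4,false),(1,false),(6,false),(2,true),(5,false),(4,false)]⟩,⟨554,[(163,true),(114,false),(163,false)],[(1,false),(2,false),(3,false),(5,false),(4,false),(6,false),(4,false),(5,false),(4,false),(2,true)]⟩,⟨1609,[(204,false),(172,false),(158,false)],[(1,false),(2,false),(5,false),(4,false),(3,false),(6,false),(2,true),(5,false)]⟩]))
 (.one .base))
 (.fork (.one (.path 0 [⟨3047,[],[(2,false),(5,false)]⟩,⟨1865,[],[(1,false),(4,false),(1,false),(4,false),(6,false),(4,false),(5,false),(2,false),(4,false),(6,false)]⟩]))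
 (.one .base)))))
 (.fork (.fork (.fork (.fork (.one (.path 4 [⟨297,[(121,false),(121,false)],[(0,false),(1,false),(3,false),(2,true)]⟩,⟨198,[],[(3,false),(4,false),(1,false),(5,false),(2,false),(4,false),(1,false),(4,false),(5,false)]⟩,⟨323,[(158,false),(204,false)],[(3,false),(4,false),(5,false),(2,false),(5,false),(4,false),(5,false),(2,true)]⟩]))
 (.one .base))
 (.fork (.one (.path 5 [⟨960,[(110,false),(109,false)],[(1,false),(5,false),(4,false),(1,false),(4,false),(6,false),(2,true),(5,false),(4,false),(5,false)]⟩,⟨649,[(114,false),(163,false),(114,true)],[(5,false),(2,false),(4,false),(1,false),(5,false),(6,false),(4,false),(1,false),(2,true)]⟩,⟨2207,[(110,true)],[(1,false),(3,false),(6,false),(4,false),(1,false)]⟩]))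
 (.one .base)))
 (.fork (.fork (.one (.path 1 [⟨937,[],[(2,false)]⟩,⟨1131,[(204,true),(158,false),(204,false)],[(1,false),(2,false),(4,false),(5,false),(2,false),(4,false),(5,false),(2,true),(5,false),(4,false)]⟩]))
 (.one .base))
 (.fork (.one (.path 1 [⟨2056,[],[(1,false),(4,false),(5,false),(2,false),(4,false),(1,false),(5,false),(4,false),(6,false),(4,false)]⟩,⟨3183,[],[(3,false),(5,false),(4,false),(6,false),(4,false),(2,true),(5,false)]⟩]))
 (.one .base))))
 (.fork (.fork (.fork (.one (.path 0 [⟨332,[(132,true),(121,true),(137,false),(132,false)],[(4,false),(5,false),(2,false),(5,false),(4,false),(1,false),(5,false),(2,false)]⟩,⟨723,[],[(1,false),(2,false),(6,false),(4,false),(1,false),(5,false),(4,false),(5,false),(4,false),(6,false),(4,false)]⟩]))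
 (.one .base))
 (.fork (.one (.path 1 [⟨2514,[],[(0,false),(6,false),(4,false),(5,false),(4,false),(5,false),(2,true),(5,false),(4,false),(1,false)]⟩,⟨2847,[],[(0,false),(2,true),(5,false),(2,false),(4,false),(1,false),(4,false),(5,false),(6,false),(4,false),(2,true)]⟩]))
 (.one .base)))
 (.fork (.fork (.one (.path 7 [⟨381,[(114,false),(113,false)],[(0,false),(1,false),(5,false),(2,false)]⟩,⟨135,[(137,true),(121,true),(137,true),(121,false)],[(2,false),(4,false),(1,false),(4,false),(1,false),(5,false),(6,false),(4,false),(1,false),(4,false)]⟩,⟨1668,[(109,false)],[(5,false),(2,false),(6,false),(4,false),(3,false),(5,false),(4,false),(1,false),(6,false),(2,true)]⟩]))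
 (.one .base))
 (.fork (.one (.path 1 [⟨2562,[(110,true)],[(4,false),(5,false),(2,false),(4,false),(5,false),(6,false),(4,false),(2,true),(5,false)]⟩,⟨3873,[],[(1,false),(5,false),(2,false),(4,false),(6,false),(4,false),(5,false),(4,false),(1,false),(4,false),(1,false)]⟩]))
 (.one .base))))))
 (.fork (.fork (.fork (.fork (.fork (.one (.path 7 [⟨53,[],[]⟩,⟨111,[(11,true)],[(1,false),(2,false),(6,false)]⟩,⟨215,[(114,false)],[(4,false),(3,false),(6,false),(4,false),(1,false),(4,false),(6,false),(2,true)]⟩]))
 (.one .def'))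
 (.fork (.one (.path 11 [⟨1528,[(110,false)],[(1,false),(2,false),(5,false),(4,false),(1,false),(6,false),(2,true),(5,false),(4,false),(1,false)]⟩,⟨712,[(110,false),(109,false)],[(0,false),(5,false),(2,false),(4,false),(1,false),(5,false),(6,false),(4,false),(1,false),(2,true),(5,false)]⟩,⟨1801,[(204,true),(172,false),(158,false)],[(5,false),(2,false),(4,false),(5,false),(4,false),(2,true),(5,false),(2,false),(4,false),(5,false),(2,false)]⟩]))
 (.one .base)))
 (.fork (.fork (.one (.path 2 [⟨1186,[(132,false),(121,false),(121,false)],[(3,false),(4,false),(1,false),(4,false),(5,false),(4,false),(5,false),(2,false),(5,false)]⟩,⟨952,[],[(1,false),(5,false),(4,false),(6,false),(2,true),(5,false),(4,false),(1,false),(4,false),(2,true)]⟩,⟨837,[(163,false),(114,false),(113,false)],[(0,false),(4,false),(5,false),(6,false),(4,false),(2,true),(5,false),(2,false),(4,false),(5,false),(2,false)]⟩]))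
 (.one .base))
 (.fork (.one (.path 0 [⟨982,[(109,false)],[(4,false),(6,false),(4,false),(5,false),(2,true),(5,false),(4,false),(5,false)]⟩,⟨1253,[],[(4,false),(1,false),(3,false),(5,false),(2,false),(6,false),(4,false),(1,false)]⟩]))
 (.one .base))))
 (.fork (.fork (.fork (.one (.path 1 [⟨708,[(109,false)],[(0,false),(5,false),(2,false),(4,false),(5,false),(6,false),(4,false),(2,true),(5,false),(4,false),(1,false)]⟩,⟨689,[],[(1,false),(4,false),(1,false),(5,false),(6,false),(4,false),(2,true),(5,false),(4,false),(2,true)]⟩]))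
 (.one .base))
 (.fork (.one (.path 0 [⟨2642,[],[(5,false),(6,false),(4,false),(1,false),(3,false),(5,false),(4,false),(6,false),(2,true)]⟩,⟨825,[],[(3,false),(2,true),(5,false),(4,false),(5,false),(2,false),(5,false),(4,false),(6,false)]⟩]))
 (.one .base)))
 (.fork (.fork (.one (.path 2 [⟨1725,[],[(0,false),(5,false),(4,false),(6,false),(2,true)]⟩,⟨1568,[(109,false)],[(5,false),(4,false),(2,true),(5,false),(2,false),(4,false),(1,false),(4,false),(5,false),(2,false)]⟩,⟨1227,[(114,false),(163,true),(114,true)],[(2,false),(5,false),(2,false),(4,false),(3,false),(5,false),(2,false),(4,false),(1,false),(4,false)]⟩]))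
 (.one .base))
 (.fork (.one (.path 0 [⟨3017,[],[(2,false)]⟩,⟨1340,[],[(0,false),(5,false),(4,false),(5,false),(2,false),(6,false),(4,false),(1,false),(4,false),(1,false),(5,false)]⟩]))
 (.one .base)))))
 (.fork (.fork (.fork (.fork (.one (.path 0 [⟨129,[(163,false),(114,true)],[(1,false),(5,false),(6,false),(4,false),(1,false),(4,false),(6,false),(2,true),(5,false),(2,false)]⟩,⟨231,[],[(0,false),(1,false),(5,false),(6,false),(4,false),(5,false),(2,false),(4,false),(5,false),(6,false),(2,true)]⟩]))
 (.one .base))
 (.fork (.one (.path 0 [⟨2176,[(110,false),(109,false)],[(3,false),(4,false),(5,false),(4,false),(2,true),(5,false),(4,false),(1,false),(5,false)]⟩,⟨1814,[(110,true),(109,false)],[(1,false),(3,false),(4,false),(1,false),(4,false),(6,false),(4,false),(2,true)]⟩]))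
 (.one .base)))
 (.fork (.fork (.one (.path 9 [⟨1165,[],[(5,false),(2,false),(4,false),(3,false),(5,false),(6,false),(2,true)]⟩,⟨1086,[(109,false)],[(0,false),(1,false),(2,false),(6,false),(4,false),(1,false),(4,false),(5,false)]⟩,⟨487,[(137,true),(132,true),(121,false)],[(1,false),(2,false),(5,false),(4,false),(1,false),(6,false),(4,false),(2,true),(5,false),(2,true)]⟩]))
 (.one .base))
 (.fork (.one (.path 0 [⟨2933,[],[(2,true)]⟩,⟨2827,[],[(2,false),(6,false),(4,false),(1,false),(5,false),(4,false),(1,false),(2,true),(5,false)]⟩]))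
 (.one .base))))
 (.fork (.fork (.fork (.one (.path 6 [⟨255,[],[(1,false),(5,false)]⟩,⟨616,[(163,true),(114,true),(163,false),(113,false)],[(2,false),(4,false),(5,false),(4,false),(1,false),(6,false),(4,false),(5,false)]⟩,⟨879,[(172,false),(158,false),(204,true),(172,false)],[(0,false),(5,false),(4,false),(5,false),(6,false),(4,false),(5,false),(2,false)]⟩]))
 (.one .base))
 (.fork (.one (.path 1 [⟨1482,[(110,false)],[(0,false),(4,false),(2,true),(5,false),(2,false),(4,false),(1,false),(6,false)]⟩,⟨2429,[],[(2,false),(5,false),(4,false),(5,false),(4,false),(2,true),(5,false),(2,false),(4,false),(5,false),(6,false)]⟩]))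
 (.one .base)))
 (.fork (.fork (.one (.path 7 [⟨731,[(110,false),(109,false)],[(4,false),(2,true),(5,false),(2,false),(4,false)]⟩,⟨606,[(110,false),(109,false)],[(0,false),(2,false),(6,false),(4,false),(1,false),(4,false),(5,false),(2,false),(4,false),(1,false),(6,false)]⟩,⟨877,[(132,false),(121,false),(137,false),(121,false)],[(4,false),(5,false),(6,false),(4,false),(1,false),(5,false),(2,false),(4,false)]⟩]))
 (.one .base))
 (.fork (.one (.path 0 [⟨4018,[(3912,true),(3911,true),(3912,false),(3911,false)],[(4,false),(6,false),(2,true),(5,false),(4,false),(2,true),(5,false),(4,false),(2,true)]⟩,⟨3268,[(110,false)],[(2,false),(3,false),(4,false),(1,false),(6,false),(4,false),(5,false),(4,false)]⟩]))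
 (.one .base)))))))

/-- a part of the justifications -/
noncomputable def twJustT127 : BT Just := (.fork (.fork (.fork (.fork (.fork (.fork (.one (.lift 1 (wOf 22 0x1232854673234532346323) ⟨61,[(13,false),(11,true),(14,false),(13,false),(10,false),(13,false),(11,false),(14,false),(13,false)],[]⟩ ⟨61,[(14,true),(15,false),(10,false),(13,false),(14,false),(11,true),(14,false),(13,false),(15,false),(14,false),(9,false)],[(2,true)]⟩))
 (.one (.path 0 [⟨4081,[],[(3,false),(6,false)]⟩,⟨3415,[(110,false),(109,false)],[(2,false),(5,false),(4,false),(1,false),(4,false),(2,true),(5,false),(4,false),(5,false),(6,false)]⟩])))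
 (.fork (.one (.path 10 [⟨662,[(110,false)],[(3,false),(5,false),(4,false),(6,false),(4,false),(1,false),(2,true),(5,false)]⟩,⟨1975,[(137,false),(132,true),(121,false)],[(1,false),(5,false),(2,false),(4,false),(1,false),(5,false)]⟩,⟨924,[(110,true)],[(2,false),(3,false),(6,false),(4,false),(5,false),(4,false),(6,false),(2,true),(5,false),(4,false)]⟩]))
 (.one .base)))
 (.fork (.fork (.one (.path 4 [⟨530,[(137,false),(121,true),(137,true),(121,true)],[(6,false),(4,false),(3,false),(5,false),(2,true),(5,false),(4,false),(5,false),(2,true)]⟩,⟨884,[(163,false),(114,true),(113,false)],[(4,false),(5,false),(2,false),(4,false),(1,false),(5,false),(6,false),(4,false),(1,false),(2,true)]⟩,⟨493,[(158,false),(172,false),(158,false)],[(1,false),(4,false),(1,false),(4,false),(5,false),(2,false),(6,false),(4,false),(1,false),(5,false)]⟩]))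
 (.one .base))
 (.fork (.one (.path 1 [⟨2046,[(110,false)],[(2,false),(5,false),(4,false),(5,false),(6,false),(4,false),(2,true),(5,false),(2,false)]⟩,⟨1963,[],[(1,false),(4,false),(6,false),(4,false),(1,false),(4,false),(5,false),(2,false),(5,false),(4,false)]⟩]))
 (.one .base))))
 (.fork (.fork (.fork (.one (.path 13 [⟨414,[],[(6,false),(4,false),(1,false),(3,false),(5,false),(4,false),(1,false),(6,false)]⟩,⟨459,[(64,true),(72,false),(65,false),(63,false)],[(4,false),(6,false),(2,true),(5,false),(4,false),(5,false),(2,true),(5,false)]⟩,⟨373,[(114,false),(163,false),(114,false)],[(2,false),(4,false),(5,false),(4,false),(2,true),(5,false),(4,false),(1,false)]⟩]))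
 (.one .base))
 (.fork (.one (.path 0 [⟨1104,[(110,false),(109,false)],[(2,false),(4,false),(5,false),(4,false),(1,false),(5,false),(4,false),(6,false),(2,true)]⟩,⟨441,[],[(0,false),(1,false),(4,false),(5,false),(6,false),(4,false),(1,false),(4,false),(1,false),(5,false)]⟩]))
 (.one .base)))
 (.fork (.fork (.one (.path 5 [⟨979,[(121,true)],[(0,false),(1,false),(4,false),(1,false),(6,false),(4,false)]⟩,⟨754,[],[(0,false),(1,false),(5,false),(6,false),(4,false),(1,false),(2,true),(5,false),(4,false)]⟩,⟨1573,[(114,true),(163,false),(114,true)],[(2,false),(6,false),(4,false),(1,false),(4,false),(5,false),(2,false),(4,false)]⟩]))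
 (.one .base))
 (.fork (.one (.path 1 [⟨1142,[(110,false)],[(2,false),(4,false),(1,false),(3,false),(4,false),(5,false),(6,false),(4,false),(1,false),(5,false),(2,true)]⟩,⟨1141,[(100,true),(57,false),(83,false)],[(0,false),(2,true),(5,false),(4,false),(1,false),(5,false),(4,false),(6,false),(4,false),(1,false),(5,false)]⟩]))
 (.one .base)))))
 (.fork (.fork (.fork (.fork (.one (.path 1 [⟨305,[],[(1,false),(6,false),(4,false)]⟩,⟨216,[(158,false),(204,true),(158,false)],[(5,false),(2,false),(6,false),(4,false),(5,false),(2,true),(5,false),(4,false)]⟩]))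
 (.one .base))
 (.fork (.one (.path 0 [⟨858,[],[(5,false),(4,false),(6,false),(2,true),(5,false),(4,false),(1,false),(2,true),(5,false)]⟩,⟨1351,[],[(1,false),(3,false),(4,false),(2,true),(5,false),(4,false),(5,false),(2,false),(6,false),(4,false)]⟩]))
 (.one .base)))
 (.fork (.fork (.one (.path 4 [⟨1192,[(110,true)],[(1,false),(5,false),(2,false),(4,false),(3,false),(5,false),(2,true),(5,false),(4,false),(1,false),(6,false)]⟩,⟨341,[(163,false),(114,true),(163,true),(114,false),(113,false)],[(1,false),(4,false),(1,false),(3,false),(5,false),(4,false),(1,false),(6,false)]⟩,⟨707,[(204,true),(158,false),(204,true),(158,false),(204,true)],[(2,false),(4,false),(1,false),(5,false),(4,false),(6,false),(4,false),(1,false),(2,true),(5,false)]⟩]))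
 (.one .base))
 (.fork (.one (.path 0 [⟨2117,[],[(0,false),(1,false),(4,false),(2,true)]⟩,⟨3003,[(110,false),(109,false)],[(4,false),(3,false),(2,true),(5,false),(4,false),(1,false),(4,false),(5,false),(2,false),(4,false)]⟩]))
 (.one .base))))
 (.fork (.fork (.fork (.one (.path 1 [⟨390,[(163,false),(114,false),(163,true)],[(0,false),(4,false),(5,false),(4,false),(6,false),(4,false),(5,false),(4,false)]⟩,⟨767,[],[(2,false),(4,false),(3,false),(5,false),(4,false),(1,false),(4,false),(5,false),(4,false),(2,true)]⟩]))
 (.one .base))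
 (.fork (.one (.path 0 [⟨1388,[(109,false)],[(3,false),(5,false),(2,false),(6,false),(4,false),(1,false),(5,false),(4,false),(5,false),(2,false),(6,false)]⟩,⟨1563,[],[(2,false),(4,false),(1,false),(5,false),(4,false),(5,false),(2,false),(4,false),(5,false),(4,false),(5,false)]⟩]))
 (.one .base)))
 (.fork (.fork (.one (.path 1 [⟨1242,[],[(3,false),(2,true),(5,false),(4,false),(6,false),(2,true),(5,false),(2,false)]⟩,⟨833,[],[(0,false),(5,false),(4,false),(1,false),(4,false),(5,false),(4,false),(2,true),(5,false),(4,false),(1,false)]⟩]))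
 (.one .base))
 (.fork (.one (.path 0 [⟨897,[],[(5,false),(4,false),(2,true)]⟩,⟨3835,[],[(4,false),(1,false),(4,false),(5,false),(2,true),(5,false),(4,false),(5,false),(4,false),(1,false)]⟩]))
 (.one .base))))))
 (.fork (.fork (.fork (.fork (.fork (.one (.lift 1 [3,7,5,4,3,2,3,2,1,4,6] ⟨61,[(11,true),(14,false),(13,false),(14,false),(10,false),(13,false),(10,false)],[]⟩ ⟨186,[],[(3,false),(4,false),(5,false),(6,false)]⟩))
 (.one (.path 0 [⟨4145,[],[]⟩,⟨2143,[],[(0,false),(2,true),(5,false),(4,false),(1,false),(2,true),(5,false)]⟩])))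
 (.fork (.one (.path 8 [⟨2211,[],[(3,false),(2,true),(5,false)]⟩,⟨982,[],[(1,false),(5,false),(4,false),(1,false),(3,false),(4,false),(6,false),(2,true),(5,false),(2,false),(4,false)]⟩,⟨673,[(132,false),(121,false),(121,false)],[(0,false),(1,false),(2,false),(6,false),(4,false),(5,false),(2,true),(5,false)]⟩]))
 (.one .base)))
 (.fork (.fork (.one (.path 1 [⟨953,[],[(0,false)]⟩,⟨742,[(109,false)],[(0,false),(6,false),(4,false),(2,true),(5,false),(4,false),(1,false),(4,false),(6,false)]⟩]))
 (.one .base))
 (.fork (.one (.path 0 [⟨2819,[],[]⟩,⟨1660,[(110,false)],[(0,false),(5,false),(6,false),(4,false),(5,false),(2,false),(5,false)]⟩]))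
 (.one .base))))
 (.fork (.fork (.fork (.one (.path 1 [⟨503,[],[(2,false)]⟩,⟨572,[],[(0,false),(2,false),(4,false),(5,false),(4,false),(2,true),(5,false),(2,true)]⟩]))
 (.one .base))
 (.fork (.one (.path 0 [⟨1974,[(109,false)],[(6,false),(4,false),(1,false),(5,false),(4,false),(5,false),(2,false),(6,false)]⟩,⟨1779,[],[(0,false),(1,false),(6,false),(2,true),(5,false),(4,false),(5,false),(4,false),(6,false),(2,true),(5,false)]⟩]))
 (.one .base)))
 (.fork (.fork (.one (.path 0 [⟨678,[],[(2,false),(5,false),(2,false),(4,false),(3,false),(5,false),(4,false),(2,true)]⟩,⟨1133,[],[(2,false),(6,false),(4,false),(1,false),(4,false),(5,false),(2,false),(4,false),(5,false)]⟩]))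
 (.one .base))
 (.fork (.one (.path 0 [⟨3007,[],[(5,false),(2,true),(5,false)]⟩,⟨3056,[],[(3,false),(4,false),(2,true),(5,false),(4,false),(1,false),(5,false),(4,false),(2,true),(5,false)]⟩]))
 (.one .base)))))
 (.fork (.fork (.fork (.fork (.one (.path 6 [⟨323,[(204,false),(172,false),(158,false),(172,false)],[(4,false),(5,false),(4,false),(6,false),(4,false),(5,false),(4,false),(6,false)]⟩,⟨352,[],[(0,false),(2,false),(6,false),(4,false),(5,false),(2,true),(5,false),(4,false),(1,false),(6,false)]⟩,⟨401,[(121,false),(137,true),(121,false),(132,false)],[(4,false),(2,true),(5,false),(2,false),(4,false),(1,false),(5,false),(4,false),(2,true)]⟩]))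
 (.one .base))
 (.fork (.one (.path 5 [⟨1987,[(110,false),(109,false)],[(1,false),(5,false),(4,false),(3,false),(5,false),(2,false),(6,false),(4,false),(5,false)]⟩,⟨1311,[(110,true),(109,false)],[(1,false),(3,false),(4,false),(6,false),(4,false),(5,false),(2,false)]⟩,⟨2020,[(110,false),(109,false)],[(1,false),(5,false),(4,false),(1,false),(6,false),(4,false),(1,false),(4,false),(6,false)]⟩]))
 (.one .base)))
 (.fork (.fork (.one (.path 1 [⟨1130,[(110,true)],[(5,false),(4,false),(3,false),(5,false),(2,true),(5,false),(4,false),(1,false),(5,false)]⟩,⟨899,[],[(1,false),(5,false),(4,false),(3,false),(2,true),(5,false),(2,false),(4,false),(1,false)]⟩]))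
 (.one .base))
 (.fork (.one (.path 2 [⟨2663,[],[(1,false)]⟩,⟨992,[(110,true),(109,false)],[(0,false),(1,false),(2,false),(6,false),(4,false),(5,false),(4,false),(1,false),(6,false)]⟩,⟨1261,[(204,false)],[(4,false),(6,false),(4,false),(2,true),(5,false),(2,false),(4,false),(5,false),(4,false),(5,false)]⟩]))
 (.one .base))))
 (.fork (.fork (.fork (.one (.path 1 [⟨749,[],[(2,false),(4,false),(1,false),(6,false)]⟩,⟨697,[(204,false),(158,false),(204,true),(158,false),(172,false)],[(0,false),(6,false),(4,false),(1,false),(5,false),(4,false),(5,false),(6,false),(4,false),(2,true)]⟩]))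
 (.one .base))
 (.fork (.one (.path 2 [⟨2217,[(110,true)],[(1,false),(4,false),(3,false),(5,false),(6,false),(4,false),(1,false),(2,true),(5,false)]⟩,⟨2699,[(110,false)],[(2,false),(5,false),(4,false),(1,false),(6,false),(4,false),(2,true),(5,false),(2,false)]⟩,⟨2008,[(110,true)],[(0,false),(4,false),(5,false),(4,false),(2,true),(5,false),(2,false),(4,false),(5,false),(2,true)]⟩]))
 (.one .base)))
 (.fork (.fork (.one (.path 0 [⟨1736,[(110,true),(109,false)],[(0,false),(4,false),(5,false),(2,false),(5,false),(4,false),(1,false),(5,false),(6,false)]⟩,⟨1241,[],[(1,false),(4,false),(6,false),(4,false),(5,false),(4,false),(6,false),(2,true),(5,false)]⟩]))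
 (.one .base))
 (.fork (.one (.path 5 [⟨1233,[],[(5,false),(6,false),(2,true)]⟩,⟨360,[(110,false)],[(0,false),(1,false),(4,false),(5,false),(2,false),(4,false),(5,false),(4,false),(2,true),(5,false),(2,false)]⟩,⟨3917,[(58,false),(100,true),(57,false)],[(4,false),(1,false),(3,false),(4,false),(5,false),(4,false),(6,false),(2,true)]⟩]))
 (.one .base)))))))

/-- a part of the justifications -/
noncomputable def twJustT128 : BT Just := (.fork (.fork (.fork (.fork (.fork (.fork (.one (.rev 126))
 (.one (.path 0 [⟨2418,[(109,false)],[(1,false),(4,false),(1,false),(3,false),(2,true),(5,false),(4,false),(5,false),(2,true)]⟩,⟨4209,[],[(0,false),(1,false),(2,true),(5,false),(4,false),(5,false),(2,false),(5,false),(4,false)]⟩])))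
 (.fork (.one (.path 2 [⟨2034,[(110,true),(109,false)],[(0,false),(4,false),(1,false),(4,false),(5,false),(2,true),(5,false),(4,false),(5,false)]⟩,⟨1818,[(110,true)],[(1,false),(4,false),(6,false),(4,false),(1,false),(4,false),(5,false),(4,false),(2,true)]⟩,⟨2145,[(109,false)],[(0,false),(1,false),(5,false),(4,false),(1,false),(6,false),(2,true),(5,false),(4,false),(1,false),(5,false)]⟩]))
 (.one .base)))
 (.fork (.fork (.one (.path 7 [⟨880,[(110,true),(109,false)],[(3,false),(5,false),(4,false),(1,false),(4,false),(2,true),(5,false),(4,false),(6,false)]⟩,⟨687,[(204,false)],[(1,false),(2,false),(4,false),(5,false),(6,false),(4,false),(1,false),(4,false),(1,false),(5,false),(2,false)]⟩,⟨1149,[(110,true),(109,false)],[(1,false),(4,false),(1,false),(4,false),(5,false),(4,false),(6,false),(4,false),(1,false),(5,false),(2,false)]⟩]))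
 (.one .base))
 (.fork (.one (.path 6 [⟨146,[],[(1,false),(6,false),(2,true)]⟩,⟨282,[(110,false)],[(3,false),(5,false),(6,false),(4,false),(1,false),(4,false),(6,false),(2,true),(5,false),(2,false)]⟩,⟨463,[(64,true),(191,true),(65,true),(64,false)],[(4,false),(1,false),(5,false),(6,false),(4,false),(2,true),(5,false),(2,false),(4,false),(1,false)]⟩]))
 (.one .base))))
 (.fork (.fork (.fork (.one (.path 5 [⟨396,[(110,true)],[(1,false),(3,false),(5,false),(2,false),(4,false),(1,false),(5,false),(4,false),(1,false),(6,false)]⟩,⟨485,[(132,false),(121,false)],[(1,false),(5,false),(6,false),(4,false),(5,false),(4,false),(6,false),(2,true),(5,false),(4,false)]⟩,⟨582,[(163,true),(114,true),(163,false)],[(2,false),(5,false),(2,false),(4,false),(1,false),(3,false),(4,false),(5,false),(4,false)]⟩]))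
 (.one .base))
 (.fork (.one (.path 0 [⟨1406,[],[(0,false),(1,false),(4,false),(5,false),(2,false),(4,false),(1,false),(6,false),(4,false),(5,false)]⟩,⟨1771,[],[(1,false),(5,false),(4,false),(6,false),(4,false),(1,false),(4,false),(5,false),(6,false),(2,true),(5,false)]⟩]))
 (.one .base)))
 (.fork (.fork (.one (.path 4 [⟨417,[],[(0,false),(3,false),(5,false),(2,true)]⟩,⟨179,[(163,true),(114,true),(163,false),(114,false)],[(0,false),(1,false),(5,false),(4,false),(5,false),(2,true),(5,false),(4,false),(5,false),(2,true),(5,false)]⟩,⟨1281,[(158,false),(204,true),(172,false),(158,false)],[(0,false),(5,false),(4,false),(5,false),(6,false),(4,false),(2,true),(5,false)]⟩]))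
 (.one .base))
 (.fork (.one (.path 0 [⟨3075,[],[(4,false),(2,true),(5,false),(2,false),(4,false),(6,false)]⟩,⟨2311,[(110,true)],[(0,false),(4,false),(1,false),(6,false),(4,false),(1,false),(5,false),(4,false),(5,false)]⟩]))
 (.one .base)))))
 (.fork (.fork (.fork (.fork (.one (.path 0 [⟨227,[],[]⟩,⟨355,[(172,false)],[(2,false),(3,false),(4,false),(5,false),(4,false),(1,false),(4,false),(5,false),(2,false)]⟩]))
 (.one .base))
 (.fork (.one (.path 10 [⟨1328,[(109,false)],[(1,false),(4,false),(1,false),(4,false),(5,false),(4,false),(6,false),(2,true),(5,false),(4,false),(1,false)]⟩,⟨1946,[(109,false)],[(1,false),(6,false),(4,false),(3,false),(2,true),(5,false),(4,false),(2,true),(5,false),(4,false)]⟩,⟨2410,[],[(0,false),(2,false),(6,false),(4,false),(5,false),(2,false),(4,false),(5,false),(6,false),(2,true),(5,false)]⟩]))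
 (.one .base)))
 (.fork (.fork (.one (.path 4 [⟨671,[(121,true),(132,true),(121,false)],[(1,false),(2,false),(5,false),(2,true)]⟩,⟨475,[(114,true)],[(1,false),(4,false),(1,false),(4,false),(5,false),(4,false),(6,false),(4,false),(5,false),(2,false)]⟩,⟨1267,[(172,false),(158,false),(204,false)],[(0,false),(2,false),(4,false),(1,false),(4,false),(5,false),(2,false),(4,false),(5,false),(2,false)]⟩]))
 (.one .base))
 (.fork (.one (.path 0 [⟨2575,[],[(2,false)]⟩,⟨3363,[],[(3,false),(4,false),(6,false),(4,false),(1,false),(5,false),(2,false),(4,false),(1,false),(5,false)]⟩]))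
 (.one .base))))
 (.fork (.fork (.fork (.one (.path 7 [⟨229,[(204,true),(158,false)],[(1,false),(2,false),(4,false),(5,false),(6,false),(4,false),(1,false),(4,false),(1,false),(5,false),(6,false)]⟩,⟨692,[],[(0,false),(4,false),(1,false),(4,false),(5,false),(2,false),(5,false),(4,false),(6,false)]⟩,⟨687,[(204,true)],[(0,false),(4,false),(5,false),(6,false),(4,false),(5,false),(2,false),(4,false)]⟩]))
 (.one .base))
 (.fork (.one (.path 1 [⟨2014,[(110,true),(109,false)],[(5,false),(4,false),(3,false),(5,false),(6,false),(4,false)]⟩,⟨1870,[(110,true)],[(2,false),(5,false),(6,false),(4,false)]⟩]))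
 (.one .base)))
 (.fork (.fork (.one (.path 0 [⟨708,[(109,false)],[(0,false),(5,false),(2,false),(4,false),(5,false),(6,false),(4,false),(2,true),(5,false),(4,false),(1,false)]⟩,⟨989,[],[(1,false),(3,false),(4,false),(2,true),(5,false),(4,false),(6,false),(2,true),(5,false),(2,false)]⟩]))
 (.one .base))
 (.fork (.one (.path 2 [⟨674,[(110,true)],[(0,false),(2,false),(5,false),(4,false),(6,false),(4,false),(5,false),(4,false),(5,false),(2,false)]⟩,⟨537,[(137,true),(132,true),(121,false),(132,false)],[(1,false),(4,false),(5,false),(2,false),(5,false),(4,false),(5,false),(2,false),(6,false)]⟩,⟨3899,[(132,true),(121,false),(137,false),(132,false)],[(0,false),(4,false),(5,false),(4,false),(6,false),(4,false),(5,false),(4,false),(5,false),(6,false),(2,true)]⟩]))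
 (.one .base))))))
 (.fork (.fork (.fork (.fork (.fork (.one (.path 0 [⟨246,[(204,true),(172,false),(158,false),(172,false),(158,false)],[(1,false),(3,false),(5,false),(4,false),(5,false),(2,false),(4,false),(6,false),(4,false),(1,false)]⟩,⟨180,[(204,true),(158,false)],[(0,false),(2,true),(5,false),(4,false),(5,false),(2,false),(5,false),(6,false)]⟩]))
 (.one (.path 2 [⟨4342,[],[(4,false),(1,false),(3,false),(4,false),(5,false),(2,false),(6,false),(4,false),(5,false)]⟩,⟨4277,[(3911,false),(3912,true),(3911,false),(3911,false)],[(1,false),(4,false),(5,false),(2,false),(5,false),(6,false),(4,false),(5,false)]⟩,⟨3430,[(109,false)],[(4,false),(6,false),(4,false),(1,false),(5,false),(4,false),(1,false),(5,false),(2,true)]⟩])))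
 (.fork (.one (.path 13 [⟨2293,[(110,false),(109,false)],[(0,false),(5,false),(2,false),(5,false),(4,false),(5,false),(6,false),(4,false),(5,false)]⟩,⟨313,[],[(0,false),(1,false),(4,false),(1,false),(5,false),(2,false),(6,false),(4,false),(1,false),(4,false),(5,false)]⟩,⟨1557,[(114,false)],[(1,false),(3,false),(5,false),(4,false),(1,false),(4,false),(5,false)]⟩]))
 (.one .base)))
 (.fork (.fork (.one (.path 0 [⟨445,[],[(1,false),(2,false),(3,false),(5,false),(4,false)]⟩,⟨527,[(114,true),(163,true),(114,false)],[(3,false),(4,false),(6,false),(4,false),(1,false),(4,false),(5,false),(2,false)]⟩]))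
 (.one .base))
 (.fork (.one (.path 0 [⟨890,[(110,false)],[(1,false),(4,false),(5,false),(2,false),(5,false),(4,false),(5,false),(4,false),(6,false)]⟩,⟨1631,[],[(0,false),(4,false),(1,false),(5,false),(4,false),(2,true),(5,false),(4,false),(6,false)]⟩]))
 (.one .base))))
 (.fork (.fork (.fork (.one (.path 1 [⟨669,[],[(0,false),(1,false),(2,true),(5,false),(2,false)]⟩,⟨651,[],[(5,false),(4,false),(6,false),(4,false),(1,false),(5,false),(4,false),(2,true)]⟩]))
 (.one .base))
 (.fork (.one (.path 1 [⟨2271,[],[(0,false),(1,false),(4,false),(1,false)]⟩,⟨2477,[(110,true)],[(4,false),(1,false),(3,false),(4,false),(5,false),(4,false),(2,true)]⟩]))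
 (.one .base)))
 (.fork (.fork (.one (.path 2 [⟨973,[],[(1,false),(6,false)]⟩,⟨948,[(110,true)],[(3,false),(5,false),(2,false),(4,false),(1,false),(6,false),(4,false)]⟩,⟨933,[(163,false),(114,true),(113,false)],[(5,false),(6,false),(4,false),(1,false),(5,false),(4,false),(5,false),(2,false)]⟩]))
 (.one .base))
 (.fork (.one (.path 5 [⟨817,[(58,false),(55,false)],[(1,false),(2,false),(4,false),(1,false),(4,false),(6,false)]⟩,⟨1442,[(109,false)],[(4,false),(6,false),(4,false),(5,false),(4,false),(2,true)]⟩,⟨3837,[(158,false),(172,false),(158,false),(204,false),(158,false)],[(1,false),(3,false),(2,true),(5,false),(4,false),(1,false),(5,false),(2,false),(6,false)]⟩]))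
 (.one .base)))))
 (.fork (.fork (.fork (.fork (.one (.path 1 [⟨457,[],[(1,false),(2,false),(3,false),(6,false)]⟩,⟨418,[(114,true)],[(0,false),(2,true),(5,false),(4,false),(6,false),(2,true),(5,false),(4,false),(1,false),(4,false)]⟩]))
 (.one .base))
 (.fork (.one (.path 0 [⟨1826,[(110,false)],[(3,false),(4,false),(5,false),(6,false),(2,true),(5,false),(4,false),(1,false),(5,false)]⟩,⟨2175,[],[(1,false),(3,false),(5,false),(4,false),(5,false),(6,false),(4,false),(1,false),(4,false),(2,true)]⟩]))
 (.one .base)))
 (.fork (.fork (.one (.path 10 [⟨670,[],[(3,false),(5,false),(4,false),(5,false),(4,false),(6,false),(2,true),(5,false),(4,false)]⟩,⟨969,[],[(0,false),(6,false),(4,false),(5,false),(2,false),(4,false)]⟩,⟨1508,[(110,false)],[(2,false),(4,false),(1,false),(3,false),(6,false),(4,false),(5,false),(2,false),(4,false),(6,false)]⟩]))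
 (.one .base))
 (.fork (.one (.path 0 [⟨1913,[],[(0,false),(3,false),(5,false),(2,false)]⟩,⟨3204,[(110,true),(109,false)],[(3,false),(6,false),(4,false),(2,true),(5,false),(2,false),(4,false),(5,false),(6,false),(4,false)]⟩]))
 (.one .base))))
 (.fork (.fork (.fork (.one (.path 0 [⟨782,[(109,false)],[(6,false),(4,false),(3,false),(5,false),(2,true),(5,false)]⟩,⟨871,[],[(1,false),(2,false),(4,false),(5,false),(2,false),(6,false),(4,false),(5,false),(2,true)]⟩]))
 (.one .base))
 (.fork (.one (.path 0 [⟨2355,[],[(0,false),(3,false),(5,false),(2,false)]⟩,⟨2215,[(110,false),(109,false)],[(2,false),(4,false),(5,false),(2,false),(6,false)]⟩]))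
 (.one .base)))
 (.fork (.fork (.one (.path 1 [⟨529,[],[(3,false),(2,true)]⟩,⟨1083,[(132,true),(121,false)],[(1,false),(3,false),(4,false),(1,false),(5,false),(4,false),(5,false),(2,false)]⟩]))
 (.one .base))
 (.fork (.one (.path 7 [⟨4000,[(3912,false),(3911,true),(3912,true)],[(0,false),(4,false),(6,false),(4,false),(1,false),(4,false),(5,false),(6,false),(2,true)]⟩,⟨1487,[(110,true),(109,false)],[(0,false),(2,true),(5,false),(4,false),(2,true),(5,false),(2,false),(4,false),(5,false),(6,false),(4,false)]⟩,⟨3189,[(110,false),(109,false)],[(1,false),(2,false),(4,false),(5,false),(2,false),(4,false),(6,false),(4,false),(1,false),(4,false)]⟩]))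
 (.one .base)))))))

/-- the justifications -/
noncomputable def twJust : BT Just :=
  (.fork (.fork (.fork (.fork (.fork (.fork (.fork twJustT1
 twJustT2)
 (.fork twJustT3
 twJustT4))
 (.fork (.fork twJustT5
 twJustT6)
 (.fork twJustT7
 twJustT8)))
 (.fork (.fork (.fork twJustT9
 twJustT10)
 (.fork twJustT11
 twJustT12))
 (.fork (.fork twJustT13
 twJustT14)
 (.fork twJustT15
 twJustT16))))
 (.fork (.fork (.fork (.fork twJustT17
 twJustT18)
 (.fork twJustT19
 twJustT20))
 (.fork (.fork twJustT21
 twJustT22)
 (.fork twJustT23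
 twJustT24)))
 (.fork (.fork (.fork twJustT25
 twJustT26)
 (.fork twJustT27
 twJustT28))
 (.fork (.fork twJustT29
 twJustT30)
 (.fork twJustT31
 twJustT32)))))
 (.fork (.fork (.fork (.fork (.fork twJustT33
 twJustT34)
 (.fork twJustT35
 twJustT36))
 (.fork (.fork twJustT37
 twJustT38)
 (.fork twJustT39
 twJustT40)))
 (.fork (.fork (.fork twJustT41
 twJustT42)
 (.fork twJustT43
 twJustT44))
 (.fork (.fork twJustT45
 twJustT46)
 (.fork twJustT47
 twJustT48))))
 (.fork (.fork (.fork (.fork twJustT49
 twJustT50)
 (.fork twJustT51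
 twJustT52))
 (.fork (.fork twJustT53
 twJustT54)
 (.fork twJustT55
 twJustT56)))
 (.fork (.fork (.fork twJustT57
 twJustT58)
 (.fork twJustT59
 twJustT60))
 (.fork (.fork twJustT61
 twJustT62)
 (.fork twJustT63
 twJustT64))))))
 (.fork (.fork (.fork (.fork (.fork (.fork twJustT65
 twJustT66)
 (.fork twJustT67
 twJustT68))
 (.fork (.fork twJustT69
 twJustT70)
 (.fork twJustT71
 twJustT72)))
 (.fork (.fork (.fork twJustT73
 twJustT74)
 (.fork twJustT75
 twJustT76))
 (.fork (.fork twJustT77
 twJustT78)
 (.fork twJustT79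
 twJustT80))))
 (.fork (.fork (.fork (.fork twJustT81
 twJustT82)
 (.fork twJustT83
 twJustT84))
 (.fork (.fork twJustT85
 twJustT86)
 (.fork twJustT87
 twJustT88)))
 (.fork (.fork (.fork twJustT89
 twJustT90)
 (.fork twJustT91
 twJustT92))
 (.fork (.fork twJustT93
 twJustT94)
 (.fork twJustT95
 twJustT96)))))
 (.fork (.fork (.fork (.fork (.fork twJustT97
 twJustT98)
 (.fork twJustT99
 twJustT100))
 (.fork (.fork twJustT101
 twJustT102)
 (.fork twJustT103
 twJustT104)))
 (.fork (.fork (.fork twJustT105
 twJustT106)
 (.fork twJustT107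
 twJustT108))
 (.fork (.fork twJustT109
 twJustT110)
 (.fork twJustT111
 twJustT112))))
 (.fork (.fork (.fork (.fork twJustT113
 twJustT114)
 (.fork twJustT115
 twJustT116))
 (.fork (.fork twJustT117
 twJustT118)
 (.fork twJustT119
 twJustT120)))
 (.fork (.fork (.fork twJustT121
 twJustT122)
 (.fork twJustT123
 twJustT124))
 (.fork (.fork twJustT125
 twJustT126)
 (.fork twJustT127
 twJustT128)))))))

end CfsgLib.ThPres
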