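import Cfsg.Agent.Lib.TwistTree.Tree

/-!
The orbits of one state with their steps.
-/

set_option autoImplicit false

namespace CfsgLib.ThPres
open CfsgLib.CosetEnum CfsgLib.TwistTree
open CfsgLib.TwistCoset (wOf cOK CLev cSize lettersOK)

/-- the orbits of state 0 -/
noncomputable def twRoots0 : BT TRoot :=
  (.one ⟨[], [⟨7,[],[]⟩,⟨7,[(5,true)],[]⟩,⟨7,[(6,false),(5,true)],[]⟩,⟨7,[(5,true),(5,true)],[]⟩,⟨7,[(5,false),(5,false)],[(2,false)]⟩,⟨7,[(6,false),(5,false)],[(2,true)]⟩,⟨7,[(5,false)],[(2,true)]⟩]⟩)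

end CfsgLib.ThPres
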