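import Cfsg.Agent.Lib.TwistTree.Tree

/-!
The orbits of one state with their steps.
-/

set_option autoImplicit false

namespace CfsgLib.ThPres
open CfsgLib.CosetEnum CfsgLib.TwistTree
open CfsgLib.TwistCoset (wOf cOK CLev cSize lettersOK)

/-- the orbits of state 1 -/
noncomputable def twRoots1 : BT TRoot :=
  (.fork (.fork (.one ⟨[], [⟨8,[],[]⟩,⟨16,[],[(3,false),(6,false)]⟩,⟨16,[(11,true)],[(3,false),(6,false)]⟩,⟨16,[(11,false)],[(2,false),(3,false),(6,false)]⟩,⟨17,[(11,false)],[(0,false),(1,false),(6,false),(2,true)]⟩,⟨17,[(11,true)],[(0,false),(1,false),(6,false),(2,true)]⟩,⟨17,[],[(0,false),(1,false),(6,false),(2,true)]⟩]⟩)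
 (.one ⟨[1], [⟨30,[(13,false),(15,false),(10,false),(13,false),(10,false)],[(6,false),(4,false),(1,false),(3,false)]⟩,⟨52,[],[]⟩,⟨52,[(11,true)],[]⟩,⟨52,[(11,false)],[(2,false)]⟩,⟨70,[],[(2,true)]⟩,⟨70,[(11,false)],[(2,true)]⟩,⟨70,[(11,true)],[(2,true)]⟩]⟩))
 (.fork (.one ⟨[3], [⟨18,[],[]⟩,⟨50,[],[(1,false)]⟩,⟨50,[(11,true)],[(1,false)]⟩,⟨50,[(11,false)],[(1,false),(2,false)]⟩,⟨32,[(14,false),(10,false)],[(3,false),(4,false),(5,false),(2,false),(4,false),(5,false),(2,false),(4,false)]⟩,⟨32,[(11,false),(14,false),(10,false)],[(3,false),(4,false),(5,false),(2,false),(4,false),(5,false),(2,false),(4,false)]⟩,⟨32,[(11,true),(14,false),(10,false)],[(3,false),(4,false),(5,false),(2,false),(4,false),(5,false),(2,false),(4,false)]⟩]⟩)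
 (.one ⟨[1,3], [⟨61,[],[]⟩,⟨107,[],[]⟩,⟨107,[(11,true)],[]⟩,⟨107,[(11,false)],[(2,false)]⟩,⟨111,[],[]⟩,⟨111,[(11,false)],[]⟩,⟨111,[(11,true)],[]⟩]⟩)))

end CfsgLib.ThPres
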