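import Cfsg.Agent.Lib.TwistTree.Tree

/-!
The orbits of one state with their steps.
-/

set_option autoImplicit false

namespace CfsgLib.ThPres
open CfsgLib.CosetEnum CfsgLib.TwistTree
open CfsgLib.TwistCoset (wOf cOK CLev cSize lettersOK)

/-- the orbits of state 10 -/
noncomputable def twRoots10 : BT TRoot :=
  (.fork (.fork (.fork (.one ⟨[], [⟨4320,[],[]⟩,⟨4332,[(4321,false)],[(2,false),(3,false),(5,false),(4,false),(6,false),(4,false),(5,false),(2,true),(5,false)]⟩,⟨4332,[(4321,true)],[(0,false),(2,true),(5,false),(4,false),(5,false),(6,false),(2,true),(5,false),(4,false),(5,false),(2,true)]⟩,⟨4332,[],[(0,false),(5,false),(4,false),(5,false),(2,false),(5,false),(6,false),(4,false),(5,false)]⟩,⟨4324,[(4321,false)],[(1,false),(2,false),(5,false),(4,false),(1,false),(5,false),(2,false),(4,false),(6,false),(4,false)]⟩,⟨4324,[],[(5,false),(6,false),(4,false),(1,false),(3,false),(4,false),(5,false),(4,false),(2,true)]⟩,⟨4324,[(4321,true)],[(4,false),(1,false),(5,false),(4,false),(1,false),(5,false),(6,false),(4,false),(1,false),(2,true)]⟩]⟩)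
 (.one ⟨[3,2,1,5,4,3], [⟨4358,[],[(3,false),(4,false)]⟩,⟨4358,[(4355,true),(4355,true),(4321,true),(4355,true)],[(1,false),(2,false),(5,false),(4,false),(1,false),(5,false)]⟩,⟨4338,[(4355,false),(4355,false),(4321,false),(4355,true)],[(2,false),(3,false),(5,false),(6,false),(4,false),(1,false)]⟩,⟨4338,[(4321,false),(4355,false),(4322,false),(4355,false)],[(1,false),(4,false),(1,false),(3,false),(6,false),(4,false),(1,false),(5,false),(2,false),(4,false)]⟩,⟨4338,[(4355,false),(4355,false),(4321,false),(4355,true),(4321,false)],[(0,false),(4,false),(1,false),(6,false),(2,true),(5,false),(4,false),(5,false),(2,false),(5,false),(6,false)]⟩,⟨4358,[(4355,false),(4322,false),(4355,true),(4321,false)],[(4,false),(1,false),(5,false),(6,false),(4,false),(1,false),(4,false),(5,false),(6,false),(2,true)]⟩,⟨4340,[(4321,false),(4355,false),(4322,false),(4355,false)],[(1,false),(2,false),(5,false),(4,false),(6,false),(2,true),(5,false),(4,false),(2,true),(5,false),(2,true)]⟩]⟩))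
 (.fork (.one ⟨[1], [⟨4334,[(4355,true),(4322,false),(4355,true),(4321,false)],[(2,true),(5,false),(2,false),(4,false),(5,false),(4,false),(1,false),(5,false)]⟩,⟨4328,[(4355,false),(4321,false),(4355,true),(4321,true),(4355,false),(4322,false)],[(1,false),(4,false),(3,false),(5,false),(6,false),(2,true),(5,false),(4,false),(5,false)]⟩,⟨4328,[(4355,true),(4322,false),(4355,true),(4321,false)],[(0,false),(2,false),(5,false),(4,false),(6,false),(4,false),(1,false),(5,false),(2,false)]⟩,⟨4328,[(4355,false),(4321,false),(4355,false),(4321,false),(4355,false),(4355,false)],[(2,false),(4,false),(1,false),(4,false),(1,false),(5,false),(4,false),(6,false),(4,false),(5,false),(2,true)]⟩,⟨4330,[(4355,false),(4321,false),(4355,true),(4321,true),(4355,false),(4322,false)],[(2,false),(5,false),(4,false),(5,false),(4,false),(1,false),(4,false),(6,false),(4,false),(2,true)]⟩,⟨4330,[(4355,false),(4321,false),(4355,false),(4321,false),(4355,false),(4355,false)],[(4,false),(1,false),(4,false),(5,false),(4,false),(5,false),(6,false),(4,false),(1,false)]⟩,⟨4330,[(4355,true),(4322,false),(4355,true),(4321,false)],[(0,false),(4,false),(6,false),(4,false),(5,false),(4,false),(1,false),(4,false),(1,false)]⟩]⟩)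
 (.one ⟨[], []⟩)))
 (.fork (.fork (.one ⟨[3], [⟨4326,[(4355,true),(4321,true),(4355,false),(4355,false),(4355,false),(4321,true)],[(1,false),(5,false),(6,false),(4,false),(2,true),(5,false),(4,false),(5,false),(2,true),(5,false),(4,false)]⟩,⟨4357,[(4355,true),(4321,true),(4355,false),(4355,false),(4355,false),(4321,true)],[(1,false),(4,false),(5,false),(6,false),(4,false),(1,false),(2,true),(5,false),(4,false),(6,false)]⟩,⟨4357,[(4355,true),(4321,true),(4355,false),(4355,false),(4355,false),(4322,false),(4355,true)],[(0,false),(4,false),(1,false),(6,false),(2,true),(5,false),(4,false),(5,false),(2,true)]⟩,⟨4326,[(4355,true),(4321,true),(4355,false),(4355,false),(4355,false),(4322,false),(4355,true)],[(1,false),(2,false),(4,false),(3,false),(6,false),(4,false),(5,false),(2,false),(4,false),(1,false)]⟩,⟨4336,[(4355,true),(4321,true),(4355,false),(4355,false),(4355,false),(4321,true)],[(1,false),(5,false),(4,false),(3,false),(5,false),(2,true),(5,false),(4,false),(1,false),(6,false)]⟩,⟨4357,[(4355,false),(4321,false),(4355,false),(4322,false),(4355,true),(4321,true),(4355,true),(4322,false)],[(1,false),(5,false),(2,false),(4,false),(3,false),(5,false),(4,false),(1,false),(6,false)]⟩,⟨4326,[(4355,false),(4321,false),(4355,false),(4322,false),(4355,true),(4321,true),(4355,true),(4322,false)],[(3,false),(4,false),(2,true),(5,false),(2,false),(4,false),(5,false),(2,true),(5,false)]⟩]⟩)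
 (.one ⟨[], []⟩))
 (.fork (.one ⟨[0,2,1,3], [⟨4342,[(4322,false),(4321,false),(4355,false),(4355,false),(4322,false)],[(0,false),(2,false),(5,false),(2,false),(4,false),(5,false),(2,false),(6,false),(4,false),(5,false)]⟩,⟨4342,[(4322,false),(4355,true),(4322,false),(4355,false),(4322,false),(4321,false)],[(2,true),(5,false),(2,false),(4,false),(1,false),(5,false),(4,false),(5,false),(2,false),(6,false)]⟩,⟨4342,[(4321,true),(4355,false),(4322,false)],[(2,true),(5,false),(2,false),(4,false),(3,false),(5,false),(4,false),(2,true),(5,false),(4,false)]⟩,⟨4342,[(4322,false),(4355,true),(4321,false),(4355,true),(4322,false),(4321,false)],[(1,false),(4,false),(5,false),(2,false),(5,false),(6,false),(4,false),(1,false),(5,false),(4,false),(6,false)]⟩,⟨4342,[(4321,true),(4355,false),(4322,false),(4321,false),(4355,false)],[(2,true),(5,false),(4,false),(1,false),(5,false),(6,false),(4,false),(5,false)]⟩,⟨4342,[(4322,false),(4355,true),(4322,false),(4355,true),(4321,false)],[(1,false),(5,false),(4,false),(5,false),(4,false),(1,false),(4,false),(2,true)]⟩,⟨4342,[(4322,false),(4355,true),(4355,true),(4322,false),(4321,false)],[(2,false),(5,false),(2,false),(4,false),(5,false),(4,false),(1,false),(4,false),(2,true),(5,false)]⟩]⟩)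
 (.one ⟨[], []⟩))))

end CfsgLib.ThPres
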