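import Cfsg.Agent.Lib.TwistTree.Tree

/-!
The orbits of one state with their steps.
-/

set_option autoImplicit false

namespace CfsgLib.ThPres
open CfsgLib.CosetEnum CfsgLib.TwistTree
open CfsgLib.TwistCoset (wOf cOK CLev cSize lettersOK)

/-- the orbits of state 2 -/
noncomputable def twRoots2 : BT TRoot :=
  (.fork (.fork (.one ⟨[], [⟨19,[],[]⟩,⟨33,[(49,true),(28,true)],[(0,false),(4,false),(5,false),(2,false),(5,false),(4,false),(1,false),(5,false)]⟩,⟨33,[(28,true),(49,true),(28,true)],[(0,false),(4,false),(5,false),(2,false),(5,false),(4,false),(1,false),(5,false)]⟩,⟨33,[(49,false),(49,false)],[(5,false),(2,true),(5,false),(4,false),(1,false),(3,false),(4,false),(5,false),(4,false)]⟩,⟨31,[(49,false),(49,false)],[(0,false),(2,false),(4,false),(5,false),(6,false),(4,false),(1,false),(4,false),(6,false),(2,true)]⟩,⟨31,[(28,true),(49,true),(28,true)],[(0,false),(4,false),(2,true),(5,false),(2,false),(4,false),(1,false),(5,false)]⟩,⟨31,[(49,true),(28,true)],[(0,false),(4,false),(2,true),(5,false),(2,false),(4,false),(1,false),(5,false)]⟩]⟩)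
 (.one ⟨[1,0,2,1,3], [⟨29,[],[]⟩,⟨59,[],[(0,false)]⟩,⟨59,[(28,true)],[(0,false)]⟩,⟨59,[(28,false)],[(0,false),(2,false)]⟩,⟨66,[],[(6,false),(2,true)]⟩,⟨66,[(28,false)],[(6,false),(2,true)]⟩,⟨66,[(28,true)],[(6,false),(2,true)]⟩]⟩))
 (.fork (.one ⟨[1], [⟨119,[],[]⟩,⟨288,[(23,false),(28,false),(21,false),(20,false)],[(2,false),(3,false),(4,false),(5,false),(2,false),(6,false),(4,false),(5,false),(2,false)]⟩,⟨288,[(49,true),(20,false),(49,false),(23,false)],[(2,false),(3,false),(4,false),(5,false),(2,false),(6,false),(4,false),(5,false),(2,false)]⟩,⟨288,[(26,false),(24,false),(28,true),(23,false)],[(2,false),(3,false),(4,false),(5,false),(2,false),(4,false),(6,false),(4,false),(5,false),(2,true)]⟩,⟨156,[],[]⟩,⟨156,[(28,false)],[]⟩,⟨156,[(28,true)],[]⟩]⟩)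
 (.one ⟨[], []⟩)))

end CfsgLib.ThPres
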