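import Cfsg.Agent.Lib.TwistTree.Tree

/-!
The orbits of one state with their steps.
-/

set_option autoImplicit false

namespace CfsgLib.ThPres
open CfsgLib.CosetEnum CfsgLib.TwistTree
open CfsgLib.TwistCoset (wOf cOK CLev cSize lettersOK)

/-- the orbits of state 3 -/
noncomputable def twRoots3 : BT TRoot :=
  (.fork (.fork (.fork (.fork (.fork (.one ⟨[], [⟨53,[],[]⟩,⟨67,[],[(1,false),(2,false),(5,false),(4,false),(1,false),(3,false),(4,false),(5,false),(4,false),(2,true)]⟩,⟨82,[],[(1,false),(5,false),(4,false),(5,false),(6,false),(4,false),(2,true),(5,false),(2,false),(4,false)]⟩,⟨73,[],[(6,false)]⟩,⟨80,[],[(0,false),(4,false),(6,false),(4,false),(1,false),(2,true),(5,false),(4,false),(5,false),(4,false)]⟩,⟨93,[],[(0,false),(1,false),(2,false),(4,false),(1,false),(5,false),(6,false),(4,false)]⟩,⟨74,[],[(0,false),(1,false),(3,false),(6,false)]⟩]⟩)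
 (.one ⟨[0,1,3,2,1,0,3,2,1,4,3], [⟨105,[],[(0,false),(5,false)]⟩,⟨105,[(100,false),(83,true)],[(1,false),(5,false),(2,false),(4,false),(1,false),(5,false),(4,false),(1,false),(4,false)]⟩,⟨75,[(83,true)],[(4,false),(1,false),(5,false),(2,false),(6,false),(4,false),(5,false),(4,false),(6,false)]⟩,⟨75,[(100,false),(83,false)],[(0,false),(2,false),(5,false),(4,false),(1,false),(4,false)]⟩,⟨75,[(100,true)],[(2,false),(3,false),(4,false),(1,false),(5,false),(4,false),(5,false),(2,true),(5,false),(4,false),(5,false)]⟩,⟨105,[(100,true),(83,false)],[(1,false),(2,false),(6,false),(4,false),(5,false),(2,false),(4,false),(5,false),(6,false)]⟩,⟨104,[(83,true)],[(3,false),(6,false),(4,false),(2,true),(5,false),(2,false),(4,false),(1,false),(6,false)]⟩]⟩))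
 (.fork (.one ⟨[3,2,1,5,4,3], [⟨1457,[],[(4,false)]⟩,⟨901,[],[(3,false),(6,false),(2,true)]⟩,⟨1901,[],[(3,false)]⟩,⟨451,[],[(3,false)]⟩,⟨1461,[],[(6,false)]⟩,⟨1459,[],[(4,false),(5,false),(4,false)]⟩,⟨359,[],[(0,false),(3,false)]⟩]⟩)
 (.one ⟨[], []⟩)))
 (.fork (.fork (.one ⟨[0,3,2,1,3], [⟨327,[],[]⟩,⟨333,[],[(5,false)]⟩,⟨1465,[],[]⟩,⟨719,[],[(2,false),(6,false)]⟩,⟨1013,[],[(2,true)]⟩,⟨721,[],[(5,false)]⟩,⟨1803,[],[(4,false)]⟩]⟩)
 (.one ⟨[], []⟩))
 (.fork (.one ⟨[1,0,3,2,1,5,4,3], [⟨468,[(83,false),(54,false),(100,false)],[(1,false),(4,false),(5,false),(4,false),(5,false),(2,false),(6,false),(4,false),(1,false),(5,false)]⟩,⟨565,[],[]⟩,⟨565,[(57,false),(83,false),(100,false),(54,false)],[(3,false),(5,false),(4,false),(5,false),(4,false),(6,false),(2,true),(5,false),(4,false),(5,false)]⟩,⟨468,[(57,false),(100,true),(83,true)],[(4,false),(1,false),(5,false),(6,false),(4,false),(5,false),(4,false),(2,true),(5,false)]⟩,⟨329,[],[]⟩,⟨565,[(83,true),(58,false),(100,true),(55,false)],[(1,false),(5,false),(2,false),(4,false),(6,false),(4,false),(5,false),(2,false),(4,false),(1,false),(5,false)]⟩,⟨468,[(58,false),(56,false),(54,false)],[(1,false),(4,false),(1,false),(4,false),(6,false),(4,false),(5,false),(4,false),(6,false),(2,true)]⟩]⟩)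
 (.one ⟨[], []⟩))))
 (.fork (.fork (.fork (.one ⟨[1], [⟨92,[(100,false)],[(4,false),(3,false),(5,false),(2,false),(4,false),(6,false),(4,false),(5,false),(2,true),(5,false)]⟩,⟨60,[(100,false),(83,true)],[(0,false),(1,false),(4,false),(6,false),(4,false),(5,false),(2,false),(4,false),(1,false),(4,false),(1,false)]⟩,⟨79,[(100,false),(83,true)],[(2,false),(3,false),(6,false),(4,false),(5,false),(2,false),(4,false),(5,false),(4,false),(2,true)]⟩,⟨81,[(100,false),(83,true)],[(5,false),(4,false),(3,false),(2,true),(5,false),(2,false),(4,false),(1,false),(4,false)]⟩,⟨85,[(100,false),(83,true)],[(1,false),(2,false),(6,false),(4,false),(3,false),(5,false),(2,true),(5,false)]⟩,⟨71,[(100,false),(83,true)],[(0,false),(1,false),(2,false),(3,false),(5,false),(6,false)]⟩,⟨84,[(100,false)],[(0,false),(4,false),(1,false),(4,false),(6,false),(4,false),(5,false)]⟩]⟩)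
 (.one ⟨[0,1,0,3,2,4,3,2,1,6,4,3], [⟨3839,[],[(1,false)]⟩,⟨903,[],[(3,false)]⟩,⟨3839,[(100,true),(58,false),(55,false)],[(0,false),(1,false),(5,false),(4,false),(5,false),(6,false),(4,false),(5,false),(4,false)]⟩,⟨3915,[],[(0,false),(1,false)]⟩,⟨3915,[(100,true),(58,false),(55,false)],[(0,false),(5,false),(4,false),(5,false),(6,false),(4,false),(1,false),(5,false),(4,false),(1,false)]⟩,⟨3915,[(100,false),(57,false),(54,false)],[(2,false),(4,false),(5,false),(4,false),(1,false),(5,false),(6,false),(4,false),(5,false)]⟩,⟨3839,[(100,false),(57,false),(54,false)],[(4,false),(1,false),(3,false),(4,false),(6,false),(4,false),(1,false)]⟩]⟩))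
 (.fork (.one ⟨[1,0,3,2,1,6,4,3], [⟨330,[(100,true),(55,false),(83,false)],[(2,false),(4,false),(5,false),(4,false),(6,false),(4,false),(5,false),(4,false),(6,false),(2,true)]⟩,⟨237,[],[(4,false),(3,false)]⟩,⟨237,[(57,false),(100,true),(57,false)],[(0,false),(5,false),(4,false),(6,false),(4,false),(5,false)]⟩,⟨237,[(100,false),(58,false),(56,false)],[(4,false),(5,false),(4,false),(6,false),(4,false),(5,false),(2,false),(4,false)]⟩,⟨717,[],[(4,false)]⟩,⟨717,[(100,false),(58,false),(56,false)],[(1,false),(6,false),(4,false),(5,false),(4,false),(2,true),(5,false),(2,false),(4,false),(5,false),(4,false)]⟩,⟨717,[(57,false),(100,true),(57,false)],[(1,false),(3,false),(6,false),(2,true),(5,false),(4,false),(1,false),(5,false),(2,false),(6,false)]⟩]⟩)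
 (.one ⟨[], []⟩)))
 (.fork (.fork (.one ⟨[0,2,3,2,1,4,3], [⟨263,[],[(0,false)]⟩,⟨265,[],[]⟩,⟨455,[],[]⟩,⟨1455,[],[(1,false),(2,false)]⟩,⟨813,[],[(0,false),(5,false)]⟩,⟨366,[(100,false),(83,false),(56,false),(54,false)],[(4,false),(6,false),(4,false),(1,false),(5,false),(4,false),(1,false),(5,false),(2,false)]⟩,⟨453,[],[(0,false)]⟩]⟩)
 (.one ⟨[], []⟩))
 (.fork (.one ⟨[3,2,3,6,4,3,2,1,3], [⟨226,[(100,true),(58,false)],[(5,false),(4,false),(5,false),(4,false),(6,false),(4,false),(2,true),(5,false),(2,false)]⟩,⟨226,[(83,false),(100,false),(55,false)],[(1,false),(4,false),(6,false),(4,false),(1,false),(2,true),(5,false),(4,false),(1,false),(4,false),(6,false)]⟩,⟨1307,[],[(0,false),(3,false),(5,false)]⟩,⟨4319,[],[]⟩,⟨226,[(56,false),(83,true)],[(2,false),(5,false),(4,false),(5,false),(2,false),(6,false),(4,false),(5,false)]⟩,⟨1307,[(83,false),(54,false),(100,true)],[(4,false),(1,false),(4,false),(5,false),(6,false),(4,false),(1,false),(4,false),(2,true),(5,false),(2,true)]⟩,⟨1307,[(100,false),(83,true),(54,false)],[(0,false),(4,false),(1,false),(5,false),(4,false),(6,false),(4,false),(1,false),(5,false),(4,false),(2,true)]⟩]⟩)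
 (.one ⟨[], []⟩)))))
 (.fork (.fork (.fork (.fork (.one ⟨[3], [⟨192,[],[(5,false)]⟩,⟨312,[(83,true),(56,false)],[(5,false),(2,false),(5,false),(6,false),(4,false),(1,false),(4,false),(5,false),(2,false),(6,false)]⟩,⟨128,[],[(4,false),(3,false),(2,true)]⟩,⟨141,[(83,true),(55,false)],[(0,false),(6,false),(2,true),(5,false),(4,false),(1,false),(4,false),(5,false),(6,false),(2,true)]⟩,⟨205,[],[]⟩,⟨177,[],[(5,false),(6,false)]⟩,⟨231,[],[(3,false),(4,false)]⟩]⟩)
 (.one ⟨[3,2,4,3,7,5,4,3,2,1,3], [⟨1141,[],[(1,false),(3,false)]⟩,⟨1137,[],[(6,false)]⟩,⟨1137,[(83,true),(57,false),(100,false)],[(1,false),(5,false),(2,false),(4,false),(1,false),(5,false),(4,false),(5,false),(2,false),(6,false)]⟩,⟨1141,[(83,true),(57,false),(100,false)],[(4,false),(5,false),(4,false),(2,true),(5,false),(4,false),(1,false),(4,false),(5,false),(2,true)]⟩,⟨3913,[],[]⟩,⟨1137,[(100,true),(57,false),(83,false)],[(1,false),(5,false),(4,false),(2,true),(5,false),(4,false),(1,false),(6,false)]⟩,⟨1141,[(100,true),(57,false),(83,false)],[(6,false),(2,true),(5,false),(2,false),(4,false),(5,false),(4,false),(6,false),(2,true),(5,false),(2,true)]⟩]⟩))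
 (.fork (.one ⟨[1,0,3,2,1,4,3], [⟨223,[],[(0,false)]⟩,⟨457,[],[]⟩,⟨561,[],[(1,false),(2,false)]⟩,⟨819,[],[(3,false),(5,false)]⟩,⟨511,[],[(0,false),(5,false),(6,false)]⟩,⟨567,[],[]⟩,⟨817,[],[(0,false),(4,false),(1,false)]⟩]⟩)
 (.one ⟨[], []⟩)))
 (.fork (.fork (.one ⟨[0,3,2,1,4,3], [⟨723,[],[(1,false)]⟩,⟨235,[],[(0,false),(5,false),(6,false)]⟩,⟨1463,[],[]⟩,⟨409,[],[(1,false),(3,false)]⟩,⟨3917,[],[]⟩,⟨331,[],[(5,false),(6,false),(4,false)]⟩,⟨1015,[],[(2,false),(4,false)]⟩]⟩)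
 (.one ⟨[], []⟩))
 (.fork (.one ⟨[3,2,3,6,6,4,3,2,1,3], [⟨2277,[],[(1,false),(3,false),(6,false)]⟩,⟨1139,[],[(0,false),(5,false),(6,false)]⟩,⟨2277,[(100,false),(83,true)],[(0,false),(4,false),(1,false),(6,false),(4,false),(1,false),(2,true),(5,false),(4,false),(5,false),(6,false),(4,false)]⟩,⟨1139,[(83,false),(100,true)],[(4,false),(1,false),(4,false),(5,false),(4,false),(1,false),(4,false),(5,false),(2,true)]⟩,⟨2277,[(83,false),(100,true)],[(4,false),(5,false),(4,false),(6,false),(4,false),(5,false),(4,false),(5,false),(6,false)]⟩,⟨4126,[(83,false)],[(3,false),(4,false),(5,false),(2,false),(5,false),(4,false),(5,false),(4,false),(2,true),(5,false)]⟩,⟨1139,[(100,false),(83,true)],[(1,false),(2,false),(4,false),(6,false),(4,false),(1,false),(4,false),(1,false),(6,false),(4,false),(5,false),(2,true)]⟩]⟩)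
 (.one ⟨[], []⟩))))
 (.fork (.fork (.fork (.one ⟨[1,3], [⟨159,[],[(3,false),(2,true)]⟩,⟨509,[],[(5,false)]⟩,⟨122,[],[(3,false)]⟩,⟨247,[],[(1,false),(5,false)]⟩,⟨194,[],[]⟩,⟨144,[],[]⟩,⟨124,[],[(3,false)]⟩]⟩)
 (.one ⟨[], []⟩))
 (.fork (.one ⟨[3,2,1,0,3,2,1,3], [⟨68,[(100,true)],[(1,false),(5,false),(4,false),(1,false),(4,false),(6,false),(2,true),(5,false),(2,false),(4,false),(1,false)]⟩,⟨101,[],[(4,false),(2,true)]⟩,⟨68,[(100,false)],[(0,false),(6,false),(2,true),(5,false),(4,false),(5,false),(2,false),(6,false),(4,false),(5,false)]⟩,⟨86,[(100,true)],[(1,false),(3,false),(2,true),(5,false),(4,false),(1,false),(4,false),(6,false),(4,false),(1,false)]⟩,⟨86,[(100,false)],[(0,false),(5,false),(4,false),(6,false),(4,false),(5,false),(4,false),(5,false),(2,true),(5,false)]⟩,⟨86,[],[]⟩,⟨68,[],[]⟩]⟩)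
 (.one ⟨[], []⟩)))
 (.fork (.fork (.one ⟨[2,3,2,1,5,4,3], [⟨507,[],[]⟩,⟨563,[],[]⟩,⟨1684,[(100,true),(58,false)],[(2,true),(5,false),(2,false),(4,false),(5,false),(2,true)]⟩,⟨325,[],[]⟩,⟨815,[],[]⟩,⟨905,[],[(4,false)]⟩,⟨407,[],[]⟩]⟩)
 (.one ⟨[], []⟩))
 (.fork (.one ⟨[3,2,1,0,3,2,1,6,4,3], [⟨88,[],[]⟩,⟨76,[(100,false),(83,false)],[(4,false),(1,false),(6,false),(4,false),(1,false),(4,false),(5,false),(2,false),(6,false)]⟩,⟨76,[(100,true)],[(1,false),(2,false),(3,false),(4,false),(5,false),(2,true),(5,false),(4,false),(5,false)]⟩,⟨88,[(100,false),(83,true)],[(2,true),(5,false),(2,false),(4,false),(5,false),(4,false),(5,false),(2,false),(5,false)]⟩,⟨103,[],[(1,false)]⟩,⟨76,[(83,true)],[(1,false),(5,false),(4,false),(3,false),(5,false)]⟩,⟨88,[(100,true),(83,false)],[(0,false),(4,false),(1,false),(4,false),(5,false),(2,false),(4,false),(1,false)]⟩]⟩)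
 (.one ⟨[], []⟩))))))

end CfsgLib.ThPres
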