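import Cfsg.Agent.Lib.TwistTree.Tree

/-!
The orbits of one state with their steps.
-/

set_option autoImplicit false

namespace CfsgLib.ThPres
open CfsgLib.CosetEnum CfsgLib.TwistTree
open CfsgLib.TwistCoset (wOf cOK CLev cSize lettersOK)

/-- the orbits of state 4 -/
noncomputable def twRoots4 : BT TRoot :=
  (.fork (.fork (.fork (.fork (.one ⟨[], [⟨62,[],[]⟩,⟨117,[],[(3,false)]⟩,⟨117,[(63,false)],[(3,false)]⟩,⟨117,[(63,true)],[(2,false),(3,false)]⟩,⟨115,[],[(2,true)]⟩,⟨115,[(63,true)],[(2,true)]⟩,⟨115,[(63,false)],[(2,true)]⟩]⟩)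
 (.one ⟨[0,6,6,4,3,2,1,3], [⟨1637,[],[(0,false),(3,false)]⟩,⟨1309,[],[(3,false)]⟩,⟨463,[],[(6,false)]⟩,⟨1805,[],[]⟩,⟨363,[],[(3,false),(6,false),(2,true)]⟩,⟨1469,[],[(1,false),(5,false),(4,false)]⟩,⟨411,[],[(4,false),(3,false),(6,false)]⟩]⟩))
 (.fork (.one ⟨[5,4,3], [⟨142,[],[(5,false)]⟩,⟨140,[],[(0,false),(3,false),(5,false)]⟩,⟨233,[],[(3,false),(5,false),(6,false)]⟩,⟨198,[],[]⟩,⟨196,[],[(4,false),(3,false),(2,true)]⟩,⟨413,[],[(5,false),(2,true)]⟩,⟨168,[],[(3,false),(2,true)]⟩]⟩)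
 (.one ⟨[], []⟩)))
 (.fork (.fork (.one ⟨[1], [⟨130,[],[(3,false),(6,false)]⟩,⟨459,[],[(5,false)]⟩,⟨459,[(63,false)],[(5,false)]⟩,⟨459,[(63,true)],[(5,false),(2,false)]⟩,⟨492,[],[(0,false),(1,false),(3,false),(5,false),(6,false)]⟩,⟨492,[(63,true)],[(0,false),(1,false),(3,false),(5,false),(6,false)]⟩,⟨492,[(63,false)],[(0,false),(1,false),(3,false),(5,false),(6,false)]⟩]⟩)
 (.one ⟨[0,2,5,4,3,6,4,3,2,1,3], [⟨635,[],[]⟩,⟨635,[(65,true),(191,false),(64,false)],[(1,false),(2,false),(3,false),(5,false),(4,false),(6,false),(4,false),(5,false),(2,false),(4,false)]⟩,⟨725,[],[(3,false)]⟩,⟨335,[],[(3,false),(4,false),(5,false)]⟩,⟨635,[(64,true),(191,true),(65,false)],[(4,false),(3,false),(5,false),(4,false),(6,false),(4,false),(2,true),(5,false)]⟩,⟨725,[(65,true),(191,false),(64,false)],[(5,false),(6,false),(2,true),(5,false),(4,false),(5,false),(6,false),(4,false),(2,true)]⟩,⟨725,[(64,true),(191,true),(65,false)],[(1,false),(6,false),(4,false),(5,false),(2,true),(5,false),(4,false),(5,false),(4,false)]⟩]⟩))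
 (.fork (.one ⟨[1,5,4,3], [⟨126,[(191,false),(64,false),(191,true),(63,false)],[(0,false),(1,false),(2,false),(4,false),(5,false),(4,false),(1,false),(6,false),(4,false)]⟩,⟨1017,[],[(4,false)]⟩,⟨1639,[],[(0,false)]⟩,⟨173,[(191,false),(64,false),(191,true),(63,false)],[(1,false),(4,false),(1,false),(5,false),(2,false),(4,false),(1,false),(6,false),(4,false)]⟩,⟨1635,[],[(2,true),(5,false),(4,false)]⟩,⟨3829,[],[]⟩,⟨361,[],[]⟩]⟩)
 (.one ⟨[], []⟩))))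
 (.fork (.fork (.fork (.one ⟨[3], [⟨133,[],[(0,false)]⟩,⟨285,[],[(3,false)]⟩,⟨285,[(63,false)],[(3,false)]⟩,⟨285,[(63,true)],[(2,false),(3,false)]⟩,⟨298,[(63,true)],[(6,false),(4,false),(2,true),(5,false),(2,false),(4,false),(5,false),(6,false),(2,true)]⟩,⟨298,[(63,false)],[(6,false),(4,false),(2,true),(5,false),(2,false),(4,false),(5,false),(6,false),(2,true)]⟩,⟨298,[],[(6,false),(4,false),(2,true),(5,false),(2,false),(4,false),(5,false),(6,false),(2,true)]⟩]⟩)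
 (.one ⟨[0,5,4,3,6,4,3,2,1,3], [⟨907,[],[(4,false)]⟩,⟨294,[(64,false),(191,false),(63,true)],[(1,false),(2,false),(6,false),(4,false),(1,false),(5,false),(4,false),(5,false),(4,false),(6,false),(4,false)]⟩,⟨907,[(65,true),(63,true),(191,true),(64,false)],[(6,false),(4,false),(1,false),(4,false),(1,false),(5,false)]⟩,⟨513,[],[(1,false)]⟩,⟨513,[(65,true),(63,true),(191,true),(64,false)],[(1,false),(4,false),(6,false),(4,false),(2,true),(5,false),(2,false),(4,false),(1,false)]⟩,⟨513,[(64,true),(191,false),(65,false),(63,false)],[(0,false),(5,false),(6,false),(4,false),(5,false),(2,false),(4,false),(5,false),(4,false),(1,false)]⟩,⟨907,[(64,true),(191,false),(65,false),(63,false)],[(4,false),(2,true),(5,false),(4,false),(1,false),(5,false),(2,false),(4,false),(6,false),(4,false)]⟩]⟩))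
 (.fork (.one ⟨[6,6,4,3], [⟨309,[],[]⟩,⟨337,[],[(2,true)]⟩,⟨307,[],[(0,false),(2,true)]⟩,⟨279,[],[(1,false)]⟩,⟨154,[],[(5,false),(2,false)]⟩,⟨283,[],[(3,false)]⟩,⟨281,[],[(1,false)]⟩]⟩)
 (.one ⟨[], []⟩)))
 (.fork (.fork (.one ⟨[1,3], [⟨139,[],[(2,false),(6,false),(4,false),(1,false),(3,false)]⟩,⟨909,[],[(6,false)]⟩,⟨909,[(63,false)],[(6,false)]⟩,⟨909,[(63,true)],[(2,false),(6,false)]⟩,⟨1467,[],[(1,false),(2,true),(5,false)]⟩,⟨1467,[(63,true)],[(1,false),(2,true),(5,false)]⟩,⟨1467,[(63,false)],[(1,false),(2,true),(5,false)]⟩]⟩)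
 (.one ⟨[], []⟩))
 (.fork (.one ⟨[0,5,4,3,2,1,3], [⟨727,[],[]⟩,⟨354,[(191,true),(191,true),(72,true),(64,false)],[(4,false),(6,false),(4,false),(1,false),(4,false),(2,true)]⟩,⟨515,[],[(1,false),(3,false),(5,false)]⟩,⟨461,[],[(2,true),(5,false)]⟩,⟨569,[],[(0,false),(5,false),(2,true)]⟩,⟨1641,[],[(0,false),(5,false),(6,false)]⟩,⟨1143,[],[]⟩]⟩)
 (.one ⟨[], []⟩)))))

end CfsgLib.ThPres
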