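import Cfsg.Agent.Lib.TwistTree.Tree

/-!
The orbits of one state with their steps.
-/

set_option autoImplicit false

namespace CfsgLib.ThPres
open CfsgLib.CosetEnum CfsgLib.TwistTree
open CfsgLib.TwistCoset (wOf cOK CLev cSize lettersOK)

/-- a part of the orbits of state 5 -/
noncomputable def twRoots5T1 : BT TRoot := (.fork (.fork (.fork (.fork (.fork (.fork (.one ⟨[], [⟨108,[],[]⟩,⟨116,[],[]⟩,⟨165,[],[(2,true)]⟩,⟨146,[],[]⟩,⟨152,[],[(1,false),(2,true)]⟩,⟨175,[],[(1,false),(3,false)]⟩,⟨147,[],[(0,false),(3,false)]⟩]⟩)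
 (.one ⟨[3,2,4,3,6,4,3,2,1,3], [⟨3847,[],[(3,false)]⟩,⟨3207,[],[(1,false),(3,false),(2,true)]⟩,⟨2966,[(109,false)],[(4,false),(3,false),(5,false),(6,false),(4,false),(1,false),(5,false),(2,false),(4,false),(6,false)]⟩,⟨2630,[(110,false),(109,false)],[(0,false),(2,false),(5,false),(4,false),(1,false),(6,false),(4,false),(5,false),(4,false),(1,false)]⟩,⟨2137,[],[(0,false),(5,false),(6,false)]⟩,⟨3049,[],[(1,false),(6,false)]⟩,⟨3016,[(109,false)],[(3,false),(4,false),(5,false),(4,false),(6,false),(4,false),(5,false),(2,false)]⟩]⟩))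
 (.fork (.one ⟨[0,2,4,3,2,1,6,4,3], [⟨2179,[],[]⟩,⟨1064,[(110,false)],[(0,false),(6,false),(4,false),(1,false),(5,false),(4,false),(5,false),(2,false),(5,false),(4,false)]⟩,⟨3684,[],[(1,false),(3,false),(5,false),(4,false),(5,false),(4,false),(6,false),(2,true),(5,false)]⟩,⟨2464,[],[(3,false),(5,false),(2,true),(5,false),(4,false),(5,false),(2,true),(5,false)]⟩,⟨886,[(110,false),(109,false)],[(1,false),(3,false),(6,false),(4,false),(5,false),(4,false),(2,true),(5,false),(4,false)]⟩,⟨1705,[],[(1,false),(5,false),(6,false)]⟩,⟨2481,[],[(6,false)]⟩]⟩)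
 (.one ⟨[5,4,3,2,6,4,3,2,1,6,4,3], [⟨2838,[],[(2,false),(5,false),(6,false),(4,false),(5,false),(2,false),(4,false)]⟩,⟨4308,[],[(1,false),(2,false),(5,false),(6,false),(4,false),(3,false),(5,false),(2,true)]⟩,⟨2929,[],[(6,false)]⟩,⟨3158,[(109,false)],[(5,false),(6,false),(4,false),(1,false),(4,false),(5,false),(2,true),(5,false),(4,false)]⟩,⟨3592,[(109,false)],[(2,false),(5,false),(4,false),(3,false),(6,false),(4,false),(1,false),(5,false),(2,true)]⟩,⟨2759,[],[(0,false)]⟩,⟨2748,[(109,false)],[(6,false),(4,false),(1,false),(4,false),(1,false),(6,false),(4,false),(5,false),(2,true),(5,false)]⟩]⟩)))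
 (.fork (.fork (.one ⟨[3,2,1,5,5,4,3], [⟨2028,[(110,false)],[(1,false),(5,false),(4,false),(2,true),(5,false),(2,false),(4,false),(5,false),(6,false)]⟩,⟨2315,[],[(0,false),(2,false)]⟩,⟨3240,[],[(2,false),(6,false),(4,false),(5,false),(4,false),(2,true),(5,false),(2,false),(4,false),(5,false),(4,false)]⟩,⟨2391,[],[]⟩,⟨2905,[],[(0,false)]⟩,⟨3609,[],[]⟩,⟨3410,[],[(5,false),(4,false),(1,false),(4,false),(6,false),(4,false),(2,true),(5,false),(4,false)]⟩]⟩)
 (.one ⟨(wOf 13 0x3123468323430), [⟨1522,[],[(2,false),(4,false),(5,false),(4,false),(6,false),(4,false),(1,false),(5,false),(2,false)]⟩,⟨3855,[],[]⟩,⟨3235,[],[]⟩,⟨2562,[(110,true)],[(4,false),(5,false),(2,false),(4,false),(5,false),(6,false),(4,false),(2,true),(5,false)]⟩,⟨2364,[],[(1,false),(3,false),(4,false),(5,false),(4,false),(5,false),(2,false),(5,false),(4,false),(1,false),(5,false)]⟩,⟨3935,[],[]⟩,⟨3509,[],[(1,false),(2,true),(5,false)]⟩]⟩))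
 (.fork (.one ⟨[2,1,0,3,2,1,6,6,4,3], [⟨998,[],[(0,false),(4,false),(1,false),(4,false),(2,true),(5,false),(4,false),(6,false)]⟩,⟨3596,[],[(4,false),(5,false),(6,false),(4,false),(1,false),(4,false),(1,false),(5,false),(6,false),(2,true)]⟩,⟨1524,[],[(0,false),(2,false),(5,false),(6,false),(4,false),(2,true),(5,false),(4,false),(1,false),(6,false),(2,true)]⟩,⟨1517,[],[]⟩,⟨318,[],[(5,false),(6,false),(4,false),(1,false),(2,true),(5,false),(4,false),(1,false),(6,false)]⟩,⟨714,[],[(3,false),(4,false),(1,false),(4,false),(6,false),(4,false),(2,true),(5,false),(4,false),(6,false),(2,true)]⟩,⟨1230,[],[(1,false),(6,false),(2,true),(5,false),(2,false),(4,false),(5,false),(4,false),(1,false),(2,true),(5,false)]⟩]⟩)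
 (.one ⟨[], []⟩))))
 (.fork (.fork (.fork (.one ⟨[0,6,4,3,2,1,3], [⟨2187,[],[(2,false),(5,false)]⟩,⟨2366,[(110,false),(109,false)],[(5,false),(2,false),(4,false),(5,false),(4,false),(1,false),(5,false),(4,false)]⟩,⟨2091,[],[]⟩,⟨3710,[],[(2,false),(5,false),(2,false),(4,false),(5,false),(4,false),(2,true),(5,false),(2,false),(4,false),(5,false),(4,false)]⟩,⟨2133,[],[(0,false),(4,false),(1,false)]⟩,⟨3469,[],[(1,false)]⟩,⟨2342,[(109,false)],[(0,false),(1,false),(5,false),(4,false),(2,true),(5,false),(2,false),(4,false),(5,false),(4,false),(2,true)]⟩]⟩)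
 (.one ⟨[7,6,4,3,2,1,6,4,3], [⟨3939,[],[(2,true)]⟩,⟨2285,[],[(0,false),(5,false)]⟩,⟨2054,[],[(5,false),(2,false),(6,false),(4,false),(5,false),(2,false)]⟩,⟨2020,[(110,true),(109,false)],[(0,false),(1,false),(2,false),(6,false),(4,false),(5,false),(2,false),(4,false),(1,false),(5,false),(6,false)]⟩,⟨3157,[],[(4,false)]⟩,⟨3079,[],[]⟩,⟨2537,[],[(2,false),(6,false)]⟩]⟩))
 (.fork (.one ⟨[4,3,7,6,4,3,2,1,3], [⟨1218,[(110,false)],[(1,false),(4,false),(2,true),(5,false),(2,false),(4,false),(5,false),(4,false),(5,false),(2,false)]⟩,⟨1333,[],[]⟩,⟨2832,[],[(4,false),(1,false),(4,false),(5,false),(2,false),(5,false),(4,false)]⟩,⟨664,[(110,false)],[(1,false),(5,false),(4,false),(1,false)]⟩,⟨3186,[],[(0,false),(1,false),(5,false),(2,false),(6,false),(4,false),(1,false),(5,false),(4,false),(5,false)]⟩,⟨1179,[],[(0,false),(1,false),(5,false)]⟩,⟨3229,[],[]⟩]⟩)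
 (.one ⟨(wOf 13 0x3123463457231), [⟨3486,[],[(5,false),(2,false),(4,false),(5,false),(2,false),(4,false),(1,false),(4,false),(5,false),(4,false)]⟩,⟨2776,[],[(4,false),(6,false),(4,false),(1,false),(4,false),(1,false),(5,false),(4,false),(2,true)]⟩,⟨3271,[],[(0,false),(4,false),(6,false)]⟩,⟨2829,[],[(0,false),(6,false),(2,true)]⟩,⟨2711,[],[(0,false),(2,true)]⟩,⟨2689,[],[]⟩,⟨2353,[],[(1,false),(4,false),(2,true)]⟩]⟩)))
 (.fork (.fork (.one ⟨[1,0,3,6,4,3,2,1,3], [⟨3028,[],[(0,false),(1,false),(4,false),(5,false),(2,false),(4,false),(5,false),(2,false),(4,false),(6,false)]⟩,⟨798,[],[(1,false),(3,false),(5,false),(4,false),(5,false),(4,false),(2,true),(5,false),(4,false),(1,false)]⟩,⟨733,[],[]⟩,⟨752,[],[(1,false),(4,false),(2,true),(5,false),(4,false),(5,false),(6,false),(4,false),(2,true)]⟩,⟨2664,[],[(4,false),(1,false),(6,false),(4,false),(5,false),(2,false),(4,false),(5,false),(4,false),(2,true)]⟩,⟨882,[],[(0,false),(4,false),(5,false),(2,false),(6,false),(4,false),(1,false),(5,false),(4,false),(6,false)]⟩,⟨376,[(110,false)],[(0,false),(1,false),(5,false),(6,false),(4,false),(2,true),(5,false),(4,false),(6,false),(2,true)]⟩]⟩)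
 (.one ⟨[0,3,2,6,4,3,5,4,3,2,1,3], [⟨676,[(109,false)],[(1,false),(2,true),(5,false),(4,false),(1,false),(3,false),(4,false),(5,false),(6,false),(4,false),(1,false)]⟩,⟨1476,[],[(3,false),(6,false),(2,true),(5,false),(4,false),(1,false),(6,false),(4,false),(5,false)]⟩,⟨3317,[],[(3,false),(5,false)]⟩,⟨1744,[],[(4,false),(3,false),(6,false),(4,false),(5,false),(2,true),(5,false),(4,false)]⟩,⟨2329,[],[(6,false)]⟩,⟨3993,[],[]⟩,⟨3443,[],[]⟩]⟩))
 (.fork (.one ⟨[1,0,7,5,4,3,6,4,3,2,1,3], [⟨3204,[(109,false)],[(3,false),(5,false),(4,false),(5,false),(4,false),(6,false),(2,true),(5,false),(4,false),(1,false)]⟩,⟨3584,[],[(3,false),(4,false),(5,false),(2,false),(4,false),(5,false),(4,false),(1,false),(5,false)]⟩,⟨1360,[(109,false)],[(4,false),(2,true),(5,false),(4,false),(6,false),(2,true),(5,false),(4,false),(1,false)]⟩,⟨917,[],[(4,false)]⟩,⟨3281,[],[(0,false),(1,false),(2,true)]⟩,⟨1914,[(110,false)],[(6,false),(4,false),(1,false),(5,false),(4,false),(5,false),(2,false),(4,false),(6,false)]⟩,⟨3203,[],[]⟩]⟩)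
 (.one ⟨[], []⟩)))))
 (.fork (.fork (.fork (.fork (.one ⟨[4,6,4,3], [⟨620,[],[(3,false),(5,false),(4,false),(5,false),(4,false),(2,true),(5,false),(4,false)]⟩,⟨420,[],[(2,false),(3,false),(5,false),(4,false),(1,false),(5,false),(2,false),(4,false)]⟩,⟨1022,[],[(2,false),(6,false),(4,false),(3,false),(5,false),(2,true),(5,false),(4,false),(5,false),(6,false)]⟩,⟨311,[],[(3,false)]⟩,⟨414,[],[(1,false),(2,false),(3,false),(5,false),(4,false),(5,false),(2,false),(5,false)]⟩,⟨340,[],[(1,false),(2,false),(5,false),(6,false),(4,false),(1,false),(4,false),(6,false),(2,true),(5,false),(2,true)]⟩,⟨790,[],[(0,false),(4,false),(5,false),(2,false),(6,false),(4,false),(5,false),(2,true),(5,false)]⟩]⟩)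
 (.one ⟨[2,4,3,8,6,4,3,2,1,3], [⟨2324,[(109,false)],[(5,false),(2,false),(5,false),(6,false),(4,false),(5,false),(4,false),(1,false),(4,false)]⟩,⟨2222,[(110,true),(109,false)],[(1,false),(3,false),(4,false),(6,false),(4,false),(2,true),(5,false),(4,false),(1,false)]⟩,⟨2648,[(109,false)],[(0,false),(2,false),(4,false),(6,false),(4,false),(5,false),(4,false),(2,true),(5,false)]⟩,⟨4102,[(110,true),(109,false)],[(2,true),(5,false),(4,false),(2,true),(5,false),(2,false),(4,false),(5,false),(4,false)]⟩,⟨1646,[(110,true),(109,false)],[(2,false),(5,false),(2,false),(6,false),(4,false),(1,false),(4,false),(5,false)]⟩,⟨1212,[(110,true),(109,false)],[(3,false),(4,false),(5,false),(2,false),(4,false),(6,false),(4,false)]⟩,⟨1418,[(110,true),(109,false)],[(2,true),(5,false),(4,false),(3,false),(6,false),(2,true),(5,false),(2,false),(4,false)]⟩]⟩))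
 (.fork (.one ⟨[4,5,4,3,2,1,5,4,3], [⟨642,[(109,false)],[(2,false),(3,false),(6,false),(4,false),(1,false),(5,false),(4,false),(1,false),(6,false)]⟩,⟨1685,[],[(0,false)]⟩,⟨1963,[],[(3,false),(2,true),(5,false)]⟩,⟨1398,[(110,true),(109,false)],[(1,false),(4,false),(2,true),(5,false),(4,false),(1,false),(5,false),(6,false),(2,true)]⟩,⟨2045,[],[(0,false)]⟩,⟨3284,[(110,true),(109,false)],[(2,true),(5,false),(2,false)]⟩,⟨896,[(110,true),(109,false)],[(1,false),(3,false),(2,true),(5,false),(4,false),(1,false),(5,false),(2,false),(6,false)]⟩]⟩)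
 (.one ⟨[4,3,2,6,6,4,3,2,1,5,4,3], [⟨2082,[(110,true),(109,false)],[(4,false),(1,false),(4,false),(6,false),(4,false),(1,false),(4,false),(6,false),(2,true),(5,false)]⟩,⟨3217,[],[(0,false)]⟩,⟨1998,[(110,true),(109,false)],[(0,false),(6,false),(4,false),(1,false),(5,false),(2,false),(4,false),(1,false),(5,false)]⟩,⟨2081,[],[]⟩,⟨3718,[(110,true),(109,false)],[(1,false),(5,false),(6,false),(4,false),(1,false),(5,false),(4,false),(2,true)]⟩,⟨1138,[(110,true),(109,false)],[(0,false),(1,false),(4,false),(6,false),(4,false),(1,false),(5,false),(2,false),(4,false),(5,false)]⟩,⟨3871,[],[(5,false)]⟩]⟩)))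
 (.fork (.fork (.one ⟨[4,3,6,4,3,2,1,3], [⟨3097,[],[(1,false),(6,false)]⟩,⟨3575,[],[]⟩,⟨3307,[],[]⟩,⟨3929,[],[(6,false)]⟩,⟨3651,[],[]⟩,⟨2633,[],[(6,false)]⟩,⟨3502,[],[(2,false),(5,false),(4,false),(1,false),(4,false),(6,false),(4,false),(2,true),(5,false),(2,false)]⟩]⟩)
 (.one ⟨[0,3,2,6,4,3,2,1,5,4,3], [⟨2426,[],[(5,false),(4,false),(5,false),(4,false),(6,false),(2,true),(5,false),(4,false),(5,false)]⟩,⟨3099,[],[(1,false),(3,false),(6,false)]⟩,⟨3167,[],[(3,false),(6,false),(2,true)]⟩,⟨3713,[],[(0,false),(5,false),(6,false)]⟩,⟨1993,[],[(2,true)]⟩,⟨3702,[(110,false)],[(0,false),(1,false),(6,false),(4,false),(1,false),(4,false),(5,false),(4,false),(2,true)]⟩,⟨1474,[(110,false)],[(0,false),(2,false),(5,false),(4,false),(2,true),(5,false),(4,false),(1,false),(4,false),(6,false)]⟩]⟩))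
 (.fork (.one ⟨[0,2,3,7,5,4,3,2,1,3], [⟨702,[(110,true),(109,false)],[(1,false),(4,false),(5,false),(2,false),(6,false),(4,false),(5,false),(2,true)]⟩,⟨2227,[],[(2,true)]⟩,⟨728,[(110,true),(109,false)],[(2,false),(5,false),(4,false),(6,false),(2,true),(5,false),(4,false),(1,false),(5,false),(4,false)]⟩,⟨3126,[(110,true),(109,false)],[(3,false),(4,false),(1,false),(5,false),(6,false),(4,false),(2,true),(5,false),(4,false),(6,false),(2,true)]⟩,⟨3368,[(110,true),(109,false)],[(1,false),(4,false),(3,false),(5,false),(2,false),(4,false),(5,false),(6,false),(4,false)]⟩,⟨1834,[(110,true),(109,false)],[(0,false),(1,false),(5,false),(2,false),(4,false),(5,false),(4,false),(1,false),(6,false),(2,true)]⟩,⟨2121,[],[(0,false),(3,false),(6,false)]⟩]⟩)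
 (.one ⟨[], []⟩))))
 (.fork (.fork (.fork (.one ⟨[0,3,2,1,5,4,3], [⟨3430,[],[(0,false),(5,false),(4,false),(5,false),(2,false),(5,false),(4,false),(1,false),(6,false)]⟩,⟨1521,[],[(2,true)]⟩,⟨3658,[],[(1,false),(2,true),(5,false),(4,false),(5,false),(4,false)]⟩,⟨2454,[],[(2,false),(3,false),(4,false),(5,false),(4,false),(1,false),(5,false),(2,true)]⟩,⟨4128,[],[(3,false),(2,true),(5,false),(4,false),(6,false),(2,true),(5,false),(2,false)]⟩,⟨2579,[],[(3,false),(2,true)]⟩,⟨3863,[],[(3,false)]⟩]⟩)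
 (.one ⟨[3,2,3,2,4,3,5,4,3,2,1,3], [⟨3851,[],[]⟩,⟨3098,[(110,false),(109,false)],[(5,false),(4,false),(1,false),(5,false),(2,false),(4,false),(1,false),(5,false),(4,false)]⟩,⟨3253,[],[]⟩,⟨3757,[],[(1,false)]⟩,⟨3210,[(109,false)],[(3,false),(4,false),(5,false),(2,true),(5,false),(4,false),(5,false),(6,false),(2,true)]⟩,⟨3064,[(110,false),(109,false)],[(2,false),(5,false),(4,false),(3,false),(5,false),(6,false),(2,true),(5,false)]⟩,⟨2770,[(109,false)],[(1,false),(3,false),(5,false),(4,false),(2,true)]⟩]⟩))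
 (.fork (.one ⟨[8,5,4,3,2,1,6,4,3], [⟨3383,[],[(6,false)]⟩,⟨3319,[],[(5,false)]⟩,⟨828,[(110,true),(109,false)],[(3,false),(4,false),(1,false),(5,false),(2,false),(6,false),(4,false),(5,false),(2,false)]⟩,⟨3529,[],[(0,false)]⟩,⟨3400,[],[(0,false),(1,false),(4,false),(6,false),(2,true),(5,false),(2,false)]⟩,⟨3092,[],[(6,false),(2,true),(5,false),(4,false),(2,true),(5,false),(4,false),(1,false)]⟩,⟨3058,[(110,true),(109,false)],[(5,false),(2,false),(4,false),(5,false),(4,false),(1,false),(4,false),(2,true),(5,false),(4,false)]⟩]⟩)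
 (.one ⟨[], []⟩)))
 (.fork (.fork (.one ⟨[3,2,3,5,4,3,2,1,3], [⟨2623,[],[(0,false),(5,false)]⟩,⟨1104,[(110,false),(109,false)],[(6,false),(2,true),(5,false),(2,false),(4,false),(5,false),(6,false),(4,false),(1,false)]⟩,⟨734,[(110,true)],[(1,false),(3,false),(5,false),(2,false),(4,false),(6,false),(4,false),(1,false)]⟩,⟨960,[(110,false),(109,false)],[(0,false),(4,false),(2,true),(5,false),(2,false),(4,false),(5,false),(4,false),(6,false),(4,false)]⟩,⟨3081,[],[(1,false),(4,false)]⟩,⟨698,[(110,false),(109,false)],[(2,true),(5,false),(2,false),(4,false),(5,false),(2,false),(4,false),(6,false),(4,false),(5,false)]⟩,⟨386,[(110,true),(109,false)],[(0,false),(2,false),(4,false),(1,false),(5,false),(4,false),(5,false),(6,false),(4,false),(2,true)]⟩]⟩)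
 (.one ⟨(wOf 13 0x3458123452340), [⟨1392,[(110,true),(109,false)],[(1,false),(4,false),(1,false),(6,false),(4,false),(1,false),(5,false)]⟩,⟨2041,[],[]⟩,⟨448,[(109,false)],[(1,false),(4,false),(1,false),(3,false),(6,false),(4,false),(5,false),(2,false),(5,false)]⟩,⟨456,[(109,false)],[(3,false),(6,false),(4,false),(5,false),(2,false),(4,false),(5,false)]⟩,⟨1867,[],[(4,false),(3,false),(2,true)]⟩,⟨2665,[],[(1,false),(6,false),(2,true)]⟩,⟨1960,[(109,false)],[(1,false),(6,false),(4,false),(1,false),(4,false),(5,false),(2,false),(4,false),(1,false)]⟩]⟩))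
 (.fork (.one ⟨[3,2,3,5,5,4,3,2,1,3], [⟨1172,[],[(3,false),(4,false),(5,false),(2,false),(4,false),(1,false),(4,false),(5,false),(4,false)]⟩,⟨2147,[],[(0,false),(1,false)]⟩,⟨1985,[],[]⟩,⟨986,[],[(2,false),(3,false),(4,false),(1,false),(6,false),(4,false),(5,false),(2,false),(4,false),(6,false)]⟩,⟨4197,[],[(5,false),(6,false)]⟩,⟨2567,[],[(0,false)]⟩,⟨1070,[(109,false)],[(4,false),(5,false),(4,false),(1,false),(4,false)]⟩]⟩)
 (.one ⟨[], []⟩))))))
 (.fork (.fork (.fork (.fork (.fork (.one ⟨[5,4,3], [⟨1996,[],[(2,false),(5,false),(2,false),(6,false),(4,false),(1,false),(4,false),(5,false),(6,false),(2,true),(5,false)]⟩,⟨287,[],[]⟩,⟨302,[],[(1,false),(5,false),(4,false),(3,false),(6,false),(2,true),(5,false),(4,false),(5,false),(2,false),(5,false)]⟩,⟨402,[],[(2,false),(4,false),(5,false),(4,false),(2,true),(5,false),(4,false),(6,false),(2,true)]⟩,⟨465,[],[(5,false),(6,false)]⟩,⟨1995,[],[]⟩,⟨369,[],[]⟩]⟩)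
 (.one ⟨(wOf 13 0x3123463452340), [⟨2034,[],[(1,false),(5,false),(6,false),(4,false),(2,true),(5,false),(4,false),(2,true),(5,false)]⟩,⟨3700,[],[(2,false),(5,false),(4,false),(5,false),(6,false),(4,false),(5,false),(2,false),(5,false)]⟩,⟨1466,[],[(0,false),(1,false),(5,false),(4,false),(1,false),(6,false),(4,false),(5,false),(2,true),(5,false)]⟩,⟨1382,[],[(0,false),(6,false),(4,false),(1,false),(5,false),(4,false),(6,false),(2,true),(5,false)]⟩,⟨3624,[],[(1,false),(5,false),(4,false),(6,false),(4,false),(5,false)]⟩,⟨2643,[],[(0,false)]⟩,⟨1622,[],[(1,false),(5,false),(2,false),(4,false),(5,false),(2,false),(6,false),(4,false),(5,false),(2,false)]⟩]⟩))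
 (.fork (.one ⟨[0,2,5,4,3,2,1,6,4,3], [⟨4255,[],[(5,false)]⟩,⟨2736,[],[(5,false),(2,false),(4,false),(1,false),(4,false),(5,false),(4,false),(2,true)]⟩,⟨3080,[],[(1,false),(4,false),(2,true),(5,false),(4,false),(1,false),(6,false),(4,false),(1,false)]⟩,⟨3069,[],[(2,true)]⟩,⟨2410,[(110,true)],[(4,false),(5,false),(6,false),(4,false),(5,false),(2,false),(5,false),(4,false),(5,false)]⟩,⟨2760,[(110,true)],[(0,false),(5,false),(4,false),(1,false),(4,false),(6,false),(2,true),(5,false),(2,false)]⟩,⟨3663,[],[(1,false)]⟩]⟩)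
 (.one ⟨(wOf 13 0x3123453462323), [⟨3040,[(110,false)],[(5,false),(2,false),(4,false),(3,false),(5,false),(4,false),(6,false),(4,false),(1,false),(2,true)]⟩,⟨2430,[(110,false)],[(0,false),(1,false),(5,false),(6,false),(4,false),(5,false),(4,false),(6,false),(2,true),(5,false)]⟩,⟨2429,[],[(5,false)]⟩,⟨3931,[],[]⟩,⟨1701,[],[(3,false)]⟩,⟨3943,[],[]⟩,⟨1481,[],[(4,false)]⟩]⟩)))
 (.fork (.fork (.one ⟨[0,2,4,3,6,4,3,2,1,3], [⟨1870,[(110,true)],[(1,false),(2,false),(5,false),(4,false),(6,false),(4,false),(2,true),(5,false),(2,false),(4,false),(6,false)]⟩,⟨2013,[],[(5,false)]⟩,⟨2276,[(110,true),(109,false)],[(1,false),(5,false),(4,false),(6,false),(2,true),(5,false),(2,false),(4,false),(5,false)]⟩,⟨3841,[],[(0,false),(1,false),(6,false)]⟩,⟨3260,[(110,true),(109,false)],[(5,false),(4,false),(3,false),(6,false),(4,false),(1,false),(5,false),(2,false),(4,false),(6,false)]⟩,⟨2769,[],[]⟩,⟨3576,[],[(4,false),(6,false),(2,true),(5,false),(4,false),(1,false),(5,false),(6,false),(4,false),(2,true)]⟩]⟩)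
 (.one ⟨[3,2,6,4,3,2,1,7,6,4,3], [⟨3749,[],[]⟩,⟨2199,[],[(4,false)]⟩,⟨3786,[(109,false)],[(2,false),(4,false),(1,false),(3,false),(4,false),(5,false),(2,false),(6,false),(4,false),(1,false),(4,false)]⟩,⟨816,[(109,false)],[(1,false),(4,false),(1,false),(6,false),(4,false),(1,false),(5,false),(4,false),(2,true)]⟩,⟨2434,[],[(0,false),(6,false),(4,false)]⟩,⟨2968,[(109,false)],[(1,false),(4,false),(1,false),(3,false),(4,false),(6,false),(4,false),(2,true),(5,false),(2,false)]⟩,⟨2016,[(110,true)],[(0,false),(4,false),(1,false),(5,false),(2,false),(4,false),(1,false),(5,false),(6,false),(2,true)]⟩]⟩))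
 (.fork (.one ⟨[5,4,3,2,1,8,5,4,3], [⟨2749,[],[]⟩,⟨2052,[(110,true),(109,false)],[(1,false),(4,false),(6,false),(4,false),(5,false),(4,false),(1,false),(4,false),(6,false),(2,true)]⟩,⟨1796,[(110,true),(109,false)],[(6,false),(4,false),(1,false),(3,false),(4,false),(5,false),(6,false),(4,false),(2,true)]⟩,⟨3548,[(110,true),(109,false)],[(5,false),(4,false),(1,false),(3,false),(6,false)]⟩,⟨2859,[],[(5,false)]⟩,⟨3824,[(110,true),(109,false)],[(5,false),(4,false),(2,true),(5,false),(4,false),(1,false),(5,false),(2,false),(4,false)]⟩,⟨2327,[],[(2,true)]⟩]⟩)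
 (.one ⟨[], []⟩))))
 (.fork (.fork (.fork (.one ⟨[0,2,3,2,1,6,4,3], [⟨822,[(110,true)],[(3,false),(4,false),(5,false),(2,false),(4,false),(1,false),(6,false)]⟩,⟨534,[],[(1,false),(2,false),(4,false),(1,false),(5,false),(4,false),(5,false),(6,false),(4,false),(1,false)]⟩,⟨1106,[],[(4,false),(3,false),(2,true),(5,false),(2,false),(4,false),(1,false),(5,false),(6,false),(4,false)]⟩,⟨2691,[],[(0,false),(2,true)]⟩,⟨2471,[],[(0,false)]⟩,⟨3692,[],[(1,false),(5,false),(2,false),(6,false),(4,false),(1,false),(4,false),(5,false),(4,false),(2,true)]⟩,⟨2659,[],[]⟩]⟩)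
 (.one ⟨[2,1,0,4,3,7,5,4,3,2,1,3], [⟨2607,[],[]⟩,⟨2257,[],[]⟩,⟨2094,[],[(2,false),(3,false),(6,false),(4,false),(1,false),(4,false),(5,false),(4,false),(6,false)]⟩,⟨942,[(110,false),(109,false)],[(1,false),(4,false),(6,false),(4,false),(1,false),(4,false),(1,false),(6,false),(2,true)]⟩,⟨1925,[],[]⟩,⟨3030,[],[(3,false),(4,false),(1,false),(6,false),(2,true),(5,false),(4,false),(5,false),(2,true),(5,false)]⟩,⟨968,[(110,false),(109,false)],[(2,false),(3,false),(5,false),(4,false),(1,false),(5,false),(6,false)]⟩]⟩))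
 (.fork (.one ⟨[2,6,4,3,2,1,7,6,4,3], [⟨2065,[],[(1,false)]⟩,⟨1942,[(109,false)],[(1,false),(3,false),(4,false),(1,false),(5,false),(6,false),(4,false),(5,false)]⟩,⟨1416,[(110,false)],[(0,false),(1,false),(5,false),(2,false),(6,false),(4,false),(5,false),(4,false),(1,false),(6,false),(2,true)]⟩,⟨1228,[(109,false)],[(1,false),(6,false),(4,false),(1,false),(4,false),(5,false),(4,false),(5,false),(6,false),(2,true),(5,false)]⟩,⟨1331,[],[]⟩,⟨1477,[],[(6,false)]⟩,⟨2699,[],[(0,false),(2,false)]⟩]⟩)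
 (.one ⟨(wOf 14 0x34512346623412), [⟨2247,[],[]⟩,⟨2869,[],[(0,false)]⟩,⟨2248,[(109,false)],[(0,false),(1,false),(5,false),(4,false),(5,false),(2,false),(5,false),(4,false),(5,false),(2,false)]⟩,⟨2084,[(109,false)],[(1,false),(4,false),(1,false),(4,false),(5,false),(6,false),(4,false),(1,false),(4,false),(5,false),(2,false)]⟩,⟨910,[],[(1,false),(4,false),(1,false),(6,false),(2,true),(5,false),(4,false),(5,false),(2,true)]⟩,⟨1693,[],[]⟩,⟨1420,[(109,false)],[(1,false),(6,false),(4,false),(1,false),(5,false),(2,false),(4,false),(5,false),(4,false)]⟩]⟩)))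
 (.fork (.fork (.one ⟨[0,4,3,7,5,4,3,2,1,3], [⟨2152,[(110,true)],[(6,false),(4,false),(1,false),(3,false),(4,false),(5,false),(2,false),(4,false),(1,false)]⟩,⟨1358,[(110,false)],[(0,false),(2,false),(4,false),(5,false),(2,true),(5,false),(4,false),(5,false),(2,false)]⟩,⟨982,[(109,false)],[(4,false),(6,false),(4,false),(5,false),(2,true),(5,false),(4,false),(5,false),(2,false)]⟩,⟨3957,[],[(4,false),(2,true)]⟩,⟨2992,[(109,false)],[(1,false),(5,false),(4,false),(1,false),(6,false),(4,false),(1,false),(4,false),(5,false),(2,false)]⟩,⟨3295,[],[]⟩,⟨3165,[],[]⟩]⟩)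
 (.one ⟨[4,3,2,7,5,4,3,2,1,6,4,3], [⟨1766,[],[(1,false),(5,false),(4,false),(1,false),(5,false),(6,false),(4,false),(1,false),(4,false),(2,true)]⟩,⟨2124,[],[(1,false),(4,false),(3,false),(6,false),(4,false),(2,true),(5,false),(2,false),(4,false),(1,false),(6,false)]⟩,⟨4243,[],[(4,false)]⟩,⟨4007,[],[(1,false),(3,false),(6,false)]⟩,⟨2491,[],[(6,false)]⟩,⟨1272,[],[(0,false),(6,false),(4,false),(5,false),(4,false),(6,false),(2,true),(5,false),(2,true)]⟩,⟨2407,[],[(0,false),(1,false),(2,true)]⟩]⟩))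
 (.fork (.one ⟨[0,6,4,3,5,4,3,2,1,3], [⟨2070,[(110,true),(109,false)],[(5,false),(2,true),(5,false),(4,false),(5,false),(4,false),(2,true),(5,false),(2,false)]⟩,⟨2201,[],[(2,true)]⟩,⟨2456,[(109,false)],[(0,false),(2,false),(5,false),(4,false),(5,false),(2,false),(5,false),(4,false),(1,false),(5,false)]⟩,⟨1354,[(109,false)],[(2,false),(3,false),(4,false),(5,false),(4,false),(6,false),(4,false),(5,false),(4,false),(2,true)]⟩,⟨1282,[(110,true),(109,false)],[(0,false),(5,false),(4,false),(1,false),(2,true),(5,false),(4,false),(1,false),(6,false),(4,false)]⟩,⟨3062,[(109,false)],[(4,false),(5,false),(4,false),(2,true),(5,false),(2,false),(4,false)]⟩,⟨2380,[(110,true),(109,false)],[(1,false),(6,false),(4,false),(3,false),(5,false),(4,false),(1,false),(4,false),(2,true),(5,false)]⟩]⟩)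
 (.one ⟨[], []⟩)))))
 (.fork (.fork (.fork (.fork (.one ⟨[0,1,6,4,3], [⟨792,[(110,false),(109,false)],[(4,false),(5,false),(4,false),(5,false),(2,false),(5,false),(6,false),(4,false),(1,false)]⟩,⟨1594,[(110,false)],[(5,false),(2,false),(4,false),(6,false),(4,false),(1,false),(4,false),(6,false)]⟩,⟨2236,[],[(0,false),(4,false),(5,false),(4,false),(6,false),(4,false),(5,false),(4,false),(2,true),(5,false)]⟩,⟨2486,[(110,false),(109,false)],[(0,false),(1,false),(5,false),(4,false),(5,false),(2,true),(5,false),(4,false),(6,false)]⟩,⟨3110,[],[(3,false),(4,false),(1,false),(5,false),(4,false),(5,false),(2,false),(4,false),(5,false)]⟩,⟨2261,[],[(0,false),(4,false)]⟩,⟨2293,[],[(2,false)]⟩]⟩)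
 (.one ⟨[3,2,7,5,4,3,6,4,3,2,1,3], [⟨2033,[],[(2,true)]⟩,⟨1612,[(110,true)],[(5,false),(2,true),(5,false),(4,false),(1,false),(3,false),(6,false),(4,false),(1,false),(5,false)]⟩,⟨2000,[(110,true)],[(1,false),(4,false),(1,false),(5,false),(2,false),(4,false),(5,false),(4,false)]⟩,⟨2268,[(110,true)],[(1,false),(6,false),(4,false),(3,false),(5,false),(2,false),(5,false),(4,false),(1,false)]⟩,⟨1804,[(110,true)],[(0,false),(4,false),(6,false),(4,false),(5,false),(4,false),(1,false),(4,false),(2,true)]⟩,⟨1768,[(110,true)],[(4,false),(5,false),(4,false),(6,false),(4,false),(5,false),(2,false),(4,false),(5,false)]⟩,⟨2171,[],[(1,false)]⟩]⟩))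
 (.fork (.one ⟨[0,2,5,4,3,2,1,8,5,4,3], [⟨3051,[],[]⟩,⟨3955,[],[(5,false),(2,true)]⟩,⟨1432,[(110,true),(109,false)],[(5,false),(6,false),(2,true),(5,false),(4,false),(5,false),(2,true),(5,false)]⟩,⟨1760,[(110,false),(109,false)],[(0,false),(5,false),(4,false),(2,true),(5,false),(2,false),(4,false),(1,false),(4,false)]⟩,⟨3492,[(110,false),(109,false)],[(0,false),(5,false),(2,false),(4,false),(5,false),(4,false),(1,false),(4,false),(6,false),(2,true)]⟩,⟨1986,[],[(5,false),(6,false),(4,false),(1,false),(3,false),(2,true),(5,false),(4,false),(1,false),(6,false)]⟩,⟨1647,[],[(1,false)]⟩]⟩)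
 (.one ⟨[4,3,2,8,5,4,3,2,1,6,4,3], [⟨821,[],[]⟩,⟨1909,[],[]⟩,⟨2570,[],[(4,false),(3,false),(6,false),(4,false),(1,false),(4,false),(5,false),(2,false),(4,false)]⟩,⟨1704,[],[(5,false),(4,false),(6,false),(4,false),(1,false),(4,false),(5,false),(4,false),(1,false)]⟩,⟨1786,[],[(1,false),(4,false),(1,false),(4,false),(5,false),(4,false),(6,false),(4,false),(1,false),(5,false),(2,true)]⟩,⟨1292,[],[(0,false),(5,false),(2,false),(4,false),(5,false),(2,false),(6,false),(4,false),(1,false),(5,false)]⟩,⟨3820,[],[(3,false),(6,false),(4,false),(1,false),(4,false),(2,true),(5,false),(2,false),(4,false),(6,false)]⟩]⟩)))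
 (.fork (.fork (.one ⟨[3,7,6,4,3,2,1,3], [⟨3668,[],[(0,false),(2,false),(6,false),(4,false),(1,false),(5,false),(4,false),(5,false)]⟩,⟨3696,[],[(1,false),(3,false),(4,false),(1,false),(5,false),(4,false),(2,true),(5,false),(4,false),(6,false)]⟩,⟨3953,[],[]⟩,⟨2438,[],[(0,false),(1,false),(5,false),(4,false),(1,false),(6,false),(2,true)]⟩,⟨1527,[],[(6,false)]⟩,⟨2900,[],[(0,false),(1,false),(2,true),(5,false),(4,false),(5,false),(6,false),(4,false),(5,false)]⟩,⟨1509,[],[(0,false),(6,false),(2,true)]⟩]⟩)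
 (.one ⟨(wOf 13 0x3123468345234), [⟨2063,[],[]⟩,⟨2647,[],[(1,false)]⟩,⟨2762,[(110,false),(109,false)],[(4,false),(3,false),(5,false),(2,true),(5,false)]⟩,⟨2336,[(110,false)],[(2,true),(5,false),(4,false),(1,false),(3,false),(5,false),(6,false),(2,true)]⟩,⟨936,[(109,false)],[(1,false),(3,false),(4,false),(5,false),(4,false),(1,false),(6,false)]⟩,⟨3977,[],[]⟩,⟨666,[(110,false),(109,false)],[(0,false),(1,false),(6,false),(4,false),(5,false),(2,false),(4,false),(5,false),(2,true)]⟩]⟩))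
 (.fork (.one ⟨[3,2,4,3,7,5,4,3,2,1,3], [⟨2734,[],[(6,false),(2,true),(5,false),(2,false),(4,false),(3,false),(5,false),(6,false),(4,false),(2,true)]⟩,⟨2369,[],[(0,false)]⟩,⟨3608,[],[(1,false),(2,false),(3,false),(4,false),(5,false),(4,false),(1,false),(6,false),(4,false),(2,true)]⟩,⟨4233,[],[(6,false)]⟩,⟨4325,[],[(6,false)]⟩,⟨1989,[],[(4,false),(6,false),(2,true)]⟩,⟨2370,[(110,false)],[(0,false),(1,false),(6,false),(4,false),(5,false),(2,false),(4,false),(5,false),(4,false)]⟩]⟩)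
 (.one ⟨[], []⟩))))
 (.fork (.fork (.fork (.one ⟨[2,3,2,1,7,5,4,3], [⟨866,[],[(0,false),(1,false),(6,false),(4,false),(5,false),(4,false),(6,false),(2,true),(5,false),(2,false),(4,false)]⟩,⟨3617,[],[]⟩,⟨3142,[],[(2,false),(4,false),(5,false),(4,false),(1,false),(4,false),(2,true),(5,false),(4,false)]⟩,⟨3518,[],[(0,false),(5,false),(6,false),(4,false),(1,false),(4,false),(5,false),(2,false),(4,false),(1,false)]⟩,⟨3618,[],[(0,false),(5,false),(4,false),(6,false),(2,true),(5,false),(4,false),(6,false)]⟩,⟨1944,[],[(0,false),(5,false),(4,false),(1,false),(6,false),(2,true),(5,false),(4,false),(1,false),(4,false)]⟩,⟨726,[],[(5,false),(6,false),(4,false),(5,false),(2,false),(4,false),(5,false),(4,false),(5,false)]⟩]⟩)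
 (.one ⟨[1,0,3,2,3,7,5,4,3,2,1,3], [⟨3216,[],[(0,false),(5,false),(4,false),(1,false),(4,false),(2,true),(5,false),(4,false),(2,true),(5,false),(2,false)]⟩,⟨3572,[],[(2,true),(5,false),(2,false),(4,false),(5,false),(6,false),(4,false),(5,false),(2,false)]⟩,⟨3151,[],[]⟩,⟨2971,[],[(3,false),(2,true)]⟩,⟨1852,[(110,false),(109,false)],[(6,false),(2,true),(5,false),(4,false),(1,false),(4,false),(5,false),(6,false),(2,true),(5,false)]⟩,⟨3821,[],[(3,false),(5,false)]⟩,⟨3361,[],[(0,false),(4,false)]⟩]⟩))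
 (.fork (.one ⟨[2,1,0,3,2,1,7,5,4,3], [⟨324,[],[(1,false),(5,false),(2,false),(4,false),(3,false),(5,false),(4,false),(2,true),(5,false),(2,true)]⟩,⟨378,[],[(3,false),(5,false),(6,false),(4,false),(2,true),(5,false),(4,false),(2,true)]⟩,⟨1874,[],[(2,false),(6,false),(4,false),(5,false),(2,true),(5,false),(4,false),(6,false)]⟩,⟨197,[],[(0,false),(1,false),(5,false),(2,false),(6,false),(4,false),(5,false),(4,false),(6,false),(2,true)]⟩,⟨200,[],[(0,false)]⟩,⟨419,[],[(5,false)]⟩,⟨206,[],[(2,false),(4,false),(5,false),(4,false),(2,true),(5,false),(4,false),(5,false),(2,false),(5,false)]⟩]⟩)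
 (.one ⟨[], []⟩)))
 (.fork (.fork (.one ⟨[3,2,3,6,4,3,2,1,3], [⟨902,[(110,false),(109,false)],[(5,false),(4,false),(5,false),(4,false),(2,true),(5,false)]⟩,⟨3435,[],[(5,false),(6,false)]⟩,⟨3504,[(110,false),(109,false)],[(1,false),(6,false),(2,true),(5,false),(2,false),(4,false),(1,false),(3,false),(5,false)]⟩,⟨3290,[(110,false),(109,false)],[(1,false),(2,true),(5,false),(4,false),(1,false),(5,false),(6,false),(4,false),(2,true)]⟩,⟨2696,[(110,true),(109,false)],[(1,false),(3,false),(5,false),(6,false),(4,false),(2,true),(5,false),(2,false),(4,false),(1,false)]⟩,⟨2043,[],[(6,false),(2,true)]⟩,⟨3728,[],[(6,false),(4,false),(5,false),(2,true),(5,false),(4,false),(5,false),(2,false),(6,false)]⟩]⟩)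
 (.one ⟨[3,2,4,3,8,5,4,3,2,1,3], [⟨4104,[(109,false)],[(0,false),(4,false),(1,false),(6,false),(4,false),(1,false),(5,false),(4,false),(6,false),(2,true)]⟩,⟨1697,[],[(5,false),(2,true)]⟩,⟨3740,[],[(0,false),(1,false),(2,false),(5,false),(4,false),(1,false),(5,false)]⟩,⟨3581,[],[(4,false),(5,false)]⟩,⟨1698,[],[(1,false),(4,false),(3,false),(5,false),(4,false),(2,true),(5,false),(2,false)]⟩,⟨2715,[],[(0,false),(1,false),(2,true)]⟩,⟨4181,[],[(1,false)]⟩]⟩))
 (.fork (.one ⟨[1,0,3,2,3,6,4,3,2,1,3], [⟨2406,[(110,false)],[(2,false),(5,false),(2,false),(6,false),(4,false),(1,false),(4,false),(1,false),(5,false),(6,false)]⟩,⟨3712,[(110,false)],[(4,false),(5,false),(2,true),(5,false),(4,false),(1,false),(5,false),(4,false),(6,false),(4,false),(1,false)]⟩,⟨2312,[(110,false)],[(2,false),(5,false),(6,false),(4,false),(5,false),(4,false),(2,true),(5,false)]⟩,⟨2461,[],[(3,false)]⟩,⟨2542,[],[(1,false),(2,true),(5,false),(2,false),(4,false),(3,false),(5,false),(6,false),(4,false),(2,true)]⟩,⟨3822,[],[(0,false),(2,false),(5,false),(6,false),(4,false),(2,true),(5,false),(2,false),(4,false),(5,false),(2,false)]⟩,⟨3288,[],[(1,false),(3,false),(5,false),(2,false),(4,false),(5,false),(2,false),(4,false),(5,false),(2,false)]⟩]⟩)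
 (.one ⟨[], []⟩)))))))

/-- a part of the orbits of state 5 -/
noncomputable def twRoots5T2 : BT TRoot := (.fork (.fork (.fork (.fork (.fork (.fork (.one ⟨[1,3], [⟨1238,[],[(5,false),(4,false),(1,false),(4,false),(1,false),(5,false),(6,false),(4,false),(2,true)]⟩,⟨1321,[],[(4,false)]⟩,⟨3965,[],[(1,false),(5,false)]⟩,⟨490,[(109,false)],[(1,false),(4,false),(1,false),(3,false),(5,false),(4,false),(5,false),(6,false),(4,false),(2,true),(5,false)]⟩,⟨1860,[],[(6,false),(4,false),(3,false),(2,true),(5,false),(4,false),(2,true),(5,false),(2,false),(4,false)]⟩,⟨1157,[],[(6,false)]⟩,⟨3559,[],[(1,false),(4,false),(2,true)]⟩]⟩)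
 (.one ⟨(wOf 13 0x3123463452301), [⟨3298,[(109,false)],[(1,false),(2,false),(4,false),(1,false),(3,false),(5,false),(6,false),(4,false),(1,false),(2,true),(5,false)]⟩,⟨3294,[(110,true)],[(1,false),(4,false),(3,false),(2,true),(5,false),(2,false),(4,false),(1,false)]⟩,⟨3449,[],[(1,false),(6,false),(2,true)]⟩,⟨1918,[(110,true)],[(1,false),(5,false),(6,false),(4,false),(2,true),(5,false),(2,false),(4,false),(1,false),(5,false),(6,false)]⟩,⟨2225,[],[(0,false),(3,false)]⟩,⟨2110,[(109,false)],[(1,false),(5,false),(2,false),(4,false),(1,false),(4,false),(6,false),(4,false),(5,false),(2,false)]⟩,⟨1678,[(109,false)],[(2,false),(4,false),(5,false),(2,false),(6,false),(4,false),(1,false),(5,false),(4,false),(6,false)]⟩]⟩))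
 (.fork (.one ⟨[0,6,4,3,2,1,7,6,4,3], [⟨2604,[(110,false)],[(0,false),(1,false),(4,false),(5,false),(6,false),(4,false),(1,false),(4,false),(5,false),(2,false),(6,false)]⟩,⟨994,[(109,false)],[(3,false),(4,false),(2,true),(5,false),(2,false),(4,false),(5,false),(2,true)]⟩,⟨2167,[],[(4,false),(2,true)]⟩,⟨1470,[(110,false)],[(4,false),(6,false),(4,false),(1,false),(4,false),(5,false),(2,false),(6,false)]⟩,⟨2938,[(110,false)],[(0,false),(4,false),(5,false),(2,false),(4,false),(1,false),(4,false),(5,false),(2,false),(6,false)]⟩,⟨2340,[(110,false)],[(1,false),(5,false),(2,false),(4,false),(5,false),(4,false),(6,false),(4,false),(2,true)]⟩,⟨1951,[],[(2,false),(3,false)]⟩]⟩)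
 (.one ⟨(wOf 13 0x3123453234530), [⟨3507,[],[]⟩,⟨3756,[],[(1,false),(2,false),(5,false),(4,false),(6,false),(4,false),(5,false),(4,false),(6,false),(2,true)]⟩,⟨3324,[],[(4,false),(1,false),(5,false),(2,false),(4,false),(5,false),(6,false),(4,false),(1,false)]⟩,⟨1504,[(109,false)],[(1,false),(5,false),(2,false),(4,false),(3,false),(6,false),(4,false),(5,false),(2,true)]⟩,⟨3612,[],[(1,false),(5,false),(4,false),(5,false),(2,false),(4,false),(1,false),(4,false),(6,false),(4,false)]⟩,⟨1507,[],[(0,false),(2,true)]⟩,⟨2292,[(110,false),(109,false)],[(6,false),(2,true),(5,false),(4,false),(1,false),(3,false),(5,false),(6,false),(2,true)]⟩]⟩)))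
 (.fork (.fork (.one ⟨[0,5,4,3,6,4,3,2,1,3], [⟨3460,[(109,false)],[(2,true),(5,false),(2,false)]⟩,⟨1540,[(109,false)],[(4,false),(5,false),(4,false),(2,true),(5,false),(4,false),(1,false),(5,false),(6,false),(2,true)]⟩,⟨2726,[(109,false)],[(2,false),(3,false),(4,false),(5,false),(4,false),(1,false),(4,false),(5,false)]⟩,⟨3140,[(109,false)],[(1,false),(2,false),(5,false),(4,false),(5,false),(4,false),(2,true),(5,false),(4,false)]⟩,⟨2625,[],[(2,true),(5,false)]⟩,⟨614,[(109,false)],[(0,false),(1,false),(2,false),(4,false),(1,false),(6,false),(4,false),(5,false),(2,false)]⟩,⟨2866,[(109,false)],[(1,false),(5,false),(6,false),(4,false),(1,false),(5,false),(2,false),(4,false),(5,false),(6,false)]⟩]⟩)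
 (.one ⟨[3,2,4,5,4,3,2,1,6,4,3], [⟨3132,[],[(4,false),(5,false),(6,false),(4,false),(5,false),(4,false),(2,true),(5,false),(2,false)]⟩,⟨3772,[],[(4,false),(3,false),(2,true),(5,false),(4,false),(6,false),(2,true),(5,false),(2,true)]⟩,⟨3129,[],[(6,false)]⟩,⟨3211,[],[(0,false)]⟩,⟨2220,[(110,true)],[(5,false),(2,false),(5,false),(4,false),(1,false)]⟩,⟨4209,[],[(2,true)]⟩,⟨2417,[],[(5,false)]⟩]⟩))
 (.fork (.one ⟨[0,2,4,3,7,6,4,3,2,1,3], [⟨1372,[],[(0,false),(4,false),(1,false),(4,false),(6,false),(4,false),(5,false),(4,false),(6,false)]⟩,⟨2948,[],[(5,false),(2,false),(6,false),(4,false),(1,false),(4,false),(1,false),(5,false),(4,false),(2,true)]⟩,⟨1859,[],[(0,false)]⟩,⟨1086,[],[(1,false),(2,false),(3,false),(4,false),(1,false),(5,false),(4,false),(1,false),(4,false),(2,true),(5,false)]⟩,⟨4142,[],[(2,false),(4,false),(1,false),(4,false),(5,false),(6,false),(4,false),(5,false)]⟩,⟨639,[],[]⟩,⟨2778,[],[(6,false),(4,false),(5,false),(2,false),(4,false),(5,false),(2,false),(4,false)]⟩]⟩)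
 (.one ⟨[], []⟩))))
 (.fork (.fork (.fork (.one ⟨[6,6,4,3,2,1,3], [⟨3256,[(109,false)],[(0,false),(5,false),(6,false),(4,false),(2,true),(5,false),(4,false),(5,false),(2,false)]⟩,⟨1060,[(109,false)],[(1,false),(6,false),(4,false),(3,false),(5,false),(4,false),(2,true),(5,false),(4,false),(1,false)]⟩,⟨662,[(109,false)],[(4,false),(5,false),(2,false),(5,false),(4,false),(5,false),(4,false)]⟩,⟨3137,[],[]⟩,⟨136,[(109,false)],[(1,false),(3,false),(4,false),(1,false),(6,false),(4,false),(1,false),(2,true)]⟩,⟨520,[(109,false)],[(4,false),(1,false),(4,false),(5,false),(2,false),(5,false),(6,false),(4,false),(1,false)]⟩,⟨2120,[(109,false)],[(1,false),(2,true),(5,false),(4,false),(1,false),(5,false)]⟩]⟩)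
 (.one ⟨[2,1,0,3,5,5,4,3,2,1,3], [⟨2136,[(109,false)],[(2,false),(5,false),(4,false),(3,false),(2,true),(5,false),(2,false),(4,false)]⟩,⟨1878,[(110,true)],[(0,false),(2,false),(5,false),(6,false),(4,false),(1,false),(4,false),(6,false)]⟩,⟨2598,[(109,false)],[(2,false),(5,false),(6,false),(4,false),(1,false),(4,false),(1,false),(6,false),(2,true)]⟩,⟨1664,[],[(4,false),(3,false),(6,false),(4,false),(1,false),(4,false)]⟩,⟨3753,[],[(2,true)]⟩,⟨3193,[],[]⟩,⟨3627,[],[]⟩]⟩))
 (.fork (.one ⟨[0,4,5,4,3,2,1,5,4,3], [⟨1306,[],[(6,false),(4,false),(3,false),(5,false),(4,false),(1,false),(4,false),(6,false)]⟩,⟨3480,[],[(4,false),(6,false),(2,true),(5,false),(2,false),(4,false),(1,false),(5,false),(4,false)]⟩,⟨3074,[],[(0,false),(4,false),(1,false),(5,false),(4,false),(2,true),(5,false),(4,false),(6,false),(2,true)]⟩,⟨1310,[(110,false)],[(2,false),(4,false),(5,false),(6,false),(4,false),(1,false),(4,false),(2,true),(5,false)]⟩,⟨2339,[],[(3,false),(5,false)]⟩,⟨2765,[],[(0,false),(4,false)]⟩,⟨2131,[],[(3,false)]⟩]⟩)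
 (.one ⟨(wOf 14 0x34612345230120), [⟨2452,[],[(2,false),(5,false),(4,false),(1,false),(4,false),(1,false),(5,false),(2,true)]⟩,⟨3066,[],[(1,false),(3,false),(6,false),(4,false),(5,false),(4,false),(1,false),(2,true),(5,false),(4,false)]⟩,⟨2599,[],[(4,false)]⟩,⟨4086,[],[(3,false),(5,false),(4,false),(5,false),(4,false),(1,false),(6,false),(4,false),(2,true)]⟩,⟨2629,[],[]⟩,⟨3115,[],[(4,false)]⟩,⟨2058,[],[(0,false),(4,false),(1,false),(5,false),(2,false),(4,false),(1,false),(5,false),(4,false),(2,true)]⟩]⟩)))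
 (.fork (.fork (.one ⟨[0,3,7,5,4,3,2,1,3], [⟨2418,[(109,false)],[(1,false),(3,false),(4,false),(1,false),(2,true),(5,false),(4,false),(5,false),(4,false),(2,true)]⟩,⟨1927,[],[]⟩,⟨3010,[(109,false)],[(1,false),(5,false),(4,false),(5,false),(4,false),(6,false)]⟩,⟨2988,[],[(2,false),(5,false),(6,false),(4,false),(1,false)]⟩,⟨3309,[],[(4,false),(1,false),(4,false)]⟩,⟨2894,[],[(2,false),(5,false),(2,false),(6,false),(4,false),(3,false),(5,false),(2,true)]⟩,⟨4223,[],[(0,false),(4,false),(2,true)]⟩]⟩)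
 (.one ⟨[2,3,2,6,4,3,2,1,8,6,4,3], [⟨3750,[(110,true),(109,false)],[(2,false),(5,false),(4,false),(1,false),(4,false),(1,false),(2,true),(5,false),(4,false)]⟩,⟨3316,[(110,true),(109,false)],[(0,false),(6,false),(4,false),(5,false),(2,false),(4,false),(5,false),(2,true),(5,false),(4,false),(6,false)]⟩,⟨2962,[(110,true),(109,false)],[(1,false),(2,false),(4,false),(3,false),(6,false),(4,false),(1,false),(4,false)]⟩,⟨1330,[(110,true),(109,false)],[(5,false),(2,false),(4,false),(3,false),(5,false),(4,false),(1,false),(2,true)]⟩,⟨2772,[(110,true),(109,false)],[(1,false),(4,false),(2,true),(5,false),(2,false),(4,false),(1,false),(6,false),(4,false),(5,false),(2,true)]⟩,⟨408,[(110,true),(109,false)],[(1,false),(3,false),(6,false),(2,true),(5,false),(4,false),(5,false),(6,false),(2,true),(5,false)]⟩,⟨3198,[(110,true),(109,false)],[(2,true),(5,false),(4,false),(5,false),(4,false),(1,false),(6,false)]⟩]⟩))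
 (.fork (.one ⟨[0,7,6,4,3,2,1,6,4,3], [⟨4009,[],[(1,false)]⟩,⟨2411,[],[]⟩,⟨4064,[],[(3,false),(5,false),(4,false),(1,false),(4,false),(5,false),(2,false),(6,false)]⟩,⟨1364,[(110,true)],[(2,false),(5,false),(6,false),(4,false),(1,false),(5,false),(4,false),(5,false),(2,true)]⟩,⟨1788,[],[(5,false),(2,false),(4,false),(1,false),(4,false),(5,false),(4,false),(1,false),(6,false)]⟩,⟨3267,[],[(4,false),(2,true)]⟩,⟨2945,[],[(4,false)]⟩]⟩)
 (.one ⟨[], []⟩)))))
 (.fork (.fork (.fork (.fork (.one ⟨[2,1,5,4,3], [⟨3312,[(110,true),(109,false)],[(5,false),(4,false),(1,false),(4,false),(5,false),(6,false),(4,false),(1,false),(4,false)]⟩,⟨472,[(110,true),(109,false)],[(3,false),(5,false),(4,false),(1,false),(4,false),(5,false),(6,false),(4,false),(2,true)]⟩,⟨2420,[(110,true),(109,false)],[(1,false),(5,false),(2,false),(4,false),(1,false),(4,false),(5,false),(6,false),(4,false),(2,true)]⟩,⟨4280,[(110,true),(109,false)],[(0,false),(1,false),(2,false),(5,false),(4,false),(6,false),(4,false),(1,false),(4,false),(6,false),(2,true)]⟩,⟨272,[(110,true),(109,false)],[(2,false),(3,false),(5,false),(4,false),(6,false),(4,false),(1,false),(4,false),(5,false),(6,false)]⟩,⟨2192,[(110,true),(109,false)],[(1,false),(2,false),(3,false),(4,false),(5,false),(2,false),(4,false),(1,false),(5,false),(2,true)]⟩,⟨3706,[(110,true),(109,false)],[(0,false),(1,false),(4,false),(6,false),(4,false),(1,false),(4,false),(1,false)]⟩]⟩)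
 (.one ⟨[3,2,4,3,7,6,4,3,2,1,3], [⟨1529,[],[]⟩,⟨1166,[(109,false)],[(1,false),(6,false),(4,false),(1,false),(4,false),(5,false),(4,false),(6,false),(2,true)]⟩,⟨3037,[],[(0,false),(4,false)]⟩,⟨568,[(110,false)],[(4,false),(2,true),(5,false),(4,false),(1,false),(5,false),(6,false),(2,true)]⟩,⟨992,[(109,false)],[(5,false),(2,false),(5,false),(4,false),(1,false),(4,false),(5,false),(2,false),(6,false)]⟩,⟨1370,[(110,true),(109,false)],[(2,false),(4,false),(5,false),(2,false),(4,false),(1,false),(4,false),(6,false)]⟩,⟨2334,[(110,false),(109,false)],[(2,false),(6,false),(4,false),(1,false),(4,false),(1,false),(5,false),(2,true)]⟩]⟩))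
 (.fork (.one ⟨[0,5,4,3,2,1,8,5,4,3], [⟨2003,[],[]⟩,⟨1750,[(110,false)],[(1,false),(3,false),(5,false),(4,false),(5,false),(2,false),(6,false),(4,false),(5,false)]⟩,⟨2558,[],[(0,false),(5,false),(6,false),(2,true),(5,false),(4,false),(5,false),(4,false),(6,false),(2,true)]⟩,⟨1802,[(110,false)],[(4,false),(1,false),(3,false),(4,false),(5,false),(4,false),(6,false),(4,false)]⟩,⟨2149,[],[]⟩,⟨2865,[],[]⟩,⟨2500,[],[(1,false),(4,false),(2,true),(5,false),(4,false),(6,false)]⟩]⟩)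
 (.one ⟨[3,4,3,2,3,8,5,4,3,2,1,3], [⟨3635,[],[(2,true)]⟩,⟨1100,[(110,true),(109,false)],[(4,false),(1,false),(3,false),(4,false),(2,true)]⟩,⟨1681,[],[(0,false)]⟩,⟨1703,[],[]⟩,⟨2021,[],[]⟩,⟨1916,[],[(1,false),(4,false),(2,true),(5,false),(2,false),(4,false),(6,false)]⟩,⟨2660,[],[(0,false),(5,false),(4,false),(1,false),(6,false),(4,false),(1,false),(5,false),(4,false)]⟩]⟩)))
 (.fork (.fork (.one ⟨[7,6,4,3,2,1,3], [⟨2404,[(110,true),(109,false)],[(0,false),(1,false),(2,false),(5,false),(6,false),(4,false),(5,false),(4,false),(1,false),(4,false)]⟩,⟨1528,[(110,true)],[(1,false),(3,false),(4,false),(6,false),(2,true),(5,false),(4,false),(2,true),(5,false),(2,true)]⟩,⟨2850,[(110,false)],[(0,false),(4,false),(1,false),(6,false),(2,true),(5,false),(4,false),(1,false),(5,false),(2,true)]⟩,⟨2520,[(110,true),(109,false)],[(4,false),(1,false),(3,false),(5,false),(4,false),(6,false),(2,true),(5,false),(4,false),(2,true)]⟩,⟨4265,[],[(5,false)]⟩,⟨3804,[(110,true)],[(1,false),(3,false),(4,false),(6,false),(4,false),(5,false),(2,false)]⟩,⟨3143,[],[(3,false)]⟩]⟩)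
 (.one ⟨[3,2,5,5,4,3,2,1,5,4,3], [⟨3751,[],[]⟩,⟨4100,[],[(3,false),(5,false),(6,false),(4,false),(5,false),(2,false),(5,false),(4,false),(1,false),(5,false)]⟩,⟨2717,[],[(0,false)]⟩,⟨2014,[(110,true),(109,false)],[(0,false),(5,false),(4,false),(5,false),(6,false),(4,false)]⟩,⟨3063,[],[(1,false),(5,false),(2,true)]⟩,⟨2943,[],[(3,false)]⟩,⟨3501,[],[(0,false)]⟩]⟩))
 (.fork (.one ⟨[0,4,6,4,3,2,1,6,4,3], [⟨2774,[],[(1,false),(2,false),(3,false),(4,false),(5,false),(4,false),(1,false),(4,false),(5,false),(4,false)]⟩,⟨996,[(110,true),(109,false)],[(1,false),(3,false),(4,false),(6,false),(4,false),(5,false),(4,false)]⟩,⟨3767,[],[(1,false)]⟩,⟨2355,[],[(3,false),(5,false)]⟩,⟨3071,[],[(0,false)]⟩,⟨3683,[],[(5,false),(6,false),(4,false)]⟩,⟨1892,[(110,true),(109,false)],[(0,false),(4,false),(2,true),(5,false),(2,false),(4,false)]⟩]⟩)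
 (.one ⟨[], []⟩))))
 (.fork (.fork (.fork (.one ⟨[4,3,2,1,5,4,3], [⟨482,[(109,false)],[(4,false),(3,false),(2,true),(5,false),(2,false),(4,false),(5,false),(4,false),(6,false),(2,true)]⟩,⟨573,[],[]⟩,⟨2947,[],[(0,false),(3,false),(5,false)]⟩,⟨3487,[],[]⟩,⟨1158,[(109,false)],[(3,false),(4,false),(5,false),(2,false),(4,false),(5,false),(2,false),(4,false),(1,false),(5,false)]⟩,⟨3963,[],[]⟩,⟨2795,[],[(1,false),(5,false),(2,true)]⟩]⟩)
 (.one ⟨[0,1,0,3,2,3,5,4,3,2,1,3], [⟨3358,[(109,false)],[(4,false),(1,false),(4,false),(5,false),(2,false),(6,false),(4,false),(5,false),(2,false)]⟩,⟨2823,[],[(2,true)]⟩,⟨3754,[],[(4,false),(1,false),(4,false),(1,false),(6,false),(4,false),(5,false),(2,true),(5,false)]⟩,⟨2107,[],[(0,false),(5,false),(4,false)]⟩,⟨729,[],[]⟩,⟨3707,[],[(1,false)]⟩,⟨1663,[],[]⟩]⟩))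
 (.fork (.one ⟨[0,2,4,3,8,5,4,3,2,1,3], [⟨2221,[],[]⟩,⟨2064,[],[(1,false),(2,true),(5,false),(2,false),(4,false),(1,false),(3,false),(5,false),(4,false)]⟩,⟨3326,[],[(4,false),(2,true),(5,false),(2,false),(4,false),(5,false),(4,false),(5,false),(6,false),(2,true)]⟩,⟨980,[],[(6,false),(2,true),(5,false),(4,false),(1,false),(3,false),(4,false)]⟩,⟨581,[],[(0,false)]⟩,⟨4314,[],[(4,false),(1,false),(3,false),(5,false),(2,false),(4,false),(5,false),(6,false)]⟩,⟨1167,[],[(0,false),(2,true),(5,false)]⟩]⟩)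
 (.one ⟨[], []⟩)))
 (.fork (.fork (.one ⟨[2,3,6,6,4,3,2,1,3], [⟨3415,[],[(0,false),(4,false)]⟩,⟨1568,[(110,false)],[(3,false)]⟩,⟨3539,[],[(1,false),(5,false)]⟩,⟨3166,[(110,false)],[(4,false),(2,true),(5,false),(4,false),(5,false),(2,false)]⟩,⟨2447,[],[]⟩,⟨860,[],[(0,false),(4,false),(6,false),(4,false),(2,true),(5,false),(2,true)]⟩,⟨4082,[(110,false),(109,false)],[(1,false),(3,false),(5,false),(6,false),(4,false),(2,true),(5,false),(4,false),(1,false),(6,false)]⟩]⟩)
 (.one ⟨[4,3,2,5,4,3,2,1,8,6,4,3], [⟨1341,[],[]⟩,⟨2773,[],[]⟩,⟨1938,[(109,false)],[(0,false),(4,false),(5,false),(4,false),(6,false),(4,false),(1,false),(4,false),(1,false)]⟩,⟨742,[(110,true),(109,false)],[(0,false),(4,false),(5,false),(4,false),(6,false),(4,false),(2,true)]⟩,⟨2180,[(110,true)],[(2,false),(3,false),(4,false),(1,false),(4,false),(5,false),(4,false),(5,false),(2,false),(5,false)]⟩,⟨954,[(110,true)],[(2,false),(5,false),(6,false),(4,false),(1,false),(4,false),(2,true)]⟩,⟨1290,[(110,true)],[(1,false),(3,false),(5,false),(4,false),(5,false),(2,false),(5,false),(4,false),(6,false)]⟩]⟩))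
 (.fork (.one ⟨[0,3,2,3,5,5,4,3,2,1,3], [⟨808,[(110,false)],[(2,false),(5,false),(4,false),(5,false),(2,false),(4,false),(1,false),(4,false),(6,false)]⟩,⟨3432,[],[(3,false),(5,false),(2,false),(4,false),(5,false),(4,false),(2,true),(5,false),(4,false),(2,true)]⟩,⟨2729,[],[(4,false),(5,false)]⟩,⟨3060,[],[(6,false),(4,false),(5,false),(4,false),(1,false),(5,false),(6,false),(4,false)]⟩,⟨2787,[],[]⟩,⟨2235,[],[(0,false),(1,false)]⟩,⟨1722,[(109,false)],[(3,false),(4,false),(6,false),(4,false),(5,false),(2,false),(4,false),(5,false)]⟩]⟩)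
 (.one ⟨[], []⟩))))))
 (.fork (.fork (.fork (.fork (.fork (.one ⟨[0,3,2,1,3], [⟨3705,[],[(6,false)]⟩,⟨2901,[],[(0,false)]⟩,⟨3983,[],[(1,false),(3,false)]⟩,⟨244,[(110,false),(109,false)],[(1,false),(4,false),(1,false),(4,false),(6,false),(4,false),(1,false),(5,false),(2,false)]⟩,⟨2251,[],[(4,false),(5,false)]⟩,⟨1846,[(110,false),(109,false)],[(1,false),(2,false),(5,false),(4,false),(5,false),(2,false),(5,false),(4,false),(5,false),(6,false)]⟩,⟨754,[(110,false),(109,false)],[(0,false),(4,false),(5,false),(4,false),(2,true),(5,false),(4,false),(2,true)]⟩]⟩)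
 (.one ⟨[0,2,8,5,4,3,2,1,6,4,3], [⟨1510,[(109,false)],[(0,false),(1,false),(6,false),(2,true),(5,false),(2,false),(4,false),(5,false),(4,false),(1,false),(6,false)]⟩,⟨2849,[],[(3,false),(2,true)]⟩,⟨4187,[],[(5,false)]⟩,⟨2658,[(109,false)],[(1,false),(2,false),(5,false),(4,false),(1,false),(5,false)]⟩,⟨2723,[],[(1,false),(5,false)]⟩,⟨2565,[],[]⟩,⟨2343,[],[(3,false),(6,false)]⟩]⟩))
 (.fork (.one ⟨[2,5,4,3,2,1,5,4,3], [⟨1150,[(110,true),(109,false)],[(4,false),(1,false),(6,false),(4,false),(1,false)]⟩,⟨2039,[],[(1,false)]⟩,⟨3273,[],[(5,false)]⟩,⟨2543,[],[(3,false)]⟩,⟨3697,[],[(4,false),(2,true)]⟩,⟨3642,[],[(6,false),(4,false),(2,true),(5,false),(4,false),(5,false)]⟩,⟨2535,[],[(1,false),(6,false)]⟩]⟩)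
 (.one ⟨[3,4,3,2,6,4,3,2,1,6,4,3], [⟨2252,[(110,true)],[(2,false),(4,false),(5,false),(2,false),(4,false),(1,false),(4,false),(5,false),(6,false),(4,false)]⟩,⟨3047,[],[]⟩,⟨3679,[],[(1,false)]⟩,⟨3933,[],[(2,true)]⟩,⟨1740,[(109,false)],[(3,false),(4,false),(1,false),(4,false),(6,false),(4,false)]⟩,⟨1598,[(110,true)],[(6,false),(2,true),(5,false),(4,false),(1,false),(3,false),(5,false),(2,false),(6,false)]⟩,⟨3311,[],[(0,false),(2,true)]⟩]⟩)))
 (.fork (.fork (.one ⟨[2,3,6,4,3,2,1,3], [⟨2174,[],[(0,false),(1,false),(5,false),(4,false),(5,false),(6,false),(2,true),(5,false),(4,false),(5,false)]⟩,⟨1831,[],[(3,false)]⟩,⟨238,[],[(1,false),(2,true),(5,false),(4,false),(1,false),(5,false),(6,false),(4,false),(2,true),(5,false),(2,false)]⟩,⟨1832,[(110,false)],[(2,false),(3,false),(4,false),(6,false),(4,false),(1,false),(5,false),(4,false),(1,false),(2,true)]⟩,⟨3453,[],[]⟩,⟨2956,[(109,false)],[(2,true),(5,false),(2,false),(4,false),(3,false),(5,false),(4,false),(2,true)]⟩,⟨566,[(109,false)],[(4,false),(3,false),(6,false),(4,false),(5,false),(4,false),(1,false),(4,false),(6,false),(2,true)]⟩]⟩)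
 (.one ⟨(wOf 13 0x3467123462320), [⟨3782,[],[(0,false),(2,false),(5,false),(4,false),(6,false),(4,false),(2,true)]⟩,⟨2934,[],[(4,false),(1,false),(4,false),(1,false),(5,false),(6,false),(4,false),(5,false),(2,false)]⟩,⟨1534,[],[(0,false),(4,false),(5,false),(2,false),(4,false),(1,false),(4,false),(6,false),(4,false),(5,false),(2,false)]⟩,⟨2827,[],[(4,false),(1,false),(3,false)]⟩,⟨2399,[],[(1,false)]⟩,⟨1935,[],[]⟩,⟨964,[],[(0,false),(5,false),(2,false),(4,false),(5,false),(4,false),(2,true),(5,false),(4,false),(1,false),(2,true)]⟩]⟩))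
 (.fork (.one ⟨[1,0,3,7,6,4,3,2,1,3], [⟨1366,[(110,false)],[(1,false),(2,true),(5,false),(4,false),(3,false),(5,false),(2,false),(6,false),(4,false),(5,false)]⟩,⟨1278,[(110,false)],[(0,false),(1,false),(2,false),(6,false),(4,false),(5,false),(4,false),(5,false),(2,true)]⟩,⟨3083,[],[]⟩,⟨2628,[(110,false)],[(2,false),(5,false),(6,false),(4,false),(2,true),(5,false),(2,false),(4,false),(6,false)]⟩,⟨2708,[(110,false)],[(4,false),(1,false),(3,false),(5,false),(2,false),(6,false),(4,false),(5,false),(2,false)]⟩,⟨3257,[],[(0,false)]⟩,⟨1161,[],[(3,false)]⟩]⟩)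
 (.one ⟨[], []⟩))))
 (.fork (.fork (.fork (.one ⟨[0,3,2,1,5,5,4,3], [⟨3614,[],[(4,false),(1,false),(4,false),(5,false),(6,false),(2,true),(5,false),(4,false),(5,false)]⟩,⟨3234,[(109,false)],[(0,false),(4,false),(6,false),(4,false),(5,false),(4,false),(2,true),(5,false),(2,false),(4,false)]⟩,⟨2909,[],[(3,false)]⟩,⟨2337,[],[(0,false),(5,false)]⟩,⟨3736,[],[(0,false),(4,false),(5,false),(2,false),(5,false),(4,false),(6,false),(4,false),(5,false)]⟩,⟨1823,[],[(4,false)]⟩,⟨2439,[],[]⟩]⟩)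
 (.one ⟨[0,2,3,2,4,3,5,4,3,2,1,3], [⟨2213,[],[]⟩,⟨1628,[(110,false)],[(1,false),(4,false),(1,false),(5,false),(4,false),(1,false),(4,false),(2,true),(5,false),(2,false)]⟩,⟨2626,[(110,false)],[(0,false),(2,false),(4,false),(6,false),(4,false),(5,false),(4,false),(1,false),(5,false),(2,true)]⟩,⟨2746,[(110,true),(109,false)],[(1,false),(2,false),(4,false),(5,false),(2,false),(4,false),(6,false),(4,false),(1,false),(5,false),(4,false)]⟩,⟨3744,[(110,true),(109,false)],[(4,false),(5,false),(4,false),(1,false),(4,false),(2,true),(5,false),(4,false)]⟩,⟨2004,[(110,true),(109,false)],[(6,false),(4,false),(5,false),(4,false),(1,false),(4,false),(6,false),(4,false),(2,true),(5,false)]⟩,⟨1374,[(110,true),(109,false)],[(5,false),(6,false),(4,false),(3,false),(2,true),(5,false)]⟩]⟩))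
 (.fork (.one ⟨[5,5,4,3,2,1,5,4,3], [⟨2496,[],[(1,false),(6,false),(4,false),(1,false),(4,false),(2,true),(5,false)]⟩,⟨2363,[],[(0,false),(1,false),(2,true)]⟩,⟨3598,[],[(0,false),(5,false),(2,false),(6,false),(4,false),(5,false),(2,false),(4,false),(5,false),(2,false),(6,false)]⟩,⟨4108,[],[(4,false),(1,false),(4,false),(6,false),(4,false),(5,false),(2,false),(4,false),(6,false)]⟩,⟨2789,[],[]⟩,⟨4310,[],[(0,false),(2,true),(5,false),(2,false),(4,false),(5,false),(2,true),(5,false)]⟩,⟨2453,[],[(5,false),(6,false)]⟩]⟩)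
 (.one ⟨[], []⟩)))
 (.fork (.fork (.one ⟨[1,0,3,5,4,3,2,1,3], [⟨2023,[],[(0,false),(2,true)]⟩,⟨4241,[],[(5,false)]⟩,⟨2790,[(110,true),(109,false)],[(2,true),(5,false),(4,false),(3,false),(2,true),(5,false),(2,false),(4,false),(6,false)]⟩,⟨3843,[],[(4,false),(3,false),(2,true)]⟩,⟨3514,[(110,false)],[(1,false),(4,false),(1,false),(3,false),(5,false),(2,false),(4,false),(1,false),(6,false)]⟩,⟨3657,[],[]⟩,⟨3236,[(110,false)],[(0,false),(4,false),(1,false),(4,false),(5,false),(2,false),(4,false),(6,false),(4,false),(1,false),(4,false)]⟩]⟩)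
 (.one ⟨[3,2,6,4,3,5,4,3,2,1,3], [⟨1618,[(110,true),(109,false)],[(6,false),(4,false),(2,true),(5,false),(4,false),(1,false),(6,false)]⟩,⟨1818,[(110,true)],[(1,false),(4,false),(1,false),(5,false),(2,false),(6,false),(4,false),(5,false),(2,false)]⟩,⟨3247,[],[]⟩,⟨1696,[(110,true)],[(4,false),(5,false),(2,false),(4,false),(5,false),(4,false),(2,true),(5,false),(4,false),(1,false),(2,true)]⟩,⟨3102,[(110,true)],[(1,false),(4,false),(1,false),(4,false),(2,true),(5,false),(4,false),(5,false),(2,true)]⟩,⟨2254,[(110,false)],[(0,false),(2,false),(4,false),(6,false),(4,false),(1,false),(4,false),(5,false),(4,false),(5,false)]⟩,⟨1190,[(110,true)],[(0,false),(2,true),(5,false),(2,false),(4,false),(1,false),(5,false),(6,false),(4,false),(2,true)]⟩]⟩))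
 (.fork (.one ⟨[1,0,3,2,3,5,4,3,2,1,3], [⟨2525,[],[]⟩,⟨2936,[(110,true)],[(1,false),(4,false),(5,false),(2,false),(4,false),(5,false),(6,false),(4,false),(1,false)]⟩,⟨3239,[],[]⟩,⟨3557,[],[(0,false),(4,false),(6,false)]⟩,⟨2638,[(110,true)],[(2,false),(5,false),(6,false),(4,false),(1,false),(4,false),(6,false),(2,true)]⟩,⟨2509,[],[(4,false)]⟩,⟨1692,[(110,true)],[(5,false),(4,false),(6,false),(4,false),(5,false),(4,false),(5,false),(6,false)]⟩]⟩)
 (.one ⟨[], []⟩)))))
 (.fork (.fork (.fork (.fork (.one ⟨[0,2,1,5,4,3], [⟨2455,[],[(0,false)]⟩,⟨844,[(110,false)],[(5,false),(4,false),(6,false),(2,true),(5,false),(2,false),(4,false),(5,false),(4,false)]⟩,⟨3440,[(110,true)],[(3,false),(4,false),(5,false),(2,false),(6,false),(4,false),(5,false),(4,false),(6,false)]⟩,⟨927,[],[(6,false)]⟩,⟨1430,[(110,true)],[(1,false),(6,false),(2,true),(5,false),(2,false),(4,false),(5,false),(2,false),(4,false),(6,false),(4,false)]⟩,⟨2442,[(110,true)],[(5,false),(2,false),(5,false),(6,false),(4,false),(3,false),(5,false),(2,false),(5,false),(4,false)]⟩,⟨3425,[],[(3,false)]⟩]⟩)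
 (.one ⟨[2,8,5,4,3,2,1,6,4,3], [⟨872,[(110,true)],[(6,false),(4,false),(5,false),(4,false),(1,false),(4,false),(6,false),(4,false),(2,true)]⟩,⟨1024,[(110,true)],[(2,false),(4,false),(1,false),(3,false),(4,false),(5,false),(4,false),(2,true),(5,false)]⟩,⟨3268,[(110,false)],[(0,false),(1,false),(5,false),(2,false),(6,false),(4,false),(5,false),(2,false),(4,false),(5,false),(6,false)]⟩,⟨4300,[(110,true)],[(1,false),(2,false),(3,false),(6,false),(4,false),(1,false),(5,false),(4,false),(2,true)]⟩,⟨1576,[(110,true)],[(2,false),(4,false),(1,false),(6,false),(4,false),(1,false),(5,false),(4,false),(5,false),(6,false)]⟩,⟨4017,[],[(5,false)]⟩,⟨2618,[(110,false)],[(2,false),(4,false),(1,false),(4,false),(5,false),(6,false),(4,false),(1,false),(4,false),(2,true)]⟩]⟩))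
 (.fork (.one ⟨[2,8,6,4,3,2,1,5,4,3], [⟨3395,[],[(1,false),(5,false)]⟩,⟨3734,[],[(1,false),(2,false),(4,false),(3,false),(5,false),(4,false),(1,false),(4,false),(5,false)]⟩,⟨1872,[(110,true),(109,false)],[(1,false),(3,false),(4,false),(1,false),(4,false),(2,true),(5,false),(4,false),(6,false)]⟩,⟨1668,[],[(6,false),(4,false),(1,false),(5,false),(2,false),(4,false),(1,false),(6,false)]⟩,⟨2226,[(110,false)],[(1,false),(4,false),(1,false),(6,false),(4,false),(2,true),(5,false),(2,false),(4,false),(6,false)]⟩,⟨3363,[],[(4,false),(5,false)]⟩,⟨2576,[],[(5,false),(2,false),(4,false),(3,false),(5,false),(2,false),(4,false),(5,false),(2,false),(6,false)]⟩]⟩)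
 (.one ⟨(wOf 13 0x3461234523231), [⟨3717,[],[(1,false)]⟩,⟨1142,[(110,false)],[(2,false),(4,false),(1,false),(3,false),(4,false),(5,false),(6,false),(4,false),(1,false),(5,false),(2,true)]⟩,⟨3648,[(110,false)],[(2,true),(5,false),(2,false),(4,false),(1,false),(4,false),(1,false),(5,false)]⟩,⟨3647,[],[]⟩,⟨4259,[],[(1,false),(5,false),(6,false)]⟩,⟨3218,[],[(0,false),(1,false),(5,false),(2,false),(6,false),(4,false),(5,false),(2,false),(4,false)]⟩,⟨1997,[],[(5,false)]⟩]⟩)))
 (.fork (.fork (.one ⟨[4,3,7,5,4,3,2,1,3], [⟨3477,[],[(2,true),(5,false)]⟩,⟨3650,[],[(2,false),(3,false),(5,false),(4,false),(1,false),(4,false),(5,false),(2,false),(6,false)]⟩,⟨3287,[],[]⟩,⟨3152,[(110,true),(109,false)],[(4,false),(5,false),(4,false),(5,false),(6,false),(2,true)]⟩,⟨3169,[],[(4,false)]⟩,⟨3022,[],[(1,false),(4,false),(5,false),(4,false),(1,false)]⟩,⟨3465,[],[]⟩]⟩)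
 (.one ⟨(wOf 13 0x3451234623430), [⟨2001,[],[(0,false),(2,true)]⟩,⟨1772,[],[(0,false),(1,false),(2,false),(6,false),(4,false),(5,false),(4,false),(2,true),(5,false)]⟩,⟨2985,[],[(4,false),(3,false),(6,false)]⟩,⟨1600,[],[(4,false),(6,false),(4,false),(1,false),(4,false),(2,true)]⟩,⟨2688,[],[(2,false),(5,false),(2,false),(4,false),(6,false),(4,false),(5,false),(2,false),(4,false),(1,false)]⟩,⟨1931,[],[(0,false),(4,false)]⟩,⟨1819,[],[]⟩]⟩))
 (.fork (.one ⟨[0,3,6,4,3,5,4,3,2,1,3], [⟨2505,[],[(3,false),(4,false)]⟩,⟨3232,[(110,true),(109,false)],[(1,false),(6,false),(4,false),(5,false),(2,false),(4,false),(1,false),(5,false),(6,false)]⟩,⟨3778,[(110,true),(109,false)],[(2,false),(5,false),(4,false),(1,false),(5,false),(6,false),(4,false),(1,false),(4,false)]⟩,⟨3093,[],[(3,false)]⟩,⟨1596,[(110,true),(109,false)],[(4,false),(1,false),(4,false),(5,false),(2,true),(5,false),(4,false),(6,false)]⟩,⟨1078,[(110,true),(109,false)],[(2,false),(3,false),(4,false),(5,false),(4,false),(6,false),(4,false),(5,false),(4,false)]⟩,⟨1820,[(110,true),(109,false)],[(3,false),(4,false),(1,false),(2,true),(5,false),(4,false),(1,false),(4,false),(6,false),(4,false)]⟩]⟩)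
 (.one ⟨[], []⟩))))
 (.fork (.fork (.fork (.one ⟨[3,2,1,7,6,4,3], [⟨2835,[],[(1,false)]⟩,⟨3325,[],[]⟩,⟨2335,[],[]⟩,⟨1410,[(109,false)],[(0,false),(2,false),(4,false),(5,false),(2,false),(4,false),(5,false)]⟩,⟨2323,[],[(0,false),(2,true)]⟩,⟨4098,[(109,false)],[(5,false),(2,false),(4,false),(5,false),(4,false),(5,false),(6,false),(4,false),(2,true),(5,false)]⟩,⟨1378,[(109,false)],[(2,true),(5,false),(4,false),(5,false),(2,false),(5,false),(4,false),(6,false),(4,false),(5,false)]⟩]⟩)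
 (.one ⟨(wOf 13 0x3123466323010), [⟨2552,[(110,false),(109,false)],[(5,false),(2,false),(4,false),(6,false),(4,false),(5,false),(2,false)]⟩,⟨326,[(110,true)],[(1,false),(4,false),(1,false),(3,false),(4,false),(6,false),(4,false),(5,false),(2,false)]⟩,⟨2961,[],[(0,false),(4,false)]⟩,⟨1160,[],[(2,false),(5,false),(4,false),(5,false),(4,false),(6,false),(4,false),(5,false),(2,false),(4,false)]⟩,⟨2433,[],[(1,false)]⟩,⟨3808,[],[(0,false),(1,false),(6,false),(4,false),(5,false),(2,false),(4,false),(5,false),(4,false),(5,false),(2,false)]⟩,⟨1339,[],[(0,false)]⟩]⟩))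
 (.fork (.one ⟨[0,2,6,4,3,2,1,5,4,3], [⟨2585,[],[(4,false),(2,true)]⟩,⟨1554,[(110,true)],[(1,false),(2,false),(4,false),(5,false),(6,false),(4,false),(1,false),(4,false),(1,false),(6,false)]⟩,⟨4225,[],[(3,false)]⟩,⟨3087,[],[]⟩,⟨3330,[(110,true)],[(2,false),(4,false),(5,false),(2,true),(5,false),(4,false),(5,false),(4,false),(2,true),(5,false)]⟩,⟨1650,[(110,true)],[(1,false),(2,false),(3,false),(4,false),(1,false),(6,false),(4,false),(1,false),(5,false),(4,false)]⟩,⟨1268,[(110,true)],[(0,false),(2,false),(5,false),(6,false),(4,false),(1,false),(4,false),(5,false),(2,true)]⟩]⟩)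
 (.one ⟨[], []⟩)))
 (.fork (.fork (.one ⟨[2,4,3,2,1,6,4,3], [⟨3937,[],[]⟩,⟨1240,[(110,false),(109,false)],[(2,false),(6,false),(4,false),(1,false),(4,false),(1,false),(5,false),(4,false),(6,false),(4,false),(1,false)]⟩,⟨3103,[],[(3,false),(2,true)]⟩,⟨4189,[],[(3,false),(6,false)]⟩,⟨3951,[],[(5,false),(6,false)]⟩,⟨3104,[(110,false),(109,false)],[(5,false),(4,false),(5,false),(4,false),(6,false),(4,false),(2,true)]⟩,⟨1276,[(110,false),(109,false)],[(1,false),(4,false),(3,false),(5,false),(4,false)]⟩]⟩)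
 (.one ⟨(wOf 13 0x3123458342320), [⟨1957,[],[(3,false),(6,false)]⟩,⟨1972,[(110,false)],[(3,false),(4,false),(5,false),(6,false),(4,false),(1,false),(2,true),(5,false),(4,false)]⟩,⟨2126,[],[(4,false),(1,false),(2,true),(5,false),(4,false),(1,false),(5,false),(2,false),(6,false),(4,false),(5,false)]⟩,⟨2160,[(110,false)],[(0,false),(4,false),(1,false),(6,false),(2,true),(5,false),(4,false),(1,false),(6,false),(4,false),(5,false)]⟩,⟨3538,[],[(0,false),(6,false),(4,false),(2,true),(5,false),(4,false)]⟩,⟨3349,[],[(3,false),(6,false),(2,true)]⟩,⟨1604,[(110,false)],[(2,true),(5,false),(4,false),(1,false),(4,false),(5,false),(6,false),(4,false)]⟩]⟩))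
 (.fork (.one ⟨[0,2,4,6,4,3,2,1,6,4,3], [⟨3320,[],[(1,false),(2,false),(4,false),(1,false),(3,false),(4,false),(6,false),(4,false),(5,false),(4,false)]⟩,⟨2896,[],[(1,false),(4,false),(6,false),(2,true),(5,false),(2,false),(4,false),(5,false),(4,false)]⟩,⟨2402,[(110,false),(109,false)],[(0,false),(1,false),(4,false),(2,true),(5,false),(4,false),(1,false),(6,false),(4,false),(5,false),(2,false)]⟩,⟨2385,[],[]⟩,⟨3176,[(110,false),(109,false)],[(1,false),(4,false),(6,false),(4,false),(1,false),(4,false),(1,false),(6,false),(4,false),(5,false),(2,true)]⟩,⟨2460,[(110,false),(109,false)],[(6,false),(4,false),(3,false),(2,true),(5,false),(2,false),(4,false),(5,false),(4,false)]⟩,⟨2651,[],[(3,false)]⟩]⟩)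
 (.one ⟨[], []⟩)))))))

/-- a part of the orbits of state 5 -/
noncomputable def twRoots5T3 : BT TRoot := (.fork (.fork (.fork (.fork (.fork (.fork (.one ⟨[1], [⟨3249,[],[(2,true)]⟩,⟨3188,[(109,false)],[(4,false),(3,false),(6,false),(2,true),(5,false),(4,false),(1,false),(4,false),(2,true)]⟩,⟨3360,[],[(0,false),(1,false),(5,false),(4,false),(6,false),(4,false),(5,false),(2,false),(4,false)]⟩,⟨1531,[],[(3,false)]⟩,⟨1690,[(110,true)],[(3,false),(4,false),(5,false),(4,false),(5,false),(2,false),(6,false),(4,false),(5,false),(2,true)]⟩,⟨3759,[],[(3,false),(2,true)]⟩,⟨2889,[],[(3,false)]⟩]⟩)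
 (.one ⟨[3,2,3,2,4,3,6,4,3,2,1,3], [⟨1714,[(110,false),(109,false)],[(0,false),(1,false),(4,false),(2,true),(5,false),(2,false),(4,false),(5,false),(4,false),(1,false)]⟩,⟨3442,[(110,false)],[(5,false),(2,false),(5,false),(4,false),(1,false),(3,false),(4,false),(5,false),(2,false)]⟩,⟨4140,[(110,false),(109,false)],[(2,false),(5,false),(4,false),(2,true),(5,false),(2,false),(4,false),(1,false),(4,false)]⟩,⟨3111,[],[(1,false),(2,true)]⟩,⟨1274,[(110,false)],[(4,false),(1,false),(4,false),(5,false),(6,false),(4,false),(1,false),(4,false),(1,false),(6,false),(2,true)]⟩,⟨1894,[(110,false),(109,false)],[(1,false),(2,false),(4,false),(1,false),(6,false),(4,false),(5,false),(2,false),(4,false),(6,false)]⟩,⟨1408,[(110,false),(109,false)],[(1,false),(3,false),(5,false),(4,false),(6,false),(4,false),(1,false),(5,false),(4,false),(1,false)]⟩]⟩))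
 (.fork (.one ⟨[2,1,0,3,2,1,6,4,3], [⟨3595,[],[(1,false)]⟩,⟨2480,[],[(1,false),(4,false),(3,false),(6,false),(4,false),(2,true),(5,false),(4,false),(1,false),(4,false),(6,false)]⟩,⟨558,[],[(0,false),(6,false),(2,true),(5,false),(4,false),(1,false),(6,false),(4,false),(5,false)]⟩,⟨384,[],[(3,false),(5,false),(4,false),(5,false),(4,false),(1,false),(4,false),(2,true)]⟩,⟨356,[],[(6,false),(4,false),(1,false),(2,true),(5,false),(4,false),(5,false),(6,false),(2,true)]⟩,⟨3569,[],[(3,false)]⟩,⟨758,[],[(3,false),(4,false),(1,false),(4,false),(5,false),(2,false),(4,false),(1,false),(5,false)]⟩]⟩)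
 (.one ⟨[2,3,2,6,6,4,3,2,1,5,4,3], [⟨2584,[(109,false)],[(0,false),(1,false),(6,false),(4,false),(2,true),(5,false),(2,false),(4,false),(5,false),(2,true),(5,false)]⟩,⟨2755,[],[(0,false)]⟩,⟨3337,[],[]⟩,⟨2365,[],[(3,false),(4,false)]⟩,⟨2141,[],[(3,false),(6,false)]⟩,⟨3067,[],[]⟩,⟨1502,[(110,false)],[(3,false),(6,false),(2,true),(5,false),(4,false),(1,false),(5,false),(4,false),(6,false)]⟩]⟩)))
 (.fork (.fork (.one ⟨[0,3,6,4,3,2,1,3], [⟨4247,[],[(4,false),(1,false),(2,true)]⟩,⟨2758,[],[(5,false),(4,false),(6,false),(4,false),(1,false),(5,false),(2,false),(4,false)]⟩,⟨1434,[],[(3,false),(4,false),(5,false),(6,false),(4,false),(2,true),(5,false),(4,false),(2,true)]⟩,⟨1038,[],[(1,false),(5,false),(6,false),(4,false),(5,false),(2,false),(5,false),(4,false),(1,false)]⟩,⟨2786,[(110,true),(109,false)],[(4,false),(3,false),(5,false),(4,false),(6,false),(4,false),(2,true)]⟩,⟨3589,[],[(0,false),(3,false),(5,false)]⟩,⟨1493,[],[(1,false)]⟩]⟩)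
 (.one ⟨[2,1,3,2,3,6,4,3,2,1,3], [⟨3407,[],[]⟩,⟨2467,[],[(1,false),(5,false)]⟩,⟨594,[],[(1,false),(6,false),(4,false),(3,false),(2,true),(5,false),(2,false),(4,false),(6,false)]⟩,⟨2831,[],[(1,false),(4,false)]⟩,⟨3632,[],[(5,false),(6,false),(2,true),(5,false),(4,false),(1,false),(3,false),(5,false),(4,false),(6,false),(2,true)]⟩,⟨1490,[(109,false)],[(0,false),(4,false),(5,false),(4,false),(1,false),(4,false),(5,false),(2,false),(4,false),(6,false)]⟩,⟨874,[],[(1,false),(2,true),(5,false),(4,false),(1,false),(4,false),(5,false),(2,false),(4,false)]⟩]⟩))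
 (.fork (.one ⟨[0,4,3,7,6,4,3,2,1,3], [⟨2650,[(110,false),(109,false)],[(0,false),(5,false),(4,false),(1,false),(6,false),(4,false),(2,true)]⟩,⟨2057,[],[(4,false),(3,false)]⟩,⟨2114,[(110,false),(109,false)],[(1,false),(3,false),(4,false),(5,false),(4,false),(1,false),(4,false),(2,true)]⟩,⟨1948,[(110,true),(109,false)],[(6,false),(4,false),(3,false),(2,true),(5,false),(2,false),(4,false),(5,false),(2,false)]⟩,⟨4001,[],[(4,false)]⟩,⟨3208,[],[(0,false),(4,false),(5,false),(4,false),(6,false),(2,true),(5,false),(4,false)]⟩,⟨3163,[],[(0,false),(3,false),(6,false)]⟩]⟩)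
 (.one ⟨[], []⟩))))
 (.fork (.fork (.fork (.one ⟨[0,1,5,5,4,3], [⟨3384,[(110,false),(109,false)],[(2,true),(5,false),(2,false),(4,false),(1,false),(3,false),(5,false),(6,false),(4,false)]⟩,⟨2843,[],[(0,false),(5,false)]⟩,⟨2791,[],[(0,false),(6,false)]⟩,⟨1328,[(109,false)],[(4,false),(1,false),(4,false),(1,false),(5,false),(4,false),(6,false),(2,true),(5,false),(4,false)]⟩,⟨3275,[],[]⟩,⟨3674,[],[(0,false),(4,false),(5,false),(2,false),(4,false),(1,false),(4,false),(5,false),(6,false),(2,true)]⟩,⟨2386,[(110,false),(109,false)],[(1,false),(2,false),(3,false),(5,false),(4,false),(5,false),(6,false),(2,true),(5,false),(4,false)]⟩]⟩)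
 (.one ⟨[2,7,5,4,3,2,1,6,4,3], [⟨3653,[],[(4,false)]⟩,⟨1687,[],[]⟩,⟨2635,[],[]⟩,⟨2512,[],[(5,false),(4,false),(2,true),(5,false),(2,false),(4,false),(1,false),(6,false)]⟩,⟨3566,[],[(4,false),(3,false),(5,false),(2,false),(6,false),(4,false),(1,false),(5,false),(4,false)]⟩,⟨3556,[],[(5,false),(4,false),(3,false),(5,false),(6,false),(4,false)]⟩,⟨3348,[(110,false),(109,false)],[(1,false),(4,false),(1,false),(5,false),(6,false),(4,false),(1,false),(4,false),(5,false),(6,false)]⟩]⟩))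
 (.fork (.one ⟨[2,1,0,3,2,1,5,4,3], [⟨304,[],[(2,false),(6,false),(4,false),(5,false),(4,false),(5,false),(2,true),(5,false),(4,false),(6,false)]⟩,⟨2283,[],[(0,false)]⟩,⟨242,[],[(0,false),(4,false),(5,false),(4,false),(1,false),(4,false),(2,true),(5,false),(2,true)]⟩,⟨313,[],[(1,false)]⟩,⟨1181,[],[(1,false)]⟩,⟨250,[],[(3,false),(4,false),(1,false),(4,false),(5,false),(2,false),(5,false),(4,false),(5,false),(2,true)]⟩,⟨248,[],[(5,false),(2,false),(4,false),(1,false),(4,false),(5,false),(2,true),(5,false)]⟩]⟩)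
 (.one ⟨(wOf 13 0x3123453234510), [⟨2132,[(110,false)],[(0,false),(2,false),(4,false),(5,false),(4,false),(1,false),(4,false),(5,false),(6,false)]⟩,⟨412,[],[(1,false),(5,false),(4,false),(6,false),(4,false),(1,false),(4,false),(1,false),(5,false),(6,false),(4,false)]⟩,⟨1952,[],[(1,false),(2,false),(6,false),(4,false),(1,false),(4,false),(5,false),(4,false),(5,false),(2,true)]⟩,⟨923,[],[(0,false)]⟩,⟨3447,[],[(0,false),(6,false),(4,false)]⟩,⟨1096,[],[(1,false),(4,false),(5,false),(6,false),(4,false),(5,false),(4,false),(6,false)]⟩,⟨1662,[],[(2,false),(5,false),(2,false),(6,false),(4,false),(5,false),(2,false),(4,false),(5,false),(6,false)]⟩]⟩)))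
 (.fork (.fork (.one ⟨[0,3,5,5,4,3,2,1,3], [⟨3289,[],[(5,false)]⟩,⟨1458,[(110,true),(109,false)],[(5,false),(2,false),(4,false),(1,false),(3,false),(5,false),(4,false),(6,false),(2,true)]⟩,⟨3688,[],[(5,false),(4,false),(1,false),(6,false),(4,false),(1,false),(4,false),(5,false)]⟩,⟨2516,[(110,true),(109,false)],[(0,false),(4,false),(1,false),(2,true),(5,false),(4,false),(5,false),(2,false),(5,false),(4,false)]⟩,⟨3791,[],[(4,false),(5,false)]⟩,⟨2995,[],[]⟩,⟨2348,[(110,false)],[(5,false),(6,false),(4,false),(1,false),(4,false),(6,false),(2,true),(5,false),(4,false)]⟩]⟩)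
 (.one ⟨(wOf 13 0x3461234623455), [⟨2178,[(109,false)],[(0,false),(1,false),(2,true),(5,false),(4,false),(1,false),(5,false),(2,false),(6,false)]⟩,⟨2393,[],[(5,false)]⟩,⟨3184,[(109,false)],[(0,false),(4,false),(1,false),(4,false),(2,true),(5,false),(2,false),(4,false),(5,false),(4,false),(6,false)]⟩,⟨3424,[(109,false)],[(1,false),(2,false),(3,false),(6,false),(4,false)]⟩,⟨796,[(110,false),(109,false)],[(1,false),(6,false),(4,false),(3,false),(2,true),(5,false),(2,false),(4,false),(5,false)]⟩,⟨1402,[(110,true),(109,false)],[(4,false),(5,false),(4,false),(5,false),(6,false),(4,false),(2,true),(5,false),(2,false)]⟩,⟨2782,[(110,true),(109,false)],[(0,false),(5,false),(4,false),(1,false),(6,false),(4,false),(1,false),(5,false),(2,false),(4,false),(6,false)]⟩]⟩))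
 (.fork (.one ⟨[0,7,5,4,3,2,1,6,4,3], [⟨1836,[(110,false),(109,false)],[(1,false),(5,false),(4,false),(3,false),(6,false),(4,false),(5,false),(2,false),(4,false),(5,false)]⟩,⟨600,[(110,true)],[(1,false),(3,false),(5,false),(4,false),(6,false),(4,false),(1,false),(5,false),(4,false),(1,false)]⟩,⟨3517,[],[]⟩,⟨636,[(110,false),(109,false)],[(4,false),(1,false),(5,false),(6,false),(4,false),(5,false),(2,false),(4,false),(1,false)]⟩,⟨1943,[],[(0,false),(3,false)]⟩,⟨1835,[],[(3,false)]⟩,⟨3141,[],[]⟩]⟩)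
 (.one ⟨[], []⟩)))))
 (.fork (.fork (.fork (.fork (.one ⟨[5,5,4,3], [⟨650,[(110,true)],[(1,false),(3,false),(4,false),(1,false),(2,true),(5,false)]⟩,⟨2284,[(110,false)],[(6,false),(2,true),(5,false),(4,false),(1,false),(4,false),(5,false),(6,false),(2,true),(5,false)]⟩,⟨2822,[],[(2,false),(5,false),(6,false),(4,false),(5,false),(2,false),(4,false),(5,false),(4,false),(1,false)]⟩,⟨510,[],[(6,false),(4,false),(1,false),(4,false),(1,false),(5,false),(6,false)]⟩,⟨764,[],[(1,false),(2,false),(5,false)]⟩,⟨892,[],[(1,false),(4,false),(5,false),(2,false),(5,false),(6,false),(4,false),(1,false),(5,false),(4,false),(1,false)]⟩,⟨1536,[(110,false)],[(1,false),(4,false),(3,false),(6,false),(2,true),(5,false),(2,false),(4,false),(1,false)]⟩]⟩)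
 (.one ⟨[2,4,6,4,3,2,1,6,4,3], [⟨2930,[],[(6,false),(4,false),(3,false),(5,false),(4,false),(2,true),(5,false),(2,false),(4,false)]⟩,⟨1492,[],[(0,false),(2,false),(4,false),(6,false),(4,false),(5,false),(4,false),(1,false),(5,false),(2,false),(4,false)]⟩,⟨3070,[],[(0,false),(4,false),(5,false),(2,false),(5,false),(4,false),(6,false),(4,false)]⟩,⟨2053,[],[]⟩,⟨2026,[],[(3,false),(6,false),(4,false),(2,true),(5,false),(4,false),(6,false),(2,true),(5,false),(2,false)]⟩,⟨2300,[],[(2,false),(4,false),(3,false),(5,false),(4,false),(2,true),(5,false),(4,false),(1,false),(6,false)]⟩,⟨4088,[],[(2,false),(4,false),(5,false),(2,false),(4,false),(5,false),(6,false),(2,true)]⟩]⟩))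
 (.fork (.one ⟨[1,0,4,3,2,1,8,5,4,3], [⟨579,[],[(2,true)]⟩,⟨3054,[],[(0,false),(6,false),(2,true),(5,false),(2,false),(4,false),(1,false)]⟩,⟨1475,[],[]⟩,⟨744,[],[(1,false),(4,false),(6,false),(2,true),(5,false),(4,false),(1,false),(4,false),(1,false),(5,false),(6,false)]⟩,⟨1912,[],[(3,false),(4,false),(1,false),(4,false),(5,false),(4,false),(5,false),(6,false),(2,true),(5,false)]⟩,⟨3997,[],[(0,false),(1,false)]⟩,⟨776,[],[(0,false),(2,false),(4,false),(1,false),(5,false),(6,false),(4,false),(1,false),(5,false),(4,false)]⟩]⟩)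
 (.one ⟨(wOf 13 0x3461234572346), [⟨3869,[],[(0,false)]⟩,⟨1869,[],[]⟩,⟨3305,[],[(0,false),(4,false),(5,false)]⟩,⟨2362,[(110,true),(109,false)],[(0,false),(6,false),(4,false),(1,false),(4,false),(6,false),(2,true),(5,false),(2,true)]⟩,⟨3254,[(110,true),(109,false)],[(2,true),(5,false),(4,false),(1,false),(4,false),(5,false)]⟩,⟨3308,[(110,true),(109,false)],[(1,false),(3,false),(2,true),(5,false),(4,false),(1,false),(5,false),(4,false),(6,false),(4,false),(2,true)]⟩,⟨2944,[],[(2,true),(5,false),(4,false),(6,false),(2,true),(5,false),(4,false),(2,true),(5,false),(4,false)]⟩]⟩)))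
 (.fork (.fork (.one ⟨[4,3,2,1,7,5,4,3], [⟨3483,[],[(2,true)]⟩,⟨674,[(110,true)],[(5,false),(4,false),(1,false),(5,false),(6,false),(4,false)]⟩,⟨2468,[(110,true)],[(0,false),(4,false),(1,false),(4,false),(5,false),(4,false),(6,false),(4,false),(1,false),(5,false),(2,false)]⟩,⟨2260,[],[(1,false),(4,false),(6,false),(2,true),(5,false),(4,false),(1,false),(5,false),(6,false)]⟩,⟨2115,[],[]⟩,⟨3185,[],[(4,false),(6,false)]⟩,⟨1236,[(110,true)],[(1,false),(2,false),(4,false),(1,false),(4,false),(5,false),(6,false),(4,false),(2,true),(5,false)]⟩]⟩)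
 (.one ⟨[2,3,2,6,4,3,2,1,5,4,3], [⟨2202,[],[(1,false),(5,false),(4,false),(5,false),(2,false),(4,false),(5,false),(6,false),(2,true)]⟩,⟨2441,[],[(3,false)]⟩,⟨1675,[],[(5,false)]⟩,⟨3672,[(109,false)],[(5,false),(2,false),(4,false),(5,false),(4,false),(2,true),(5,false),(4,false),(6,false),(2,true)]⟩,⟨2080,[(109,false)],[(2,false),(5,false),(4,false),(1,false),(5,false),(6,false),(2,true)]⟩,⟨1200,[],[(0,false),(5,false),(6,false),(4,false),(5,false),(4,false),(6,false),(2,true),(5,false)]⟩,⟨1110,[],[(4,false),(5,false),(4,false),(6,false),(4,false),(1,false),(4,false),(1,false),(2,true),(5,false)]⟩]⟩))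
 (.fork (.one ⟨[2,1,0,4,3,6,4,3,2,1,3], [⟨1809,[],[(3,false)]⟩,⟨804,[(110,false)],[(1,false),(3,false),(2,true),(5,false),(4,false),(5,false),(6,false),(4,false)]⟩,⟨1686,[],[(1,false),(4,false),(3,false),(6,false),(4,false),(5,false),(2,false),(5,false),(4,false),(1,false)]⟩,⟨1338,[],[(0,false),(1,false),(5,false),(2,false),(4,false),(6,false),(4,false),(1,false),(4,false),(1,false),(6,false)]⟩,⟨1505,[],[(6,false),(2,true)]⟩,⟨1356,[],[(4,false),(1,false),(3,false),(5,false),(4,false),(6,false),(2,true),(5,false),(4,false),(6,false)]⟩,⟨3798,[],[(4,false),(5,false),(2,false),(5,false),(4,false),(1,false),(4,false),(5,false),(2,false)]⟩]⟩)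
 (.one ⟨[], []⟩))))
 (.fork (.fork (.fork (.one ⟨[2,3,2,1,6,4,3], [⟨2743,[],[]⟩,⟨516,[],[(3,false),(5,false),(2,true),(5,false),(4,false),(5,false),(4,false),(1,false),(4,false)]⟩,⟨504,[],[(1,false),(2,false),(4,false),(1,false),(3,false),(5,false),(4,false),(5,false),(6,false),(4,false),(1,false)]⟩,⟨572,[],[(2,false),(5,false),(4,false),(6,false),(2,true),(5,false),(4,false),(1,false),(6,false)]⟩,⟨1833,[],[]⟩,⟨1808,[],[(3,false),(5,false),(4,false),(5,false),(4,false),(1,false),(6,false),(4,false)]⟩,⟨2674,[],[(1,false),(4,false),(1,false),(4,false),(6,false),(4,false),(2,true),(5,false),(2,false),(4,false)]⟩]⟩)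
 (.one ⟨[3,4,3,2,3,5,4,3,2,1,3], [⟨2196,[],[(5,false),(2,false),(4,false),(3,false),(5,false),(4,false),(1,false),(4,false)]⟩,⟨3498,[],[(1,false),(4,false),(1,false),(5,false),(2,false),(4,false),(5,false),(4,false),(1,false),(2,true),(5,false),(4,false)]⟩,⟨2086,[],[(6,false),(4,false),(1,false),(4,false),(1,false),(5,false),(2,false),(6,false),(4,false),(1,false),(4,false)]⟩,⟨2096,[],[(6,false),(4,false),(1,false),(3,false),(5,false),(4,false),(1,false),(6,false),(4,false)]⟩,⟨3746,[],[(5,false),(2,false),(4,false),(1,false),(4,false),(5,false),(4,false),(1,false),(4,false),(2,true)]⟩,⟨1898,[],[(1,false),(4,false),(1,false),(4,false),(5,false),(4,false),(6,false),(2,true),(5,false),(2,false)]⟩,⟨870,[],[(2,false),(5,false),(4,false),(5,false),(6,false),(4,false),(2,true),(5,false),(2,true)]⟩]⟩))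
 (.fork (.one ⟨[2,1,0,3,2,1,7,6,4,3], [⟨450,[],[(2,false),(5,false),(2,false),(4,false),(5,false),(4,false),(2,true),(5,false),(2,false),(4,false)]⟩,⟨583,[],[(6,false)]⟩,⟨438,[],[(2,false),(3,false),(4,false),(1,false),(4,false),(5,false),(4,false),(1,false),(4,false)]⟩,⟨310,[],[(1,false),(2,false),(5,false),(4,false),(5,false),(2,false)]⟩,⟨416,[],[(0,false),(6,false),(4,false),(1,false),(4,false),(2,true),(5,false),(4,false),(1,false),(6,false)]⟩,⟨316,[],[(3,false),(4,false),(1,false),(5,false),(2,false),(4,false),(5,false),(2,true),(5,false),(4,false),(1,false)]⟩,⟨1961,[],[(0,false),(2,true),(5,false)]⟩]⟩)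
 (.one ⟨[], []⟩)))
 (.fork (.fork (.one ⟨[0,2,3,5,4,3,2,1,3], [⟨2128,[],[(0,false),(2,false),(5,false),(2,false),(4,false),(5,false),(6,false),(4,false),(5,false),(2,true),(5,false)]⟩,⟨2577,[],[(2,true)]⟩,⟨1588,[(109,false)],[(0,false),(1,false),(5,false),(4,false),(5,false),(2,false),(6,false),(4,false),(5,false),(2,false)]⟩,⟨2205,[],[(1,false),(5,false)]⟩,⟨3118,[],[(1,false),(3,false),(4,false),(6,false),(2,true),(5,false),(2,false),(4,false),(5,false),(2,true)]⟩,⟨1169,[],[(6,false)]⟩,⟨1695,[],[]⟩]⟩)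
 (.one ⟨(wOf 13 0x3123453464230), [⟨3437,[],[(5,false),(2,true)]⟩,⟨3490,[(109,false)],[(1,false),(5,false),(6,false),(4,false),(1,false),(5,false),(2,true)]⟩,⟨2918,[(109,false)],[(1,false),(2,false),(3,false),(4,false),(5,false),(2,false),(4,false),(5,false)]⟩,⟨1667,[],[(4,false)]⟩,⟨3044,[],[(3,false),(5,false),(4,false),(5,false),(4,false),(6,false),(4,false)]⟩,⟨3266,[(110,true)],[(5,false),(2,false),(4,false),(3,false),(5,false),(2,false),(6,false),(4,false),(1,false)]⟩,⟨3293,[],[(3,false)]⟩]⟩))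
 (.fork (.one ⟨[4,3,2,3,7,6,4,3,2,1,3], [⟨3148,[(110,true),(109,false)],[(1,false),(2,false),(4,false),(3,false),(5,false),(4,false),(1,false),(4,false),(5,false),(4,false)]⟩,⟨3397,[],[(2,true)]⟩,⟨2919,[],[(0,false),(1,false)]⟩,⟨3497,[],[(4,false)]⟩,⟨524,[(110,true),(109,false)],[(0,false),(4,false),(5,false),(2,false),(4,false),(1,false),(4,false),(5,false),(6,false),(2,true)]⟩,⟨2872,[(110,true),(109,false)],[(3,false),(2,true),(5,false),(4,false),(1,false),(4,false),(6,false),(2,true),(5,false)]⟩,⟨774,[(110,true),(109,false)],[(4,false),(2,true),(5,false),(4,false),(1,false),(4,false),(5,false),(4,false)]⟩]⟩)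
 (.one ⟨[], []⟩))))))
 (.fork (.fork (.fork (.fork (.fork (.one ⟨[6,4,3], [⟨684,[],[(3,false),(4,false),(2,true),(5,false),(4,false),(1,false),(4,false),(6,false)]⟩,⟨3570,[],[(0,false),(5,false),(2,false),(4,false),(6,false),(4,false),(5,false),(4,false),(6,false),(2,true)]⟩,⟨692,[],[(4,false),(5,false),(4,false),(2,true),(5,false),(2,false),(4,false),(5,false),(4,false),(5,false)]⟩,⟨644,[],[(0,false),(4,false),(5,false),(4,false),(6,false),(4,false),(1,false),(5,false),(4,false),(6,false),(2,true)]⟩,⟨575,[],[(0,false),(2,true),(5,false)]⟩,⟨586,[],[(6,false),(2,true),(5,false),(4,false),(1,false),(4,false),(1,false),(5,false),(6,false),(2,true)]⟩,⟨1518,[],[(0,false),(2,false),(5,false),(6,false),(4,false),(1,false),(5,false),(4,false),(6,false),(2,true),(5,false)]⟩]⟩)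
 (.one ⟨[3,2,5,4,3,6,4,3,2,1,3], [⟨1807,[],[(3,false),(2,true)]⟩,⟨2321,[],[(3,false)]⟩,⟨3177,[],[]⟩,⟨1642,[(110,true),(109,false)],[(0,false),(5,false),(6,false),(4,false),(5,false),(2,false),(5,false),(4,false),(5,false),(6,false)]⟩,⟨3367,[],[(5,false),(4,false)]⟩,⟨812,[(110,false)],[(1,false),(6,false),(4,false),(1,false),(4,false),(5,false),(6,false),(2,true),(5,false)]⟩,⟨3280,[(110,true),(109,false)],[(1,false),(2,false),(5,false),(4,false),(5,false),(2,false),(5,false),(6,false),(4,false),(5,false),(2,true)]⟩]⟩))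
 (.fork (.one ⟨[0,2,6,4,3,2,1,7,6,4,3], [⟨1821,[],[(2,true)]⟩,⟨1624,[(110,true)],[(4,false),(5,false),(6,false),(4,false),(1,false),(4,false),(2,true),(5,false),(4,false),(2,true)]⟩,⟨1368,[],[(4,false),(5,false),(2,false),(5,false),(6,false),(4,false),(5,false),(4,false)]⟩,⟨3376,[],[(3,false),(4,false),(5,false),(2,false),(4,false),(1,false),(4,false),(1,false),(6,false),(4,false)]⟩,⟨1966,[(110,true)],[(5,false),(6,false),(4,false),(5,false),(4,false),(2,true),(5,false),(2,false),(4,false)]⟩,⟨1850,[],[(2,true),(5,false),(4,false),(2,true),(5,false),(4,false),(1,false),(6,false),(2,true),(5,false)]⟩,⟨1674,[],[(4,false),(3,false),(5,false),(4,false),(1,false),(4,false),(5,false),(4,false),(6,false)]⟩]⟩)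
 (.one ⟨(wOf 14 0x31234534623234), [⟨2661,[],[(3,false),(6,false)]⟩,⟨1004,[],[(4,false),(1,false),(4,false),(2,true),(5,false),(4,false),(6,false),(2,true)]⟩,⟨2358,[],[(0,false),(5,false),(2,false),(4,false),(6,false),(4,false),(5,false),(4,false),(5,false),(2,true)]⟩,⟨2951,[],[(1,false)]⟩,⟨3105,[],[]⟩,⟨1162,[(110,false)],[(0,false),(4,false),(6,false),(4,false),(5,false),(2,false),(4,false),(5,false)]⟩,⟨1770,[],[(4,false),(6,false),(4,false),(1,false),(4,false),(6,false)]⟩]⟩)))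
 (.fork (.fork (.one ⟨[0,2,4,3,2,1,7,5,4,3], [⟨3212,[(110,true)],[(2,false),(5,false),(2,false),(4,false),(3,false),(6,false),(4,false),(5,false),(2,true),(5,false)]⟩,⟨3800,[],[(2,false),(4,false),(3,false),(5,false),(6,false)]⟩,⟨3031,[],[(1,false),(3,false),(2,true)]⟩,⟨1939,[],[(3,false),(2,true)]⟩,⟨3979,[],[]⟩,⟨1928,[(110,false),(109,false)],[(5,false),(6,false),(4,false),(1,false),(2,true),(5,false),(4,false),(5,false),(4,false)]⟩,⟨3549,[],[(6,false),(2,true)]⟩]⟩)
 (.one ⟨[3,2,5,4,3,2,1,8,5,4,3], [⟨3613,[],[(4,false),(5,false)]⟩,⟨2642,[],[(2,false),(4,false),(5,false),(6,false),(2,true),(5,false),(4,false),(1,false),(4,false),(6,false)]⟩,⟨2888,[],[(0,false),(2,true),(5,false),(4,false),(1,false),(5,false),(6,false),(4,false),(2,true)]⟩,⟨2523,[],[(0,false),(2,false)]⟩,⟨2722,[],[(0,false),(6,false),(2,true),(5,false),(4,false),(1,false),(5,false),(2,false),(6,false),(4,false)]⟩,⟨3286,[(110,true)],[(0,false),(6,false),(2,true),(5,false),(4,false),(1,false),(5,false),(6,false)]⟩,⟨2783,[],[(0,false),(4,false),(5,false)]⟩]⟩))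
 (.fork (.one ⟨[2,1,0,3,6,4,3,2,1,3], [⟨3387,[],[(4,false),(5,false),(6,false)]⟩,⟨1800,[(110,false)],[(2,false),(5,false),(2,false),(4,false),(3,false),(5,false),(2,false),(4,false),(1,false),(4,false)]⟩,⟨1234,[(110,true),(109,false)],[(3,false),(5,false),(4,false),(2,true),(5,false),(2,false),(4,false),(5,false),(4,false),(1,false)]⟩,⟨3765,[],[(0,false),(1,false)]⟩,⟨1574,[],[(1,false),(4,false),(2,true),(5,false),(4,false),(1,false),(4,false),(2,true),(5,false)]⟩,⟨502,[],[(2,true),(5,false),(2,false),(4,false),(1,false),(5,false),(4,false)]⟩,⟨2029,[],[(6,false)]⟩]⟩)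
 (.one ⟨[], []⟩))))
 (.fork (.fork (.fork (.one ⟨[3,2,1,5,4,3], [⟨2532,[],[(0,false),(2,false),(4,false),(1,false),(5,false),(6,false),(4,false),(5,false),(4,false),(1,false)]⟩,⟨2129,[],[(0,false),(3,false)]⟩,⟨1325,[],[(2,true)]⟩,⟨1151,[],[(3,false),(5,false)]⟩,⟨3476,[(109,false)],[(1,false),(2,false),(5,false),(4,false),(3,false),(6,false),(4,false),(5,false),(2,false),(4,false)]⟩,⟨2510,[(109,false)],[(0,false),(1,false),(5,false),(4,false),(6,false),(2,true),(5,false),(4,false),(1,false),(4,false)]⟩,⟨2316,[],[(0,false),(1,false),(6,false),(2,true),(5,false),(4,false),(5,false),(4,false),(6,false)]⟩]⟩)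
 (.one ⟨[3,2,4,3,8,6,4,3,2,1,3], [⟨3401,[],[(5,false)]⟩,⟨514,[],[(1,false),(4,false),(1,false),(3,false),(4,false),(6,false),(4,false),(2,true),(5,false),(2,false)]⟩,⟨2490,[],[(4,false),(1,false),(4,false),(5,false),(4,false),(5,false),(6,false),(4,false),(2,true)]⟩,⟨974,[],[(5,false),(2,false),(4,false),(3,false),(5,false),(2,false),(4,false),(5,false),(4,false)]⟩,⟨925,[],[(0,false)]⟩,⟨3402,[],[(0,false),(1,false),(5,false),(2,false),(4,false),(6,false),(4,false),(5,false),(4,false),(1,false)]⟩,⟨1699,[],[]⟩]⟩))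
 (.fork (.one ⟨[6,4,3,2,1,5,4,3], [⟨1842,[(109,false)],[(2,false),(5,false),(2,false),(6,false),(4,false),(1,false),(3,false),(4,false),(5,false),(2,false)]⟩,⟨2636,[],[(6,false),(4,false),(3,false),(2,true),(5,false),(4,false),(1,false),(6,false),(2,true)]⟩,⟨3815,[],[(3,false)]⟩,⟨3446,[],[(1,false),(3,false),(4,false),(5,false),(4,false),(2,true),(5,false),(4,false),(6,false)]⟩,⟨2473,[],[(2,true)]⟩,⟨3347,[],[(1,false),(4,false)]⟩,⟨2153,[],[]⟩]⟩)
 (.one ⟨[], []⟩)))
 (.fork (.fork (.one ⟨[0,4,3,2,1,5,4,3], [⟨700,[(110,false),(109,false)],[(0,false),(2,false),(5,false),(4,false),(6,false),(4,false),(1,false),(4,false)]⟩,⟨648,[],[(2,false),(4,false),(6,false),(4,false),(5,false)]⟩,⟨3139,[],[(0,false)]⟩,⟨1669,[],[]⟩,⟨2745,[],[(0,false),(1,false),(5,false)]⟩,⟨2557,[],[(4,false),(5,false)]⟩,⟨3568,[],[(2,false),(4,false),(1,false),(3,false),(5,false),(6,false),(4,false)]⟩]⟩)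
 (.one ⟨(wOf 13 0x3123453464232), [⟨2592,[(110,true),(109,false)],[(0,false),(5,false),(4,false),(6,false),(2,true),(5,false),(2,false),(4,false),(1,false)]⟩,⟨1940,[(109,false)],[(1,false),(2,false),(5,false),(6,false),(4,false),(1,false),(4,false),(5,false),(2,false),(4,false)]⟩,⟨2384,[],[(1,false),(3,false),(4,false),(5,false),(2,false)]⟩,⟨3771,[],[(3,false)]⟩,⟨3975,[],[(0,false),(3,false),(6,false)]⟩,⟨3522,[],[(0,false),(6,false),(2,true),(5,false),(4,false),(1,false),(6,false),(4,false),(1,false),(5,false)]⟩,⟨3310,[],[(1,false),(3,false),(5,false),(2,false),(4,false),(1,false),(5,false),(6,false),(2,true)]⟩]⟩))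
 (.fork (.one ⟨[2,3,7,6,4,3,2,1,3], [⟨2206,[(109,false)],[(1,false),(4,false),(6,false),(4,false),(1,false),(4,false),(2,true),(5,false),(2,false)]⟩,⟨2653,[],[(5,false),(4,false),(3,false)]⟩,⟨2169,[],[(4,false),(2,true)]⟩,⟨2239,[],[(2,false),(4,false)]⟩,⟨3248,[],[(0,false),(1,false),(5,false),(4,false),(5,false),(2,false),(6,false),(4,false),(1,false),(4,false),(1,false)]⟩,⟨1732,[(110,false),(109,false)],[(1,false),(3,false),(2,true),(5,false),(2,false),(4,false),(5,false),(2,false),(4,false),(5,false)]⟩,⟨1098,[(109,false)],[(1,false),(4,false),(6,false),(4,false),(5,false),(2,false),(5,false),(4,false)]⟩]⟩)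
 (.one ⟨[], []⟩)))))
 (.fork (.fork (.fork (.fork (.one ⟨[2,1,6,4,3], [⟨396,[(110,true)],[(1,false),(3,false),(5,false),(2,false),(4,false),(1,false),(5,false),(4,false),(5,false),(2,true),(5,false)]⟩,⟨517,[],[]⟩,⟨1031,[],[(0,false)]⟩,⟨3643,[],[(6,false),(2,true)]⟩,⟨1332,[],[(0,false),(5,false),(6,false),(4,false),(1,false),(4,false),(6,false)]⟩,⟨1479,[],[(3,false),(2,true)]⟩,⟨2146,[],[(3,false),(4,false),(1,false),(6,false),(4,false),(1,false),(5,false),(2,false),(4,false)]⟩]⟩)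
 (.one ⟨[4,3,2,5,4,3,6,4,3,2,1,3], [⟨1520,[(109,false)],[(0,false),(1,false),(5,false),(4,false),(1,false),(6,false),(4,false),(5,false)]⟩,⟨2198,[(110,false)],[(5,false),(4,false),(5,false),(6,false),(2,true),(5,false),(4,false),(1,false)]⟩,⟨1958,[(109,false)],[(0,false),(5,false),(4,false),(1,false),(4,false),(6,false),(2,true),(5,false),(4,false),(1,false),(4,false),(1,false)]⟩,⟨1046,[(109,false)],[(1,false),(4,false),(5,false),(6,false),(4,false),(5,false)]⟩,⟨2670,[(109,false)],[(4,false),(3,false),(2,true),(5,false),(4,false),(1,false),(6,false)]⟩,⟨2942,[(110,false)],[(2,false),(5,false),(4,false),(2,true),(5,false),(4,false),(5,false),(2,false),(5,false),(6,false)]⟩,⟨1076,[(109,false)],[(0,false),(2,false),(5,false),(4,false),(1,false),(4,false),(6,false),(4,false),(1,false),(5,false)]⟩]⟩))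
 (.fork (.one ⟨[0,2,6,4,3,2,1,6,4,3], [⟨2747,[],[(1,false),(3,false)]⟩,⟨2263,[],[(2,false),(4,false)]⟩,⟨2025,[],[(5,false)]⟩,⟨2286,[],[(1,false),(4,false),(1,false),(5,false),(2,false),(6,false),(4,false),(5,false),(4,false),(5,false),(2,true)]⟩,⟨2409,[],[]⟩,⟨4015,[],[]⟩,⟨3224,[],[(0,false),(1,false),(6,false),(4,false),(1,false),(5,false),(4,false),(1,false),(4,false)]⟩]⟩)
 (.one ⟨(wOf 13 0x3461234572323), [⟨2742,[(109,false)],[(4,false),(5,false),(2,false),(4,false),(1,false),(4,false)]⟩,⟨2652,[],[(3,false),(4,false),(6,false),(4,false),(1,false),(4,false),(5,false),(2,false),(6,false),(4,false)]⟩,⟨3091,[],[]⟩,⟨1327,[],[]⟩,⟨3694,[],[(5,false),(4,false),(1,false),(3,false),(4,false),(6,false),(2,true)]⟩,⟨3494,[],[(2,true),(5,false),(4,false),(1,false),(3,false),(4,false),(6,false),(4,false),(1,false)]⟩,⟨2954,[],[(1,false),(3,false),(4,false),(6,false),(4,false),(1,false),(5,false),(4,false)]⟩]⟩)))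
 (.fork (.fork (.one ⟨[3,6,6,4,3,2,1,3], [⟨3505,[],[(3,false),(5,false),(2,true)]⟩,⟨2912,[(110,false),(109,false)],[(4,false),(2,true),(5,false),(4,false),(6,false),(2,true),(5,false),(2,true)]⟩,⟨3779,[],[]⟩,⟨2848,[(110,false),(109,false)],[(1,false),(5,false),(4,false),(5,false),(6,false),(4,false),(2,true),(5,false),(2,true)]⟩,⟨2847,[],[]⟩,⟨3660,[],[(5,false),(6,false),(2,true),(5,false),(4,false),(5,false),(4,false),(1,false)]⟩,⟨2513,[],[]⟩]⟩)
 (.one ⟨[0,3,2,4,6,4,3,2,1,5,4,3], [⟨2280,[(110,false),(109,false)],[(0,false),(2,false),(4,false),(5,false),(4,false),(1,false),(6,false)]⟩,⟨2854,[],[(0,false),(2,false),(5,false),(6,false),(4,false),(1,false),(4,false),(1,false),(5,false),(6,false),(2,true)]⟩,⟨3859,[],[(5,false),(2,true)]⟩,⟨1657,[],[(1,false),(3,false),(2,true)]⟩,⟨2103,[],[(5,false),(4,false),(1,false)]⟩,⟨1640,[(110,false),(109,false)],[(1,false),(2,false),(6,false),(4,false),(1,false),(5,false),(4,false),(5,false),(4,false)]⟩,⟨1008,[(110,true),(109,false)],[(0,false),(1,false),(5,false),(4,false),(6,false),(4,false),(1,false),(4,false),(5,false),(2,false),(6,false)]⟩]⟩))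
 (.fork (.one ⟨[0,2,3,2,4,3,6,4,3,2,1,3], [⟨3314,[],[(4,false),(1,false),(6,false),(4,false),(1,false),(4,false),(5,false),(4,false),(1,false),(2,true)]⟩,⟨2575,[],[]⟩,⟨3455,[],[]⟩,⟨3269,[],[(5,false),(4,false)]⟩,⟨3043,[],[]⟩,⟨2109,[],[(0,false)]⟩,⟨2668,[],[(6,false),(2,true),(5,false),(2,false),(4,false),(1,false),(4,false),(6,false),(4,false)]⟩]⟩)
 (.one ⟨[], []⟩))))
 (.fork (.fork (.fork (.one ⟨[0,2,3,2,1,7,5,4,3], [⟨868,[(110,false),(109,false)],[(5,false),(2,false),(6,false),(4,false),(1,false),(5,false),(4,false),(1,false)]⟩,⟨2687,[],[]⟩,⟨3231,[],[(6,false)]⟩,⟨1406,[],[(0,false),(1,false),(4,false),(5,false),(2,false),(4,false),(1,false),(6,false),(4,false),(5,false)]⟩,⟨2035,[],[(3,false),(6,false),(2,true)]⟩,⟨2310,[],[(0,false),(1,false),(5,false),(4,false),(1,false),(5,false),(6,false),(4,false),(2,true),(5,false),(2,true)]⟩,⟨2622,[(110,false),(109,false)],[(1,false),(4,false),(5,false),(6,false),(4,false),(1,false),(4,false),(1,false),(5,false),(6,false),(2,true)]⟩]⟩)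
 (.one ⟨[3,4,3,2,3,8,6,4,3,2,1,3], [⟨3580,[(110,false)],[(2,false),(4,false),(5,false),(6,false),(4,false),(5,false),(2,false)]⟩,⟨3676,[(110,false)],[(1,false),(4,false),(6,false),(2,true),(5,false),(4,false),(1,false),(5,false),(2,false),(6,false)]⟩,⟨2341,[],[(4,false)]⟩,⟨3068,[],[(1,false),(6,false),(4,false),(5,false),(4,false),(1,false),(5,false),(2,false),(6,false)]⟩,⟨3381,[],[(3,false),(4,false),(2,true)]⟩,⟨1858,[(110,false)],[(1,false),(2,true),(5,false),(4,false),(5,false),(4,false),(1,false),(2,true)]⟩,⟨3669,[],[(3,false)]⟩]⟩))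
 (.fork (.one ⟨[0,6,4,3,2,1,5,4,3], [⟨3085,[],[(0,false)]⟩,⟨3313,[],[(6,false)]⟩,⟨3733,[],[(3,false)]⟩,⟨1917,[],[]⟩,⟨3219,[],[(3,false)]⟩,⟨2917,[],[]⟩,⟨2270,[(109,false)],[(5,false),(2,false),(5,false),(4,false),(1,false),(5,false),(6,false),(4,false)]⟩]⟩)
 (.one ⟨[], []⟩)))
 (.fork (.fork (.one ⟨[4,3,5,4,3,2,1,3], [⟨484,[(110,true),(109,false)],[(3,false),(4,false),(1,false),(6,false),(4,false),(5,false),(4,false),(6,false),(2,true)]⟩,⟨2273,[],[(4,false),(5,false)]⟩,⟨2212,[(110,true),(109,false)],[(1,false),(2,false),(6,false),(4,false),(3,false),(5,false),(2,false),(4,false),(5,false),(2,false),(6,false)]⟩,⟨1386,[(110,true),(109,false)],[(1,false),(4,false),(6,false),(4,false),(5,false),(2,false),(5,false),(4,false),(1,false),(5,false)]⟩,⟨3318,[],[(5,false),(6,false),(2,true),(5,false),(4,false),(1,false),(5,false),(4,false),(1,false),(6,false)]⟩,⟨3053,[],[]⟩,⟨4136,[(110,true)],[(5,false),(4,false),(2,true),(5,false),(4,false),(2,true),(5,false),(2,true)]⟩]⟩)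
 (.one ⟨(wOf 13 0x3123458345230), [⟨4269,[],[]⟩,⟨2566,[],[(1,false),(6,false),(4,false),(5,false),(4,false),(1,false),(6,false),(4,false)]⟩,⟨3545,[],[(5,false)]⟩,⟨2812,[],[(4,false),(1,false),(4,false),(6,false),(2,true),(5,false),(4,false),(1,false),(4,false),(6,false)]⟩,⟨2519,[],[(3,false)]⟩,⟨1679,[],[]⟩,⟨3695,[],[(0,false),(2,true),(5,false)]⟩]⟩))
 (.fork (.one ⟨[0,3,4,3,2,3,6,4,3,2,1,3], [⟨3073,[],[(3,false),(5,false)]⟩,⟨2727,[],[(5,false)]⟩,⟨464,[(110,true)],[(0,false),(4,false),(1,false),(5,false),(2,false),(4,false),(5,false),(6,false),(2,true)]⟩,⟨626,[(110,true)],[(1,false),(2,false),(4,false),(1,false),(6,false),(4,false),(1,false),(5,false)]⟩,⟨2450,[(110,false)],[(0,false),(4,false),(5,false),(4,false),(1,false),(2,true)]⟩,⟨924,[(110,true)],[(0,false),(1,false),(4,false),(6,false)]⟩,⟨2603,[],[(4,false)]⟩]⟩)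
 (.one ⟨[], []⟩)))))))

/-- a part of the orbits of state 5 -/
noncomputable def twRoots5T4 : BT TRoot := (.fork (.fork (.fork (.fork (.fork (.fork (.one ⟨[0,1,3], [⟨127,[(110,true)],[(3,false)]⟩,⟨1147,[],[(6,false)]⟩,⟨3831,[],[(6,false)]⟩,⟨1112,[(110,true)],[(0,false),(4,false),(5,false),(6,false),(4,false),(5,false),(2,false),(4,false)]⟩,⟨2209,[],[(4,false)]⟩,⟨2104,[],[(1,false),(5,false),(4,false),(1,false),(3,false),(5,false),(2,false),(6,false),(4,false),(5,false)]⟩,⟨2350,[(110,true)],[(1,false),(4,false),(1,false),(5,false),(2,false),(4,false),(5,false),(4,false),(2,true),(5,false)]⟩]⟩)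
 (.one ⟨(wOf 13 0x3123463457230), [⟨3228,[(110,true),(109,false)],[(0,false),(1,false),(6,false),(4,false),(1,false),(5,false),(4,false),(5,false),(2,true),(5,false)]⟩,⟨3826,[(110,true),(109,false)],[(0,false),(6,false),(4,false),(5,false),(2,false),(4,false),(5,false),(6,false),(4,false),(2,true)]⟩,⟨1851,[],[(2,true)]⟩,⟨3075,[],[(4,false),(2,true)]⟩,⟨3711,[],[(6,false),(4,false),(5,false)]⟩,⟨1488,[(110,true),(109,false)],[(0,false),(4,false),(6,false),(2,true),(5,false),(4,false),(1,false),(4,false),(6,false)]⟩,⟨3478,[(110,true),(109,false)],[(1,false),(3,false),(5,false),(4,false),(5,false),(2,true),(5,false),(4,false),(1,false),(6,false)]⟩]⟩))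
 (.fork (.one ⟨[0,2,4,3,2,1,7,6,4,3], [⟨3491,[],[]⟩,⟨4003,[],[(0,false),(5,false),(4,false)]⟩,⟨1270,[],[(1,false),(5,false),(4,false),(1,false),(4,false),(6,false),(4,false),(2,true),(5,false),(4,false)]⟩,⟨2568,[],[(2,false),(4,false),(3,false),(5,false),(4,false),(6,false),(4,false)]⟩,⟨3385,[],[(2,true)]⟩,⟨2556,[],[(2,false),(4,false),(1,false),(3,false),(5,false),(4,false),(5,false)]⟩,⟨1734,[],[(2,false),(3,false),(4,false),(6,false),(4,false),(5,false),(2,true),(5,false)]⟩]⟩)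
 (.one ⟨(wOf 13 0x3123457342310), [⟨2844,[(110,true)],[(3,false),(5,false),(4,false),(1,false),(4,false),(6,false),(4,false),(1,false),(5,false),(4,false)]⟩,⟨3057,[],[(1,false),(4,false),(2,true)]⟩,⟨2895,[],[]⟩,⟨3302,[(110,false),(109,false)],[(0,false),(2,true),(5,false),(4,false),(5,false),(2,false),(6,false),(4,false),(5,false)]⟩,⟨2518,[(109,false)],[(5,false),(4,false),(1,false),(6,false),(4,false),(5,false)]⟩,⟨2794,[(110,false),(109,false)],[(0,false),(2,true),(5,false),(4,false),(2,true),(5,false),(4,false),(1,false),(4,false)]⟩,⟨2953,[],[]⟩]⟩)))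
 (.fork (.fork (.one ⟨[1,0,2,3,2,1,6,4,3], [⟨3045,[],[(6,false)]⟩,⟨1196,[(110,false)],[(1,false),(4,false),(1,false),(4,false),(6,false),(2,true),(5,false),(2,false)]⟩,⟨3283,[],[]⟩,⟨2156,[(110,false)],[(1,false),(5,false),(2,false),(4,false),(3,false),(5,false),(6,false),(4,false),(1,false),(2,true)]⟩,⟨1262,[(109,false)],[(1,false),(4,false),(1,false),(4,false),(5,false),(6,false),(4,false),(5,false),(4,false),(2,true)]⟩,⟨2656,[(110,false)],[(2,false),(3,false),(6,false),(4,false),(5,false),(4,false),(6,false),(2,true),(5,false),(2,false)]⟩,⟨1810,[(109,false)],[(2,true),(5,false),(2,false),(4,false),(5,false),(4,false),(6,false),(4,false),(2,true)]⟩]⟩)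
 (.one ⟨(wOf 13 0x3458123452320), [⟨2113,[],[(0,false),(3,false)]⟩,⟨3095,[],[(1,false),(3,false)]⟩,⟨2504,[(110,true),(109,false)],[(6,false),(4,false),(2,true),(5,false),(2,false),(4,false),(5,false),(2,true),(5,false)]⟩,⟨3015,[],[(4,false),(6,false),(4,false)]⟩,⟨3961,[],[(0,false),(1,false)]⟩,⟨3116,[],[(3,false),(2,true),(5,false),(2,true)]⟩,⟨2698,[],[(0,false),(4,false),(1,false),(6,false),(4,false),(1,false),(2,true),(5,false),(4,false),(5,false),(6,false)]⟩]⟩))
 (.fork (.one ⟨[2,6,6,4,3,2,1,6,4,3], [⟨1288,[(110,true),(109,false)],[(0,false),(5,false),(4,false),(5,false),(2,false),(6,false),(4,false),(5,false),(4,false),(1,false)]⟩,⟨3000,[(110,true),(109,false)],[(5,false),(2,false),(4,false),(5,false),(4,false),(1,false),(5,false),(2,true)]⟩,⟨3690,[(110,true)],[(5,false),(4,false),(2,true),(5,false),(2,false),(4,false),(5,false),(2,false),(4,false),(1,false)]⟩,⟨3109,[],[(4,false),(6,false),(2,true)]⟩,⟨2395,[],[(4,false)]⟩,⟨1746,[(110,true)],[(0,false),(1,false),(6,false),(4,false),(1,false),(5,false),(2,false),(4,false),(1,false),(5,false)]⟩,⟨3431,[],[(4,false),(5,false)]⟩]⟩)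
 (.one ⟨[], []⟩))))
 (.fork (.fork (.fork (.one ⟨[3,2,1,6,4,3], [⟨2177,[],[(3,false),(2,true)]⟩,⟨1220,[(110,true)],[(0,false),(5,false),(2,false),(4,false),(5,false),(2,true)]⟩,⟨1837,[],[(1,false),(5,false)]⟩,⟨1294,[(110,true)],[(4,false),(5,false),(2,false),(4,false),(5,false),(4,false),(1,false),(5,false),(2,true)]⟩,⟨3731,[],[(4,false),(5,false),(4,false)]⟩,⟨2074,[(110,true)],[(2,false),(4,false),(5,false),(4,false),(1,false),(5,false),(4,false),(6,false),(2,true)]⟩,⟨1486,[(109,false)],[(0,false),(2,true),(5,false),(4,false)]⟩]⟩)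
 (.one ⟨[0,2,4,3,5,4,3,2,1,3], [⟨1812,[],[(1,false),(2,false),(4,false),(1,false),(4,false)]⟩,⟨1691,[],[(1,false),(2,true)]⟩,⟨1660,[(110,false)],[(0,false),(6,false),(4,false),(1,false),(4,false),(1,false),(5,false)]⟩,⟨2820,[],[(1,false),(4,false),(5,false),(2,true),(5,false),(4,false),(5,false),(4,false),(2,true)]⟩,⟨2392,[(109,false)],[(1,false),(4,false),(6,false),(2,true),(5,false),(4,false),(5,false),(6,false),(2,true)]⟩,⟨3720,[],[(2,false),(3,false),(4,false),(1,false),(4,false),(5,false),(2,false),(4,false),(5,false),(2,false)]⟩,⟨1326,[(109,false)],[(2,false),(5,false),(4,false),(1,false),(4,false),(5,false),(2,false),(5,false),(6,false),(4,false)]⟩]⟩))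
 (.fork (.one ⟨[0,2,4,5,4,3,2,1,5,4,3], [⟨608,[(109,false)],[(4,false),(6,false),(4,false),(1,false),(2,true)]⟩,⟨3484,[],[(1,false),(2,false),(3,false),(4,false),(1,false),(4,false),(5,false),(6,false),(4,false),(5,false)]⟩,⟨2897,[],[(2,true)]⟩,⟨577,[],[(0,false),(4,false),(2,true)]⟩,⟨2678,[(109,false)],[(3,false),(6,false),(4,false),(5,false),(2,true),(5,false),(4,false),(1,false),(5,false)]⟩,⟨1180,[(109,false)],[(1,false),(3,false),(5,false),(6,false),(4,false),(2,true),(5,false),(4,false),(1,false)]⟩,⟨1489,[],[]⟩]⟩)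
 (.one ⟨(wOf 13 0x3461234523012), [⟨2771,[],[(1,false),(2,true)]⟩,⟨2551,[],[(5,false)]⟩,⟨1683,[],[]⟩,⟨2375,[],[]⟩,⟨2466,[],[(0,false),(2,false),(5,false),(4,false),(5,false),(6,false),(4,false),(1,false),(4,false)]⟩,⟨3785,[],[(3,false)]⟩,⟨2808,[],[(0,false),(1,false),(6,false),(2,true),(5,false),(2,false),(4,false),(5,false),(6,false),(2,true)]⟩]⟩)))
 (.fork (.fork (.one ⟨[0,4,3,2,1,6,4,3], [⟨1999,[],[(6,false)]⟩,⟨1384,[(110,false)],[(1,false),(5,false),(4,false),(1,false),(3,false),(5,false),(6,false),(4,false),(2,true),(5,false)]⟩,⟨1991,[],[]⟩,⟨3623,[],[(1,false),(3,false)]⟩,⟨688,[(110,false)],[(6,false),(4,false),(5,false),(2,true),(5,false),(4,false),(5,false),(6,false),(2,true),(5,false)]⟩,⟨3525,[],[(5,false),(6,false),(4,false)]⟩,⟨722,[(110,true)],[(2,false),(5,false),(4,false),(1,false),(4,false),(2,true),(5,false),(2,false)]⟩]⟩)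
 (.one ⟨[2,3,2,5,5,4,3,2,1,5,4,3], [⟨508,[],[(1,false),(4,false),(1,false),(3,false),(5,false),(4,false),(5,false),(2,false),(6,false),(4,false),(1,false)]⟩,⟨2200,[],[(0,false),(4,false),(1,false),(5,false),(4,false),(5,false),(6,false),(4,false),(1,false),(5,false),(4,false),(1,false)]⟩,⟨1876,[],[(1,false),(3,false),(5,false),(4,false),(1,false),(4,false)]⟩,⟨3197,[],[(0,false)]⟩,⟨2846,[(109,false)],[(0,false),(1,false),(5,false),(2,false),(6,false),(4,false),(1,false),(4,false),(5,false),(4,false)]⟩,⟨2807,[],[(1,false),(3,false)]⟩,⟨1159,[],[(6,false)]⟩]⟩))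
 (.fork (.one ⟨[0,3,2,5,4,3,6,4,3,2,1,3], [⟨2309,[],[(1,false)]⟩,⟨1932,[],[(1,false),(3,false),(5,false),(4,false),(1,false),(2,true),(5,false),(4,false),(5,false),(2,true)]⟩,⟨2752,[],[(1,false),(2,false),(6,false),(4,false),(1,false),(5,false),(4,false),(5,false),(2,false),(4,false)]⟩,⟨1780,[],[(0,false),(6,false),(4,false),(1,false),(4,false),(5,false),(4,false)]⟩,⟨3094,[],[(1,false),(4,false),(6,false),(4,false),(1,false),(5,false),(4,false),(2,true)]⟩,⟨1248,[],[(3,false),(4,false),(5,false),(6,false),(4,false),(1,false),(5,false),(4,false),(6,false)]⟩,⟨2318,[(109,false)],[(0,false),(4,false),(1,false),(4,false),(5,false),(2,false),(4,false),(5,false),(6,false),(2,true)]⟩]⟩)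
 (.one ⟨[], []⟩)))))
 (.fork (.fork (.fork (.fork (.one ⟨[0,3,2,1,4,3], [⟨2840,[],[(1,false),(4,false),(3,false),(2,true),(5,false),(2,false)]⟩,⟨4185,[],[(1,false),(3,false)]⟩,⟨4144,[(110,true)],[(0,false),(1,false),(2,false),(5,false),(6,false),(4,false),(5,false),(2,false)]⟩,⟨1511,[],[(4,false),(1,false),(2,true)]⟩,⟨2839,[],[(4,false)]⟩,⟨3833,[],[]⟩,⟨3677,[],[(1,false),(3,false),(2,true)]⟩]⟩)
 (.one ⟨[2,5,4,3,8,6,4,3,2,1,3], [⟨2376,[],[(1,false),(4,false),(6,false),(4,false),(1,false),(2,true),(5,false),(4,false),(5,false),(6,false)]⟩,⟨3017,[],[]⟩,⟨3807,[],[]⟩,⟨3315,[],[(3,false)]⟩,⟨564,[(110,true)],[(2,false),(3,false),(4,false),(5,false),(4,false),(1,false),(4,false),(5,false),(4,false)]⟩,⟨2015,[],[(4,false),(2,true)]⟩,⟨2845,[],[(1,false),(5,false)]⟩]⟩))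
 (.fork (.one ⟨[0,6,4,3,2,1,6,4,3], [⟨3262,[(110,false),(109,false)],[(4,false),(1,false),(4,false),(2,true),(5,false),(4,false),(2,true),(5,false),(2,true)]⟩,⟨3343,[],[]⟩,⟨1116,[(110,false),(109,false)],[(1,false),(5,false),(2,false),(6,false),(4,false),(5,false),(4,false),(5,false),(2,false),(5,false),(6,false)]⟩,⟨1184,[(110,false),(109,false)],[(2,false),(5,false),(2,false),(4,false),(1,false),(5,false),(4,false),(2,true)]⟩,⟨3590,[(110,false),(109,false)],[(1,false),(6,false),(2,true),(5,false),(4,false),(1,false),(5,false),(2,true)]⟩,⟨4199,[],[(0,false),(6,false)]⟩,⟨1350,[(110,false),(109,false)],[(3,false),(4,false),(5,false),(6,false),(4,false),(2,true),(5,false),(4,false),(6,false),(2,true)]⟩]⟩)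
 (.one ⟨(wOf 13 0x3123453230120), [⟨2075,[],[(0,false),(5,false)]⟩,⟨3593,[],[(1,false),(6,false)]⟩,⟨3594,[(109,false)],[(3,false),(5,false),(4,false),(5,false),(4,false),(1,false),(6,false),(2,true)]⟩,⟨4267,[],[]⟩,⟨1347,[],[(2,true)]⟩,⟨4106,[],[(1,false),(4,false),(1,false),(6,false),(4,false),(1,false),(5,false),(2,false),(4,false),(1,false)]⟩,⟨3336,[(109,false)],[(0,false),(5,false),(2,false),(4,false),(5,false),(4,false),(1,false),(4,false)]⟩]⟩)))
 (.fork (.fork (.one ⟨[3,5,4,3,2,1,3], [⟨2451,[],[(5,false),(2,true)]⟩,⟨2697,[],[(1,false),(2,true)]⟩,⟨3164,[],[(2,false),(3,false),(6,false),(4,false),(5,false),(4,false),(2,true)]⟩,⟨2138,[(110,true)],[(5,false),(2,false),(4,false),(5,false),(6,false),(4,false),(1,false),(4,false),(6,false)]⟩,⟨4211,[],[(0,false),(3,false)]⟩,⟨3783,[],[(6,false),(4,false)]⟩,⟨3577,[],[(4,false),(5,false),(6,false)]⟩]⟩)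
 (.one ⟨[3,2,6,6,4,3,2,1,5,4,3], [⟨2191,[],[(3,false),(6,false)]⟩,⟨1194,[],[(3,false),(4,false),(1,false),(4,false),(5,false),(6,false),(4,false),(2,true),(5,false)]⟩,⟨1845,[],[(4,false)]⟩,⟨4227,[],[]⟩,⟨1865,[],[(3,false)]⟩,⟨3048,[],[(0,false),(2,false),(6,false),(4,false),(5,false),(4,false),(6,false),(2,true),(5,false)]⟩,⟨1260,[],[(2,false),(4,false),(5,false),(4,false),(5,false),(6,false),(2,true),(5,false),(4,false),(1,false)]⟩]⟩))
 (.fork (.one ⟨[0,7,6,4,3,2,1,5,4,3], [⟨3603,[],[(4,false)]⟩,⟨2940,[(110,false)],[(0,false),(4,false),(1,false),(4,false),(5,false),(6,false),(4,false),(2,true),(5,false),(2,false)]⟩,⟨3987,[],[(0,false),(4,false)]⟩,⟨3541,[],[(6,false),(4,false),(2,true)]⟩,⟨3995,[],[(0,false),(2,true)]⟩,⟨3123,[],[(2,true)]⟩,⟨2424,[(110,true),(109,false)],[(6,false),(2,true),(5,false),(2,false),(4,false),(5,false),(4,false),(1,false),(4,false)]⟩]⟩)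
 (.one ⟨[], []⟩))))
 (.fork (.fork (.fork (.one ⟨[0,3,2,1,7,6,4,3], [⟨2194,[(110,false)],[(1,false),(3,false),(5,false),(4,false),(6,false),(2,true),(5,false),(2,false)]⟩,⟨2785,[],[(0,false),(2,true),(5,false)]⟩,⟨4072,[(110,false)],[(3,false),(4,false),(5,false),(4,false),(2,true),(5,false),(4,false),(6,false)]⟩,⟨682,[(110,false)],[(4,false),(5,false),(4,false),(6,false),(2,true),(5,false),(4,false),(2,true)]⟩,⟨3344,[(110,false)],[(2,true),(5,false),(4,false),(1,false),(3,false),(4,false),(5,false),(6,false),(4,false),(1,false)]⟩,⟨2682,[(110,false)],[(5,false),(2,false),(4,false),(1,false),(4,false),(6,false),(4,false),(5,false),(2,false)]⟩,⟨1198,[(110,false)],[(2,true),(5,false),(4,false),(1,false),(3,false),(4,false),(6,false),(4,false),(2,true)]⟩]⟩)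
 (.one ⟨[2,1,0,3,2,3,5,4,3,2,1,3], [⟨2173,[],[(0,false),(4,false)]⟩,⟨1498,[(110,false),(109,false)],[(0,false),(1,false),(2,false),(4,false),(1,false),(6,false),(4,false),(1,false),(4,false),(5,false),(4,false)]⟩,⟨467,[],[(6,false),(4,false),(2,true)]⟩,⟨1497,[],[(3,false),(6,false),(2,true)]⟩,⟨3454,[],[(4,false),(6,false),(4,false),(1,false),(5,false),(4,false),(2,true),(5,false),(4,false),(6,false)]⟩,⟨2955,[],[(3,false)]⟩,⟨718,[(110,false),(109,false)],[(1,false),(2,true),(5,false),(4,false),(1,false),(3,false)]⟩]⟩))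
 (.fork (.one ⟨[2,6,6,4,3,2,1,5,4,3], [⟨2145,[],[]⟩,⟨920,[(110,false)],[(0,false),(4,false),(5,false),(2,false),(6,false),(4,false),(5,false),(4,false),(5,false)]⟩,⟨1478,[],[(0,false),(1,false),(5,false),(4,false),(2,true),(5,false),(4,false),(1,false),(4,false),(2,true)]⟩,⟨2087,[],[(1,false),(3,false),(5,false)]⟩,⟨1548,[],[(5,false),(6,false),(4,false),(1,false),(4,false),(5,false),(2,false),(5,false),(6,false)]⟩,⟨962,[],[(4,false),(6,false),(4,false),(5,false),(4,false),(1,false),(4,false),(1,false),(6,false),(2,true)]⟩,⟨2606,[],[(1,false),(4,false),(1,false),(5,false),(4,false),(5,false),(2,false),(4,false),(5,false),(4,false),(5,false),(2,false)]⟩]⟩)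
 (.one ⟨[], []⟩)))
 (.fork (.fork (.one ⟨[0,3,2,3,6,6,4,3,2,1,3], [⟨3652,[],[(2,false),(4,false),(5,false),(6,false),(2,true),(5,false),(4,false),(5,false),(6,false),(2,true)]⟩,⟨2680,[(110,false)],[(0,false),(4,false),(2,true),(5,false),(4,false),(2,true),(5,false),(4,false),(6,false),(2,true)]⟩,⟨3259,[],[]⟩,⟨2361,[],[]⟩,⟨3752,[],[(4,false),(5,false),(2,true),(5,false),(4,false),(5,false),(4,false),(1,false),(6,false)]⟩,⟨3867,[],[(3,false),(6,false)]⟩,⟨3758,[],[(0,false),(6,false),(2,true),(5,false),(4,false),(1,false),(4,false),(1,false),(5,false),(6,false)]⟩]⟩)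
 (.one ⟨[0,3,2,5,4,3,2,1,8,6,4,3], [⟨2792,[(110,true),(109,false)],[(1,false),(3,false),(4,false),(6,false),(4,false),(5,false),(2,false),(4,false),(1,false),(4,false)]⟩,⟨2886,[(109,false)],[(3,false),(4,false),(1,false),(4,false),(5,false),(2,false),(5,false),(6,false),(4,false)]⟩,⟨2741,[],[(1,false),(3,false)]⟩,⟨3399,[],[(0,false)]⟩,⟨3301,[],[(1,false)]⟩,⟨2459,[],[(3,false),(6,false),(2,true)]⟩,⟨830,[(110,false)],[(2,false),(5,false),(2,false),(4,false),(1,false),(5,false),(6,false),(4,false),(1,false),(4,false)]⟩]⟩))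
 (.fork (.one ⟨[5,4,3,2,3,5,4,3,2,1,3], [⟨3743,[],[(6,false),(2,true)]⟩,⟨2725,[],[]⟩,⟨2150,[(110,true)],[(1,false),(4,false),(3,false),(2,true),(5,false),(4,false),(1,false),(4,false)]⟩,⟨1610,[(110,true)],[(1,false),(2,false),(5,false),(4,false),(1,false),(5,false),(6,false),(4,false),(2,true)]⟩,⟨1670,[(109,false)],[(0,false),(5,false),(4,false),(2,true),(5,false),(4,false),(1,false),(2,true),(5,false)]⟩,⟨3365,[],[(6,false),(4,false)]⟩,⟨1208,[(109,false)],[(4,false),(1,false),(4,false),(5,false),(4,false),(6,false),(4,false),(5,false)]⟩]⟩)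
 (.one ⟨[], []⟩))))))
 (.fork (.fork (.fork (.fork (.fork (.one ⟨[1,5,4,3], [⟨2662,[(110,false)],[(4,false),(2,true),(5,false),(2,false),(4,false),(1,false),(5,false),(4,false),(6,false),(4,false)]⟩,⟨1718,[(110,false)],[(0,false),(4,false),(5,false),(4,false),(2,true),(5,false),(2,false),(4,false),(5,false),(4,false),(6,false)]⟩,⟨2102,[(110,false)],[(0,false),(5,false),(2,true),(5,false),(4,false),(5,false),(2,false),(6,false),(4,false),(1,false),(5,false)]⟩,⟨2707,[],[(6,false)]⟩,⟨2595,[],[(0,false),(4,false)]⟩,⟨1978,[],[(0,false),(1,false),(4,false),(6,false),(4,false),(2,true),(5,false),(4,false),(5,false),(2,false)]⟩,⟨1798,[(110,false)],[(2,false),(5,false),(4,false),(5,false),(2,true),(5,false),(4,false),(1,false),(5,false),(4,false)]⟩]⟩)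
 (.one ⟨[1,3,2,3,6,4,3,2,1,3], [⟨3634,[],[(5,false),(6,false),(4,false),(1,false),(5,false),(4,false),(5,false),(6,false),(2,true),(5,false)]⟩,⟨2710,[(109,false)],[(1,false),(4,false),(3,false),(5,false),(4,false)]⟩,⟨3981,[],[(3,false),(2,true)]⟩,⟨3252,[(110,false),(109,false)],[(5,false),(6,false),(4,false),(1,false),(4,false),(6,false),(2,true),(5,false),(2,true)]⟩,⟨2857,[],[(5,false)]⟩,⟨2989,[],[(2,true)]⟩,⟨4056,[],[(2,false),(3,false),(5,false),(4,false),(5,false),(2,false),(4,false),(5,false),(4,false)]⟩]⟩))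
 (.fork (.one ⟨[2,6,4,3,2,1,8,6,4,3], [⟨2099,[],[(1,false)]⟩,⟨2993,[],[(6,false),(2,true)]⟩,⟨2427,[],[(1,false),(6,false)]⟩,⟨2238,[],[(2,false),(5,false),(2,false),(4,false),(5,false),(2,false),(4,false),(1,false),(5,false),(6,false)]⟩,⟨1839,[],[(0,false),(5,false),(2,true)]⟩,⟨1153,[],[]⟩,⟨1606,[(110,false)],[(1,false),(5,false),(4,false),(1,false),(5,false),(6,false),(4,false),(2,true),(5,false)]⟩]⟩)
 (.one ⟨(wOf 13 0x3123458323430), [⟨1857,[],[]⟩,⟨3006,[(110,false)],[(1,false),(6,false),(4,false),(3,false),(5,false),(2,false)]⟩,⟨2117,[],[(0,false),(1,false),(4,false)]⟩,⟨2756,[(110,true),(109,false)],[(0,false),(4,false),(1,false),(4,false),(5,false),(2,false),(4,false),(5,false),(2,false),(4,false)]⟩,⟨3470,[],[(6,false),(2,true),(5,false),(4,false),(1,false),(4,false),(5,false),(6,false),(2,true)]⟩,⟨3391,[],[]⟩,⟨3155,[],[(5,false)]⟩]⟩)))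
 (.fork (.fork (.one ⟨[2,5,4,3,6,4,3,2,1,3], [⟨3382,[],[(6,false),(2,true),(5,false),(4,false),(1,false),(3,false),(5,false),(6,false),(4,false),(1,false)]⟩,⟨3709,[],[(6,false)]⟩,⟨3156,[],[(1,false),(6,false),(2,true),(5,false),(2,false),(4,false),(5,false),(4,false),(2,true)]⟩,⟨3146,[],[(4,false),(1,false),(4,false),(5,false),(2,true),(5,false),(4,false),(1,false),(6,false)]⟩,⟨2583,[],[(3,false),(2,true)]⟩,⟨2416,[],[(1,false),(2,false),(3,false),(4,false),(5,false),(6,false),(4,false),(5,false)]⟩,⟨1708,[(110,true)],[(1,false),(2,true),(5,false),(2,false),(4,false),(1,false),(6,false),(4,false),(1,false),(4,false),(5,false)]⟩]⟩)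
 (.one ⟨[0,2,7,6,4,3,2,1,6,4,3], [⟨2863,[],[(0,false)]⟩,⟨3433,[],[(1,false),(3,false)]⟩,⟨3947,[],[(5,false)]⟩,⟨2208,[(110,false)],[(5,false),(4,false),(1,false),(5,false),(4,false),(6,false),(2,true)]⟩,⟨2801,[],[]⟩,⟨3973,[],[(3,false),(5,false)]⟩,⟨3787,[],[(0,false)]⟩]⟩))
 (.fork (.one ⟨[1,0,4,3,7,5,4,3,2,1,3], [⟨829,[],[(4,false)]⟩,⟨2517,[],[(6,false)]⟩,⟨3493,[],[(5,false)]⟩,⟨827,[],[]⟩,⟨2401,[],[(1,false)]⟩,⟨3543,[],[]⟩,⟨3276,[],[(0,false),(1,false),(5,false),(4,false),(1,false),(6,false),(4,false),(1,false),(5,false),(4,false),(5,false),(6,false)]⟩]⟩)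
 (.one ⟨[], []⟩))))
 (.fork (.fork (.fork (.one ⟨[2,3,2,1,6,6,4,3], [⟨1155,[],[]⟩,⟨1913,[],[(3,false)]⟩,⟨3583,[],[(0,false),(5,false)]⟩,⟨1156,[],[(1,false),(4,false),(5,false),(4,false),(6,false),(4,false),(2,true)]⟩,⟨3282,[],[(0,false),(5,false),(4,false),(1,false),(4,false),(6,false),(4,false),(5,false),(4,false)]⟩,⟨1634,[(110,false),(109,false)],[(2,true),(5,false),(4,false),(3,false),(5,false),(6,false),(4,false),(2,true),(5,false)]⟩,⟨1730,[(110,false),(109,false)],[(0,false),(1,false),(5,false),(4,false),(2,true),(5,false),(2,true)]⟩]⟩)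
 (.one ⟨[3,2,4,3,5,4,3,2,1,3], [⟨3386,[(110,false)],[(2,false),(4,false),(5,false),(2,false),(6,false),(4,false),(5,false),(4,false),(1,false)]⟩,⟨1128,[(110,false)],[(1,false),(5,false),(4,false),(5,false),(6,false),(4,false),(1,false),(5,false)]⟩,⟨2320,[(110,false)],[(0,false),(1,false),(5,false),(2,false),(4,false),(1,false),(6,false),(4,false),(5,false),(2,true)]⟩,⟨4229,[],[(5,false),(6,false)]⟩,⟨1171,[],[]⟩,⟨3052,[(110,false)],[(5,false),(4,false),(1,false),(4,false)]⟩,⟨1068,[(110,false),(109,false)],[(3,false),(6,false),(4,false),(2,true),(5,false),(2,false),(4,false),(1,false),(4,false)]⟩]⟩))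
 (.fork (.one ⟨[6,4,3,2,1,6,4,3], [⟨2027,[],[(0,false),(1,false),(3,false)]⟩,⟨3321,[],[(1,false),(2,true)]⟩,⟨2799,[],[(0,false),(6,false),(2,true)]⟩,⟨3263,[],[]⟩,⟨2637,[],[(0,false),(3,false)]⟩,⟨2819,[],[]⟩,⟨2130,[(110,false),(109,false)],[(5,false),(2,false),(6,false),(4,false),(5,false),(2,true),(5,false),(4,false),(1,false)]⟩]⟩)
 (.one ⟨[], []⟩)))
 (.fork (.fork (.one ⟨[0,3,4,3,5,4,3,2,1,3], [⟨2700,[],[(1,false),(4,false),(3,false),(6,false),(4,false),(1,false),(5,false),(2,false)]⟩,⟨1480,[(110,true),(109,false)],[(2,false),(5,false),(4,false),(1,false),(6,false),(4,false),(1,false),(5,false),(2,false)]⟩,⟨1092,[(110,true),(109,false)],[(2,false),(3,false),(5,false),(4,false),(6,false),(2,true),(5,false),(4,false),(1,false),(2,true),(5,false)]⟩,⟨1400,[(110,true),(109,false)],[(5,false),(6,false),(4,false),(1,false),(3,false),(5,false),(2,false),(4,false),(5,false)]⟩,⟨2605,[],[(1,false),(5,false),(6,false)]⟩,⟨2686,[(110,true),(109,false)],[(1,false),(3,false),(2,true),(5,false),(4,false),(1,false),(4,false),(5,false)]⟩,⟨1526,[(110,true),(109,false)],[(3,false),(4,false),(2,true),(5,false),(2,false),(4,false),(5,false),(4,false),(2,true),(5,false),(2,true)]⟩]⟩)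
 (.one ⟨(wOf 13 0x3123467342320), [⟨2903,[],[(6,false)]⟩,⟨2143,[],[(0,false),(5,false)]⟩,⟨4146,[],[(2,false),(5,false),(4,false),(5,false),(2,true)]⟩,⟨824,[(110,false)],[(0,false),(1,false),(6,false),(4,false),(1,false),(5,false),(4,false)]⟩,⟨1284,[],[(0,false),(2,false),(4,false),(6,false),(4,false),(1,false),(5,false),(4,false),(1,false),(6,false)]⟩,⟨1582,[(110,false)],[(3,false),(4,false),(1,false),(2,true),(5,false),(4,false),(5,false),(2,false)]⟩,⟨3088,[(110,false)],[(2,false),(5,false),(4,false),(1,false),(6,false),(4,false),(1,false),(4,false),(6,false)]⟩]⟩))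
 (.fork (.one ⟨[3,2,3,7,5,4,3,2,1,3], [⟨2061,[],[(4,false)]⟩,⟨2118,[(110,false),(109,false)],[(0,false),(1,false),(4,false),(2,true),(5,false),(2,false),(4,false),(1,false),(4,false)]⟩,⟨2092,[(110,true)],[(3,false),(5,false),(2,true),(5,false),(4,false),(5,false),(4,false),(2,true)]⟩,⟨3670,[(110,true)],[(6,false),(4,false),(1,false),(4,false),(6,false),(2,true),(5,false),(2,true)]⟩,⟨3003,[],[]⟩,⟨1501,[],[(2,true)]⟩,⟨1707,[],[(1,false),(4,false),(1,false)]⟩]⟩)
 (.one ⟨[], []⟩)))))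
 (.fork (.fork (.fork (.fork (.one ⟨[0,5,4,3,2,1,3], [⟨3426,[],[(0,false),(4,false),(1,false),(5,false),(6,false),(2,true)]⟩,⟨1446,[],[(2,true),(5,false),(4,false),(5,false),(4,false),(1,false),(2,true)]⟩,⟨3127,[],[]⟩,⟨3245,[],[]⟩,⟨3671,[],[(0,false),(5,false),(6,false)]⟩,⟨1752,[],[(2,false),(5,false),(4,false),(1,false),(6,false),(4,false),(1,false),(4,false)]⟩,⟨2379,[],[]⟩]⟩)
 (.one ⟨[7,6,4,3,2,1,5,4,3], [⟨2798,[(110,false)],[(0,false),(2,false),(5,false),(4,false),(1,false),(4,false),(2,true),(5,false),(4,false),(2,true)]⟩,⟨2548,[],[(0,false),(1,false),(6,false),(4,false),(5,false),(4,false),(6,false),(2,true),(5,false),(2,true)]⟩,⟨2282,[(110,false)],[(0,false),(6,false),(4,false),(5,false),(2,false),(5,false),(4,false),(1,false),(5,false)]⟩,⟨3625,[],[(2,true),(5,false)]⟩,⟨3168,[(110,false)],[(1,false),(2,false),(5,false),(4,false),(5,false),(6,false),(4,false),(1,false),(4,false)]⟩,⟨2932,[(110,false)],[(4,false),(2,true),(5,false),(2,false),(4,false),(1,false),(4,false),(5,false),(6,false),(4,false)]⟩,⟨2521,[],[(2,true)]⟩]⟩))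
 (.fork (.one ⟨[3,6,4,3,2,1,5,4,3], [⟨556,[(110,true),(109,false)],[(1,false),(2,false),(6,false),(4,false),(5,false),(4,false),(6,false),(2,true),(5,false),(4,false),(5,false)]⟩,⟨3823,[],[(0,false),(1,false),(5,false)]⟩,⟨1856,[(110,true),(109,false)],[(0,false),(2,false),(6,false),(4,false),(1,false),(4,false),(1,false),(6,false)]⟩,⟨2378,[(110,false),(109,false)],[(3,false),(5,false),(2,false),(4,false),(1,false),(5,false),(2,true)]⟩,⟨834,[(110,true),(109,false)],[(3,false),(4,false),(5,false),(4,false),(1,false),(2,true)]⟩,⟨2398,[(110,true),(109,false)],[(1,false),(4,false),(5,false),(2,false),(5,false),(6,false),(4,false),(5,false),(4,false),(2,true)]⟩,⟨3133,[],[(1,false),(2,true)]⟩]⟩)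
 (.one ⟨(wOf 14 0x31234532345343), [⟨1012,[(110,true)],[(4,false),(1,false),(3,false),(5,false),(2,false),(4,false),(1,false)]⟩,⟨3861,[],[(0,false),(4,false),(5,false)]⟩,⟨3441,[],[(0,false),(3,false)]⟩,⟨3374,[(110,false),(109,false)],[(4,false),(6,false),(4,false),(5,false),(2,false),(4,false),(5,false),(6,false),(2,true)]⟩,⟨1074,[(110,true)],[(5,false),(2,false),(4,false),(1,false),(3,false),(4,false),(6,false)]⟩,⟨946,[(110,false),(109,false)],[(2,false),(6,false),(4,false),(5,false),(4,false),(6,false),(2,true),(5,false),(4,false),(5,false)]⟩,⟨1058,[(110,true)],[(3,false),(4,false),(6,false),(4,false),(1,false),(5,false),(4,false),(2,true),(5,false)]⟩]⟩)))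
 (.fork (.fork (.one ⟨[0,7,6,4,3,2,1,3], [⟨2088,[],[(4,false),(3,false),(5,false),(4,false),(6,false),(4,false),(1,false),(5,false)]⟩,⟨2008,[(110,true)],[(5,false),(4,false),(1,false),(6,false),(2,true),(5,false),(4,false),(1,false),(4,false),(6,false),(4,false)]⟩,⟨1032,[],[(0,false),(1,false),(2,false),(4,false),(5,false),(2,false),(6,false)]⟩,⟨1774,[(109,false)],[(1,false),(2,false),(6,false),(4,false),(1,false),(4,false),(5,false),(4,false),(2,true)]⟩,⟨1525,[],[(1,false),(3,false)]⟩,⟨2066,[(110,true)],[(4,false),(6,false),(4,false),(5,false),(2,false),(4,false),(5,false)]⟩,⟨966,[],[(1,false),(3,false),(4,false),(6,false),(4,false),(1,false),(5,false),(2,false),(4,false)]⟩]⟩)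
 (.one ⟨[0,4,3,2,5,4,3,2,1,6,4,3], [⟨2038,[(110,false)],[(1,false),(3,false),(6,false),(4,false),(5,false),(2,false),(4,false),(1,false),(5,false)]⟩,⟨2522,[(109,false)],[(0,false),(1,false),(5,false),(6,false),(4,false),(5,false)]⟩,⟨3345,[],[]⟩,⟨3714,[(110,false)],[(0,false),(2,false),(5,false),(4,false),(2,true),(5,false),(4,false),(2,true),(5,false),(2,true)]⟩,⟨3190,[],[(5,false),(2,false),(4,false),(6,false),(4,false),(1,false),(5,false),(4,false),(6,false)]⟩,⟨2713,[],[(6,false),(4,false)]⟩,⟨3467,[],[(6,false)]⟩]⟩))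
 (.fork (.one ⟨[0,2,4,5,4,3,6,4,3,2,1,3], [⟨1322,[],[(5,false),(2,false),(4,false),(3,false),(5,false),(4,false),(6,false),(2,true),(5,false)]⟩,⟨1544,[],[(4,false),(1,false),(5,false),(6,false),(4,false),(5,false),(4,false),(1,false),(6,false),(4,false)]⟩,⟨2217,[],[(1,false),(4,false)]⟩,⟨4092,[],[(5,false),(4,false),(6,false),(2,true),(5,false),(4,false),(1,false),(6,false)]⟩,⟨2777,[],[(6,false),(4,false),(5,false)]⟩,⟨2796,[],[(0,false),(2,false),(5,false),(6,false),(4,false),(2,true),(5,false),(2,true)]⟩,⟨1088,[],[(4,false),(6,false),(2,true),(5,false),(4,false),(1,false),(4,false),(6,false),(2,true)]⟩]⟩)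
 (.one ⟨[], []⟩))))
 (.fork (.fork (.fork (.one ⟨[0,2,3,2,1,6,6,4,3], [⟨2685,[],[(5,false)]⟩,⟨2007,[],[(4,false)]⟩,⟨1572,[],[(6,false),(4,false),(3,false),(5,false),(2,false),(5,false),(4,false),(5,false)]⟩,⟨3644,[],[(1,false),(2,false),(4,false),(5,false),(6,false),(4,false),(2,true),(5,false),(4,false),(2,true)]⟩,⟨919,[],[(1,false),(4,false),(2,true)]⟩,⟨1602,[],[(2,false),(3,false),(5,false),(4,false),(1,false),(6,false),(2,true),(5,false),(4,false),(1,false)]⟩,⟨1941,[],[]⟩]⟩)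
 (.one ⟨[2,1,3,2,3,6,6,4,3,2,1,3], [⟨2627,[],[(0,false)]⟩,⟨656,[(110,true)],[(5,false),(4,false),(1,false),(5,false),(6,false),(4,false),(1,false),(5,false),(2,false)]⟩,⟨2596,[(110,true)],[(2,false),(6,false),(4,false),(1,false),(5,false),(4,false),(5,false),(2,true)]⟩,⟨1108,[(110,true)],[(0,false),(2,true),(5,false),(4,false),(2,true),(5,false),(4,false),(6,false),(2,true)]⟩,⟨2345,[],[(0,false),(3,false),(6,false)]⟩,⟨2357,[],[]⟩,⟨2444,[],[(4,false),(1,false),(4,false),(6,false),(2,true),(5,false),(4,false),(5,false)]⟩]⟩))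
 (.fork (.one ⟨[2,3,5,5,4,3,2,1,3], [⟨3637,[],[(4,false),(5,false)]⟩,⟨452,[(110,true)],[(5,false),(4,false),(2,true),(5,false),(4,false),(1,false),(2,true)]⟩,⟨3473,[],[(5,false)]⟩,⟨3687,[],[]⟩,⟨3214,[(110,true)],[(4,false),(3,false),(5,false),(2,false),(6,false),(4,false),(5,false)]⟩,⟨2695,[],[(0,false),(1,false),(5,false)]⟩,⟨2574,[(110,true)],[(2,false),(4,false),(6,false),(4,false),(1,false),(5,false),(4,false),(1,false),(5,false),(2,true)]⟩]⟩)
 (.one ⟨[], []⟩)))
 (.fork (.fork (.one ⟨[4,5,4,3,2,1,6,4,3], [⟨1552,[(109,false)],[(5,false),(2,false),(4,false),(6,false),(4,false),(5,false),(2,false),(4,false),(1,false),(5,false)]⟩,⟨1016,[(109,false)],[(6,false),(2,true),(5,false),(4,false),(1,false),(4,false),(5,false),(4,false),(1,false)]⟩,⟨778,[(109,false)],[(2,false),(5,false),(4,false),(6,false),(4,false),(1,false),(5,false),(4,false),(6,false)]⟩,⟨3304,[(109,false)],[(1,false),(6,false),(4,false),(1,false),(5,false),(4,false),(5,false),(6,false),(4,false),(5,false)]⟩,⟨2484,[(109,false)],[(2,false),(3,false),(4,false),(1,false),(4,false),(5,false),(6,false),(4,false),(2,true)]⟩,⟨3985,[],[(5,false)]⟩,⟨3191,[],[(6,false)]⟩]⟩)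
 (.one ⟨[3,4,3,2,6,4,3,2,1,5,4,3], [⟨2712,[],[(1,false),(4,false),(1,false),(5,false),(2,false),(6,false),(4,false),(5,false),(4,false),(5,false)]⟩,⟨1980,[],[(3,false),(5,false),(2,false),(4,false),(5,false),(2,false),(4,false),(5,false),(4,false)]⟩,⟨1653,[],[(5,false),(6,false)]⟩,⟨2582,[],[(4,false),(1,false),(2,true),(5,false),(4,false),(5,false),(2,true),(5,false),(4,false),(6,false)]⟩,⟨2288,[(109,false)],[(4,false),(1,false),(4,false),(1,false),(6,false),(4,false),(1,false),(5,false),(2,false),(4,false)]⟩,⟨2915,[],[(2,true)]⟩,⟨3770,[(109,false)],[(3,false),(4,false),(2,true),(5,false),(4,false),(2,true),(5,false),(2,false),(4,false),(1,false),(5,false)]⟩]⟩))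
 (.fork (.one ⟨[0,3,2,4,3,7,6,4,3,2,1,3], [⟨3122,[(109,false)],[(0,false),(2,false),(4,false),(5,false),(6,false),(4,false),(1,false),(4,false),(5,false),(6,false)]⟩,⟨3206,[(109,false)],[(1,false),(3,false),(5,false),(2,false),(4,false),(5,false),(4,false),(6,false),(2,true),(5,false),(2,true)]⟩,⟨2750,[(109,false)],[(4,false),(1,false),(2,true),(5,false),(4,false),(5,false),(6,false),(2,true)]⟩,⟨1298,[(109,false)],[(4,false),(1,false),(6,false),(4,false),(5,false),(4,false),(1,false),(5,false),(2,false)]⟩,⟨2924,[(109,false)],[(5,false),(4,false),(6,false),(4,false),(1,false),(4,false),(5,false),(6,false),(2,true)]⟩,⟨1886,[(109,false)],[(4,false),(3,false),(6,false),(4,false),(1,false),(4,false),(5,false),(2,false),(4,false),(5,false)]⟩,⟨3134,[(109,false)],[(4,false),(1,false),(6,false),(4,false),(5,false),(2,false),(5,false),(4,false)]⟩]⟩)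
 (.one ⟨[], []⟩)))))))

/-- a part of the orbits of state 5 -/
noncomputable def twRoots5T5 : BT TRoot := (.fork (.fork (.fork (.fork (.fork (.fork (.one ⟨[3], [⟨2571,[],[]⟩,⟨3615,[],[]⟩,⟨2203,[],[(4,false),(1,false)]⟩,⟨3805,[],[(0,false),(4,false),(5,false)]⟩,⟨3199,[],[(2,true)]⟩,⟨1175,[],[(2,true),(5,false),(2,true)]⟩,⟨1176,[],[(3,false),(4,false),(1,false),(5,false),(2,false),(6,false),(4,false),(1,false)]⟩]⟩)
 (.one ⟨[2,3,2,4,3,6,4,3,2,1,3], [⟨1246,[(110,false)],[(1,false),(2,false),(5,false),(4,false),(3,false),(2,true),(5,false),(4,false),(1,false),(4,false),(2,true)]⟩,⟨1334,[(110,false)],[(1,false),(4,false),(2,true),(5,false),(2,false),(4,false)]⟩,⟨2677,[],[(3,false)]⟩,⟨1586,[(110,false),(109,false)],[(6,false),(4,false),(1,false),(5,false),(4,false),(1,false),(2,true),(5,false),(4,false)]⟩,⟨1988,[(110,false)],[(2,false),(5,false),(4,false),(5,false),(2,false),(4,false)]⟩,⟨3408,[(110,false)],[(0,false),(4,false),(5,false),(2,false),(5,false),(4,false),(5,false),(2,false)]⟩,⟨2116,[(110,false)],[(1,false),(2,false),(5,false),(4,false),(1,false),(5,false),(2,false),(6,false),(4,false)]⟩]⟩))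
 (.fork (.one ⟨[1,0,3,2,1,7,6,4,3], [⟨2242,[],[(1,false),(2,false),(3,false),(4,false),(1,false),(6,false),(4,false),(5,false),(4,false),(6,false)]⟩,⟨1308,[(110,true)],[(2,false),(4,false),(3,false),(5,false),(6,false),(4,false),(5,false)]⟩,⟨1028,[],[(0,false),(5,false),(2,false),(6,false),(4,false),(5,false),(4,false),(6,false),(2,true),(5,false)]⟩,⟨1027,[],[]⟩,⟨4323,[],[(4,false)]⟩,⟨3180,[(110,true)],[(2,true),(5,false),(4,false),(3,false),(5,false),(2,true)]⟩,⟨2963,[],[]⟩]⟩)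
 (.one ⟨[1,3,2,6,4,3,2,1,7,6,4,3], [⟨2419,[],[(0,false),(2,true),(5,false)]⟩,⟨3845,[],[]⟩,⟨3680,[(110,true),(109,false)],[(0,false),(1,false),(4,false),(6,false),(4,false),(2,true),(5,false),(4,false),(1,false),(4,false),(1,false)]⟩,⟨1866,[(110,true),(109,false)],[(0,false),(1,false),(5,false),(4,false),(1,false),(6,false),(4,false),(1,false),(4,false),(5,false),(4,false)]⟩,⟨1414,[(110,true),(109,false)],[(2,false),(5,false),(2,false),(6,false),(4,false),(1,false),(5,false),(4,false)]⟩,⟨1396,[(110,true),(109,false)],[(3,false),(5,false),(4,false),(6,false),(4,false),(5,false),(4,false),(1,false)]⟩,⟨2902,[(110,true),(109,false)],[(2,false),(3,false),(5,false),(4,false),(1,false),(5,false),(2,false)]⟩]⟩)))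
 (.fork (.fork (.one ⟨[1,0,3,2,1,6,4,3], [⟨2979,[],[(3,false),(6,false)]⟩,⟨2278,[],[(1,false),(2,false),(4,false),(1,false),(3,false),(5,false),(6,false),(4,false),(1,false),(5,false),(2,true)]⟩,⟨2371,[],[(5,false)]⟩,⟨2676,[],[(2,false),(4,false),(1,false),(4,false),(5,false),(4,false),(6,false),(4,false),(1,false),(4,false),(2,true)]⟩,⟨1904,[],[(3,false),(6,false),(2,true),(5,false),(4,false),(1,false),(4,false),(5,false),(2,false)]⟩,⟨4213,[],[(4,false),(3,false)]⟩,⟨1903,[],[(6,false)]⟩]⟩)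
 (.one ⟨[0,1,3,2,3,6,4,3,2,1,3], [⟨1983,[],[(2,true),(5,false),(4,false)]⟩,⟨2397,[],[(5,false)]⟩,⟨1736,[(110,true),(109,false)],[(1,false),(2,true),(5,false),(4,false),(1,false),(5,false),(4,false),(6,false),(4,false),(2,true)]⟩,⟨2534,[],[(6,false),(4,false),(3,false),(2,true),(5,false),(4,false),(2,true),(5,false),(2,true)]⟩,⟨2328,[(110,true)],[(2,false),(3,false),(5,false),(4,false),(5,false),(2,false),(5,false),(6,false),(4,false)]⟩,⟨2923,[],[(1,false),(3,false),(6,false)]⟩,⟨1266,[],[(0,false),(2,true),(5,false),(4,false),(6,false),(2,true),(5,false),(4,false),(1,false),(6,false)]⟩]⟩))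
 (.fork (.one ⟨[0,8,6,4,3,2,1,5,4,3], [⟨3445,[],[(1,false),(3,false)]⟩,⟨3353,[],[(1,false),(2,false)]⟩,⟨3555,[],[(3,false),(6,false)]⟩,⟨2296,[(110,false),(109,false)],[(1,false),(2,false),(5,false),(6,false),(4,false),(1,false),(2,true),(5,false),(4,false),(5,false),(6,false)]⟩,⟨2154,[(110,false),(109,false)],[(1,false),(6,false),(4,false),(1,false),(4,false),(2,true),(5,false),(4,false),(1,false)]⟩,⟨1688,[(110,true)],[(0,false),(1,false),(4,false),(6,false),(2,true),(5,false),(2,false),(4,false),(5,false),(6,false)]⟩,⟨3773,[],[(2,true),(5,false)]⟩]⟩)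
 (.one ⟨[], []⟩))))
 (.fork (.fork (.fork (.one ⟨[0,1,7,6,4,3], [⟨2037,[],[(4,false)]⟩,⟨2527,[],[]⟩,⟨2560,[(110,false),(109,false)],[(4,false),(5,false),(2,false),(5,false),(4,false),(5,false),(2,false),(6,false)]⟩,⟨2176,[(110,false),(109,false)],[(3,false),(4,false),(5,false),(4,false),(2,true),(5,false),(4,false),(1,false),(5,false)]⟩,⟨2797,[],[(5,false),(6,false)]⟩,⟨1982,[(110,false)],[(0,false),(1,false),(2,false),(5,false),(4,false),(6,false),(2,true),(5,false),(2,false),(4,false)]⟩,⟨3701,[],[(6,false)]⟩]⟩)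
 (.one ⟨[2,4,3,5,4,3,2,1,3], [⟨878,[(110,false),(109,false)],[(1,false),(2,false),(4,false),(3,false),(5,false),(2,false),(6,false),(4,false),(5,false)]⟩,⟨2960,[(110,false),(109,false)],[(1,false),(3,false),(5,false),(2,false),(4,false),(1,false),(6,false),(4,false)]⟩,⟨1924,[(110,false),(109,false)],[(1,false),(4,false),(1,false),(3,false),(5,false),(4,false),(2,true),(5,false),(4,false)]⟩,⟨948,[(110,false),(109,false)],[(0,false),(1,false),(2,false),(4,false),(5,false),(4,false),(6,false),(4,false),(1,false),(4,false)]⟩,⟨2232,[(110,false),(109,false)],[(1,false),(4,false),(1,false),(5,false),(2,false),(4,false),(5,false),(6,false),(2,true)]⟩,⟨2693,[],[(4,false),(6,false)]⟩,⟨1936,[(110,false),(109,false)],[(0,false),(6,false),(4,false),(2,true),(5,false),(4,false),(1,false),(4,false),(2,true),(5,false)]⟩]⟩))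
 (.fork (.one ⟨[1,0,3,2,1,7,5,4,3], [⟨2060,[],[(1,false),(4,false),(5,false),(6,false),(4,false),(1,false),(4,false),(1,false),(5,false),(6,false),(4,false)]⟩,⟨3682,[],[(1,false),(2,false),(5,false),(4,false),(1,false),(3,false),(4,false),(5,false),(6,false)]⟩,⟨4329,[],[(1,false)]⟩,⟨2873,[],[(5,false)]⟩,⟨2874,[],[(3,false),(5,false),(2,false),(4,false),(5,false),(4,false),(2,true),(5,false),(2,true)]⟩,⟨4158,[],[(4,false),(5,false),(2,true),(5,false),(4,false),(1,false),(5,false),(4,false),(6,false),(4,false),(1,false)]⟩,⟨2975,[],[]⟩]⟩)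
 (.one ⟨(wOf 14 0x31234634523120), [⟨3403,[],[(3,false),(5,false)]⟩,⟨2969,[],[(3,false),(6,false),(2,true)]⟩,⟨2440,[(109,false)],[(0,false),(1,false),(6,false),(4,false),(1,false),(5,false),(4,false),(5,false),(2,false),(6,false)]⟩,⟨2887,[],[(0,false),(1,false)]⟩,⟨3703,[],[(4,false)]⟩,⟨2875,[],[]⟩,⟨2639,[],[(1,false)]⟩]⟩)))
 (.fork (.fork (.one ⟨[0,3,5,4,3,2,1,3], [⟨2258,[(109,false)],[(2,false),(3,false),(4,false),(1,false),(4,false),(6,false),(4,false),(5,false),(4,false),(6,false),(2,true)]⟩,⟨3291,[],[]⟩,⟨978,[(109,false)],[(3,false),(5,false),(4,false),(1,false),(5,false),(2,false),(6,false),(4,false),(1,false)]⟩,⟨2879,[],[(4,false),(2,true)]⟩,⟨3602,[(109,false)],[(4,false),(3,false),(5,false),(6,false),(4,false),(1,false),(4,false),(2,true),(5,false)]⟩,⟨2106,[(109,false)],[(0,false),(4,false),(6,false),(4,false),(1,false),(5,false),(4,false),(5,false),(4,false),(2,true),(5,false)]⟩,⟨1388,[(109,false)],[(1,false),(2,false),(3,false),(4,false),(5,false),(4,false),(2,true),(5,false),(4,false),(1,false)]⟩]⟩)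
 (.one ⟨(wOf 13 0x3467123462340), [⟨2044,[(109,false)],[(0,false),(1,false),(2,false),(4,false),(5,false),(2,false),(4,false),(1,false),(4,false),(6,false),(4,false)]⟩,⟨2768,[(109,false)],[(2,false),(4,false),(5,false),(4,false),(6,false),(4,false),(1,false),(4,false),(5,false)]⟩,⟨2684,[(109,false)],[(1,false),(4,false),(2,true),(5,false),(4,false),(2,true),(5,false),(4,false),(6,false)]⟩,⟨3792,[(109,false)],[(2,false),(5,false),(6,false),(4,false),(5,false),(4,false),(1,false),(6,false),(2,true)]⟩,⟨3520,[(110,false)],[(2,false),(4,false),(5,false),(4,false),(5,false),(2,true)]⟩,⟨1462,[(109,false)],[(0,false),(5,false),(4,false),(6,false),(4,false),(5,false),(4,false),(1,false),(2,true)]⟩,⟨3213,[],[(0,false),(5,false)]⟩]⟩))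
 (.fork (.one ⟨[0,2,7,5,4,3,6,4,3,2,1,3], [⟨2314,[(110,false)],[(5,false),(2,false),(4,false),(3,false),(5,false),(4,false),(2,true),(5,false),(2,false),(4,false),(5,false)]⟩,⟨1302,[(110,false)],[(2,false),(3,false),(4,false),(6,false),(4,false),(1,false),(4,false),(5,false),(2,false),(4,false)]⟩,⟨3106,[(110,false)],[(1,false),(5,false),(2,false),(4,false),(1,false),(3,false),(5,false),(4,false),(1,false),(2,true)]⟩,⟨1764,[(110,false)],[(5,false),(2,false),(4,false),(5,false),(4,false),(1,false),(4,false),(2,true),(5,false)]⟩,⟨3084,[(110,false)],[(0,false),(1,false),(5,false),(4,false),(5,false),(6,false),(4,false),(1,false),(5,false),(4,false),(1,false)]⟩,⟨2101,[],[(6,false)]⟩,⟨2443,[],[(2,true)]⟩]⟩)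
 (.one ⟨[], []⟩)))))
 (.fork (.fork (.fork (.fork (.one ⟨[7,6,4,3], [⟨278,[],[(0,false),(4,false),(6,false),(4,false),(1,false),(4,false),(5,false),(2,false),(6,false)]⟩,⟨434,[],[(1,false),(3,false),(5,false),(2,false),(6,false),(4,false),(5,false),(2,false),(4,false),(5,false),(6,false)]⟩,⟨2185,[],[(1,false)]⟩,⟨374,[],[(0,false),(5,false),(2,false),(6,false),(4,false),(5,false),(2,false),(4,false),(6,false)]⟩,⟨308,[],[(4,false),(5,false),(4,false),(6,false),(4,false),(1,false),(5,false),(4,false),(6,false),(2,true)]⟩,⟨738,[],[(1,false),(2,false),(5,false),(4,false),(3,false),(5,false),(2,false),(5,false),(4,false)]⟩,⟨584,[],[(1,false),(3,false),(6,false),(2,true),(5,false),(2,false),(4,false),(5,false),(2,true)]⟩]⟩)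
 (.one ⟨[1,3,2,4,3,6,4,3,2,1,3], [⟨1146,[(110,false)],[(4,false),(5,false),(4,false),(6,false),(2,true),(5,false),(4,false),(1,false),(6,false)]⟩,⟨2916,[(109,false)],[(1,false),(2,false),(3,false),(5,false),(4,false),(5,false),(4,false),(1,false),(6,false)]⟩,⟨3150,[(110,false)],[(2,false),(6,false),(4,false),(1,false),(3,false),(5,false),(4,false),(5,false),(2,true)]⟩,⟨2803,[],[(1,false),(3,false),(6,false)]⟩,⟨2738,[(109,false)],[(4,false),(3,false),(5,false),(4,false),(1,false),(4,false),(6,false)]⟩,⟨3622,[],[(1,false),(2,false),(4,false),(3,false),(5,false),(6,false),(4,false),(1,false),(2,true),(5,false)]⟩,⟨2354,[(109,false)],[(1,false),(4,false),(1,false),(3,false),(4,false),(5,false),(4,false),(1,false),(4,false)]⟩]⟩))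
 (.fork (.one ⟨[1,0,3,2,1,5,5,4,3], [⟨4327,[],[(5,false)]⟩,⟨2413,[],[(4,false),(3,false)]⟩,⟨4130,[],[(1,false),(5,false),(4,false),(1,false),(3,false),(5,false),(2,false),(6,false),(4,false),(5,false)]⟩,⟨2059,[],[(0,false)]⟩,⟨2976,[(110,true)],[(6,false),(2,true),(5,false),(4,false),(3,false),(2,true),(5,false),(2,false),(4,false),(5,false),(6,false)]⟩,⟨2414,[],[(3,false),(4,false),(5,false),(4,false),(5,false),(2,true),(5,false),(4,false),(5,false)]⟩,⟨3681,[],[(6,false)]⟩]⟩)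
 (.one ⟨[1,3,2,6,6,4,3,2,1,5,4,3], [⟨3528,[],[(1,false),(2,false),(6,false),(4,false),(1,false),(5,false),(4,false),(5,false),(4,false),(6,false)]⟩,⟨3475,[],[(6,false)]⟩,⟨2704,[(110,false)],[(0,false),(2,false),(5,false),(4,false),(1,false),(4,false),(6,false),(2,true),(5,false),(2,true)]⟩,⟨2935,[],[(0,false)]⟩,⟨3264,[],[(4,false),(1,false),(6,false),(4,false),(2,true),(5,false),(4,false),(1,false)]⟩,⟨1659,[],[(1,false),(5,false)]⟩,⟨3610,[],[(0,false),(5,false),(4,false),(5,false),(6,false),(2,true),(5,false),(4,false),(1,false),(5,false),(2,true)]⟩]⟩)))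
 (.fork (.fork (.one ⟨[5,4,3,6,4,3,2,1,3], [⟨842,[],[(3,false),(2,true),(5,false),(2,false),(4,false),(5,false),(6,false),(4,false),(2,true),(5,false)]⟩,⟨2632,[],[(5,false),(4,false),(1,false),(3,false),(5,false),(6,false),(4,false),(1,false)]⟩,⟨2172,[],[(0,false),(1,false),(2,false),(4,false),(6,false),(4,false),(1,false),(4,false)]⟩,⟨3699,[],[(3,false),(2,true)]⟩,⟨3526,[],[(1,false),(3,false),(4,false),(1,false),(5,false),(4,false),(1,false),(6,false),(4,false)]⟩,⟨788,[],[(3,false),(2,true),(5,false),(4,false),(2,true),(5,false),(2,false),(4,false),(1,false),(4,false)]⟩,⟨720,[],[(1,false),(3,false),(4,false),(5,false),(2,false),(4,false),(1,false),(6,false)]⟩]⟩)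
 (.one ⟨[1,3,2,6,4,3,2,1,5,4,3], [⟨1742,[(110,false),(109,false)],[(4,false),(1,false),(4,false),(2,true),(5,false),(4,false),(6,false),(2,true),(5,false),(2,true)]⟩,⟨4207,[],[(4,false),(3,false),(2,true)]⟩,⟨2068,[(110,false),(109,false)],[(1,false),(2,false),(3,false),(5,false),(4,false),(5,false),(4,false),(6,false),(2,true)]⟩,⟨1464,[(110,false),(109,false)],[(4,false),(6,false),(4,false),(1,false),(2,true),(5,false),(4,false),(5,false),(4,false),(2,true)]⟩,⟨3303,[],[(4,false)]⟩,⟨862,[(110,true),(109,false)],[(5,false),(2,false),(5,false),(4,false),(6,false),(4,false),(5,false),(4,false),(6,false),(2,true)]⟩,⟨2882,[(110,false),(109,false)],[(1,false),(2,false),(3,false),(5,false),(4,false),(1,false),(6,false),(4,false),(1,false),(5,false),(2,false)]⟩]⟩))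
 (.fork (.one ⟨[0,2,4,3,7,5,4,3,2,1,3], [⟨2073,[],[(5,false),(2,true)]⟩,⟨1946,[(110,true),(109,false)],[(4,false),(1,false),(4,false),(1,false),(5,false),(4,false),(6,false),(4,false)]⟩,⟨984,[],[(0,false),(1,false),(4,false),(6,false),(2,true),(5,false),(4,false),(1,false),(5,false),(2,false)]⟩,⟨1352,[(110,true),(109,false)],[(0,false),(4,false),(1,false),(6,false),(2,true),(5,false),(4,false),(1,false),(5,false),(2,false)]⟩,⟨3452,[(110,true),(109,false)],[(0,false),(2,false),(5,false),(6,false),(4,false),(5,false),(4,false),(6,false),(2,true)]⟩,⟨2368,[(110,true),(109,false)],[(2,false),(5,false),(4,false),(3,false),(5,false),(2,true),(5,false),(4,false),(6,false)]⟩,⟨2394,[],[(0,false),(1,false),(5,false),(4,false),(5,false),(6,false),(2,true),(5,false)]⟩]⟩)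
 (.one ⟨[], []⟩))))
 (.fork (.fork (.fork (.one ⟨[0,2,3,2,1,5,4,3], [⟨3029,[],[(1,false)]⟩,⟨2105,[],[]⟩,⟨1252,[(109,false)],[(2,false),(5,false),(6,false),(4,false),(1,false),(3,false),(5,false),(2,false),(4,false),(5,false)]⟩,⟨1394,[(109,false)],[(1,false),(2,false),(3,false),(6,false),(4,false),(5,false),(4,false),(1,false),(4,false)]⟩,⟨1484,[(109,false)],[(5,false),(2,false),(4,false),(5,false),(2,false),(4,false),(5,false),(2,true)]⟩,⟨2018,[],[(1,false),(5,false),(4,false),(1,false),(6,false),(2,true),(5,false),(4,false)]⟩,⟨3564,[(109,false)],[(3,false),(5,false),(4,false),(1,false),(2,true),(5,false),(4,false),(6,false)]⟩]⟩)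
 (.one ⟨[0,3,2,4,3,8,6,4,3,2,1,3], [⟨1168,[],[(1,false),(5,false),(6,false),(4,false),(5,false),(4,false),(1,false),(6,false),(4,false)]⟩,⟨930,[],[(1,false),(4,false),(1,false),(5,false),(4,false),(5,false),(2,false),(4,false),(5,false),(2,true)]⟩,⟨2836,[],[(2,false),(3,false),(5,false),(2,false),(4,false),(6,false),(4,false),(5,false),(2,false)]⟩,⟨766,[],[(2,false),(5,false),(4,false),(5,false),(4,false),(6,false),(4,false),(5,false),(2,false)]⟩,⟨4235,[],[(0,false),(6,false)]⟩,⟨2761,[],[]⟩,⟨1645,[],[]⟩]⟩))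
 (.fork (.one ⟨[4,6,4,3,5,4,3,2,1,3], [⟨2299,[],[(0,false)]⟩,⟨2019,[],[(2,true)]⟩,⟨3372,[],[(3,false),(6,false),(2,true),(5,false),(4,false),(1,false),(6,false),(4,false),(5,false),(2,false)]⟩,⟨3941,[],[(3,false),(6,false),(2,true)]⟩,⟨3591,[],[(3,false)]⟩,⟨2264,[(109,false)],[(1,false),(3,false),(4,false),(1,false),(5,false),(2,false),(6,false),(4,false),(5,false),(2,true)]⟩,⟨3664,[],[(4,false),(6,false)]⟩]⟩)
 (.one ⟨[], []⟩)))
 (.fork (.fork (.one ⟨[0,3,2,3,5,4,3,2,1,3], [⟨3027,[],[(1,false)]⟩,⟨1614,[(110,true),(109,false)],[(0,false),(1,false),(6,false),(2,true),(5,false),(2,false),(4,false),(5,false),(6,false)]⟩,⟨944,[],[(2,true),(5,false),(2,false),(4,false),(5,false),(4,false),(6,false),(4,false)]⟩,⟨2011,[],[(0,false)]⟩,⟨838,[],[(3,false),(4,false),(6,false),(4,false),(1,false),(4,false),(2,true),(5,false),(2,false),(4,false),(5,false)]⟩,⟨560,[],[(4,false),(1,false),(4,false),(1,false),(5,false),(2,false),(4,false),(6,false),(4,false),(1,false)]⟩,⟨3082,[],[(1,false),(4,false),(6,false),(4,false),(2,true),(5,false),(2,false),(4,false)]⟩]⟩)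
 (.one ⟨(wOf 13 0x3461234662323), [⟨2050,[(110,true)],[(1,false),(2,false),(4,false),(1,false),(5,false),(4,false),(6,false),(4,false),(1,false),(5,false),(2,true)]⟩,⟨2871,[],[(6,false)]⟩,⟨3025,[],[(3,false),(4,false),(1,false)]⟩,⟨2181,[],[(1,false),(4,false),(2,true)]⟩,⟨1976,[(110,false),(109,false)],[(1,false),(4,false),(5,false),(4,false),(5,false),(6,false)]⟩,⟨2195,[],[(0,false),(1,false),(3,false)]⟩,⟨2856,[(110,true),(109,false)],[(1,false),(3,false),(4,false),(5,false),(2,false),(4,false),(5,false),(4,false),(2,true)]⟩]⟩))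
 (.fork (.one ⟨[0,4,3,2,3,5,4,3,2,1,3], [⟨712,[(110,true)],[(1,false),(6,false),(4,false),(1,false),(4,false),(5,false),(2,false),(4,false)]⟩,⟨1002,[(110,true)],[(2,false),(3,false),(4,false),(6,false),(4,false),(5,false)]⟩,⟨746,[(110,true)],[(3,false),(5,false),(4,false),(6,false),(4,false),(1,false)]⟩,⟨2030,[(110,true)],[(2,false),(3,false),(4,false),(5,false),(2,true),(5,false),(4,false),(5,false),(2,false),(4,false)]⟩,⟨3419,[],[]⟩,⟨3388,[(110,true)],[(3,false),(5,false),(4,false),(1,false),(2,true),(5,false),(4,false),(5,false),(2,true)]⟩,⟨956,[(110,true)],[(5,false),(2,false),(5,false),(4,false),(5,false),(4,false),(1,false),(6,false),(4,false),(2,true)]⟩]⟩)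
 (.one ⟨[], []⟩))))))
 (.fork (.fork (.fork (.fork (.fork (.one ⟨[6,6,4,3], [⟨1523,[],[(0,false),(5,false),(2,true)]⟩,⟨506,[],[(5,false),(4,false),(2,true),(5,false),(4,false),(1,false),(2,true),(5,false)]⟩,⟨576,[],[(2,false),(5,false),(2,false),(6,false),(4,false),(1,false),(3,false),(4,false),(5,false),(6,false)]⟩,⟨498,[],[(4,false),(1,false),(3,false),(4,false),(6,false)]⟩,⟨2479,[],[(1,false),(3,false),(6,false)]⟩,⟨748,[],[(2,false),(5,false),(2,false),(6,false),(4,false),(1,false),(4,false),(5,false),(6,false),(2,true),(5,false)]⟩,⟨380,[],[(0,false),(4,false),(5,false),(4,false),(6,false),(4,false),(1,false),(5,false),(4,false),(6,false)]⟩]⟩)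
 (.one ⟨(wOf 13 0x3123463454230), [⟨1163,[],[]⟩,⟨3270,[],[(1,false),(2,false),(5,false),(6,false),(4,false),(2,true),(5,false),(4,false),(6,false),(2,true),(5,false)]⟩,⟨3297,[],[(0,false),(5,false),(2,true)]⟩,⟨3489,[],[(4,false)]⟩,⟨1871,[],[]⟩,⟨2269,[],[(0,false)]⟩,⟨2388,[],[(5,false),(2,false),(4,false),(1,false),(4,false),(5,false),(2,false),(6,false),(4,false),(1,false)]⟩]⟩))
 (.fork (.one ⟨[0,2,4,5,4,3,2,1,6,4,3], [⟨1758,[(110,true),(109,false)],[(0,false),(2,false),(5,false),(4,false),(1,false),(4,false),(2,true),(5,false),(4,false)]⟩,⟨2244,[(110,true),(109,false)],[(1,false),(2,false),(6,false),(4,false),(5,false),(4,false),(5,false),(2,true),(5,false),(4,false)]⟩,⟨1792,[(110,false),(109,false)],[(1,false),(4,false),(1,false),(2,true),(5,false),(4,false)]⟩,⟨2308,[(110,false)],[(1,false),(5,false),(2,false),(6,false),(4,false),(3,false),(5,false),(4,false),(1,false),(2,true)]⟩,⟨2428,[(110,false)],[(1,false),(4,false),(6,false),(4,false),(5,false),(4,false),(5,false),(6,false)]⟩,⟨2550,[(110,false)],[(3,false),(4,false),(5,false),(2,true),(5,false),(4,false),(5,false),(4,false),(2,true)]⟩,⟨3390,[(110,false)],[(2,true),(5,false),(4,false),(3,false),(2,true),(5,false),(2,false),(4,false)]⟩]⟩)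
 (.one ⟨(wOf 13 0x3451234662320), [⟨1348,[],[(2,false),(4,false),(1,false),(4,false),(5,false),(4,false),(1,false),(2,true),(5,false)]⟩,⟨4078,[(110,true),(109,false)],[(0,false),(2,false),(5,false),(4,false),(6,false),(2,true),(5,false),(4,false),(1,false),(5,false)]⟩,⟨2076,[(109,false)],[(3,false),(5,false),(2,false),(4,false),(1,false),(4,false),(5,false),(2,false),(4,false),(1,false)]⟩,⟨3335,[],[]⟩,⟨2009,[],[(0,false),(1,false),(4,false)]⟩,⟨4148,[(110,true),(109,false)],[(4,false),(1,false),(3,false),(4,false),(5,false),(6,false),(4,false),(1,false),(4,false),(2,true),(5,false)]⟩,⟨2010,[],[(2,false),(4,false),(5,false),(4,false),(1,false),(4,false),(1,false),(5,false),(2,true)]⟩]⟩)))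
 (.fork (.fork (.one ⟨[0,2,5,4,3,6,4,3,2,1,3], [⟨1754,[],[(0,false),(2,true),(5,false),(2,false),(4,false),(5,false),(2,false),(4,false),(1,false),(5,false),(6,false)]⟩,⟨880,[(110,false)],[(5,false),(4,false),(1,false),(3,false),(4,false),(2,true),(5,false),(4,false),(1,false),(4,false)]⟩,⟨2554,[],[(0,false),(5,false),(6,false),(4,false),(2,true),(5,false),(2,false),(4,false),(1,false),(6,false)]⟩,⟨2508,[],[(5,false),(2,true),(5,false),(4,false),(1,false),(3,false),(5,false),(2,true)]⟩,⟨3533,[],[(5,false)]⟩,⟨2234,[(109,false)],[(6,false),(2,true),(5,false),(4,false),(2,true),(5,false),(4,false),(2,true)]⟩,⟨1965,[],[(4,false)]⟩]⟩)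
 (.one ⟨(wOf 13 0x3461234542320), [⟨1499,[],[]⟩,⟨1515,[],[]⟩,⟨3812,[],[(4,false),(1,false),(5,false),(2,false),(6,false),(4,false),(5,false),(4,false),(5,false)]⟩,⟨1968,[],[(1,false),(3,false),(2,true),(5,false),(4,false),(5,false),(2,true)]⟩,⟨1655,[],[(4,false),(6,false),(2,true)]⟩,⟨3811,[],[]⟩,⟨1006,[],[(0,false),(1,false),(4,false),(6,false),(4,false),(1,false),(4,false),(1,false),(6,false),(4,false),(2,true)]⟩]⟩))
 (.fork (.one ⟨[1,0,4,3,6,4,3,2,1,3], [⟨641,[],[(2,true)]⟩,⟨988,[(110,true),(109,false)],[(1,false),(2,false),(4,false),(1,false),(5,false),(4,false),(5,false),(6,false),(4,false),(1,false),(5,false),(4,false)]⟩,⟨3535,[],[(1,false),(4,false)]⟩,⟨2655,[],[(5,false)]⟩,⟨3114,[(109,false)],[(1,false),(4,false),(5,false),(2,true),(5,false),(4,false),(1,false),(5,false),(4,false),(2,true)]⟩,⟨1404,[],[(0,false),(5,false),(2,false),(5,false),(6,false),(4,false),(5,false),(4,false),(1,false),(2,true)]⟩,⟨1506,[],[(4,false),(1,false),(5,false),(6,false),(4,false),(5,false),(2,false),(4,false),(6,false)]⟩]⟩)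
 (.one ⟨[], []⟩))))
 (.fork (.fork (.fork (.one ⟨[2,3,2,1,5,4,3], [⟨3108,[],[(2,false),(4,false),(1,false),(5,false),(4,false),(6,false),(4,false),(1,false),(4,false),(5,false)]⟩,⟨1204,[],[(3,false),(6,false),(2,true),(5,false),(4,false),(1,false),(4,false),(6,false),(2,true),(5,false),(2,false)]⟩,⟨1296,[(110,true),(109,false)],[(5,false),(4,false),(2,true),(5,false),(4,false),(2,true),(5,false),(2,false)]⟩,⟨3795,[],[(6,false)]⟩,⟨1324,[],[(5,false),(2,false),(4,false),(5,false),(4,false),(2,true),(5,false),(4,false),(1,false)]⟩,⟨3534,[(110,true),(109,false)],[(0,false),(2,false),(4,false),(5,false),(4,false),(6,false),(2,true),(5,false),(4,false),(5,false),(4,false)]⟩,⟨1673,[],[(4,false)]⟩]⟩)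
 (.one ⟨[2,1,0,4,3,5,4,3,2,1,3], [⟨2967,[],[(5,false),(6,false)]⟩,⟨906,[],[(0,false),(4,false),(6,false),(4,false),(1,false),(4,false),(2,true),(5,false),(4,false),(6,false),(2,true)]⟩,⟨1875,[],[(1,false),(6,false)]⟩,⟨3018,[],[(2,false),(3,false),(5,false),(4,false),(5,false),(6,false),(4,false),(5,false),(2,false)]⟩,⟨1329,[],[]⟩,⟨1340,[],[(6,false),(4,false),(3,false),(5,false),(2,false),(5,false),(4,false),(1,false),(5,false)]⟩,⟨2465,[],[(0,false),(1,false),(5,false)]⟩]⟩))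
 (.fork (.one ⟨[6,6,4,3,2,1,5,4,3], [⟨2431,[],[]⟩,⟨2753,[],[(3,false),(5,false),(6,false)]⟩,⟨3411,[],[]⟩,⟨2883,[],[(4,false),(2,true)]⟩,⟨2290,[(110,true),(109,false)],[(0,false),(5,false),(4,false),(1,false),(6,false),(4,false),(2,true),(5,false),(2,false),(4,false)]⟩,⟨2306,[(109,false)],[(0,false),(1,false),(6,false),(4,false),(5,false),(2,false),(4,false),(5,false),(2,false),(6,false)]⟩,⟨4177,[],[(6,false),(2,true)]⟩]⟩)
 (.one ⟨[], []⟩)))
 (.fork (.fork (.one ⟨[1,0,3,2,1,5,4,3], [⟨3359,[],[(3,false),(6,false)]⟩,⟨3041,[],[(3,false),(5,false)]⟩,⟨1689,[],[]⟩,⟨3760,[],[(2,false),(5,false),(4,false),(6,false),(4,false),(5,false),(4,false),(5,false)]⟩,⟨3495,[],[(4,false)]⟩,⟨3187,[],[(6,false),(2,true)]⟩,⟨3515,[],[]⟩]⟩)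
 (.one ⟨[3,2,4,6,4,3,5,4,3,2,1,3], [⟨3693,[],[(0,false),(2,true),(5,false)]⟩,⟨3530,[],[(4,false),(1,false),(3,false),(4,false),(2,true),(5,false),(2,false),(4,false),(5,false),(4,false)]⟩,⟨3544,[],[(0,false),(2,false),(4,false),(5,false),(6,false),(2,true),(5,false),(4,false),(1,false)]⟩,⟨3175,[],[(6,false)]⟩,⟨3673,[],[(0,false),(3,false),(2,true)]⟩,⟨2885,[],[]⟩,⟨2793,[],[]⟩]⟩))
 (.fork (.one ⟨[0,5,4,3,8,5,4,3,2,1,3], [⟨2878,[(110,true)],[(0,false),(6,false),(4,false),(5,false),(4,false),(1,false),(4,false),(2,true),(5,false),(2,false),(4,false)]⟩,⟨2100,[(110,true)],[(2,false),(4,false),(6,false),(4,false),(1,false),(5,false),(4,false),(5,false),(4,false)]⟩,⟨2307,[],[(3,false),(2,true),(5,false)]⟩,⟨1035,[],[(1,false),(3,false),(4,false)]⟩,⟨646,[],[(1,false),(4,false),(1,false),(5,false),(2,true)]⟩,⟨970,[(110,true)],[(1,false),(4,false),(5,false),(4,false),(2,true),(5,false),(2,false),(4,false),(5,false),(4,false),(6,false)]⟩,⟨2529,[],[]⟩]⟩)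
 (.one ⟨[], []⟩)))))
 (.fork (.fork (.fork (.fork (.one ⟨[4,3,2,1,3], [⟨1140,[(110,false)],[(4,false),(3,false),(5,false),(4,false),(1,false),(4,false),(5,false),(2,false),(4,false)]⟩,⟨2072,[(110,false)],[(0,false),(1,false),(2,false),(3,false),(5,false),(6,false),(2,true)]⟩,⟨2372,[(110,false)],[(0,false),(6,false),(2,true),(5,false),(2,false),(4,false),(5,false),(4,false),(1,false),(5,false),(4,false)]⟩,⟨2980,[(110,false)],[(2,false),(5,false),(4,false),(6,false),(4,false),(1,false),(5,false),(4,false),(1,false)]⟩,⟨2071,[],[(2,true)]⟩,⟨2675,[],[(5,false),(2,true),(5,false)]⟩,⟨4156,[(110,false)],[(3,false),(6,false),(2,true),(5,false),(4,false),(2,true),(5,false)]⟩]⟩)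
 (.one ⟨[2,8,5,4,3,2,1,5,4,3], [⟨4261,[],[(0,false),(2,true)]⟩,⟨3055,[],[(1,false),(4,false)]⟩,⟨3633,[],[]⟩,⟨3413,[],[(6,false)]⟩,⟨2457,[],[(4,false),(1,false),(5,false)]⟩,⟨3776,[],[(3,false),(4,false),(5,false),(2,true),(5,false),(4,false),(1,false),(5,false),(2,true)]⟩,⟨3969,[],[(1,false)]⟩]⟩))
 (.fork (.one ⟨[0,2,6,6,4,3,2,1,6,4,3], [⟨2811,[],[]⟩,⟨2403,[],[]⟩,⟨2657,[],[(0,false),(1,false),(2,true)]⟩,⟨3853,[],[]⟩,⟨2097,[],[(0,false)]⟩,⟨2779,[],[(0,false)]⟩,⟨2437,[],[(3,false)]⟩]⟩)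
 (.one ⟨[1,3,2,8,5,4,3,2,1,6,4,3], [⟨3542,[(110,false)],[(1,false),(4,false),(1,false),(4,false),(6,false),(2,true),(5,false),(4,false),(1,false),(6,false)]⟩,⟨3124,[(109,false)],[(2,false),(6,false),(4,false),(5,false),(4,false),(5,false),(2,true),(5,false)]⟩,⟨4183,[],[]⟩,⟨2914,[(109,false)],[(0,false),(2,false),(4,false),(1,false),(6,false),(4,false),(1,false),(5,false),(2,true)]⟩,⟨3827,[],[]⟩,⟨3586,[(110,false)],[(3,false),(6,false),(2,true),(5,false),(4,false),(5,false),(6,false)]⟩,⟨4120,[(109,false)],[(1,false),(5,false),(4,false),(1,false),(5,false),(2,false),(4,false),(6,false),(4,false)]⟩]⟩)))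
 (.fork (.fork (.one ⟨[3,7,5,4,3,2,1,3], [⟨3645,[],[(1,false),(3,false)]⟩,⟨2423,[],[(0,false),(1,false)]⟩,⟨2913,[],[(3,false),(5,false)]⟩,⟨4175,[],[]⟩,⟨3585,[],[(3,false)]⟩,⟨4110,[],[(1,false),(4,false),(6,false),(4,false),(1,false),(4,false),(1,false),(6,false),(2,true),(5,false),(4,false)]⟩,⟨2939,[],[]⟩]⟩)
 (.one ⟨[0,3,2,4,3,8,5,4,3,2,1,3], [⟨2669,[],[(6,false),(2,true)]⟩,⟨3537,[],[(6,false)]⟩,⟨2810,[(109,false)],[(1,false),(4,false),(5,false),(4,false),(6,false),(2,true),(5,false),(2,false),(4,false),(5,false),(4,false)]⟩,⟨1922,[(110,false),(109,false)],[(1,false),(5,false),(2,false),(4,false),(3,false),(6,false),(4,false),(1,false)]⟩,⟨1884,[(110,true),(109,false)],[(5,false),(4,false),(2,true),(5,false),(2,false),(4,false),(1,false),(5,false),(6,false)]⟩,⟨2077,[],[(6,false)]⟩,⟨1426,[],[(0,false),(2,false),(5,false),(4,false),(1,false),(5,false),(6,false),(4,false),(1,false),(2,true)]⟩]⟩))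
 (.fork (.one ⟨[2,3,2,4,3,7,5,4,3,2,1,3], [⟨3607,[],[(0,false),(2,true)]⟩,⟨3999,[],[]⟩,⟨2352,[(109,false)],[(2,false),(5,false),(4,false),(5,false),(4,false),(2,true),(5,false),(4,false)]⟩,⟨2351,[],[(3,false),(5,false),(6,false)]⟩,⟨4356,[],[(5,false),(4,false),(6,false)]⟩,⟨2733,[],[(0,false)]⟩,⟨1990,[(110,false)],[(4,false),(5,false),(6,false),(4,false),(1,false),(4,false),(2,true),(5,false),(2,true)]⟩]⟩)
 (.one ⟨[], []⟩))))
 (.fork (.fork (.fork (.one ⟨[0,3,2,1,7,5,4,3], [⟨610,[(110,true),(109,false)],[(4,false),(2,true),(5,false),(2,false),(4,false),(5,false),(4,false),(1,false),(4,false),(5,false)]⟩,⟨1911,[],[(3,false),(2,true)]⟩,⟨732,[(110,true),(109,false)],[(4,false),(5,false),(2,false),(5,false),(4,false),(5,false),(4,false),(6,false),(2,true),(5,false)]⟩,⟨3444,[],[(1,false),(4,false),(5,false),(6,false),(4,false),(1,false),(5,false),(4,false),(5,false)]⟩,⟨4271,[],[(1,false),(3,false),(5,false)]⟩,⟨2274,[(110,false)],[(1,false),(5,false),(6,false),(4,false),(1,false),(3,false),(2,true),(5,false),(4,false)]⟩,⟨958,[(110,false)],[(1,false),(5,false),(4,false),(1,false),(5,false),(4,false),(6,false),(4,false),(1,false),(5,false),(2,false)]⟩]⟩)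
 (.one ⟨[0,3,4,3,2,3,5,4,3,2,1,3], [⟨2253,[],[]⟩,⟨2590,[(109,false)],[(3,false),(6,false),(4,false),(5,false),(2,true),(5,false),(4,false),(5,false),(2,true),(5,false)]⟩,⟨1756,[(110,true),(109,false)],[(2,false),(3,false),(5,false),(6,false),(4,false),(1,false),(5,false),(4,false),(2,true)]⟩,⟨3117,[],[]⟩,⟨2240,[(110,true)],[(2,false),(6,false),(4,false),(5,false),(2,true),(5,false),(4,false),(6,false)]⟩,⟨1264,[(109,false)],[(4,false),(5,false),(4,false),(2,true),(5,false),(4,false),(1,false),(5,false),(2,true)]⟩,⟨2359,[],[(6,false),(4,false)]⟩]⟩))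
 (.fork (.one ⟨[0,6,6,4,3,2,1,5,4,3], [⟨3328,[(109,false)],[(2,false),(4,false),(6,false),(4,false),(5,false),(4,false),(2,true),(5,false),(2,true)]⟩,⟨1456,[(110,true),(109,false)],[(3,false),(5,false),(4,false),(6,false),(2,true),(5,false),(4,false),(1,false),(2,true),(5,false)]⟩,⟨2421,[],[(4,false)]⟩,⟨2501,[],[(3,false),(6,false),(2,true)]⟩,⟨1970,[],[(6,false),(4,false),(5,false),(2,false),(5,false),(4,false),(1,false),(5,false)]⟩,⟨1632,[(109,false)],[(2,false),(4,false),(5,false),(4,false),(5,false),(6,false),(4,false),(2,true)]⟩,⟨1959,[],[(1,false)]⟩]⟩)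
 (.one ⟨[], []⟩)))
 (.fork (.fork (.one ⟨[0,3,2,3,6,4,3,2,1,3], [⟨3261,[],[(6,false),(2,true)]⟩,⟨4217,[],[(3,false),(5,false),(6,false)]⟩,⟨1776,[(110,false)],[(4,false),(5,false),(4,false),(1,false),(4,false),(1,false),(6,false),(4,false),(1,false)]⟩,⟨1494,[(110,false)],[(0,false),(1,false),(2,false),(5,false),(6,false),(4,false),(1,false),(4,false),(5,false),(2,false),(6,false)]⟩,⟨1827,[],[]⟩,⟨2193,[],[(3,false)]⟩,⟨1438,[(110,false)],[(1,false),(4,false),(1,false),(5,false),(4,false),(2,true),(5,false),(4,false),(1,false),(6,false)]⟩]⟩)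
 (.one ⟨[2,3,2,5,4,3,2,1,8,6,4,3], [⟨1513,[],[(2,true)]⟩,⟨1472,[(109,false)],[(3,false),(5,false),(6,false),(4,false),(1,false),(4,false)]⟩,⟨1822,[],[(1,false),(3,false),(4,false),(6,false),(2,true),(5,false),(4,false),(1,false),(5,false),(2,false)]⟩,⟨900,[(109,false)],[(0,false),(5,false),(2,false),(4,false),(1,false),(5,false),(4,false),(1,false),(6,false),(2,true),(5,false)]⟩,⟨2507,[],[(4,false),(2,true),(5,false)]⟩,⟨1672,[],[(1,false),(4,false),(1,false),(3,false),(5,false),(4,false),(2,true)]⟩,⟨3796,[],[(0,false),(5,false),(2,false),(4,false),(1,false),(4,false),(5,false),(2,false)]⟩]⟩))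
 (.fork (.one ⟨[0,4,3,2,3,6,4,3,2,1,3], [⟨3121,[],[]⟩,⟨2533,[],[(1,false)]⟩,⟨921,[],[(5,false),(2,true)]⟩,⟨2377,[],[(6,false),(4,false),(3,false)]⟩,⟨2977,[],[(3,false)]⟩,⟨3547,[],[]⟩,⟨276,[(110,false)],[(2,false),(4,false),(3,false),(6,false),(4,false)]⟩]⟩)
 (.one ⟨[], []⟩)))))))

/-- a part of the orbits of state 5 -/
noncomputable def twRoots5T6 : BT TRoot := (.fork (.fork (.fork (.fork (.fork (.fork (.one ⟨[4,3], [⟨2332,[],[(0,false),(1,false),(2,false),(5,false),(4,false),(6,false),(4,false),(1,false),(4,false)]⟩,⟨282,[],[(4,false),(1,false),(5,false),(2,false),(4,false),(5,false),(2,true),(5,false)]⟩,⟨208,[],[(3,false),(5,false),(4,false),(6,false),(4,false),(1,false),(4,false),(5,false),(6,false),(4,false)]⟩,⟨737,[],[(1,false),(2,true)]⟩,⟨230,[],[(0,false),(4,false),(5,false),(2,true),(5,false),(4,false),(5,false),(2,true)]⟩,⟨392,[(110,true)],[(0,false),(1,false),(6,false),(4,false),(5,false),(4,false),(1,false),(6,false)]⟩,⟨1962,[],[(0,false),(2,false),(4,false),(5,false),(2,false),(4,false),(1,false),(5,false),(4,false)]⟩]⟩)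
 (.one ⟨[2,7,5,4,3,6,4,3,2,1,3], [⟨1178,[(109,false)],[(5,false),(4,false),(6,false),(4,false),(1,false),(5,false)]⟩,⟨780,[(110,false)],[(1,false),(3,false),(5,false),(4,false),(6,false),(4,false),(5,false),(2,true),(5,false)]⟩,⟨3036,[(110,false)],[(0,false),(4,false),(1,false),(5,false),(6,false),(4,false),(1,false),(4,false),(6,false)]⟩,⟨1040,[(110,false)],[(5,false),(2,false),(4,false),(1,false),(4,false),(5,false),(6,false),(2,true),(5,false)]⟩,⟨3421,[],[(1,false)]⟩,⟨2231,[],[]⟩,⟨3781,[],[(5,false)]⟩]⟩))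
 (.fork (.one ⟨[1,2,3,2,1,5,4,3], [⟨1034,[],[(4,false),(5,false),(4,false),(1,false),(4,false),(5,false),(4,false),(2,true)]⟩,⟨1062,[],[(2,false),(4,false),(5,false),(4,false),(6,false),(4,false),(1,false),(5,false)]⟩,⟨1649,[],[(6,false)]⟩,⟨3352,[],[(2,false),(5,false),(4,false),(5,false),(4,false),(6,false),(2,true),(5,false),(2,false)]⟩,⟨823,[],[(4,false)]⟩,⟨4292,[(109,false)],[(0,false),(5,false),(2,false),(4,false),(1,false),(5,false),(6,false),(4,false),(1,false),(5,false),(2,false)]⟩,⟨1440,[(109,false)],[(6,false),(4,false),(5,false),(2,false),(4,false),(5,false),(4,false),(6,false)]⟩]⟩)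
 (.one ⟨(wOf 13 0x3123467323432), [⟨2813,[],[(4,false)]⟩,⟨3162,[(110,true),(109,false)],[(0,false),(4,false),(5,false),(2,false),(4,false),(5,false),(4,false),(2,true),(5,false),(2,false),(4,false)]⟩,⟨3574,[],[(5,false),(2,false),(5,false),(4,false),(1,false),(4,false),(5,false)]⟩,⟨2754,[],[(1,false),(2,false),(4,false),(1,false),(5,false),(6,false),(4,false),(1,false),(2,true)]⟩,⟨3742,[(110,true),(109,false)],[(1,false),(2,true),(5,false),(4,false),(5,false),(2,false),(5,false),(6,false),(4,false),(5,false)]⟩,⟨2833,[],[]⟩,⟨4116,[(110,true)],[(4,false),(2,true),(5,false),(4,false),(2,true),(5,false),(4,false),(1,false),(4,false)]⟩]⟩)))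
 (.fork (.fork (.one ⟨[0,4,3,2,1,7,5,4,3], [⟨3667,[],[(5,false)]⟩,⟨3144,[(109,false)],[(3,false),(4,false),(6,false),(4,false),(5,false)]⟩,⟨2139,[],[(1,false),(5,false),(6,false)]⟩,⟨2344,[(109,false)],[(0,false),(1,false),(6,false),(4,false),(1,false),(4,false),(5,false),(4,false),(1,false),(4,false)]⟩,⟨1680,[(110,true),(109,false)],[(4,false),(1,false),(5,false),(4,false),(2,true),(5,false),(4,false),(2,true)]⟩,⟨4249,[],[]⟩,⟨2780,[(109,false)],[(3,false),(5,false),(4,false),(1,false),(5,false),(2,false),(4,false),(5,false),(4,false)]⟩]⟩)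
 (.one ⟨[0,3,2,5,4,3,2,1,8,5,4,3], [⟨2161,[],[]⟩,⟨3327,[],[(0,false),(1,false),(5,false)]⟩,⟨454,[(110,false)],[(5,false),(2,false),(4,false),(5,false),(2,true),(5,false),(4,false),(5,false),(2,false),(6,false)]⟩,⟨890,[(110,false)],[(0,false),(2,false),(4,false),(1,false),(6,false),(4,false),(1,false),(5,false),(4,false),(5,false)]⟩,⟨1868,[(110,false),(109,false)],[(2,false),(6,false),(4,false),(1,false),(4,false),(5,false),(2,false),(6,false),(4,false),(1,false)]⟩,⟨1390,[(110,false),(109,false)],[(2,false),(3,false),(5,false),(4,false),(5,false),(4,false),(1,false),(4,false),(6,false),(4,false)]⟩,⟨1335,[],[(1,false),(4,false),(1,false)]⟩]⟩))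
 (.fork (.one ⟨[2,5,4,3,2,1,8,5,4,3], [⟨2764,[],[(2,false),(4,false),(1,false),(5,false),(4,false),(1,false),(6,false),(4,false),(2,true)]⟩,⟨1570,[(110,true)],[(0,false),(4,false),(5,false),(6,false),(4,false),(5,false),(2,true)]⟩,⟨1124,[(110,true)],[(4,false),(5,false),(2,false),(5,false),(4,false),(1,false),(5,false)]⟩,⟨1665,[],[(4,false),(3,false)]⟩,⟨2166,[(110,true)],[(2,false),(3,false),(6,false),(4,false),(5,false),(4,false),(1,false),(6,false),(4,false)]⟩,⟨2487,[],[(5,false)]⟩,⟨1905,[],[(1,false)]⟩]⟩)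
 (.one ⟨[], []⟩))))
 (.fork (.fork (.fork (.one ⟨[6,4,3,2,1,3], [⟨2502,[(110,false)],[(1,false),(4,false),(1,false),(4,false),(5,false),(2,false),(4,false),(1,false),(5,false),(6,false)]⟩,⟨814,[(110,false)],[(6,false),(4,false),(5,false),(2,false),(4,false),(1,false),(5,false),(6,false),(2,true)]⟩,⟨1336,[(110,false)],[(2,false),(4,false),(5,false),(6,false),(4,false),(1,false),(4,false),(2,true),(5,false)]⟩,⟨1380,[(110,false)],[(1,false),(4,false),(6,false),(2,true),(5,false),(4,false),(1,false),(6,false)]⟩,⟨2042,[(110,false)],[(1,false),(6,false),(4,false),(5,false),(4,false),(1,false)]⟩,⟨2671,[],[]⟩,⟨1452,[(110,false)],[(1,false),(6,false),(2,true),(5,false),(2,false),(4,false),(1,false),(4,false),(6,false),(4,false)]⟩]⟩)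
 (.one ⟨[2,1,0,3,7,6,4,3,2,1,3], [⟨1654,[(109,false)],[(0,false),(5,false),(4,false),(6,false),(4,false),(2,true)]⟩,⟨2546,[],[(1,false),(4,false),(1,false),(5,false),(2,false),(6,false),(4,false)]⟩,⟨3272,[],[(0,false),(6,false),(2,true),(5,false),(4,false),(1,false),(4,false),(6,false),(2,true)]⟩,⟨1145,[],[(5,false),(2,true)]⟩,⟨2826,[],[(1,false),(2,false),(4,false),(5,false),(6,false),(2,true),(5,false),(4,false)]⟩,⟨1933,[],[(4,false),(6,false)]⟩,⟨3605,[],[(5,false)]⟩]⟩))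
 (.fork (.one ⟨[0,2,5,4,3,2,1,5,4,3], [⟨802,[(110,true),(109,false)],[(1,false),(2,false),(3,false),(4,false),(1,false),(5,false),(4,false),(1,false),(4,false),(2,true)]⟩,⟨652,[(110,true),(109,false)],[(2,false),(4,false),(5,false),(4,false),(5,false),(2,false),(5,false),(4,false),(1,false),(4,false)]⟩,⟨832,[(110,true),(109,false)],[(0,false),(5,false),(6,false),(4,false),(5,false),(4,false),(2,true),(5,false),(4,false)]⟩,⟨4163,[],[(0,false),(2,true)]⟩,⟨3373,[],[(3,false),(5,false)]⟩,⟨3112,[(110,true),(109,false)],[(2,false),(4,false),(1,false),(6,false),(4,false),(5,false),(2,false),(4,false),(1,false),(6,false)]⟩,⟨768,[(110,true),(109,false)],[(1,false),(4,false),(2,true),(5,false),(4,false),(1,false),(5,false),(2,false),(6,false),(4,false)]⟩]⟩)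
 (.one ⟨(wOf 14 0x34512345523455), [⟨350,[],[(4,false),(6,false),(4,false),(1,false),(5,false),(2,false)]⟩,⟨1861,[],[(0,false)]⟩,⟨2739,[],[(0,false),(1,false)]⟩,⟨1210,[],[(1,false),(6,false),(4,false),(5,false),(2,false),(4,false),(5,false),(4,false),(6,false),(2,true)]⟩,⟨488,[],[(3,false),(2,true),(5,false),(2,false),(4,false),(5,false),(6,false),(2,true)]⟩,⟨2230,[],[(1,false),(3,false),(5,false),(6,false),(4,false),(5,false),(2,true)]⟩,⟨3523,[],[]⟩]⟩)))
 (.fork (.fork (.one ⟨[0,3,6,6,4,3,2,1,3], [⟨3223,[],[(1,false),(3,false)]⟩,⟨1491,[],[(4,false)]⟩,⟨2538,[(110,false),(109,false)],[(6,false),(4,false),(1,false),(4,false),(1,false),(6,false),(4,false),(1,false),(2,true),(5,false)]⟩,⟨2735,[],[(4,false)]⟩,⟨2837,[],[(0,false),(5,false)]⟩,⟨4205,[],[]⟩,⟨3371,[],[(0,false)]⟩]⟩)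
 (.one ⟨[2,7,6,4,3,2,1,6,4,3], [⟨4052,[(110,true)],[(1,false),(6,false),(2,true),(5,false),(4,false),(5,false),(4,false),(6,false),(4,false)]⟩,⟨3251,[],[]⟩,⟨4118,[],[(0,false),(2,false),(4,false),(6,false),(4,false),(5,false),(4,false),(6,false)]⟩,⟨3775,[],[(2,true),(5,false)]⟩,⟨2183,[],[]⟩,⟨2702,[],[(0,false),(5,false),(2,false),(4,false),(5,false),(2,false),(4,false),(5,false),(6,false),(2,true)]⟩,⟨3007,[],[]⟩]⟩))
 (.fork (.one ⟨[3,2,3,2,5,4,3,2,1,6,4,3], [⟨1677,[],[(3,false)]⟩,⟨3364,[],[(5,false),(2,false),(5,false),(4,false),(6,false),(4,false),(1,false),(4,false),(6,false)]⟩,⟨3599,[],[]⟩,⟨3086,[],[(3,false),(5,false),(2,false),(5,false),(4,false),(5,false),(2,false),(5,false)]⟩,⟨3456,[],[(2,false),(3,false),(5,false),(4,false),(1,false),(4,false),(6,false),(2,true),(5,false)]⟩,⟨3438,[],[(2,false),(3,false),(4,false),(5,false),(4,false),(1,false),(2,true),(5,false),(4,false),(1,false)]⟩,⟨2387,[],[(5,false)]⟩]⟩)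
 (.one ⟨[], []⟩)))))
 (.fork (.fork (.fork (.fork (.one ⟨[1,7,6,4,3], [⟨1023,[],[(3,false)]⟩,⟨782,[(109,false)],[(6,false),(4,false),(5,false),(2,true),(5,false)]⟩,⟨3001,[],[(1,false),(4,false),(2,true)]⟩,⟨2412,[(109,false)],[(0,false),(2,false),(5,false),(6,false),(4,false),(2,true),(5,false),(4,false),(1,false),(6,false),(2,true)]⟩,⟨848,[(109,false)],[(4,false),(1,false),(4,false),(6,false),(4,false),(1,false),(5,false),(4,false),(5,false),(6,false)]⟩,⟨4005,[],[(0,false),(5,false),(6,false)]⟩,⟨4263,[],[(0,false),(1,false),(3,false)]⟩]⟩)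
 (.one ⟨[2,7,6,4,3,2,1,5,4,3], [⟨2911,[],[(0,false),(2,true)]⟩,⟨2249,[],[]⟩,⟨3659,[],[]⟩,⟨2250,[(110,true)],[(0,false),(6,false),(2,true),(5,false),(4,false),(1,false),(4,false),(1,false),(5,false),(6,false),(4,false)]⟩,⟨1929,[],[(4,false),(1,false),(2,true)]⟩,⟨2514,[],[(2,false),(4,false),(1,false),(4,false),(5,false),(6,false),(4,false),(2,true),(5,false),(2,false)]⟩,⟨3780,[(110,true)],[(1,false),(4,false),(1,false),(5,false),(4,false),(5,false),(6,false),(4,false),(2,true),(5,false),(2,true)]⟩]⟩))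
 (.fork (.one ⟨[0,6,6,4,3,2,1,6,4,3], [⟨1346,[(110,false)],[(0,false),(1,false),(4,false),(5,false),(2,false)]⟩,⟨1304,[(110,false)],[(0,false),(1,false),(2,false),(4,false),(5,false),(2,false),(4,false),(5,false),(4,false),(2,true),(5,false)]⟩,⟨3332,[(109,false)],[(3,false),(5,false),(2,false),(6,false),(4,false),(5,false),(4,false),(1,false)]⟩,⟨2163,[],[(6,false),(4,false)]⟩,⟨3196,[(109,false)],[(1,false),(2,false),(4,false),(5,false),(4,false),(1,false),(4,false),(5,false),(2,false),(4,false),(5,false)]⟩,⟨1726,[(109,false)],[(0,false),(1,false),(2,false),(4,false),(5,false),(2,true),(5,false),(4,false),(6,false)]⟩,⟨2165,[],[]⟩]⟩)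
 (.one ⟨[1,3,2,6,6,4,3,2,1,6,4,3], [⟨2559,[],[(0,false),(5,false),(2,true)]⟩,⟨2157,[],[(5,false),(6,false),(2,true)]⟩,⟨1826,[(110,false)],[(0,false),(2,false),(4,false),(1,false),(5,false),(6,false),(4,false),(2,true),(5,false),(2,true)]⟩,⟨2714,[(110,true)],[(3,false),(4,false),(5,false),(4,false),(1,false),(4,false),(2,true),(5,false),(2,false)]⟩,⟨3561,[],[(2,true)]⟩,⟨2425,[],[(1,false),(5,false),(2,true)]⟩,⟨3626,[(110,true)],[(3,false),(2,true),(5,false),(4,false),(2,true),(5,false),(4,false),(1,false),(4,false)]⟩]⟩)))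
 (.fork (.fork (.one ⟨[5,5,4,3,2,1,3], [⟨3521,[],[(4,false),(6,false)]⟩,⟨2893,[],[]⟩,⟨3131,[],[(5,false),(4,false)]⟩,⟨3799,[],[]⟩,⟨4312,[],[(1,false),(2,true),(5,false),(2,false),(4,false),(3,false),(5,false),(2,false),(6,false),(4,false)]⟩,⟨3341,[],[(4,false),(5,false)]⟩,⟨2301,[],[(2,true)]⟩]⟩)
 (.one ⟨[3,2,5,4,3,8,6,4,3,2,1,3], [⟨1921,[],[(0,false),(3,false),(5,false)]⟩,⟨2197,[],[]⟩,⟨1226,[(110,false)],[(1,false),(3,false),(6,false),(4,false),(5,false),(2,false),(4,false),(5,false),(2,true)]⟩,⟨3350,[],[(4,false),(1,false),(5,false),(6,false),(4,false),(5,false),(4,false),(2,true),(5,false),(2,false)]⟩,⟨2390,[(110,true),(109,false)],[(1,false),(4,false),(3,false),(5,false),(2,false),(5,false),(4,false),(5,false),(2,false)]⟩,⟨1790,[(110,true),(109,false)],[(6,false),(4,false),(1,false),(3,false),(5,false),(4,false),(5,false),(2,false),(6,false)]⟩,⟨2609,[],[(0,false),(4,false),(5,false)]⟩]⟩))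
 (.fork (.one ⟨[1,0,4,3,7,6,4,3,2,1,3], [⟨1908,[(110,true),(109,false)],[(0,false),(5,false),(4,false),(5,false),(6,false),(4,false),(5,false),(2,false)]⟩,⟨3789,[],[(2,false)]⟩,⟨1019,[],[]⟩,⟨2305,[],[(2,true)]⟩,⟨2469,[],[(3,false)]⟩,⟨3741,[],[(6,false)]⟩,⟨3919,[],[(0,false),(3,false),(5,false)]⟩]⟩)
 (.one ⟨[], []⟩))))
 (.fork (.fork (.fork (.one ⟨[3,4,3,2,1,5,4,3], [⟨3729,[],[]⟩,⟨2949,[],[]⟩,⟨2207,[],[(1,false)]⟩,⟨3967,[],[(4,false),(1,false),(5,false)]⟩,⟨3788,[],[(0,false),(5,false),(2,false),(6,false),(4,false),(5,false),(4,false),(1,false),(2,true)]⟩,⟨4215,[],[(0,false)]⟩,⟨2984,[(110,true),(109,false)],[(0,false),(4,false),(2,true),(5,false),(4,false),(6,false),(2,true),(5,false),(4,false)]⟩]⟩)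
 (.one ⟨[2,1,3,2,3,5,4,3,2,1,3], [⟨736,[],[(2,false),(4,false),(5,false),(4,false),(1,false),(6,false),(4,false),(1,false),(5,false)]⟩,⟨1495,[],[(2,true)]⟩,⟨762,[],[(4,false),(1,false),(3,false),(6,false),(2,true),(5,false),(4,false),(1,false),(5,false),(6,false),(4,false)]⟩,⟨690,[],[(3,false),(4,false),(1,false),(5,false),(4,false)]⟩,⟨2333,[],[(4,false),(2,true)]⟩,⟨2891,[],[(5,false),(2,true)]⟩,⟨818,[],[(1,false),(2,true),(5,false),(4,false),(5,false),(2,false),(5,false),(4,false)]⟩]⟩))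
 (.fork (.one ⟨[0,2,3,5,5,4,3,2,1,3], [⟨3640,[],[(0,false),(4,false),(5,false),(2,false),(6,false),(4,false),(1,false),(5,false),(2,true)]⟩,⟨528,[(110,true)],[(4,false),(1,false),(6,false),(2,true),(5,false),(4,false),(5,false),(4,false),(1,false),(6,false)]⟩,⟨2435,[],[(1,false),(6,false)]⟩,⟨1280,[(110,true)],[(1,false),(3,false),(4,false),(2,true),(5,false),(2,false),(4,false),(5,false),(6,false)]⟩,⟨1906,[(110,true)],[(2,false),(4,false),(5,false),(6,false),(4,false),(5,false),(4,false),(1,false),(4,false),(2,true)]⟩,⟨1863,[],[(0,false)]⟩,⟨3331,[],[(4,false)]⟩]⟩)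
 (.one ⟨[], []⟩)))
 (.fork (.fork (.one ⟨[3,2,3,6,6,4,3,2,1,3], [⟨3149,[],[(1,false),(6,false)]⟩,⟨2825,[],[]⟩,⟨1854,[(110,false),(109,false)],[(4,false),(5,false),(2,false),(6,false),(4,false),(5,false),(4,false),(5,false),(2,false),(5,false)]⟩,⟨1643,[],[(6,false)]⟩,⟨3485,[],[(1,false),(4,false),(1,false)]⟩,⟨2921,[],[(0,false),(3,false)]⟩,⟨2287,[],[(5,false)]⟩]⟩)
 (.one ⟨[3,2,8,6,4,3,2,1,5,4,3], [⟨2182,[(109,false)],[(0,false),(4,false),(1,false),(4,false),(2,true),(5,false),(2,false),(4,false),(1,false)]⟩,⟨612,[(109,false)],[(0,false),(5,false),(4,false),(1,false),(4,false),(6,false),(4,false),(1,false),(4,false)]⟩,⟨3398,[],[(2,true)]⟩,⟨1315,[],[(3,false),(6,false)]⟩,⟨2593,[],[]⟩,⟨2095,[],[]⟩,⟨3482,[],[(3,false),(5,false),(2,false),(5,false),(4,false),(5,false),(4,false),(1,false),(4,false)]⟩]⟩))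
 (.fork (.one ⟨[4,3,2,3,5,4,3,2,1,3], [⟨602,[(110,false),(109,false)],[(1,false),(4,false),(1,false),(4,false),(5,false),(6,false),(4,false),(2,true)]⟩,⟨540,[(110,true),(109,false)],[(0,false),(4,false),(6,false),(4,false),(2,true)]⟩,⟨1651,[],[]⟩,⟨658,[(110,true)],[(2,false),(4,false),(6,false),(4,false),(1,false),(4,false),(5,false),(2,false),(4,false),(1,false)]⟩,⟨596,[(110,true)],[(0,false),(1,false),(4,false),(6,false),(4,false),(1,false),(2,true)]⟩,⟨3255,[],[]⟩,⟨2119,[],[(4,false),(6,false)]⟩]⟩)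
 (.one ⟨[], []⟩))))))
 (.fork (.fork (.fork (.fork (.fork (.one ⟨[3,2,1,3], [⟨2482,[(110,false),(109,false)],[(0,false),(1,false),(2,true),(5,false),(2,false),(4,false),(1,false),(6,false),(4,false),(1,false),(4,false)]⟩,⟨2356,[(110,false),(109,false)],[(0,false),(1,false),(5,false),(6,false),(4,false)]⟩,⟨3406,[(110,false),(109,false)],[(4,false),(5,false),(2,true),(5,false),(4,false),(1,false),(5,false),(4,false),(2,true),(5,false)]⟩,⟨1136,[(110,false),(109,false)],[(3,false),(4,false),(5,false),(2,false),(6,false),(4,false),(1,false),(4,false),(6,false)]⟩,⟨1342,[(110,false),(109,false)],[(1,false),(6,false),(4,false),(1,false),(4,false),(5,false),(4,false),(1,false)]⟩,⟨2215,[],[(0,false)]⟩,⟨1546,[(110,false),(109,false)],[(0,false),(4,false),(1,false),(5,false),(4,false),(1,false),(6,false),(4,false),(2,true)]⟩]⟩)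
 (.one ⟨[1,2,3,5,4,3,2,1,3], [⟨1666,[(110,false),(109,false)],[(0,false),(2,false),(4,false),(6,false),(4,false),(1,false),(4,false),(1,false),(6,false)]⟩,⟨1816,[(110,false)],[(2,false),(3,false),(5,false),(2,false),(6,false),(4,false),(5,false),(2,false)]⟩,⟨2164,[(110,false)],[(0,false),(1,false),(2,false),(6,false),(4,false),(1,false),(5,false),(4,false),(5,false),(2,false)]⟩,⟨1716,[(110,false)],[(1,false),(4,false),(3,false),(5,false),(6,false),(2,true),(5,false),(4,false),(1,false)]⟩,⟨2382,[(110,false)],[(0,false),(6,false),(4,false),(5,false),(2,false),(4,false),(1,false),(4,false),(5,false),(4,false),(2,true)]⟩,⟨3639,[],[]⟩,⟨786,[(110,false)],[(0,false),(1,false),(4,false),(5,false),(6,false),(4,false),(1,false),(4,false),(1,false),(5,false),(6,false),(2,true)]⟩]⟩))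
 (.fork (.one ⟨[2,4,5,4,3,2,1,5,4,3], [⟨710,[(109,false)],[(0,false),(1,false),(2,false),(4,false),(6,false),(4,false),(1,false),(4,false),(1,false),(6,false),(4,false)]⟩,⟨1828,[(110,true),(109,false)],[(1,false),(5,false),(4,false),(5,false),(2,false),(4,false),(6,false),(4,false),(1,false)]⟩,⟨1183,[],[(3,false),(5,false)]⟩,⟨532,[(109,false)],[(0,false),(4,false),(1,false),(4,false),(5,false),(4,false),(2,true),(5,false),(4,false)]⟩,⟨2681,[],[]⟩,⟨4221,[],[]⟩,⟨2757,[],[]⟩]⟩)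
 (.one ⟨(wOf 13 0x3123463452345), [⟨1222,[(110,false)],[(1,false),(5,false),(6,false),(4,false),(5,false),(2,false),(4,false),(5,false),(4,false),(1,false),(5,false)]⟩,⟨2056,[],[(1,false),(4,false),(5,false),(2,false),(4,false),(1,false),(5,false),(4,false),(6,false),(4,false)]⟩,⟨3451,[],[]⟩,⟨3423,[],[]⟩,⟨3458,[],[(2,false),(3,false),(4,false),(1,false),(5,false),(4,false),(1,false),(6,false),(2,true),(5,false)]⟩,⟨3732,[],[(5,false),(4,false),(3,false),(2,true),(5,false),(4,false),(1,false),(6,false),(4,false)]⟩,⟨628,[],[(4,false),(5,false),(6,false),(2,true),(5,false),(4,false),(5,false),(2,true),(5,false)]⟩]⟩)))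
 (.fork (.fork (.one ⟨[2,4,3,6,4,3,2,1,3], [⟨2539,[],[(1,false)]⟩,⟨2349,[],[(3,false)]⟩,⟨2279,[],[]⟩,⟨3849,[],[(1,false),(3,false),(2,true)]⟩,⟨806,[(110,true),(109,false)],[(4,false),(1,false),(4,false),(5,false),(4,false),(6,false),(2,true),(5,false),(2,false)]⟩,⟨2926,[(109,false)],[(1,false),(3,false),(5,false),(6,false),(4,false),(2,true),(5,false),(4,false),(1,false)]⟩,⟨174,[(109,false)],[(3,false),(5,false),(4,false),(2,true),(5,false),(2,false),(4,false),(5,false),(4,false),(1,false)]⟩]⟩)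
 (.one ⟨[0,3,2,6,4,3,2,1,7,6,4,3], [⟨3101,[],[]⟩,⟨2654,[],[(4,false),(6,false),(4,false),(1,false),(5,false),(4,false),(1,false),(5,false),(2,true)]⟩,⟨2360,[],[(1,false),(3,false),(4,false),(1,false),(4,false),(2,true),(5,false),(4,false),(1,false),(4,false)]⟩,⟨2720,[],[(2,false),(3,false),(6,false),(4,false),(5,false),(4,false),(1,false),(4,false),(6,false)]⟩,⟨2578,[],[(0,false),(4,false),(1,false),(4,false),(2,true),(5,false),(4,false),(2,true)]⟩,⟨915,[],[(2,true)]⟩,⟨932,[],[(3,false),(4,false),(5,false),(6,false),(4,false),(1,false),(5,false),(2,false),(4,false)]⟩]⟩))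
 (.fork (.one ⟨[1,0,3,7,5,4,3,2,1,3], [⟨1967,[],[(0,false),(2,true)]⟩,⟨940,[(110,false)],[(0,false),(2,false),(4,false),(1,false),(5,false),(6,false),(4,false),(5,false)]⟩,⟨3090,[],[(3,false),(4,false),(6,false),(4,false),(2,true),(5,false),(4,false),(2,true),(5,false),(2,true)]⟩,⟨3089,[],[(3,false)]⟩,⟨739,[],[]⟩,⟨1500,[],[(2,false),(3,false),(4,false),(5,false),(4,false),(1,false),(4,false),(1,false),(6,false),(4,false)]⟩,⟨1656,[(109,false)],[(4,false),(5,false),(2,false),(6,false),(4,false),(1,false),(4,false),(5,false),(6,false)]⟩]⟩)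
 (.one ⟨[], []⟩))))
 (.fork (.fork (.fork (.one ⟨[0,2,3,2,1,5,5,4,3], [⟨3008,[],[(0,false),(1,false),(5,false),(4,false),(2,true),(5,false),(2,false),(4,false),(5,false),(4,false),(2,true)]⟩,⟨3725,[],[(3,false)]⟩,⟨4058,[(110,false),(109,false)],[(0,false),(1,false),(4,false),(2,true),(5,false),(4,false),(1,false),(2,true)]⟩,⟨3056,[],[(4,false),(5,false),(2,false),(4,false),(5,false),(4,false),(2,true),(5,false),(4,false),(2,true),(5,false)]⟩,⟨1829,[],[]⟩,⟨2990,[(110,false),(109,false)],[(0,false),(4,false),(1,false),(5,false),(2,false),(4,false),(5,false),(4,false),(2,true)]⟩,⟨3991,[],[(3,false),(5,false)]⟩]⟩)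
 (.one ⟨[0,3,2,4,3,5,4,3,2,1,3], [⟨3801,[],[(4,false)]⟩,⟨1436,[],[(2,true),(5,false),(4,false),(1,false),(6,false),(4,false),(5,false),(2,false),(5,false)]⟩,⟨2216,[],[(3,false),(5,false),(2,false),(4,false),(5,false),(6,false),(2,true),(5,false),(4,false),(6,false)]⟩,⟨741,[],[(0,false)]⟩,⟨1216,[],[(1,false),(4,false),(6,false),(2,true),(5,false),(2,false),(4,false),(5,false)]⟩,⟨1706,[(110,true),(109,false)],[(0,false),(4,false),(2,true),(5,false),(4,false)]⟩,⟨3072,[],[(0,false),(6,false),(2,true),(5,false),(4,false),(6,false),(2,true),(5,false),(4,false),(2,true)]⟩]⟩))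
 (.fork (.one ⟨[0,3,6,4,3,2,1,5,4,3], [⟨1185,[],[]⟩,⟨2159,[],[]⟩,⟨2610,[(110,false)],[(1,false),(5,false),(2,false),(4,false),(1,false),(5,false),(6,false),(4,false),(1,false),(5,false)]⟩,⟨2809,[],[(0,false),(3,false)]⟩,⟨1782,[(110,false)],[(4,false),(5,false),(4,false),(2,true),(5,false),(4,false),(2,true)]⟩,⟨2941,[],[]⟩,⟨1954,[(110,false)],[(1,false),(3,false),(5,false),(4,false),(1,false),(4,false),(6,false),(4,false),(5,false),(2,true)]⟩]⟩)
 (.one ⟨[], []⟩)))
 (.fork (.fork (.one ⟨[0,4,3,5,4,3,2,1,3], [⟨1130,[(110,true)],[(0,false),(5,false),(4,false),(5,false),(2,true),(5,false),(4,false),(1,false),(5,false)]⟩,⟨1471,[],[(3,false)]⟩,⟨2223,[],[(0,false),(4,false),(2,true)]⟩,⟨1244,[(110,true)],[(1,false),(4,false),(3,false),(5,false),(2,false),(5,false),(4,false),(1,false),(4,false),(5,false)]⟩,⟨1323,[],[(4,false),(3,false),(5,false)]⟩,⟨1849,[],[(4,false),(1,false)]⟩,⟨2233,[],[(0,false),(1,false)]⟩]⟩)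
 (.one ⟨[3,5,4,3,2,3,5,4,3,2,1,3], [⟨2005,[],[]⟩,⟨570,[(109,false)],[(0,false),(2,false),(5,false),(4,false),(1,false),(6,false),(4,false),(1,false),(5,false),(4,false)]⟩,⟨2973,[],[(0,false),(3,false)]⟩,⟨1286,[(109,false)],[(0,false),(5,false),(2,false),(4,false),(5,false),(6,false),(4,false),(1,false),(2,true),(5,false)]⟩,⟨2673,[],[]⟩,⟨2322,[(109,false)],[(4,false),(6,false),(2,true),(5,false),(4,false),(1,false),(2,true)]⟩,⟨2122,[(109,false)],[(0,false),(1,false),(5,false),(4,false),(2,true),(5,false),(2,false),(4,false),(6,false)]⟩]⟩))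
 (.fork (.one ⟨[1,3,2,3,5,4,3,2,1,3], [⟨3429,[],[(6,false),(2,true)]⟩,⟨4294,[],[(1,false),(4,false),(6,false),(2,true),(5,false),(4,false),(5,false),(4,false)]⟩,⟨3873,[],[(4,false)]⟩,⟨3722,[],[(0,false),(1,false),(6,false),(4,false),(5,false),(4,false)]⟩,⟨2024,[(110,true),(109,false)],[(0,false),(4,false),(5,false),(2,false),(5,false),(4,false),(5,false),(2,false),(5,false)]⟩,⟨2495,[],[(0,false),(1,false)]⟩,⟨2561,[],[]⟩]⟩)
 (.one ⟨[], []⟩)))))
 (.fork (.fork (.fork (.fork (.one ⟨[0,2,1,6,4,3], [⟨1711,[],[(5,false),(4,false)]⟩,⟨3119,[],[]⟩,⟨2828,[(110,false)],[(3,false),(4,false),(1,false),(4,false),(6,false),(4,false),(1,false),(2,true),(5,false)]⟩,⟨2694,[(110,false)],[(0,false),(1,false),(4,false),(6,false),(4,false),(5,false),(4,false),(6,false)]⟩,⟨3422,[(110,false)],[(1,false),(5,false),(4,false),(1,false),(4,false),(2,true),(5,false),(4,false),(1,false),(4,false)]⟩,⟨1566,[(110,false)],[(3,false),(5,false),(2,true),(5,false),(4,false),(5,false),(2,false),(4,false),(5,false),(2,true)]⟩,⟨3552,[(110,false)],[(4,false),(6,false),(4,false),(1,false),(4,false),(5,false),(6,false)]⟩]⟩)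
 (.one ⟨[4,6,4,3,2,1,6,4,3], [⟨2709,[],[]⟩,⟨3414,[],[(1,false),(5,false),(2,false),(4,false),(1,false),(3,false),(4,false),(6,false)]⟩,⟨4152,[],[(5,false),(4,false),(3,false),(2,true),(5,false),(2,true)]⟩,⟨4134,[],[(3,false),(5,false),(4,false),(2,true),(5,false),(4,false),(2,true),(5,false)]⟩,⟨2601,[],[(3,false)]⟩,⟨1830,[],[(5,false),(4,false),(2,true),(5,false),(4,false),(5,false),(2,true),(5,false),(4,false)]⟩,⟨2701,[],[(6,false),(2,true)]⟩]⟩))
 (.fork (.one ⟨[2,4,3,7,6,4,3,2,1,3], [⟨1558,[],[(2,false),(3,false),(4,false),(6,false),(4,false),(5,false),(4,false),(2,true),(5,false)]⟩,⟨2237,[],[]⟩,⟨3389,[],[(4,false)]⟩,⟨2928,[],[(4,false),(3,false),(5,false),(2,true),(5,false),(4,false),(1,false),(5,false),(6,false),(2,true)]⟩,⟨2877,[],[(1,false),(5,false),(4,false)]⟩,⟨2564,[],[(0,false),(2,false),(6,false),(4,false),(5,false),(4,false),(1,false),(5,false),(2,false),(4,false)]⟩,⟨1029,[],[]⟩]⟩)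
 (.one ⟨(wOf 13 0x3123463452342), [⟨1562,[],[(0,false),(1,false),(5,false),(4,false),(1,false),(5,false),(6,false),(4,false),(1,false),(5,false),(4,false)]⟩,⟨2036,[],[(2,false),(5,false),(2,false),(6,false),(4,false),(5,false),(4,false),(6,false),(2,true)]⟩,⟨3333,[],[]⟩,⟨2986,[],[(2,false),(5,false),(6,false),(4,false),(1,false),(4,false),(1,false),(5,false)]⟩,⟨2506,[(110,false)],[(1,false),(2,false),(4,false),(5,false),(4,false),(1,false),(2,true),(5,false),(4,false),(1,false)]⟩,⟨2317,[],[]⟩,⟨430,[],[(0,false),(5,false),(2,false),(5,false),(6,false),(4,false),(1,false),(4,false),(5,false),(6,false)]⟩]⟩)))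
 (.fork (.fork (.one ⟨[0,4,6,4,3,2,1,3], [⟨2958,[(110,false)],[(0,false),(1,false),(5,false),(2,false),(4,false),(5,false),(6,false),(4,false),(5,false),(2,true)]⟩,⟨1508,[(109,false)],[(2,false),(5,false),(6,false),(4,false),(1,false),(4,false)]⟩,⟨2476,[(110,false),(109,false)],[(0,false),(2,false),(4,false),(1,false),(5,false),(4,false),(5,false),(6,false),(4,false),(2,true)]⟩,⟨2303,[],[(2,false),(6,false)]⟩,⟨3369,[],[(3,false),(2,true),(5,false)]⟩,⟨3171,[],[]⟩,⟨3755,[],[(0,false),(4,false),(6,false)]⟩]⟩)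
 (.one ⟨[1,0,3,2,5,4,3,2,1,6,4,3], [⟨2996,[(110,true),(109,false)],[(1,false),(4,false),(6,false),(4,false),(1,false),(5,false),(4,false),(1,false)]⟩,⟨3471,[],[]⟩,⟨1460,[(109,false)],[(0,false),(4,false),(1,false),(4,false),(5,false),(6,false),(4,false),(5,false),(2,true)]⟩,⟨3814,[],[(2,false),(5,false),(2,false),(4,false),(3,false),(5,false),(2,false),(4,false),(6,false)]⟩,⟨3727,[],[(1,false),(4,false),(3,false)]⟩,⟨2683,[],[(4,false)]⟩,⟨2573,[],[]⟩]⟩))
 (.fork (.one ⟨[0,7,5,4,3,6,4,3,2,1,3], [⟨2922,[(110,false)],[(2,true),(5,false),(4,false),(1,false),(6,false),(2,true),(5,false),(4,false),(1,false),(6,false)]⟩,⟨1934,[(110,false),(109,false)],[(0,false),(1,false),(2,false),(6,false),(4,false),(5,false),(4,false),(5,false),(6,false),(4,false)]⟩,⟨1979,[],[(3,false)]⟩,⟨3160,[],[(4,false),(5,false),(6,false),(2,true),(5,false),(4,false),(1,false),(4,false),(5,false)]⟩,⟨3619,[],[]⟩,⟨2737,[],[]⟩,⟨2775,[],[]⟩]⟩)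
 (.one ⟨[], []⟩))))
 (.fork (.fork (.fork (.one ⟨[0,3,2,1,6,6,4,3], [⟨3011,[],[(5,false),(2,true)]⟩,⟨4160,[(109,false)],[(2,false),(5,false),(2,false),(4,false),(1,false),(5,false),(6,false),(4,false),(5,false),(2,true)]⟩,⟨1578,[(109,false)],[(4,false),(5,false),(6,false),(2,true),(5,false),(4,false),(5,false),(4,false),(2,true)]⟩,⟨1879,[],[(0,false)]⟩,⟨2151,[],[(0,false),(1,false),(5,false)]⟩,⟨1094,[(109,false)],[(0,false),(2,false),(4,false),(5,false),(4,false),(6,false),(4,false),(1,false),(2,true)]⟩,⟨3416,[(109,false)],[(0,false),(1,false),(2,false),(4,false),(5,false),(4,false),(1,false),(6,false),(2,true),(5,false)]⟩]⟩)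
 (.one ⟨[0,1,3,2,3,6,6,4,3,2,1,3], [⟨3427,[],[(6,false),(2,true)]⟩,⟨2908,[(110,false)],[(4,false),(1,false),(3,false),(4,false),(6,false),(4,false),(1,false),(5,false),(2,true)]⟩,⟨4245,[],[]⟩,⟨2834,[(110,false)],[(1,false),(4,false),(5,false),(6,false),(2,true),(5,false),(4,false),(5,false),(2,false)]⟩,⟨2470,[(110,false)],[(2,false),(4,false),(5,false),(2,false),(4,false),(6,false),(4,false),(1,false),(4,false)]⟩,⟨2432,[(110,false)],[(2,false),(5,false),(6,false),(4,false),(2,true),(5,false),(4,false)]⟩,⟨3715,[],[(4,false),(1,false),(2,true)]⟩]⟩))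
 (.fork (.one ⟨[2,4,3,8,5,4,3,2,1,3], [⟨1337,[],[(1,false)]⟩,⟨2155,[],[(1,false),(2,true)]⟩,⟨3536,[(110,false)],[(0,false),(5,false),(6,false),(4,false),(5,false),(4,false),(2,true),(5,false),(4,false)]⟩,⟨1010,[(110,false)],[(2,true),(5,false),(4,false),(5,false),(2,true),(5,false),(4,false),(5,false),(6,false)]⟩,⟨1188,[(110,false)],[(1,false),(4,false),(1,false),(6,false),(4,false),(1,false),(4,false),(2,true),(5,false),(2,false)]⟩,⟨3135,[],[(2,true)]⟩,⟨2046,[(110,false)],[(2,false),(5,false),(4,false),(5,false),(6,false),(4,false),(2,true),(5,false),(2,true)]⟩]⟩)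
 (.one ⟨[], []⟩)))
 (.fork (.fork (.one ⟨[4,3,2,1,7,6,4,3], [⟨2970,[],[(1,false),(4,false),(6,false),(2,true),(5,false),(4,false),(6,false),(2,true),(5,false),(4,false)]⟩,⟨1343,[],[]⟩,⟨3554,[],[(5,false),(2,false),(6,false),(4,false),(3,false),(5,false),(2,true)]⟩,⟨2338,[],[(4,false),(3,false),(2,true),(5,false),(2,false),(4,false),(1,false)]⟩,⟨1847,[],[(1,false),(4,false),(3,false)]⟩,⟨3244,[],[(1,false),(3,false),(2,true),(5,false),(4,false),(5,false),(4,false),(6,false),(2,true),(5,false),(2,false)]⟩,⟨2721,[],[(0,false),(1,false),(6,false)]⟩]⟩)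
 (.one ⟨[1,0,3,2,6,4,3,2,1,5,4,3], [⟨2408,[],[(2,false),(5,false),(2,false),(4,false),(1,false),(6,false),(4,false),(1,false),(5,false),(2,true)]⟩,⟨4203,[],[]⟩,⟨3959,[],[(4,false)]⟩,⟨2616,[],[(4,false),(1,false),(4,false),(1,false),(6,false),(4,false),(5,false),(2,false)]⟩,⟨950,[],[(0,false),(5,false),(2,false),(4,false),(5,false),(4,false),(2,true),(5,false),(4,false),(1,false),(2,true)]⟩,⟨1120,[(110,false)],[(1,false),(4,false),(1,false),(4,false),(2,true),(5,false),(4,false),(5,false),(6,false),(4,false)]⟩,⟨2255,[],[(4,false),(6,false),(2,true)]⟩]⟩))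
 (.fork (.one ⟨[0,3,2,4,6,4,3,2,1,6,4,3], [⟨1556,[],[(4,false),(5,false),(2,false),(4,false),(1,false),(4,false),(5,false),(4,false),(1,false),(2,true)]⟩,⟨1444,[],[(4,false),(1,false),(4,false),(5,false),(2,false),(4,false),(1,false),(4,false),(5,false),(2,true)]⟩,⟨2569,[],[(1,false)]⟩,⟨1312,[(109,false)],[(4,false),(1,false),(4,false),(5,false),(6,false),(2,true),(5,false),(4,false),(5,false),(2,false)]⟩,⟨3691,[],[]⟩,⟨1843,[],[]⟩,⟨2022,[],[(6,false),(2,true),(5,false),(4,false),(3,false),(2,true),(5,false),(4,false),(6,false),(2,true),(5,false)]⟩]⟩)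
 (.one ⟨[], []⟩)))))))

/-- a part of the orbits of state 5 -/
noncomputable def twRoots5T7 : BT TRoot := (.fork (.fork (.fork (.fork (.fork (.fork (.one ⟨[0,1], [⟨123,[(110,true)],[(3,false),(4,false),(6,false),(4,false),(5,false)]⟩,⟨258,[(110,true)],[(4,false),(5,false),(2,false),(4,false),(6,false),(4,false),(1,false),(4,false),(1,false)]⟩,⟨220,[(110,true)],[(5,false),(2,false),(5,false),(4,false),(1,false),(4,false),(5,false),(6,false),(4,false),(1,false)]⟩,⟨1182,[(110,true)],[(1,false),(2,false),(3,false),(5,false),(4,false),(5,false),(6,false),(4,false),(5,false),(2,false)]⟩,⟨422,[(110,true)],[(0,false),(4,false),(6,false),(4,false),(1,false),(4,false),(1,false),(6,false),(4,false)]⟩,⟨212,[(110,true)],[(2,false),(3,false),(5,false),(4,false),(5,false),(2,false),(5,false),(4,false),(6,false),(4,false)]⟩,⟨2821,[],[(0,false),(4,false),(2,true)]⟩]⟩)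
 (.one ⟨[0,3,2,4,3,7,5,4,3,2,1,3], [⟨3641,[],[(0,false),(3,false)]⟩,⟨2271,[],[(0,false),(1,false),(4,false)]⟩,⟨2818,[(110,false)],[(0,false),(5,false),(4,false),(1,false),(6,false),(4,false),(1,false),(5,false),(4,false)]⟩,⟨2815,[],[(5,false)]⟩,⟨3817,[],[(0,false),(3,false)]⟩,⟨3698,[],[(4,false),(2,true),(5,false),(4,false),(1,false),(4,false),(6,false),(2,true)]⟩,⟨3182,[(110,false)],[(0,false),(1,false),(5,false),(2,false),(4,false),(5,false),(2,true),(5,false)]⟩]⟩))
 (.fork (.one ⟨[0,4,5,4,3,2,1,6,4,3], [⟨3519,[],[]⟩,⟨3655,[],[(0,false),(1,false),(3,false)]⟩,⟨3813,[],[(0,false),(1,false)]⟩,⟨1902,[(109,false)],[(1,false),(2,true),(5,false),(4,false),(1,false),(5,false),(6,false),(4,false),(2,true),(5,false),(2,false)]⟩,⟨3503,[],[(0,false)]⟩,⟨3638,[(109,false)],[(1,false),(2,false),(5,false),(6,false),(4,false),(1,false),(3,false),(2,true)]⟩,⟨2347,[],[(0,false),(2,true),(5,false)]⟩]⟩)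
 (.one ⟨(wOf 13 0x3123468345232), [⟨3033,[],[(5,false)]⟩,⟨3716,[(110,true),(109,false)],[(2,false),(6,false),(4,false),(1,false),(3,false),(4,false),(5,false),(4,false),(1,false)]⟩,⟨2884,[(110,true),(109,false)],[(1,false),(2,false),(4,false),(1,false),(4,false),(5,false),(6,false),(4,false),(1,false),(4,false),(5,false),(2,false)]⟩,⟨3923,[],[(6,false)]⟩,⟨3161,[],[(3,false)]⟩,⟨1020,[(110,false)],[(1,false),(4,false),(5,false),(2,false),(6,false),(4,false),(1,false),(4,false),(5,false),(2,false)]⟩,⟨3222,[(110,true),(109,false)],[(5,false),(4,false),(2,true),(5,false),(2,false),(4,false),(5,false),(6,false),(4,false)]⟩]⟩)))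
 (.fork (.fork (.one ⟨[0,4,3,6,4,3,2,1,3], [⟨3628,[(110,false)],[(0,false),(6,false),(4,false),(2,true),(5,false),(4,false),(1,false),(5,false),(6,false),(2,true)]⟩,⟨2108,[(110,true),(109,false)],[(1,false),(3,false),(5,false),(4,false),(1,false),(2,true),(5,false),(4,false),(1,false),(6,false)]⟩,⟨3357,[],[]⟩,⟨3340,[(110,false)],[(2,false),(6,false),(4,false),(1,false),(3,false),(5,false),(4,false),(1,false),(6,false)]⟩,⟨2032,[(110,false)],[(3,false),(6,false),(4,false),(1,false),(5,false),(4,false),(1,false),(6,false)]⟩,⟨3761,[],[(4,false),(5,false)]⟩,⟨2135,[],[(3,false)]⟩]⟩)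
 (.one ⟨[1,0,3,2,3,7,6,4,3,2,1,3], [⟨3329,[],[(6,false)]⟩,⟨1033,[],[(3,false),(5,false),(4,false)]⟩,⟨1590,[],[(1,false),(4,false),(5,false),(2,false),(4,false),(1,false),(6,false),(4,false),(1,false),(4,false)]⟩,⟨4318,[],[(0,false),(2,false),(4,false),(6,false),(4,false),(1,false),(4,false),(5,false),(2,true)]⟩,⟨1454,[],[(2,false),(5,false),(4,false),(3,false),(6,false),(4,false),(5,false),(4,false),(1,false),(2,true)]⟩,⟨2904,[(110,false),(109,false)],[(0,false),(1,false),(6,false),(4,false),(1,false),(5,false),(4,false),(5,false),(6,false),(2,true),(5,false)]⟩,⟨3629,[],[(5,false),(6,false)]⟩]⟩))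
 (.fork (.one ⟨[0,2,8,6,4,3,2,1,5,4,3], [⟨1700,[(110,false)],[(0,false),(4,false),(6,false),(4,false),(1,false),(5,false),(4,false),(1,false),(6,false),(2,true),(5,false)]⟩,⟨2588,[],[(0,false),(4,false),(6,false),(4,false),(1,false),(4,false),(5,false),(6,false),(2,true),(5,false)]⟩,⟨2587,[],[(1,false),(3,false),(6,false)]⟩,⟨876,[(110,false)],[(1,false),(5,false),(2,false),(4,false),(5,false),(2,false),(6,false)]⟩,⟨2489,[],[]⟩,⟨908,[(110,false)],[(0,false),(1,false),(2,false),(6,false),(4,false),(1,false),(5,false),(2,true)]⟩,⟨926,[(110,false)],[(2,false),(4,false),(1,false),(3,false),(4,false),(5,false),(6,false)]⟩]⟩)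
 (.one ⟨[], []⟩))))
 (.fork (.fork (.fork (.one ⟨[5,4,3,2,1,3], [⟨3793,[],[(2,false),(3,false)]⟩,⟨708,[(109,false)],[(1,false),(3,false),(4,false),(5,false),(2,false),(6,false),(4,false),(1,false),(4,false),(5,false),(2,false)]⟩,⟨1919,[],[]⟩,⟨3038,[],[(0,false),(5,false),(2,false),(4,false),(5,false),(4,false),(2,true),(5,false),(2,false),(4,false),(5,false)]⟩,⟨735,[],[]⟩,⟨852,[(110,false)],[(2,false),(5,false),(4,false),(3,false),(6,false),(4,false),(2,true),(5,false),(4,false),(2,true)]⟩,⟨820,[(110,false)],[(0,false),(1,false),(5,false),(6,false),(4,false),(5,false),(2,false),(5,false),(4,false),(5,false)]⟩]⟩)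
 (.one ⟨[2,1,0,3,5,4,3,2,1,3], [⟨1014,[],[(1,false),(4,false),(2,true),(5,false),(2,false),(4,false),(1,false),(4,false),(6,false),(4,false)]⟩,⟨1992,[],[(1,false),(5,false),(4,false),(3,false),(5,false),(6,false),(4,false),(1,false),(2,true)]⟩,⟨1052,[],[(6,false),(4,false),(3,false),(5,false),(4,false),(6,false)]⟩,⟨2644,[],[(0,false),(1,false),(4,false),(5,false),(2,false),(4,false),(5,false),(4,false),(1,false),(4,false)]⟩,⟨2267,[],[]⟩,⟨2631,[],[(1,false),(3,false)]⟩,⟨911,[],[]⟩]⟩))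
 (.fork (.one ⟨[0,5,4,3,2,1,5,4,3], [⟨3014,[(110,false)],[(3,false),(5,false),(2,false),(5,false),(6,false),(4,false),(1,false)]⟩,⟨1149,[],[(1,false),(5,false),(6,false)]⟩,⟨2477,[],[(0,false),(3,false)]⟩,⟨3723,[],[(0,false)]⟩,⟨2272,[(110,false)],[(4,false),(1,false),(5,false),(4,false),(5,false),(2,false),(6,false),(4,false),(1,false),(4,false),(6,false)]⟩,⟨3181,[],[(3,false)]⟩,⟨2536,[],[(0,false),(4,false),(1,false),(5,false),(4,false),(2,true),(5,false),(2,false),(4,false),(5,false)]⟩]⟩)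
 (.one ⟨(wOf 13 0x3123453234512), [⟨2515,[],[(3,false),(5,false)]⟩,⟨360,[(110,true),(109,false)],[(1,false),(4,false),(6,false),(4,false),(2,true),(5,false),(4,false),(1,false),(4,false)]⟩,⟨3436,[],[(1,false),(6,false),(4,false),(5,false),(4,false),(1,false),(5,false),(4,false),(6,false)]⟩,⟨2767,[],[(6,false)]⟩,⟨3656,[(110,true),(109,false)],[(0,false),(1,false),(4,false),(6,false),(4,false),(5,false),(4,false),(5,false),(6,false),(4,false)]⟩,⟨3474,[(110,true),(109,false)],[(0,false),(1,false),(2,false),(4,false),(1,false),(6,false),(4,false),(1,false)]⟩,⟨3472,[],[(0,false),(5,false),(2,false),(6,false),(4,false),(5,false),(4,false),(1,false),(5,false),(2,false)]⟩]⟩)))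
 (.fork (.fork (.one ⟨[0,3,7,6,4,3,2,1,3], [⟨3989,[],[(5,false)]⟩,⟨2619,[],[(3,false)]⟩,⟨3009,[],[(2,true)]⟩,⟨3032,[],[(0,false),(5,false),(4,false),(1,false),(5,false),(6,false),(4,false),(1,false),(4,false),(6,false)]⟩,⟨2302,[(110,true)],[(2,false),(4,false),(1,false),(5,false),(4,false),(5,false),(2,false),(4,false),(6,false),(4,false)]⟩,⟨2591,[],[]⟩,⟨2219,[],[(0,false),(6,false)]⟩]⟩)
 (.one ⟨(wOf 13 0x3123468345230), [⟨2766,[(110,false),(109,false)],[(0,false),(5,false),(4,false),(1,false),(4,false),(6,false),(2,true),(5,false)]⟩,⟨1661,[],[(1,false),(5,false),(2,true)]⟩,⟨1638,[(110,false),(109,false)],[(0,false),(1,false),(5,false),(4,false),(2,true),(5,false),(2,false),(4,false),(1,false),(6,false),(4,false)]⟩,⟨3278,[(110,false),(109,false)],[(4,false),(1,false),(5,false),(2,false),(4,false),(1,false),(4,false)]⟩,⟨2937,[],[(2,true)]⟩,⟨2728,[(110,true),(109,false)],[(4,false),(1,false),(2,true),(5,false),(4,false),(5,false),(6,false),(4,false),(1,false)]⟩,⟨1442,[(110,true),(109,false)],[(2,false),(3,false),(5,false),(4,false),(5,false),(2,false),(4,false),(5,false),(4,false)]⟩]⟩))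
 (.fork (.one ⟨[0,8,5,4,3,2,1,5,4,3], [⟨4162,[(110,true)],[(6,false),(4,false),(5,false),(2,true),(5,false),(4,false),(5,false),(4,false),(1,false)]⟩,⟨3417,[],[(0,false),(2,true)]⟩,⟨3418,[(109,false)],[(2,false),(3,false),(4,false),(5,false),(2,true),(5,false),(4,false),(5,false),(6,false),(4,false)]⟩,⟨1550,[(110,true)],[(0,false),(1,false),(4,false),(6,false),(4,false),(1,false),(4,false),(2,true)]⟩,⟨4150,[(110,false)],[(1,false),(2,false),(4,false),(3,false),(5,false),(4,false),(6,false),(4,false),(2,true)]⟩,⟨1626,[(110,true)],[(1,false),(2,false),(4,false),(1,false),(6,false),(4,false),(5,false),(2,true)]⟩,⟨4253,[],[(4,false),(2,true)]⟩]⟩)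
 (.one ⟨[], []⟩)))))
 (.fork (.fork (.fork (.fork (.one ⟨[0,1,5,4,3], [⟨2162,[(109,false)],[(1,false),(4,false),(5,false),(2,false),(5,false),(4,false),(5,false),(2,false),(5,false),(4,false),(1,false)]⟩,⟨756,[],[(5,false),(2,false),(4,false),(3,false),(6,false)]⟩,⟨2672,[(109,false)],[(0,false),(2,false),(4,false),(1,false),(5,false),(4,false),(6,false),(2,true),(5,false),(4,false)]⟩,⟨2666,[],[(0,false),(5,false),(6,false),(4,false),(2,true),(5,false),(2,false),(4,false),(1,false),(4,false)]⟩,⟨1794,[(109,false)],[(0,false),(5,false),(4,false),(1,false),(5,false),(6,false),(4,false),(2,true),(5,false),(4,false)]⟩,⟨2422,[],[(0,false),(2,false),(5,false),(4,false),(6,false),(4,false),(1,false),(4,false),(5,false),(2,false)]⟩,⟨365,[],[(0,false),(3,false)]⟩]⟩)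
 (.one ⟨[3,2,4,6,4,3,2,1,6,4,3], [⟨1519,[],[]⟩,⟨772,[(110,true),(109,false)],[(2,false),(3,false),(4,false),(1,false),(5,false),(4,false),(6,false),(4,false),(1,false),(2,true)]⟩,⟨2078,[(110,false),(109,false)],[(1,false),(4,false),(5,false),(6,false),(4,false),(1,false),(5,false),(4,false),(2,true),(5,false)]⟩,⟨1953,[],[]⟩,⟨2125,[],[(5,false),(4,false),(2,true)]⟩,⟨1720,[],[(1,false),(3,false),(5,false),(2,false),(4,false),(5,false),(2,false),(4,false),(6,false)]⟩,⟨2389,[],[]⟩]⟩))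
 (.fork (.one ⟨[2,1,0,3,2,1,5,5,4,3], [⟨1873,[],[(3,false)]⟩,⟨322,[],[(1,false),(2,false),(3,false),(4,false),(1,false),(5,false),(4,false),(6,false),(2,true),(5,false)]⟩,⟨1021,[],[(4,false),(1,false)]⟩,⟨234,[],[(1,false),(4,false),(1,false),(4,false),(6,false),(2,true),(5,false),(4,false),(5,false),(4,false)]⟩,⟨232,[],[(1,false),(5,false),(4,false),(5,false),(4,false),(2,true),(5,false),(4,false),(1,false),(5,false),(2,true)]⟩,⟨260,[],[(4,false),(5,false),(2,false),(4,false),(1,false),(4,false),(5,false),(4,false),(6,false)]⟩,⟨480,[],[(0,false),(4,false),(1,false),(6,false),(4,false),(1,false),(2,true),(5,false),(4,false),(5,false),(6,false)]⟩]⟩)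
 (.one ⟨(wOf 13 0x3451234662301), [⟨1882,[(110,false)],[(1,false),(2,false),(5,false),(6,false),(4,false),(1,false),(4,false),(5,false),(2,false),(5,false),(6,false)]⟩,⟨2313,[],[(5,false)]⟩,⟨2952,[],[(0,false),(4,false),(5,false),(2,false),(5,false),(4,false),(1,false),(4,false),(5,false),(2,false)]⟩,⟨3258,[],[(1,false),(2,false),(3,false),(5,false),(4,false),(1,false),(5,false),(6,false),(4,false),(2,true),(5,false)]⟩,⟨1977,[],[(1,false),(4,false)]⟩,⟨2346,[],[(3,false),(4,false),(5,false),(2,false),(6,false),(4,false),(5,false),(2,false),(4,false),(1,false)]⟩,⟨894,[],[(1,false),(5,false),(4,false),(6,false),(4,false),(5,false),(4,false),(2,true)]⟩]⟩)))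
 (.fork (.fork (.one ⟨[4,6,4,3,2,1,3], [⟨2256,[],[(2,false),(5,false),(2,false),(6,false),(4,false),(3,false),(5,false),(4,false),(1,false),(4,false)]⟩,⟨2446,[(110,false)],[(3,false),(4,false),(1,false),(5,false),(4,false),(5,false),(2,false)]⟩,⟨1025,[],[(2,true)]⟩,⟨4231,[],[]⟩,⟨4011,[],[]⟩,⟨2123,[],[(0,false),(1,false)]⟩,⟨1448,[(110,false)],[(0,false),(1,false),(6,false),(4,false),(1,false),(5,false),(4,false),(6,false),(2,true)]⟩]⟩)
 (.one ⟨[3,2,5,4,3,2,1,7,5,4,3], [⟨2545,[],[(4,false),(2,true)]⟩,⟨2581,[],[]⟩,⟨2852,[],[(2,false),(6,false),(4,false),(1,false),(4,false),(5,false),(4,false),(5,false),(6,false)]⟩,⟨2690,[(110,false),(109,false)],[(2,false),(5,false),(6,false),(4,false),(1,false),(4,false),(6,false)]⟩,⟨1644,[],[(3,false),(6,false),(4,false),(1,false),(2,true),(5,false)]⟩,⟨3159,[],[(1,false),(5,false),(6,false)]⟩,⟨2804,[(110,true)],[(1,false),(2,false),(6,false),(4,false),(1,false),(5,false),(4,false),(5,false),(4,false),(2,true)]⟩]⟩))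
 (.fork (.one ⟨(wOf 13 0x3123463450121), [⟨3396,[],[(3,false),(6,false),(2,true),(5,false),(4,false),(5,false),(2,false),(5,false)]⟩,⟨2667,[],[(0,false)]⟩,⟨3450,[(110,false)],[(3,false),(5,false),(2,true),(5,false),(4,false),(1,false),(5,false),(6,false)]⟩,⟨3600,[],[(0,false),(4,false),(5,false),(4,false),(6,false),(2,true),(5,false),(4,false),(2,true),(5,false)]⟩,⟨1164,[(110,true),(109,false)],[(2,false),(3,false),(5,false),(4,false),(5,false),(4,false),(1,false),(2,true)]⟩,⟨3265,[],[(5,false)]⟩,⟨3220,[(110,false)],[(3,false),(4,false),(1,false),(6,false),(4,false),(1,false),(5,false)]⟩]⟩)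
 (.one ⟨[], []⟩))))
 (.fork (.fork (.fork (.one ⟨[3,2,1,7,5,4,3], [⟨637,[],[]⟩,⟨3768,[],[(1,false),(2,true),(5,false),(2,false),(4,false),(1,false),(5,false),(4,false),(1,false),(6,false)]⟩,⟨3802,[],[(6,false),(4,false),(1,false),(3,false)]⟩,⟨1937,[],[]⟩,⟨2463,[],[(6,false)]⟩,⟨3405,[],[(3,false)]⟩,⟨1206,[(110,true)],[(1,false),(3,false),(5,false),(2,false),(4,false),(1,false),(5,false),(4,false),(5,false),(2,true)]⟩]⟩)
 (.one ⟨[1,3,2,3,7,5,4,3,2,1,3], [⟨2580,[(109,false)],[(2,false),(4,false),(1,false),(5,false),(4,false),(5,false),(2,false),(6,false)]⟩,⟨3510,[(109,false)],[(5,false),(4,false),(2,true),(5,false),(2,false),(4,false),(5,false),(4,false),(1,false)]⟩,⟨4013,[],[]⟩,⟨3597,[],[]⟩,⟨3513,[],[]⟩,⟨3721,[],[]⟩,⟨4096,[],[(1,false),(4,false),(5,false),(4,false),(6,false),(2,true),(5,false),(4,false)]⟩]⟩))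
 (.fork (.one ⟨[0,4,3,8,5,4,3,2,1,3], [⟨3540,[(110,true),(109,false)],[(1,false),(4,false),(5,false),(4,false),(1,false),(5,false),(6,false),(4,false),(2,true)]⟩,⟨2991,[],[]⟩,⟨1880,[(110,false)],[(1,false),(2,true),(5,false),(4,false),(1,false),(6,false),(4,false),(1,false),(4,false)]⟩,⟨1080,[(110,false)],[(0,false),(4,false),(2,true),(5,false),(4,false),(6,false),(2,true),(5,false),(2,false)]⟩,⟨3174,[(110,false)],[(2,false),(5,false),(2,false),(4,false),(5,false),(4,false),(1,false),(2,true)]⟩,⟨1778,[(110,true),(109,false)],[(4,false),(1,false),(3,false),(4,false),(5,false),(2,false),(6,false),(4,false)]⟩,⟨3921,[],[]⟩]⟩)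
 (.one ⟨[], []⟩)))
 (.fork (.fork (.one ⟨[1,0,3,6,6,4,3,2,1,3], [⟨1608,[(109,false)],[(4,false),(5,false),(2,false),(4,false),(6,false),(4,false),(5,false),(2,false)]⟩,⟨2719,[],[(0,false),(2,true),(5,false)]⟩,⟨2589,[],[(5,false)]⟩,⟨2170,[(109,false)],[(0,false),(2,false),(5,false),(6,false),(4,false),(1,false),(5,false),(4,false)]⟩,⟨1817,[],[(1,false),(5,false),(6,false)]⟩,⟨2127,[],[(0,false),(6,false)]⟩,⟨1724,[(109,false)],[(1,false),(3,false),(5,false),(6,false),(4,false),(5,false),(2,true),(5,false),(4,false)]⟩]⟩)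
 (.one ⟨[3,2,4,6,4,3,2,1,5,4,3], [⟨3927,[],[(4,false)]⟩,⟨2858,[],[(0,false),(2,false),(5,false),(4,false),(5,false)]⟩,⟨2458,[],[(6,false),(2,true),(5,false),(2,false),(4,false),(5,false),(2,false),(4,false),(5,false),(6,false)]⟩,⟨4251,[],[(1,false),(2,true),(5,false)]⟩,⟨3726,[],[(1,false),(5,false),(4,false),(1,false),(3,false),(2,true),(5,false),(4,false),(5,false),(2,true)]⟩,⟨2602,[],[(2,false),(4,false),(6,false),(4,false),(5,false),(2,true),(5,false),(4,false),(5,false),(6,false)]⟩,⟨2184,[],[(3,false),(2,true),(5,false),(2,false),(4,false),(5,false),(4,false),(1,false),(4,false)]⟩]⟩))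
 (.fork (.one ⟨[0,3,2,3,7,5,4,3,2,1,3], [⟨850,[(110,true),(109,false)],[(1,false),(2,false),(5,false),(4,false),(5,false),(4,false),(6,false),(4,false),(1,false),(5,false)]⟩,⟨810,[(109,false)],[(3,false),(4,false),(5,false),(4,false),(2,true),(5,false),(2,false)]⟩,⟨2069,[],[(0,false),(4,false),(2,true)]⟩,⟨3439,[],[(5,false)]⟩,⟨3128,[(109,false)],[(4,false),(2,true),(5,false),(2,false),(4,false),(1,false),(6,false)]⟩,⟨1676,[(110,true),(109,false)],[(0,false),(1,false),(6,false),(4,false),(5,false),(2,false),(4,false),(5,false),(4,false),(2,true),(5,false)]⟩,⟨2706,[(110,true),(109,false)],[(4,false),(1,false),(5,false),(2,false),(4,false),(1,false),(4,false),(5,false),(4,false),(5,false)]⟩]⟩)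
 (.one ⟨[], []⟩))))))
 (.fork (.fork (.fork (.fork (.fork (.one ⟨[0,2,1,3], [⟨580,[],[(1,false),(4,false),(6,false),(2,true),(5,false),(4,false),(1,false),(5,false),(4,false),(5,false)]⟩,⟨731,[],[]⟩,⟨4219,[],[(1,false)]⟩,⟨604,[(110,true),(109,false)],[(1,false),(6,false),(4,false),(2,true),(5,false),(2,false),(4,false),(5,false),(4,false)]⟩,⟨2211,[],[]⟩,⟨2330,[],[(2,false),(4,false),(1,false),(5,false),(4,false),(6,false),(4,false),(5,false),(2,false),(4,false)]⟩,⟨1048,[],[(2,true),(5,false),(2,false),(4,false),(1,false),(6,false),(4,false),(1,false),(4,false)]⟩]⟩)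
 (.one ⟨[2,3,2,5,4,3,6,4,3,2,1,3], [⟨3565,[],[(4,false),(2,true)]⟩,⟨3354,[(109,false)],[(2,false),(5,false),(4,false),(1,false),(5,false),(2,true)]⟩,⟨1841,[],[]⟩,⟨2295,[],[(4,false),(1,false),(2,true)]⟩,⟨2511,[],[(0,false),(3,false)]⟩,⟨2474,[(110,true),(109,false)],[(0,false),(2,true),(5,false),(4,false),(1,false),(4,false),(6,false)]⟩,⟨3393,[],[(5,false)]⟩]⟩))
 (.fork (.one ⟨[0,1,2,3,2,1,5,4,3], [⟨2367,[],[(6,false)]⟩,⟨858,[],[(5,false),(4,false),(6,false),(2,true),(5,false),(4,false),(1,false),(6,false),(2,true),(5,false)]⟩,⟨1319,[],[]⟩,⟨2781,[],[(0,false),(5,false),(6,false)]⟩,⟨1838,[],[(0,false),(1,false),(2,false),(4,false),(1,false),(5,false),(4,false),(6,false),(4,false),(1,false),(2,true)]⟩,⟨3457,[],[(6,false)]⟩,⟨630,[],[(0,false),(1,false),(4,false),(1,false),(6,false),(4,false),(1,false),(2,true),(5,false),(4,false),(5,false)]⟩]⟩)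
 (.one ⟨[1,3,2,4,3,7,5,4,3,2,1,3], [⟨4201,[],[(1,false),(3,false)]⟩,⟨1702,[(110,true)],[(5,false),(4,false),(5,false),(6,false),(4,false),(1,false),(5,false),(4,false),(5,false)]⟩,⟨3587,[],[(3,false)]⟩,⟨3039,[],[(3,false),(2,true)]⟩,⟨1482,[(110,false)],[(4,false),(2,true),(5,false),(2,false),(4,false),(1,false),(6,false)]⟩,⟨4239,[],[(4,false)]⟩,⟨3588,[(110,false)],[(5,false),(4,false),(2,true),(5,false),(2,false),(4,false),(5,false),(2,true)]⟩]⟩)))
 (.fork (.fork (.one ⟨[1,2,3,2,1,6,4,3], [⟨3573,[],[(0,false),(5,false),(4,false)]⟩,⟨2907,[],[(1,false),(2,false)]⟩,⟨3412,[],[(5,false),(2,false),(4,false),(3,false),(5,false),(6,false),(2,true),(5,false),(4,false),(1,false)]⟩,⟨2297,[],[(6,false),(4,false)]⟩,⟨3034,[(110,false),(109,false)],[(0,false),(5,false),(4,false),(2,true),(5,false),(2,false),(4,false),(5,false),(4,false),(1,false)]⟩,⟨4060,[(110,false)],[(1,false),(5,false),(4,false),(1,false),(3,false),(5,false)]⟩,⟨1907,[],[(0,false),(5,false)]⟩]⟩)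
 (.one ⟨[2,3,2,5,4,3,2,1,8,5,4,3], [⟨1814,[(110,true),(109,false)],[(0,false),(2,true),(5,false),(2,false),(4,false),(1,false),(5,false),(4,false),(2,true)]⟩,⟨2931,[],[(6,false)]⟩,⟨1994,[(110,false)],[(2,false),(5,false),(4,false),(5,false),(2,false),(5,false),(4,false),(5,false),(6,false)]⟩,⟨1825,[],[(1,false),(5,false)]⟩,⟨3512,[],[(1,false),(2,false),(6,false),(4,false),(1,false),(4,false),(5,false),(2,false),(6,false),(4,false),(1,false)]⟩,⟨3468,[],[(1,false),(2,false),(5,false),(6,false),(4,false),(5,false),(4,false)]⟩,⟨2175,[],[(0,false),(5,false),(6,false)]⟩]⟩))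
 (.fork (.one ⟨[1,0,3,5,5,4,3,2,1,3], [⟨825,[],[(2,true)]⟩,⟨1344,[(110,true),(109,false)],[(1,false),(4,false),(5,false),(4,false),(5,false),(2,true),(5,false),(4,false),(1,false)]⟩,⟨1824,[(110,true)],[(5,false),(2,false),(6,false),(4,false),(5,false),(4,false),(1,false),(5,false),(6,false),(2,true)]⟩,⟨2325,[],[(1,false)]⟩,⟨3404,[(110,true),(109,false)],[(6,false),(4,false),(3,false),(5,false),(2,false),(4,false),(5,false),(6,false),(4,false),(2,true)]⟩,⟨2641,[],[(0,false),(6,false)]⟩,⟨1956,[(110,false),(109,false)],[(1,false),(3,false),(4,false),(1,false),(4,false),(5,false),(2,false),(4,false),(1,false)]⟩]⟩)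
 (.one ⟨[], []⟩))))
 (.fork (.fork (.fork (.one ⟨[0,2,1,5,5,4,3], [⟨1412,[(110,true),(109,false)],[(2,false),(4,false),(1,false),(3,false),(5,false),(4,false),(2,true),(5,false),(2,false),(4,false),(1,false)]⟩,⟨3002,[(109,false)],[(1,false),(2,false),(3,false),(4,false),(5,false),(4,false),(1,false),(5,false),(6,false)]⟩,⟨1890,[(110,false)],[(2,false),(5,false),(4,false),(6,false),(2,true),(5,false),(4,false),(1,false),(2,true)]⟩,⟨2617,[],[(1,false),(3,false)]⟩,⟨3971,[],[]⟩,⟨2946,[(109,false)],[(5,false),(2,false),(5,false),(4,false),(1,false),(3,false),(4,false),(6,false)]⟩,⟨4171,[],[]⟩]⟩)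
 (.one ⟨[2,3,2,4,3,8,6,4,3,2,1,3], [⟨3380,[(110,true)],[(2,false),(5,false),(4,false),(1,false),(4,false),(1,false),(6,false),(4,false),(2,true)]⟩,⟨1560,[(110,true)],[(0,false),(2,false),(4,false),(5,false),(4,false),(6,false),(2,true),(5,false),(4,false),(5,false)]⟩,⟨1036,[(110,true)],[(2,true),(5,false),(2,false),(4,false),(1,false),(5,false),(6,false),(2,true)]⟩,⟨1082,[(110,true)],[(6,false),(4,false),(3,false),(5,false),(4,false),(6,false),(2,true),(5,false),(2,true)]⟩,⟨2563,[],[(6,false)]⟩,⟨2549,[],[(4,false),(2,true)]⟩,⟨1840,[(110,true)],[(6,false),(2,true),(5,false),(2,false),(4,false),(3,false),(5,false)]⟩]⟩))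
 (.fork (.one ⟨[3,6,4,3,5,4,3,2,1,3], [⟨2079,[],[(0,false),(5,false)]⟩,⟨928,[],[(2,true),(5,false),(4,false),(1,false),(4,false),(1,false),(6,false),(4,false),(1,false),(5,false),(2,false)]⟩,⟨2705,[],[]⟩,⟨846,[],[(1,false),(4,false),(1,false),(3,false),(6,false),(4,false),(5,false),(4,false),(6,false),(2,true)]⟩,⟨3061,[],[(0,false),(5,false)]⟩,⟨1126,[(110,false),(109,false)],[(1,false),(4,false),(1,false),(3,false),(5,false),(4,false),(5,false),(2,true),(5,false),(4,false),(5,false)]⟩,⟨3246,[],[(2,true),(5,false),(4,false),(1,false),(3,false),(5,false),(4,false),(6,false),(2,true),(5,false)]⟩]⟩)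
 (.one ⟨[], []⟩)))
 (.fork (.fork (.one ⟨[1,0,3,2,1,6,6,4,3], [⟨3810,[],[(5,false),(6,false),(4,false),(1,false),(4,false),(1,false),(5,false),(2,false),(6,false)]⟩,⟨4331,[],[(5,false)]⟩,⟨2964,[],[(1,false),(5,false),(2,false),(4,false),(5,false),(2,false),(4,false),(5,false),(4,false)]⟩,⟨225,[],[(2,false),(3,false)]⟩,⟨3179,[],[]⟩,⟨3809,[],[(1,false),(3,false)]⟩,⟨2241,[],[(4,false),(3,false)]⟩]⟩)
 (.one ⟨[2,3,2,5,4,3,2,1,7,5,4,3], [⟨1214,[(110,false)],[(4,false),(3,false),(5,false),(2,false),(5,false),(4,false),(1,false),(4,false),(6,false)]⟩,⟨2483,[],[(2,true),(5,false)]⟩,⟨2881,[],[(4,false)]⟩,⟨4257,[],[(4,false),(1,false),(3,false)]⟩,⟨410,[(110,false)],[(2,false),(3,false),(4,false),(5,false),(2,false),(4,false),(5,false),(4,false),(2,true),(5,false),(2,false)]⟩,⟨300,[(110,false)],[(4,false),(1,false),(4,false),(6,false),(2,true),(5,false),(4,false),(1,false),(4,false),(2,true)]⟩,⟨1950,[(110,false)],[(4,false),(6,false)]⟩]⟩))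
 (.fork (.one ⟨[2,3,7,5,4,3,2,1,3], [⟨1134,[],[(5,false),(4,false),(3,false),(5,false),(6,false),(4,false)]⟩,⟨1910,[(110,true),(109,false)],[(0,false),(4,false),(6,false),(2,true),(5,false),(4,false),(5,false),(6,false),(2,true)]⟩,⟨1728,[],[(2,false),(5,false),(4,false),(3,false),(5,false),(2,true),(5,false),(4,false),(1,false),(6,false)]⟩,⟨3023,[],[(5,false)]⟩,⟨1844,[(110,true),(109,false)],[(4,false),(5,false),(4,false),(5,false),(6,false),(4,false),(5,false),(4,false),(2,true),(5,false),(2,false)]⟩,⟨2472,[],[(1,false),(4,false),(1,false),(5,false),(6,false),(4,false),(5,false),(4,false),(6,false)]⟩,⟨1915,[],[(3,false)]⟩]⟩)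
 (.one ⟨[], []⟩)))))
 (.fork (.fork (.fork (.fork (.one ⟨[0,4,3,2,1,3], [⟨2331,[],[(0,false),(3,false),(6,false)]⟩,⟨404,[(110,false)],[(1,false),(3,false),(5,false),(6,false),(4,false),(2,true),(5,false),(2,true)]⟩,⟨352,[(110,false)],[(2,true),(5,false),(4,false),(5,false),(6,false),(4,false)]⟩,⟨415,[],[(6,false)]⟩,⟨338,[(110,false)],[(2,false),(5,false),(2,false),(4,false),(5,false),(6,false),(2,true),(5,false),(4,false),(5,false)]⟩,⟨1044,[],[(1,false),(2,false),(4,false),(3,false),(6,false),(4,false),(5,false),(4,false),(1,false),(4,false),(2,true)]⟩,⟨2186,[(110,false)],[(2,false),(4,false),(1,false),(3,false),(4,false),(5,false),(4,false),(6,false),(4,false),(1,false),(2,true)]⟩]⟩)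
 (.one ⟨[3,2,4,5,4,3,6,4,3,2,1,3], [⟨1564,[(110,false)],[(0,false),(2,false),(4,false),(1,false),(5,false),(4,false),(6,false),(2,true),(5,false),(4,false)]⟩,⟨914,[(110,false)],[(2,false),(5,false),(4,false),(1,false),(5,false),(2,false),(4,false),(5,false),(2,true)]⟩,⟨2880,[(110,false)],[(0,false),(5,false),(4,false),(1,false),(5,false),(4,false),(6,false),(4,false),(1,false)]⟩,⟨1483,[],[(5,false)]⟩,⟨2093,[],[]⟩,⟨606,[(110,false)],[(1,false),(6,false),(2,true),(5,false),(2,false),(4,false),(5,false),(4,false),(1,false)]⟩,⟨2266,[],[(0,false),(4,false),(6,false),(4,false),(5,false),(2,false),(4,false),(5,false)]⟩]⟩))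
 (.fork (.one ⟨[2,5,4,3,2,1,8,6,4,3], [⟨1345,[],[(1,false)]⟩,⟨2111,[],[(3,false)]⟩,⟨522,[(110,false)],[(1,false),(5,false),(4,false),(1,false),(3,false),(5,false),(6,false),(4,false),(5,false),(2,false)]⟩,⟨2488,[(110,false)],[(3,false),(5,false),(2,false),(6,false),(4,false),(5,false),(2,false),(4,false),(6,false)]⟩,⟨552,[(110,false)],[(1,false),(2,true),(5,false),(4,false),(5,false),(4,false),(2,true)]⟩,⟨1864,[(110,false)],[(4,false),(2,true),(5,false),(4,false),(1,false),(4,false),(6,false),(4,false),(2,true)]⟩,⟨2381,[],[(3,false),(5,false),(6,false)]⟩]⟩)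
 (.one ⟨(wOf 13 0x3461234523010), [⟨3737,[],[(1,false),(5,false)]⟩,⟨4278,[(109,false)],[(4,false),(5,false),(6,false),(4,false),(2,true),(5,false),(2,true)]⟩,⟨3738,[(110,true)],[(1,false),(5,false),(4,false),(1,false),(2,true),(5,false),(4,false),(5,false),(6,false),(2,true)]⟩,⟨3499,[],[(6,false),(4,false)]⟩,⟨4169,[],[(4,false),(5,false),(6,false)]⟩,⟨4179,[],[(0,false),(1,false),(6,false)]⟩,⟨4090,[(109,false)],[(0,false),(1,false),(4,false),(6,false),(2,true),(5,false),(2,false),(4,false)]⟩]⟩)))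
 (.fork (.fork (.one ⟨[5,4,3,2,1,6,4,3], [⟨3004,[(110,true)],[(0,false),(6,false),(4,false),(2,true),(5,false),(2,false),(4,false),(1,false),(4,false),(6,false)]⟩,⟨3392,[(110,true)],[(0,false),(2,false),(4,false),(6,false),(4,false),(5,false),(2,true),(5,false)]⟩,⟨2188,[(110,true)],[(1,false),(2,false),(3,false),(4,false),(5,false),(2,false),(6,false),(4,false),(1,false),(5,false),(2,true)]⟩,⟨3338,[],[(3,false),(4,false),(1,false),(6,false),(2,true),(5,false),(4,false),(5,false),(2,false),(5,false)]⟩,⟨3238,[(110,true),(109,false)],[(0,false),(5,false),(2,false),(4,false),(1,false),(6,false),(4,false),(5,false),(4,false),(6,false),(2,true)]⟩,⟨2415,[],[(4,false),(5,false)]⟩,⟨3579,[],[(1,false)]⟩]⟩)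
 (.one ⟨[0,3,2,6,6,4,3,2,1,6,4,3], [⟨2017,[],[(3,false),(6,false),(2,true)]⟩,⟨3292,[],[(0,false),(5,false),(2,false),(6,false),(4,false),(1,false),(4,false),(1,false),(5,false)]⟩,⟨2998,[(110,false)],[(4,false),(1,false),(4,false),(5,false),(2,false),(4,false),(5,false),(2,true),(5,false)]⟩,⟨836,[(110,false)],[(6,false),(2,true),(5,false),(4,false),(1,false),(3,false),(6,false),(4,false),(2,true)]⟩,⟨976,[(110,false)],[(6,false),(4,false),(1,false),(3,false),(4,false),(2,true),(5,false),(2,false),(4,false),(5,false)]⟩,⟨2608,[(110,false)],[(1,false),(2,false),(3,false),(5,false),(6,false)]⟩,⟨2265,[],[(2,true)]⟩]⟩))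
 (.fork (.one ⟨[0,3,2,4,3,6,4,3,2,1,3], [⟨2868,[(110,false)],[(0,false),(1,false),(6,false),(4,false),(2,true),(5,false),(4,false),(1,false),(6,false)]⟩,⟨2925,[],[(3,false),(6,false)]⟩,⟨2853,[],[(0,false),(6,false)]⟩,⟨1018,[(110,false)],[(0,false),(6,false),(2,true),(5,false),(2,false),(4,false),(1,false),(4,false),(5,false),(4,false)]⟩,⟨3865,[],[(0,false),(2,true)]⟩,⟨2210,[(110,false)],[(2,false),(5,false),(2,false),(6,false),(4,false),(3,false),(5,false),(4,false),(6,false)]⟩,⟨1630,[(110,false)],[(4,false),(5,false),(2,false),(5,false),(6,false),(4,false),(1,false),(5,false),(2,false)]⟩]⟩)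
 (.one ⟨[], []⟩))))
 (.fork (.fork (.fork (.one ⟨[2,3,2,1,7,6,4,3], [⟨496,[(110,false),(109,false)],[(0,false),(2,false),(4,false),(1,false),(5,false),(4,false),(6,false),(4,false),(1,false),(5,false),(4,false)]⟩,⟨2319,[],[(5,false),(6,false)]⟩,⟨2148,[(110,false),(109,false)],[(1,false),(4,false),(3,false),(5,false),(4,false),(6,false),(4,false)]⟩,⟨2555,[],[]⟩,⟨1648,[(110,false),(109,false)],[(1,false),(4,false),(2,true),(5,false),(4,false),(1,false),(5,false),(6,false),(4,false)]⟩,⟨3949,[],[(2,false)]⟩,⟨1042,[(110,false),(109,false)],[(1,false),(4,false),(6,false),(2,true),(5,false),(2,false),(4,false),(5,false),(2,true),(5,false)]⟩]⟩)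
 (.one ⟨[1,0,3,2,3,6,6,4,3,2,1,3], [⟨3464,[(110,false),(109,false)],[(1,false),(3,false),(5,false),(4,false),(6,false),(2,true),(5,false),(4,false),(2,true),(5,false)]⟩,⟨2910,[],[(1,false),(4,false),(5,false),(4,false),(6,false),(4,false),(5,false),(2,false),(4,false),(5,false)]⟩,⟨3704,[(110,false),(109,false)],[(2,false),(4,false),(1,false),(3,false),(4,false),(5,false),(4,false),(1,false),(6,false)]⟩,⟨826,[(110,false),(109,false)],[(5,false),(4,false),(2,true),(5,false),(2,false),(4,false),(5,false),(4,false),(6,false)]⟩,⟨1848,[(110,false),(109,false)],[(2,false),(5,false),(4,false),(5,false),(4,false),(2,true),(5,false),(4,false),(6,false)]⟩,⟨2784,[(110,false),(109,false)],[(4,false),(5,false),(4,false),(2,true),(5,false),(2,false),(4,false),(1,false),(6,false),(4,false)]⟩,⟨3461,[],[]⟩]⟩))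
 (.fork (.one ⟨[0,2,6,6,4,3,2,1,5,4,3], [⟨2997,[],[]⟩,⟨3563,[],[(2,true)]⟩,⟨1926,[(110,false),(109,false)],[(0,false),(4,false),(5,false),(4,false),(6,false),(2,true),(5,false),(4,false),(1,false)]⟩,⟨1232,[(110,false),(109,false)],[(1,false),(5,false),(6,false),(4,false),(5,false),(2,false),(4,false),(5,false),(4,false),(6,false)]⟩,⟨913,[],[(3,false),(6,false),(2,true)]⟩,⟨668,[(110,false),(109,false)],[(5,false),(2,false),(6,false),(4,false),(1,false),(4,false),(1,false),(6,false),(4,false)]⟩,⟨3601,[],[(5,false)]⟩]⟩)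
 (.one ⟨[], []⟩)))
 (.fork (.fork (.one ⟨[3,4,3,5,4,3,2,1,3], [⟨2876,[(110,true),(109,false)],[(3,false),(4,false),(1,false),(4,false),(6,false),(2,true),(5,false),(4,false),(2,true)]⟩,⟨3243,[],[(4,false)]⟩,⟨2806,[(109,false)],[(1,false),(5,false),(4,false),(3,false),(6,false),(4,false),(1,false),(4,false)]⟩,⟨3285,[],[(6,false),(4,false),(2,true)]⟩,⟨3233,[],[(6,false)]⟩,⟨1955,[],[(5,false),(6,false),(4,false)]⟩,⟨3462,[],[(2,false),(4,false),(1,false),(4,false),(5,false),(2,false),(4,false),(1,false),(5,false)]⟩]⟩)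
 (.one ⟨(wOf 13 0x3451234682323), [⟨2621,[],[]⟩,⟨3334,[],[(0,false),(2,false),(4,false),(5,false),(2,false),(4,false),(6,false),(4,false),(5,false),(2,false)]⟩,⟨3777,[],[(0,false),(3,false),(2,true)]⟩,⟨1974,[(109,false)],[(6,false),(4,false),(1,false),(5,false),(4,false),(5,false),(6,false)]⟩,⟨2751,[],[]⟩,⟨2002,[(109,false)],[(5,false),(2,false),(5,false),(4,false),(1,false),(5,false),(4,false),(1,false),(6,false)]⟩,⟨1258,[(110,true)],[(3,false),(6,false),(4,false),(2,true),(5,false),(2,false),(4,false),(5,false),(6,false),(4,false)]⟩]⟩))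
 (.fork (.one ⟨[0,2,4,3,8,6,4,3,2,1,3], [⟨1709,[],[(3,false),(4,false),(6,false)]⟩,⟨3377,[],[(6,false)]⟩,⟨1118,[(110,true),(109,false)],[(6,false),(4,false),(1,false),(5,false),(4,false),(5,false),(4,false),(2,true)]⟩,⟨3689,[],[(0,false),(6,false)]⟩,⟨2788,[(110,true)],[(1,false),(4,false),(5,false),(6,false),(4,false),(1,false),(5,false),(4,false)]⟩,⟨1542,[(110,true)],[(5,false),(4,false),(5,false),(4,false),(1,false),(6,false),(4,false),(1,false),(2,true)]⟩,⟨2262,[(110,true),(109,false)],[(1,false),(4,false),(3,false),(5,false),(4,false),(6,false),(4,false),(5,false),(2,true)]⟩]⟩)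
 (.one ⟨[], []⟩)))))))

/-- a part of the orbits of state 5 -/
noncomputable def twRoots5T8 : BT TRoot := (.fork (.fork (.fork (.fork (.fork (.fork (.one ⟨[2,1,3], [⟨1192,[(110,true),(109,false)],[(1,false),(5,false),(4,false),(5,false),(2,false),(4,false),(5,false),(4,false),(5,false),(2,false)]⟩,⟨2492,[],[(0,false),(1,false),(4,false),(1,false),(6,false),(4,false),(1,false),(4,false),(5,false),(4,false),(2,true)]⟩,⟨4154,[(110,false)],[(5,false),(6,false),(4,false),(1,false),(3,false),(4,false),(2,true),(5,false),(4,false)]⟩,⟨1122,[(110,false)],[(3,false),(4,false),(2,true),(5,false),(4,false),(2,true),(5,false),(4,false),(1,false),(6,false)]⟩,⟨2445,[],[(6,false)]⟩,⟨4124,[(110,true),(109,false)],[(5,false),(2,true),(5,false),(4,false),(5,false),(4,false),(6,false),(2,true),(5,false),(2,false)]⟩,⟨2615,[],[(0,false),(6,false)]⟩]⟩)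
 (.one ⟨[0,2,8,5,4,3,2,1,5,4,3], [⟨2645,[],[(3,false),(4,false),(2,true)]⟩,⟨3434,[],[(5,false),(4,false),(3,false),(5,false),(6,false),(4,false),(1,false),(5,false),(2,true)]⟩,⟨2983,[],[(2,true)]⟩,⟨4237,[],[]⟩,⟨2802,[(109,false)],[(0,false),(1,false),(4,false),(6,false),(4,false),(1,false),(2,true)]⟩,⟨2950,[(110,true)],[(4,false),(5,false),(4,false),(1,false),(4,false),(6,false)]⟩,⟨4193,[],[(1,false),(5,false),(4,false)]⟩]⟩))
 (.fork (.one ⟨[0,1,2,3,2,1,6,4,3], [⟨3558,[],[(5,false),(4,false),(6,false),(2,true),(5,false),(2,false),(4,false),(5,false),(4,false),(5,false)]⟩,⟨3527,[],[(5,false),(6,false)]⟩,⟨2498,[(110,true),(109,false)],[(5,false),(4,false),(1,false),(4,false),(5,false),(2,true),(5,false),(4,false)]⟩,⟨3322,[(110,true),(109,false)],[(6,false),(4,false),(1,false),(4,false),(6,false),(2,true),(5,false),(2,true)]⟩,⟨3719,[],[(0,false),(5,false)]⟩,⟨3409,[],[]⟩,⟨2531,[],[(4,false)]⟩]⟩)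
 (.one ⟨(wOf 14 0x31234683452342), [⟨2326,[(110,true)],[(5,false),(6,false),(4,false),(1,false),(5,false),(4,false),(2,true),(5,false),(2,false)]⟩,⟨3553,[],[(5,false)]⟩,⟨3463,[],[]⟩,⟨2640,[(110,true),(109,false)],[(2,false),(4,false),(5,false),(6,false),(4,false),(2,true),(5,false),(4,false)]⟩,⟨2805,[],[(5,false)]⟩,⟨3735,[],[]⟩,⟨2524,[],[(3,false),(5,false),(2,false),(4,false),(1,false),(6,false),(4,false),(5,false),(4,false),(6,false)]⟩]⟩)))
 (.fork (.fork (.one ⟨[0,2,3,6,4,3,2,1,3], [⟨3488,[],[(0,false),(5,false),(2,false),(4,false),(5,false),(2,false),(6,false),(4,false),(5,false)]⟩,⟨3560,[],[(1,false),(5,false),(6,false),(4,false),(1,false),(5,false),(4,false),(6,false),(2,true),(5,false)]⟩,⟨1538,[],[(4,false),(1,false),(4,false),(5,false),(6,false),(4,false),(1,false),(4,false),(2,true),(5,false),(2,true)]⟩,⟨770,[],[(3,false),(4,false),(5,false),(2,false),(6,false),(4,false),(1,false),(4,false)]⟩,⟨640,[],[(1,false),(2,false),(5,false),(4,false),(5,false),(4,false),(1,false),(6,false),(2,true)]⟩,⟨4167,[],[(1,false),(4,false)]⟩,⟨2218,[],[(0,false),(5,false),(4,false),(1,false),(6,false),(4,false),(5,false),(4,false)]⟩]⟩)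
 (.one ⟨[2,3,2,6,4,3,2,1,7,6,4,3], [⟨2978,[],[(1,false),(2,true),(5,false),(4,false),(1,false),(5,false),(2,false),(6,false),(4,false),(5,false)]⟩,⟨1984,[],[(1,false),(2,false),(4,false),(3,false),(5,false),(2,false),(4,false),(6,false)]⟩,⟨1242,[],[(3,false),(2,true),(5,false),(4,false),(6,false),(2,true),(5,false)]⟩,⟨2860,[],[(0,false),(1,false),(5,false),(4,false),(6,false),(4,false),(1,false),(4,false),(5,false),(2,false),(6,false)]⟩,⟨3205,[],[(4,false)]⟩,⟨680,[],[(4,false),(5,false),(4,false),(6,false),(4,false),(5,false),(4,false),(5,false),(2,true)]⟩,⟨1855,[],[]⟩]⟩))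
 (.fork (.one ⟨[2,6,4,3,2,1,6,4,3], [⟨2547,[],[(6,false),(2,true),(5,false)]⟩,⟨1981,[],[(5,false)]⟩,⟨3346,[],[(1,false),(2,false),(4,false),(5,false),(2,false),(4,false),(5,false),(2,false),(4,false),(1,false)]⟩,⟨2981,[],[(0,false),(4,false),(1,false)]⟩,⟨3100,[],[(0,false),(2,false),(5,false),(4,false),(2,true),(5,false),(2,false),(4,false),(5,false),(4,false)]⟩,⟨3511,[],[(1,false)]⟩,⟨2158,[],[(1,false),(4,false),(3,false),(5,false),(2,false),(6,false),(4,false),(1,false),(4,false),(5,false),(4,false)]⟩]⟩)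
 (.one ⟨[], []⟩))))
 (.fork (.fork (.fork (.one ⟨[0,3,2,1,6,4,3], [⟨2189,[],[(0,false)]⟩,⟨417,[],[(6,false),(4,false)]⟩,⟨3794,[],[(0,false),(5,false),(2,false),(5,false),(4,false),(6,false),(4,false),(1,false),(4,false),(5,false)]⟩,⟨546,[],[(0,false),(5,false),(4,false),(6,false),(2,true),(5,false),(2,false),(4,false),(5,false),(2,true)]⟩,⟨2892,[],[(5,false),(2,false),(4,false),(1,false),(4,false),(5,false),(6,false),(4,false),(1,false)]⟩,⟨1165,[],[(3,false),(5,false),(4,false)]⟩,⟨512,[],[(0,false),(5,false),(4,false),(1,false),(6,false)]⟩]⟩)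
 (.one ⟨[2,1,0,3,7,5,4,3,2,1,3], [⟨2553,[],[(1,false)]⟩,⟨1592,[],[(1,false),(6,false),(2,true),(5,false),(2,false),(4,false),(5,false),(2,false),(4,false)]⟩,⟨2224,[],[(0,false),(4,false),(1,false),(6,false),(4,false),(1,false),(5,false),(4,false)]⟩,⟨1671,[],[]⟩,⟨3375,[],[(0,false),(1,false)]⟩,⟨3107,[],[(1,false),(5,false)]⟩,⟨1173,[],[(4,false),(1,false),(6,false)]⟩]⟩))
 (.fork (.one ⟨[2,5,4,3,2,1,6,4,3], [⟨2957,[],[(3,false),(4,false)]⟩,⟨2291,[],[(0,false),(5,false),(2,true)]⟩,⟨3172,[(110,false)],[(4,false),(6,false),(2,true),(5,false),(4,false),(1,false),(2,true),(5,false),(4,false)]⟩,⟨3225,[],[]⟩,⟨2614,[(110,false)],[(1,false),(3,false),(5,false),(2,false),(4,false),(5,false),(4,false),(1,false),(6,false)]⟩,⟨1318,[(110,false)],[(2,false),(5,false),(6,false),(4,false),(5,false),(4,false),(1,false),(6,false),(2,true)]⟩,⟨3323,[],[(4,false),(1,false),(2,true)]⟩]⟩)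
 (.one ⟨(wOf 13 0x3451234662341), [⟨4084,[(110,true),(109,false)],[(4,false),(1,false),(5,false),(4,false),(1,false),(6,false),(4,false),(1,false)]⟩,⟨1054,[(110,true),(109,false)],[(2,false),(5,false),(4,false),(1,false),(5,false),(2,false),(6,false),(4,false),(5,false)]⟩,⟨2067,[],[(6,false)]⟩,⟨3192,[(110,true),(109,false)],[(4,false),(1,false),(3,false),(5,false),(4,false),(5,false),(6,false),(2,true)]⟩,⟨724,[(110,true),(109,false)],[(2,true),(5,false),(2,false),(4,false),(3,false),(5,false),(6,false),(4,false),(5,false)]⟩,⟨1949,[],[]⟩,⟨864,[(110,true),(109,false)],[(1,false),(6,false),(4,false),(1,false),(4,false),(6,false),(2,true),(5,false),(4,false),(5,false)]⟩]⟩)))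
 (.fork (.fork (.one ⟨[0,5,4,3,2,1,6,4,3], [⟨2730,[],[(2,false),(5,false),(4,false),(1,false),(3,false),(5,false),(2,false)]⟩,⟨2494,[],[(2,false),(5,false),(2,false),(4,false),(5,false),(4,false),(2,true)]⟩,⟨1000,[],[(1,false),(5,false),(4,false),(1,false),(3,false),(5,false),(6,false),(4,false),(1,false),(5,false),(2,true)]⟩,⟨2485,[],[]⟩,⟨1710,[(110,true),(109,false)],[(4,false),(1,false),(4,false),(6,false),(4,false),(1,false),(4,false),(5,false),(6,false)]⟩,⟨2999,[],[]⟩,⟨952,[],[(0,false),(1,false),(5,false),(4,false),(1,false),(5,false),(2,false),(6,false),(4,false),(1,false),(4,false)]⟩]⟩)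
 (.one ⟨[3,2,5,4,3,7,5,4,3,2,1,3], [⟨1428,[(110,false),(109,false)],[(1,false),(3,false),(5,false),(2,false),(6,false),(4,false),(5,false),(4,false),(6,false)]⟩,⟨3631,[],[(4,false)]⟩,⟨1987,[],[(1,false),(4,false),(3,false)]⟩,⟨1900,[(110,false),(109,false)],[(2,false),(5,false),(6,false),(4,false),(5,false),(4,false),(6,false),(2,true),(5,false),(2,false),(4,false)]⟩,⟨2898,[(110,false),(109,false)],[(0,false),(2,false),(6,false),(4,false),(1,false),(4,false),(5,false),(4,false),(2,true)]⟩,⟨2259,[],[(3,false)]⟩,⟨3230,[],[(1,false),(2,true),(5,false),(4,false),(5,false),(2,false),(4,false),(1,false),(4,false)]⟩]⟩))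
 (.fork (.one ⟨[0,8,5,4,3,2,1,6,4,3], [⟨2862,[(110,true)],[(4,false),(1,false),(4,false),(1,false),(6,false),(4,false),(2,true)]⟩,⟨3466,[(110,true)],[(0,false),(6,false),(4,false),(1,false),(4,false),(5,false),(4,false),(5,false),(2,false)]⟩,⟨1487,[],[]⟩,⟨3215,[],[]⟩,⟨3763,[],[(0,false)]⟩,⟨2462,[(110,true)],[(2,false),(5,false),(6,false),(4,false),(1,false),(3,false),(2,true)]⟩,⟨2732,[(110,false)],[(0,false),(4,false),(6,false),(2,true),(5,false),(4,false),(5,false),(6,false)]⟩]⟩)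
 (.one ⟨[], []⟩)))))
 (.fork (.fork (.fork (.fork (.one ⟨[0,2,3,2,1,4,3], [⟨1748,[(109,false)],[(2,false),(4,false),(6,false),(4,false),(1,false),(4,false),(1,false)]⟩,⟨972,[(109,false)],[(2,false),(3,false),(4,false),(6,false),(4,false),(5,false),(2,true)]⟩,⟨1250,[],[(2,false),(5,false),(4,false),(6,false),(4,false),(5,false),(2,false),(4,false),(1,false)]⟩,⟨2740,[(109,false)],[(3,false),(4,false),(1,false),(5,false),(4,false),(5,false),(2,false),(4,false),(6,false),(4,false)]⟩,⟨2229,[],[(0,false),(5,false),(6,false)]⟩,⟨3019,[],[(3,false),(5,false),(6,false)]⟩,⟨1202,[],[(2,false),(5,false),(2,false),(4,false),(1,false),(4,false),(5,false),(2,true),(5,false)]⟩]⟩)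
 (.one ⟨[1,3,2,5,4,3,6,4,3,2,1,3], [⟨1888,[(110,true),(109,false)],[(1,false),(2,false),(4,false),(1,false),(3,false),(4,false),(5,false),(6,false),(4,false),(5,false),(2,true)]⟩,⟨3046,[(110,true),(109,false)],[(1,false),(4,false),(3,false),(5,false),(2,false),(4,false),(5,false),(6,false),(4,false),(2,true)]⟩,⟨3136,[(109,false)],[(3,false),(4,false),(1,false),(6,false),(2,true),(5,false)]⟩,⟨3797,[],[(4,false),(6,false)]⟩,⟨1620,[(109,false)],[(4,false),(1,false),(5,false),(6,false),(4,false),(2,true),(5,false),(4,false),(1,false),(4,false)]⟩,⟨3113,[],[(5,false)]⟩,⟨1964,[(109,false)],[(0,false),(2,false),(5,false),(4,false),(6,false),(4,false),(5,false),(2,false),(4,false),(1,false),(6,false)]⟩]⟩))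
 (.fork (.one ⟨[0,1,2,3,2,1,5,5,4,3], [⟨3173,[],[]⟩,⟨3012,[],[(3,false),(4,false),(6,false),(4,false),(2,true),(5,false),(4,false),(1,false)]⟩,⟨367,[],[(2,true)]⟩,⟨3296,[(109,false)],[(4,false),(5,false),(4,false),(1,false),(5,false),(6,false),(4,false),(1,false),(2,true)]⟩,⟨1254,[(109,false)],[(0,false),(6,false),(4,false),(2,true),(5,false),(4,false),(5,false)]⟩,⟨2448,[],[(0,false),(1,false),(4,false),(2,true),(5,false),(4,false),(6,false),(2,true),(5,false),(4,false),(2,true)]⟩,⟨4195,[],[(3,false)]⟩]⟩)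
 (.one ⟨[2,3,2,4,6,4,3,2,1,5,4,3], [⟨1658,[(110,false)],[(0,false),(4,false),(5,false),(4,false),(2,true),(5,false),(2,false),(4,false),(1,false),(4,false)]⟩,⟨1148,[(110,false)],[(1,false),(6,false),(2,true),(5,false),(4,false),(5,false),(4,false),(1,false),(4,false),(6,false),(2,true)]⟩,⟨2867,[],[(6,false)]⟩,⟨2540,[(110,false)],[(0,false),(6,false),(4,false),(1,false),(4,false),(5,false),(4,false),(1,false),(4,false)]⟩,⟨3857,[],[(0,false)]⟩,⟨1636,[(110,false)],[(1,false),(4,false),(1,false),(3,false),(5,false),(6,false),(4,false),(1,false),(5,false),(2,false)]⟩,⟨800,[(110,false)],[(0,false),(2,false),(5,false),(6,false),(4,false),(1,false),(5,false),(2,true)]⟩]⟩)))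
 (.fork (.fork (.one ⟨[3,5,5,4,3,2,1,3], [⟨3739,[],[(0,false),(6,false)]⟩,⟨3532,[(110,true)],[(6,false),(4,false),(5,false),(4,false),(5,false),(6,false),(2,true)]⟩,⟨3531,[],[(0,false),(1,false),(3,false)]⟩,⟨4191,[],[(2,true)]⟩,⟨3582,[],[(0,false),(2,false),(5,false),(6,false),(4,false),(5,false),(4,false)]⟩,⟨4316,[],[(1,false),(3,false),(5,false),(4,false),(1,false),(4,false),(5,false),(6,false),(4,false),(2,true)]⟩,⟨2716,[],[(1,false),(2,false),(4,false),(3,false),(6,false),(4,false),(1,false),(5,false),(4,false)]⟩]⟩)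
 (.one ⟨[0,4,3,2,6,4,3,2,1,6,4,3], [⟨2062,[(110,true),(109,false)],[(1,false),(2,false),(5,false),(4,false),(3,false),(5,false),(2,false),(5,false),(4,false),(6,false)]⟩,⟨2142,[(109,false)],[(0,false),(1,false),(2,false),(4,false),(6,false),(4,false),(1,false)]⟩,⟨3145,[],[(3,false),(6,false)]⟩,⟨3237,[],[(3,false)]⟩,⟨3675,[],[]⟩,⟨3005,[],[(0,false),(5,false)]⟩,⟨2134,[(110,false)],[(1,false),(2,true),(5,false),(2,false),(4,false),(3,false),(5,false),(4,false),(1,false),(6,false)]⟩]⟩))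
 (.fork (.one ⟨[2,4,3,7,5,4,3,2,1,3], [⟨2374,[(110,true)],[(0,false),(5,false),(2,false),(4,false),(5,false),(6,false),(2,true),(5,false),(4,false),(5,false)]⟩,⟨3649,[],[(5,false)]⟩,⟨3362,[(110,false),(109,false)],[(5,false),(2,false),(4,false),(5,false),(2,true),(5,false),(4,false),(1,false),(4,false),(5,false)]⟩,⟨2311,[],[(1,false),(2,true),(5,false)]⟩,⟨3076,[(110,false)],[(3,false),(4,false),(5,false),(2,false),(4,false),(1,false),(4,false),(5,false),(2,true),(5,false)]⟩,⟨2731,[],[(6,false),(2,true),(5,false)]⟩,⟨2089,[],[(1,false)]⟩]⟩)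
 (.one ⟨[], []⟩))))
 (.fork (.fork (.fork (.one ⟨[0,2,3,2,1,7,6,4,3], [⟨3784,[],[(5,false),(2,false),(4,false),(1,false),(3,false),(5,false),(4,false),(2,true)]⟩,⟨2965,[],[(3,false),(4,false)]⟩,⟨2503,[],[]⟩,⟨3662,[],[(1,false),(2,false),(6,false),(4,false),(5,false),(4,false),(5,false),(2,false),(5,false),(4,false)]⟩,⟨3065,[],[(1,false)]⟩,⟨4114,[],[(4,false),(2,true),(5,false),(2,false),(4,false),(1,false),(4,false),(5,false),(4,false)]⟩,⟨2649,[],[(4,false),(5,false)]⟩]⟩)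
 (.one ⟨[1,0,3,2,3,5,5,4,3,2,1,3], [⟨2927,[],[(5,false)]⟩,⟨1072,[(110,false),(109,false)],[(1,false),(2,false),(4,false),(3,false),(5,false),(2,false),(4,false),(5,false),(2,true)]⟩,⟨2530,[],[(5,false),(4,false),(6,false),(4,false),(5,false),(2,true),(5,false)]⟩,⟨2994,[],[(1,false),(4,false),(1,false),(4,false),(6,false),(2,true),(5,false),(4,false),(5,false),(4,false)]⟩,⟨3379,[],[(0,false)]⟩,⟨1090,[(110,false),(109,false)],[(1,false),(3,false),(4,false),(6,false),(2,true),(5,false),(4,false),(2,true)]⟩,⟨2243,[],[]⟩]⟩))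
 (.fork (.one ⟨[2,6,4,3,2,1,5,4,3], [⟨3803,[],[(3,false),(5,false),(4,false)]⟩,⟨2899,[],[(6,false),(2,true)]⟩,⟨2140,[(109,false)],[(1,false),(4,false),(5,false),(2,false),(4,false),(6,false),(4,false),(1,false),(5,false),(2,true)]⟩,⟨3546,[(109,false)],[(4,false),(1,false),(5,false),(4,false),(5,false),(4,false),(2,true),(5,false),(4,false)]⟩,⟨2724,[(109,false)],[(3,false),(4,false),(5,false),(4,false),(1,false),(2,true),(5,false),(4,false)]⟩,⟨2098,[(109,false)],[(1,false),(6,false),(4,false),(3,false),(5,false),(2,true),(5,false),(4,false),(6,false)]⟩,⟨3925,[],[(1,false),(2,true)]⟩]⟩)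
 (.one ⟨[], []⟩)))
 (.fork (.fork (.one ⟨[0,2,3,6,6,4,3,2,1,3], [⟨2168,[(109,false)],[(0,false),(6,false),(4,false),(1,false),(4,false),(1,false),(5,false),(6,false),(4,false)]⟩,⟨1806,[(109,false)],[(0,false),(2,false),(5,false),(2,false),(4,false),(5,false),(2,false),(4,false),(5,false)]⟩,⟨2449,[],[(1,false),(2,true)]⟩,⟨3479,[],[(5,false)]⟩,⟨3277,[],[(6,false)]⟩,⟨1300,[(110,true),(109,false)],[(6,false),(2,true),(5,false),(2,false),(4,false),(1,false),(4,false)]⟩,⟨3448,[],[(5,false),(6,false),(4,false),(1,false),(5,false),(4,false),(1,false),(6,false)]⟩]⟩)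
 (.one ⟨(wOf 13 0x3123458345232), [⟨2090,[(110,false)],[(3,false),(5,false),(2,false),(4,false),(5,false),(4,false),(6,false),(2,true),(5,false)]⟩,⟨2972,[],[(2,false),(5,false),(2,false),(4,false),(5,false),(2,false),(4,false),(1,false),(5,false),(6,false)]⟩,⟨2405,[],[(0,false),(1,false)]⟩,⟨3227,[],[]⟩,⟨3077,[],[(2,false),(6,false)]⟩,⟨2861,[],[]⟩,⟨3021,[],[(1,false)]⟩]⟩))
 (.fork (.one ⟨[0,4,3,2,3,7,6,4,3,2,1,3], [⟨3562,[],[(3,false),(4,false),(6,false),(4,false),(5,false),(4,false),(2,true),(5,false),(2,false)]⟩,⟨1473,[],[(5,false),(2,true)]⟩,⟨2982,[],[(0,false),(2,false),(4,false),(6,false),(4,false),(5,false),(2,false),(4,false),(6,false)]⟩,⟨1813,[],[(4,false)]⟩,⟨2281,[],[(1,false)]⟩,⟨3189,[],[(0,false),(1,false),(5,false)]⟩,⟨2528,[],[(0,false),(2,false),(4,false),(6,false),(4,false)]⟩]⟩)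
 (.one ⟨[], []⟩))))))
 (.fork (.fork (.fork (.fork (.fork (.one ⟨[1,6,4,3], [⟨3026,[(109,false)],[(5,false),(4,false),(3,false)]⟩,⟨2048,[(109,false)],[(0,false),(2,true),(5,false),(4,false),(5,false),(6,false),(4,false),(5,false),(2,true)]⟩,⟨3745,[],[(4,false),(2,true)]⟩,⟨2594,[(109,false)],[(0,false),(4,false),(1,false),(4,false),(6,false),(4,false),(1,false),(4,false),(6,false),(2,true),(5,false),(2,false)]⟩,⟨3241,[],[(1,false),(3,false),(6,false)]⟩,⟨1084,[(109,false)],[(2,false),(4,false),(3,false),(6,false),(4,false),(1,false),(5,false),(2,true)]⟩,⟨3147,[],[(1,false)]⟩]⟩)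
 (.one ⟨[3,4,3,2,3,6,4,3,2,1,3], [⟨3428,[],[(0,false),(4,false),(1,false),(4,false),(5,false),(6,false),(4,false),(5,false),(2,false)]⟩,⟨3221,[],[(0,false),(3,false)]⟩,⟨3790,[],[(1,false),(2,false),(3,false),(5,false),(4,false),(1,false),(5,false),(4,false),(6,false),(4,false)]⟩,⟨2289,[],[(0,false),(1,false),(5,false)]⟩,⟨4173,[],[]⟩,⟨2814,[],[(1,false),(4,false),(3,false),(5,false),(2,true),(5,false),(4,false),(5,false),(6,false),(2,true)]⟩,⟨2298,[],[(2,false),(3,false),(5,false),(4,false),(5,false),(6,false),(4,false),(2,true),(5,false),(2,true)]⟩]⟩))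
 (.fork (.one ⟨[5,4,3,2,1,5,4,3], [⟨2040,[(110,true),(109,false)],[(1,false),(2,false),(5,false),(2,true)]⟩,⟨3013,[],[(3,false),(2,true)]⟩,⟨2478,[(110,false),(109,false)],[(3,false),(4,false),(1,false),(6,false),(4,false),(2,true),(5,false),(4,false)]⟩,⟨2544,[(110,true),(109,false)],[(2,false),(5,false),(2,false),(6,false),(4,false),(1,false),(4,false),(1,false),(5,false),(6,false)]⟩,⟨2817,[],[(3,false),(4,false)]⟩,⟨2816,[(110,false),(109,false)],[(0,false),(4,false),(1,false),(5,false),(4,false),(5,false),(6,false),(4,false),(1,false),(4,false)]⟩,⟨3299,[],[(5,false),(2,true)]⟩]⟩)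
 (.one ⟨[1,3,2,5,4,3,2,1,7,5,4,3], [⟨1853,[],[]⟩,⟨2851,[],[]⟩,⟨3621,[],[(6,false)]⟩,⟨3620,[],[(1,false),(2,false),(3,false),(4,false),(1,false),(4,false),(5,false),(4,false),(1,false),(4,false),(2,true)]⟩,⟨2830,[(109,false)],[(2,true),(5,false),(4,false),(1,false),(3,false),(5,false),(6,false),(2,true)]⟩,⟨3606,[],[(0,false),(1,false),(4,false),(6,false),(2,true),(5,false),(4,false),(5,false),(6,false),(4,false),(2,true)]⟩,⟨3769,[],[(3,false),(2,true)]⟩]⟩)))
 (.fork (.fork (.one ⟨[3,6,4,3,2,1,3], [⟨3355,[],[]⟩,⟨2031,[],[(1,false)]⟩,⟨2597,[],[]⟩,⟨2824,[(110,true),(109,false)],[(1,false),(2,true),(5,false),(4,false),(5,false),(4,false),(2,true),(5,false),(4,false),(6,false)]⟩,⟨730,[],[(2,false),(5,false),(4,false),(5,false),(2,false),(6,false),(4,false),(1,false),(4,false),(1,false)]⟩,⟨3339,[],[]⟩,⟨1877,[],[]⟩]⟩)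
 (.one ⟨[3,2,6,4,3,2,1,5,4,3], [⟨3611,[],[(0,false),(1,false)]⟩,⟨2613,[],[(6,false)]⟩,⟨2475,[],[]⟩,⟨2304,[(110,true),(109,false)],[(2,false),(4,false),(5,false),(2,false),(4,false),(1,false),(4,false),(6,false),(4,false)]⟩,⟨3201,[],[]⟩,⟨1503,[],[(0,false)]⟩,⟨1317,[],[]⟩]⟩))
 (.fork (.one ⟨[0,2,3,7,6,4,3,2,1,3], [⟨2214,[],[(0,false),(5,false),(2,false),(4,false),(5,false),(6,false),(4,false),(5,false),(2,false)]⟩,⟨2499,[],[]⟩,⟨1784,[(109,false)],[(1,false),(4,false),(5,false),(2,false),(4,false),(5,false),(4,false),(2,true)]⟩,⟨3366,[],[(0,false),(4,false),(6,false),(4,false),(2,true),(5,false),(4,false),(5,false),(2,false),(6,false),(4,false)]⟩,⟨3567,[],[(4,false)]⟩,⟨494,[],[(1,false),(2,false),(4,false),(1,false),(4,false),(6,false),(4,false),(5,false),(2,false)]⟩,⟨3459,[],[(0,false),(6,false)]⟩]⟩)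
 (.one ⟨[], []⟩))))
 (.fork (.fork (.fork (.one ⟨[3,2,1,6,6,4,3], [⟨3183,[],[]⟩,⟨1485,[],[]⟩,⟨1066,[(109,false)],[(1,false),(2,false),(3,false),(5,false),(4,false)]⟩,⟨2055,[],[]⟩,⟨1320,[(109,false)],[(6,false),(2,true),(5,false),(4,false),(3,false),(6,false),(2,true)]⟩,⟨686,[(109,false)],[(2,false),(5,false),(4,false),(1,false),(4,false),(5,false),(2,false),(4,false)]⟩,⟨1945,[],[]⟩]⟩)
 (.one ⟨[2,3,2,4,3,5,4,3,2,1,3], [⟨3747,[],[(5,false),(4,false),(3,false)]⟩,⟨2245,[],[(6,false)]⟩,⟨3153,[],[(0,false),(6,false)]⟩,⟨4068,[],[(0,false),(5,false),(4,false),(5,false),(2,false),(5,false),(6,false),(4,false),(5,false),(4,false)]⟩,⟨4050,[(110,false)],[(0,false),(1,false),(5,false),(4,false),(5,false),(2,false),(5,false),(4,false),(5,false)]⟩,⟨3685,[],[(4,false)]⟩,⟨2246,[],[(1,false),(3,false),(5,false),(4,false),(2,true),(5,false),(4,false),(6,false),(2,true),(5,false)]⟩]⟩))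
 (.fork (.one ⟨[6,4,3,5,4,3,2,1,3], [⟨3170,[(110,true),(109,false)],[(5,false),(4,false),(5,false),(2,false),(4,false),(5,false),(6,false),(4,false),(2,true),(5,false),(4,false)]⟩,⟨2373,[],[]⟩,⟨2541,[],[(4,false),(2,true)]⟩,⟨3078,[],[(0,false),(2,false),(4,false),(6,false),(4,false),(1,false),(5,false)]⟩,⟨3825,[],[(1,false),(6,false),(4,false)]⟩,⟨3764,[],[(2,false),(6,false),(4,false),(3,false),(5,false),(2,false)]⟩,⟨3571,[],[]⟩]⟩)
 (.one ⟨[], []⟩)))
 (.fork (.fork (.one ⟨[2,3,5,4,3,2,1,3], [⟨2294,[(109,false)],[(2,false),(3,false),(4,false),(5,false),(4,false),(6,false),(4,false),(5,false),(4,false)]⟩,⟨2396,[(110,true)],[(2,false),(3,false),(5,false),(4,false),(1,false),(5,false),(2,true)]⟩,⟨3059,[],[(4,false),(3,false)]⟩,⟨2493,[],[]⟩,⟨3378,[],[(1,false),(2,true),(5,false),(2,false),(4,false),(3,false),(5,false),(4,false),(1,false),(4,false)]⟩,⟨1896,[(110,false),(109,false)],[(0,false),(5,false),(2,false),(4,false),(5,false),(4,false),(2,true),(5,false),(4,false),(1,false),(6,false)]⟩,⟨1616,[(109,false)],[(3,false),(5,false),(2,false),(4,false),(6,false),(4,false),(5,false),(4,false),(1,false),(4,false)]⟩]⟩)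
 (.one ⟨(wOf 13 0x3458123452301), [⟨2718,[(110,true)],[(2,false),(5,false),(2,false),(4,false),(5,false),(2,false),(4,false),(5,false),(2,true)]⟩,⟨2275,[],[(1,false)]⟩,⟨2679,[],[(0,false),(1,false),(2,true)]⟩,⟨3306,[],[(2,false),(5,false),(6,false),(4,false),(5,false),(4,false),(2,true),(5,false),(4,false),(6,false)]⟩,⟨3209,[],[(4,false)]⟩,⟨4138,[(110,true)],[(2,false),(5,false),(6,false),(4,false),(5,false),(2,false),(5,false),(4,false),(1,false)]⟩,⟨2634,[(110,true)],[(0,false),(6,false),(2,true),(5,false),(2,false),(4,false),(5,false),(2,false),(6,false)]⟩]⟩))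
 (.fork (.one ⟨[3,2,3,7,6,4,3,2,1,3], [⟨3481,[],[(1,false)]⟩,⟨1762,[(110,true),(109,false)],[(1,false),(2,false),(4,false),(5,false),(2,false),(4,false),(5,false),(4,false),(6,false),(2,true)]⟩,⟨3242,[(110,true),(109,false)],[(5,false),(4,false),(5,false),(4,false),(1,false),(6,false),(4,false),(1,false)]⟩,⟨2920,[],[(1,false),(4,false),(3,false),(2,true),(5,false),(4,false),(1,false),(4,false),(2,true)]⟩,⟨400,[(110,true)],[(6,false),(4,false),(1,false),(3,false)]⟩,⟨2855,[],[(3,false),(5,false)]⟩,⟨2085,[],[]⟩]⟩)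
 (.one ⟨[], []⟩)))))
 (.fork (.fork (.fork (.fork (.one ⟨[0,6,6,4,3,2,1,3], [⟨2624,[(110,false),(109,false)],[(1,false),(4,false),(5,false),(4,false),(1,false),(5,false),(2,false)]⟩,⟨2012,[(110,false)],[(4,false),(5,false),(4,false),(5,false),(6,false),(2,true),(5,false)]⟩,⟨694,[(110,false)],[(2,false),(5,false),(4,false),(1,false),(6,false),(2,true),(5,false),(4,false),(1,false),(6,false)]⟩,⟨1224,[(110,false),(109,false)],[(2,false),(5,false),(4,false),(1,false),(5,false),(2,false),(4,false),(1,false),(6,false),(4,false)]⟩,⟨442,[(110,false),(109,false)],[(0,false),(1,false),(4,false),(6,false),(4,false),(1,false),(4,false),(1,false),(2,true)]⟩,⟨2663,[],[]⟩,⟨934,[(110,false),(109,false)],[(1,false),(3,false),(5,false),(4,false),(5,false),(6,false),(2,true),(5,false),(4,false),(1,false)]⟩]⟩)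
 (.one ⟨[8,5,4,3,2,1,5,4,3], [⟨3945,[],[]⟩,⟨3096,[(110,false)],[(3,false),(5,false),(4,false),(6,false),(2,true),(5,false),(4,false),(2,true),(5,false),(2,false)]⟩,⟨3050,[(110,false)],[(0,false),(1,false),(5,false),(4,false),(6,false),(2,true),(5,false),(4,false),(1,false)]⟩,⟨3661,[],[(2,true)]⟩,⟨1947,[],[(4,false)]⟩,⟨3578,[(110,false)],[(2,false),(4,false),(6,false),(4,false),(5,false),(4,false),(1,false),(6,false),(4,false),(5,false)]⟩,⟨2600,[(110,false)],[(1,false),(3,false),(4,false),(1,false),(5,false),(2,false),(6,false),(4,false),(1,false)]⟩]⟩))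
 (.fork (.one ⟨[8,6,4,3,2,1,5,4,3], [⟨2144,[(109,false)],[(1,false),(2,false),(3,false),(4,false),(1,false),(6,false),(4,false),(5,false),(2,true)]⟩,⟨3630,[],[(1,false),(5,false),(2,false),(4,false),(3,false),(6,false),(4,false),(1,false),(5,false)]⟩,⟨2586,[(110,false)],[(6,false),(2,true),(5,false),(4,false),(1,false),(5,false),(6,false)]⟩,⟨4288,[(109,false)],[(1,false),(5,false),(2,false),(4,false),(1,false),(3,false),(5,false),(4,false),(6,false),(4,false),(5,false)]⟩,⟨1132,[(110,false),(109,false)],[(4,false),(5,false),(4,false),(6,false),(2,true),(5,false),(4,false),(1,false),(2,true)]⟩,⟨1376,[(110,false),(109,false)],[(1,false),(4,false),(6,false),(4,false),(1,false),(4,false),(5,false),(2,false),(4,false)]⟩,⟨3351,[],[]⟩]⟩)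
 (.one ⟨(wOf 14 0x34681234623460), [⟨1694,[(109,false)],[(5,false),(2,false),(6,false),(4,false),(1,false),(3,false),(5,false),(4,false),(1,false)]⟩,⟨2841,[],[(3,false),(4,false)]⟩,⟨1422,[],[(0,false),(2,false),(5,false),(6,false),(4,false),(1,false),(4,false),(1,false),(5,false),(2,true)]⟩,⟨2842,[(109,false)],[(5,false),(2,false),(4,false),(1,false),(5,false),(6,false),(4,false),(5,false),(2,true),(5,false)]⟩,⟨2083,[],[(1,false),(2,true)]⟩,⟨2870,[],[(0,false),(4,false),(6,false),(4,false),(5,false),(2,false),(4,false),(1,false),(4,false),(5,false)]⟩,⟨1468,[],[(0,false),(2,false),(4,false),(1,false),(5,false),(4,false),(5,false),(2,true),(5,false),(4,false)]⟩]⟩)))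
 (.fork (.fork (.one ⟨[0,5,5,4,3,2,1,3], [⟨2959,[],[(0,false),(6,false)]⟩,⟨2933,[],[]⟩,⟨3665,[],[]⟩,⟨426,[(110,false)],[(0,false),(5,false),(4,false),(5,false),(6,false),(4,false),(5,false),(2,false)]⟩,⟨1738,[(110,true)],[(1,false),(4,false),(3,false),(5,false),(2,false),(5,false),(4,false),(1,false),(4,false)]⟩,⟨3035,[],[]⟩,⟨3551,[],[]⟩]⟩)
 (.one ⟨(wOf 13 0x3467123462301), [⟨696,[(110,false)],[(2,false),(5,false),(4,false),(3,false),(6,false),(4,false),(2,true),(5,false),(4,false),(1,false)]⟩,⟨654,[(110,false)],[(0,false),(5,false),(4,false),(5,false),(2,true),(5,false),(4,false),(5,false),(2,true),(5,false)]⟩,⟨2112,[(110,true),(109,false)],[(2,false),(5,false),(2,false),(4,false),(1,false),(5,false),(6,false),(4,false),(1,false),(4,false)]⟩,⟨2763,[],[]⟩,⟨1815,[],[]⟩,⟨2436,[(110,false)],[(3,false),(4,false),(2,true),(5,false),(4,false),(5,false),(6,false),(4,false),(2,true)]⟩,⟨3195,[],[(1,false),(3,false),(6,false)]⟩]⟩))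
 (.fork (.one ⟨[7,5,4,3,6,4,3,2,1,3], [⟨3130,[(110,false)],[(1,false),(2,false),(4,false),(6,false),(4,false),(1,false),(5,false),(4,false),(1,false),(6,false),(2,true)]⟩,⟨3342,[(110,false)],[(0,false),(2,false),(4,false),(5,false),(4,false),(1,false),(2,true),(5,false)]⟩,⟨4165,[],[(3,false)]⟩,⟨3550,[(110,false)],[(2,false),(4,false),(1,false),(4,false),(5,false),(6,false),(4,false),(5,false),(4,false),(6,false)]⟩,⟨2987,[],[(4,false),(1,false),(2,true)]⟩,⟨2620,[(110,false),(109,false)],[(5,false),(4,false),(6,false),(4,false),(2,true),(5,false),(2,false),(4,false)]⟩,⟨2383,[],[(1,false)]⟩]⟩)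
 (.one ⟨[], []⟩))))
 (.fork (.fork (.fork (.one ⟨[2,3,2,1,5,5,4,3], [⟨3636,[],[(2,false),(6,false),(4,false),(1,false),(5,false),(4,false),(5,false),(6,false),(2,true),(5,false)]⟩,⟨3024,[],[(0,false),(6,false),(2,true),(5,false)]⟩,⟨2692,[],[(2,false),(3,false),(4,false),(1,false),(5,false),(4,false),(5,false),(4,false),(6,false),(2,true)]⟩,⟨1311,[],[(5,false),(6,false),(4,false)]⟩,⟨3819,[],[]⟩,⟨1450,[],[(4,false),(6,false),(4,false),(2,true),(5,false),(4,false),(5,false),(6,false),(4,false)]⟩,⟨1362,[],[(0,false),(5,false),(2,true),(5,false),(4,false),(1,false),(5,false),(4,false)]⟩]⟩)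
 (.one ⟨(wOf 13 0x3123466323012), [⟨3178,[(110,true)],[(3,false),(5,false),(2,true),(5,false),(4,false),(1,false),(5,false)]⟩,⟨462,[(110,true)],[(1,false),(2,false),(3,false),(5,false),(4,false),(1,false),(5,false),(4,false),(6,false),(4,false),(1,false)]⟩,⟨571,[],[(0,false),(4,false)]⟩,⟨704,[],[(6,false),(4,false),(1,false),(5,false),(4,false),(5,false),(2,false),(6,false),(4,false),(1,false)]⟩,⟨3125,[],[(0,false),(3,false),(6,false)]⟩,⟨2006,[(110,true)],[(4,false),(5,false),(2,false),(4,false),(5,false),(4,false),(5,false),(6,false)]⟩,⟨2612,[],[(2,false),(4,false),(1,false),(5,false),(4,false),(1,false),(4,false),(6,false)]⟩]⟩))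
 (.fork (.one ⟨[4,3,8,5,4,3,2,1,3], [⟨562,[(110,true),(109,false)],[(2,false),(5,false),(6,false),(4,false),(1,false),(2,true),(5,false),(4,false),(6,false)]⟩,⟨1530,[],[(1,false),(2,false),(4,false),(1,false),(5,false),(4,false),(6,false),(4,false),(5,false),(4,false)]⟩,⟨1920,[(110,true),(109,false)],[(0,false),(6,false),(2,true),(5,false),(4,false),(1,false),(4,false)]⟩,⟨990,[(110,true),(109,false)],[(4,false),(1,false),(4,false),(1,false),(2,true),(5,false)]⟩,⟨856,[(110,true),(109,false)],[(1,false),(2,false),(4,false),(5,false),(2,false),(4,false),(5,false),(4,false)]⟩,⟨1496,[(110,true),(109,false)],[(1,false),(4,false),(3,false),(5,false),(2,false),(4,false),(1,false),(4,false),(5,false)]⟩,⟨2190,[(110,true),(109,false)],[(2,false),(3,false),(5,false),(4,false),(5,false),(6,false),(4,false),(2,true),(5,false),(2,true)]⟩]⟩)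
 (.one ⟨[], []⟩)))
 (.fork (.fork (.one ⟨[6,4,3,2,1,7,6,4,3], [⟨2228,[(110,true)],[(1,false),(5,false),(6,false),(4,false),(1,false),(4,false),(5,false),(2,false),(6,false)]⟩,⟨1114,[(110,true)],[(1,false),(6,false),(4,false),(1,false),(5,false),(4,false),(5,false),(4,false),(6,false),(2,true)]⟩,⟨2974,[(110,true)],[(5,false),(4,false),(5,false),(4,false),(1,false),(4,false),(2,true),(5,false),(4,false)]⟩,⟨1144,[(110,true)],[(4,false),(1,false),(3,false),(4,false),(5,false),(4,false),(6,false)]⟩,⟨3279,[],[]⟩,⟨2744,[(110,true)],[(3,false),(6,false),(2,true),(5,false),(4,false),(5,false),(2,false),(5,false),(4,false)]⟩,⟨2611,[],[(0,false)]⟩]⟩)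
 (.one ⟨[0,3,2,6,6,4,3,2,1,5,4,3], [⟨2497,[],[(1,false),(3,false)]⟩,⟨2800,[(109,false)],[(4,false),(1,false),(4,false),(6,false),(2,true),(5,false),(4,false),(5,false),(2,true)]⟩,⟨2526,[],[(0,false),(2,false),(4,false),(1,false),(5,false),(6,false),(4,false),(5,false),(4,false),(1,false),(6,false)]⟩,⟨2906,[],[(3,false),(6,false),(4,false),(1,false),(4,false),(2,true),(5,false),(4,false),(1,false)]⟩,⟨1811,[],[]⟩,⟨2703,[],[(0,false),(3,false)]⟩,⟨1152,[(109,false)],[(4,false),(3,false),(5,false),(4,false),(6,false),(4,false),(2,true),(5,false),(2,false)]⟩]⟩))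
 (.fork (.one ⟨[0,2,7,6,4,3,2,1,5,4,3], [⟨1256,[],[(0,false),(1,false),(5,false),(6,false),(4,false),(1,false),(4,false),(2,true),(5,false),(2,false)]⟩,⟨1177,[],[(3,false),(6,false)]⟩,⟨1313,[],[]⟩,⟨2400,[(110,false)],[(3,false),(5,false),(2,false),(4,false),(1,false),(4,false),(5,false),(2,false),(6,false)]⟩,⟨3120,[],[(5,false),(2,false),(5,false),(6,false),(4,false),(5,false),(2,false),(4,false),(1,false),(4,false)]⟩,⟨1923,[],[(0,false),(1,false)]⟩,⟨3666,[(110,false)],[(4,false),(5,false),(2,false),(4,false),(1,false),(4,false),(6,false),(4,false),(5,false)]⟩]⟩)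
 (.one ⟨[], []⟩)))))))

/-- the orbits of state 5 -/
noncomputable def twRoots5 : BT TRoot :=
  (.fork (.fork (.fork twRoots5T1
 twRoots5T2)
 (.fork twRoots5T3
 twRoots5T4))
 (.fork (.fork twRoots5T5
 twRoots5T6)
 (.fork twRoots5T7
 twRoots5T8)))

end CfsgLib.ThPres
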