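import Cfsg.Agent.Lib.TwistTree.Tree

/-!
The orbits of one state with their steps.
-/

set_option autoImplicit false

namespace CfsgLib.ThPres
open CfsgLib.CosetEnum CfsgLib.TwistTree
open CfsgLib.TwistCoset (wOf cOK CLev cSize lettersOK)

/-- a part of the orbits of state 6 -/
noncomputable def twRoots6T1 : BT TRoot := (.fork (.fork (.fork (.fork (.fork (.fork (.one ⟨[], [⟨112,[],[]⟩,⟨153,[],[(1,false)]⟩,⟨176,[],[(1,false),(3,false),(2,true)]⟩,⟨170,[],[(5,false),(6,false),(2,true)]⟩,⟨118,[],[(0,false),(2,true)]⟩,⟨171,[],[(0,false),(1,false),(2,false),(3,false),(5,false),(6,false)]⟩,⟨164,[],[]⟩]⟩)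
 (.one ⟨[3,2,1,6,4,3], [⟨833,[],[(6,false)]⟩,⟨1735,[],[(6,false),(2,true)]⟩,⟨2051,[],[(3,false),(2,true)]⟩,⟨1241,[],[(4,false),(2,true)]⟩,⟨1885,[],[]⟩,⟨922,[(163,false),(114,false)],[(4,false),(3,false),(6,false),(2,true),(5,false),(4,false),(6,false),(2,true),(5,false),(2,false)]⟩,⟨554,[(163,false),(114,false)],[(5,false),(2,false),(6,false),(4,false),(5,false),(2,false),(4,false),(1,false),(5,false),(2,true)]⟩]⟩))
 (.fork (.one ⟨[5,5,4,3], [⟨339,[],[(3,false),(2,true)]⟩,⟨377,[],[(6,false)]⟩,⟨256,[],[(0,false),(2,false),(5,false),(6,false),(4,false),(5,false),(4,false),(1,false),(4,false),(6,false)]⟩,⟨129,[(163,false),(114,true)],[(1,false),(5,false),(6,false),(4,false),(1,false),(4,false),(6,false),(2,true),(5,false)]⟩,⟨479,[],[]⟩,⟨179,[],[(6,false)]⟩,⟨143,[(163,false),(114,true)],[(0,false),(6,false),(2,true),(5,false),(4,false),(1,false),(4,false),(6,false),(4,false),(1,false),(2,true)]⟩]⟩)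
 (.one ⟨[0,2,4,3,6,4,3,2,1,3], [⟨4029,[],[]⟩,⟨1577,[],[(0,false),(1,false),(2,true)]⟩,⟨1357,[],[(5,false),(2,true)]⟩,⟨368,[(163,false),(114,false)],[(1,false),(2,false),(4,false),(1,false),(6,false),(4,false),(1,false),(5,false),(4,false)]⟩,⟨672,[(163,true),(114,true),(163,false),(114,false)],[(1,false),(4,false),(1,false),(4,false),(5,false),(4,false),(5,false),(6,false),(4,false),(2,true)]⟩,⟨1777,[],[(1,false),(5,false)]⟩,⟨1567,[],[(0,false)]⟩]⟩)))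
 (.fork (.fork (.one ⟨[5,4,3], [⟨213,[],[(6,false)]⟩,⟨195,[],[(1,false),(2,false),(6,false),(4,false),(5,false),(4,false),(1,false),(5,false),(6,false),(4,false)]⟩,⟨209,[],[]⟩,⟨211,[],[]⟩,⟨218,[],[(2,false),(4,false),(1,false),(3,false),(5,false),(4,false),(1,false),(6,false),(4,false),(2,true)]⟩,⟨649,[],[]⟩,⟨249,[],[(2,true)]⟩]⟩)
 (.one ⟨[3,4,3,2,1,5,4,3], [⟨1751,[],[(6,false),(2,true)]⟩,⟨845,[],[(6,false)]⟩,⟨589,[],[(2,true)]⟩,⟨1353,[],[(0,false)]⟩,⟨843,[],[(0,false),(4,false)]⟩,⟨1199,[],[(0,false),(1,false),(3,false)]⟩,⟨849,[],[(5,false),(2,true)]⟩]⟩))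
 (.fork (.one ⟨[0,2,1,5,4,3], [⟨1205,[],[]⟩,⟨1215,[],[(2,true)]⟩,⟨953,[],[(0,false)]⟩,⟨1063,[],[(5,false)]⟩,⟨289,[],[(3,false),(6,false)]⟩,⟨1545,[],[(1,false),(5,false),(6,false)]⟩,⟨1891,[],[(5,false),(6,false),(2,true)]⟩]⟩)
 (.one ⟨[], []⟩))))
 (.fork (.fork (.fork (.one ⟨[1,3], [⟨587,[],[]⟩,⟨955,[],[(4,false),(1,false)]⟩,⟨1233,[],[]⟩,⟨1583,[],[(0,false)]⟩,⟨1573,[],[]⟩,⟨745,[],[(2,true)]⟩,⟨591,[],[(0,false)]⟩]⟩)
 (.one ⟨[0,3,2,1,5,5,4,3], [⟨523,[],[(0,false),(6,false),(2,true)]⟩,⟨2049,[],[(4,false),(1,false)]⟩,⟨1316,[],[(4,false),(5,false),(6,false),(4,false),(5,false),(2,false),(5,false),(4,false),(5,false)]⟩,⟨1761,[],[(1,false)]⟩,⟨529,[],[]⟩,⟨1897,[],[]⟩,⟨2047,[],[(3,false),(2,true)]⟩]⟩))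
 (.fork (.one ⟨[0,3,2,1,4,3], [⟨743,[],[(4,false)]⟩,⟨957,[],[(3,false),(5,false),(2,true)]⟩,⟨1385,[],[(2,true)]⟩,⟨1047,[],[]⟩,⟨1743,[],[]⟩,⟨4031,[],[]⟩,⟨544,[(163,true),(114,true),(163,false)],[(2,false),(5,false),(4,false),(5,false),(4,false),(2,true),(5,false),(2,false),(4,false),(5,false),(6,false)]⟩]⟩)
 (.one ⟨[5,4,3,2,1,5,4,3], [⟨1721,[],[(0,false),(2,true)]⟩,⟨951,[],[(2,false)]⟩,⟨1895,[],[]⟩,⟨1541,[],[(0,false)]⟩,⟨716,[(163,false),(114,true),(163,true)],[(4,false),(3,false),(5,false),(2,true),(5,false),(4,false),(5,false),(6,false)]⟩,⟨1593,[],[(1,false)]⟩,⟨1745,[],[(1,false),(4,false),(3,false)]⟩]⟩)))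
 (.fork (.fork (.one ⟨[3,2,1,3], [⟨475,[],[(2,true)]⟩,⟨945,[],[(2,true),(5,false)]⟩,⟨1893,[],[(2,true)]⟩,⟨1580,[],[(0,false),(4,false),(6,false),(4,false),(1,false),(5,false),(4,false),(5,false),(4,false),(2,true)]⟩,⟨651,[],[]⟩,⟨3885,[],[]⟩,⟨670,[],[(3,false),(4,false),(5,false),(4,false),(5,false),(6,false),(2,true),(5,false),(4,false)]⟩]⟩)
 (.one ⟨[0,3,2,1,6,6,4,3], [⟨1243,[],[(4,false)]⟩,⟨597,[],[(0,false),(4,false)]⟩,⟨1203,[],[(1,false)]⟩,⟨1514,[(163,true),(114,false),(113,false)],[(4,false),(1,false),(4,false),(1,false),(5,false),(6,false),(2,true)]⟩,⟨1367,[],[(0,false),(2,true)]⟩,⟨1753,[],[]⟩,⟨1591,[],[(5,false)]⟩]⟩))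
 (.fork (.one ⟨[0,1,7,6,4,3], [⟨1045,[],[(6,false)]⟩,⟨1225,[],[(1,false)]⟩,⟨1719,[],[]⟩,⟨1883,[],[(0,false),(4,false)]⟩,⟨486,[(114,true),(163,true),(114,true)],[(2,false),(5,false),(4,false),(1,false),(4,false),(2,true),(5,false),(4,false),(1,false),(4,false)]⟩,⟨1971,[],[]⟩,⟨1781,[],[(3,false)]⟩]⟩)
 (.one ⟨[], []⟩)))))
 (.fork (.fork (.fork (.fork (.one ⟨[1], [⟨784,[],[(0,false),(5,false),(2,true),(5,false)]⟩,⟨358,[(114,true),(163,true)],[(0,false),(1,false),(2,false),(4,false),(1,false),(6,false),(4,false)]⟩,⟨548,[(163,false)],[(3,false),(4,false),(6,false),(4,false),(1,false),(4,false),(5,false),(2,true),(5,false)]⟩,⟨460,[(163,false)],[(0,false),(3,false),(5,false),(6,false),(2,true),(5,false)]⟩,⟨470,[(163,false)],[(0,false),(3,false)]⟩,⟨469,[],[]⟩,⟨436,[(163,false)],[(4,false),(6,false),(4,false),(2,true),(5,false),(2,false),(4,false),(6,false)]⟩]⟩)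
 (.one ⟨[3,2,1,5,4,3], [⟨1405,[],[(1,false),(6,false)]⟩,⟨1424,[(114,true),(163,false),(113,false)],[(5,false),(2,false),(6,false),(4,false),(5,false),(4,false),(1,false),(6,false),(4,false),(1,false)]⟩,⟨1561,[],[(0,false),(3,false),(5,false)]⟩,⟨1771,[],[(0,false),(3,false)]⟩,⟨1779,[],[(1,false),(3,false)]⟩,⟨1973,[],[(3,false)]⟩,⟨1595,[],[(1,false)]⟩]⟩))
 (.fork (.one ⟨[2,1,5,4,3], [⟨1197,[],[(0,false),(1,false),(5,false)]⟩,⟨898,[],[(1,false),(4,false),(1,false),(4,false),(5,false),(2,false),(4,false),(5,false),(4,false),(1,false)]⟩,⟨1349,[],[(1,false),(4,false),(2,true)]⟩,⟨3835,[],[(3,false),(4,false),(2,true)]⟩,⟨1037,[],[(4,false)]⟩,⟨1775,[],[(0,false),(6,false)]⟩,⟨531,[],[(2,true)]⟩]⟩)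
 (.one ⟨[5,5,4,3,2,1,3], [⟨1041,[],[(1,false)]⟩,⟨1759,[],[(0,false),(1,false),(2,true)]⟩,⟨1069,[],[(5,false)]⟩,⟨1733,[],[(3,false),(2,true)]⟩,⟨4025,[],[(5,false)]⟩,⟨1067,[],[(5,false),(6,false),(2,true)]⟩,⟨888,[(163,false),(114,true),(113,false)],[(2,false),(5,false),(2,false),(6,false),(4,false),(1,false),(5,false),(4,false),(2,true),(5,false)]⟩]⟩)))
 (.fork (.fork (.one ⟨[0,2,1,3], [⟨1187,[],[(0,false)]⟩,⟨1195,[],[]⟩,⟨1403,[],[]⟩,⟨1887,[],[]⟩,⟨1355,[],[]⟩,⟨1397,[],[]⟩,⟨500,[(114,false),(163,false),(113,false)],[(1,false),(2,false),(3,false),(4,false),(5,false),(2,true),(5,false),(4,false),(6,false)]⟩]⟩)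
 (.one ⟨[0,3,2,1,7,5,4,3], [⟨1516,[],[(0,false),(1,false),(5,false),(2,false),(6,false),(4,false),(5,false),(2,true),(5,false),(4,false),(6,false)]⟩,⟨939,[],[(0,false)]⟩,⟨622,[(163,false)],[(1,false),(2,false),(3,false),(5,false),(4,false),(6,false),(4,false),(2,true)]⟩,⟨1516,[(163,true),(114,true)],[(3,false),(4,false),(6,false),(4,false),(1,false),(4,false),(5,false),(2,true)]⟩,⟨939,[(114,false),(163,false)],[(2,false),(5,false),(6,false),(4,false),(2,true),(5,false),(4,false),(1,false),(5,false),(4,false),(2,true)]⟩,⟨1516,[(114,false),(163,false)],[(5,false),(6,false),(4,false),(2,true),(5,false),(4,false),(5,false),(2,true),(5,false),(4,false)]⟩,⟨939,[(163,true),(114,true)],[(5,false),(2,false),(4,false),(6,false),(4,false),(1,false),(4,false)]⟩]⟩))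
 (.fork (.one ⟨[0,5,4,3,2,1,3], [⟨1369,[],[]⟩,⟨761,[],[(6,false),(2,true)]⟩,⟨458,[(114,true),(163,true)],[(3,false),(6,false),(4,false),(1,false),(4,false),(5,false),(2,false),(6,false),(4,false)]⟩,⟨418,[(114,true),(163,true),(114,true)],[(1,false),(4,false),(6,false),(4,false),(1,false),(4,false),(1,false),(6,false),(4,false),(2,true)]⟩,⟨616,[(114,true),(163,true)],[(1,false),(2,true),(5,false),(2,false),(4,false),(5,false),(2,false),(4,false),(6,false),(4,false)]⟩,⟨851,[],[]⟩,⟨855,[],[]⟩]⟩)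
 (.one ⟨[], []⟩))))
 (.fork (.fork (.fork (.one ⟨[0,1,3], [⟨149,[(114,true),(113,false)],[(3,false)]⟩,⟨3887,[],[(0,false),(2,true),(5,false)]⟩,⟨1371,[],[(2,false)]⟩,⟨1237,[],[(3,false)]⟩,⟨1543,[],[]⟩,⟨574,[(114,true),(113,false)],[(0,false),(5,false),(2,false),(5,false),(6,false),(4,false),(5,false),(2,false),(4,false),(1,false),(4,false)]⟩,⟨1537,[],[]⟩]⟩)
 (.one ⟨[0,3,2,1,5,4,3], [⟨1729,[],[(0,false),(6,false),(4,false)]⟩,⟨1729,[(114,true),(163,false),(114,false)],[(1,false),(5,false),(4,false),(3,false),(5,false),(2,true),(5,false),(4,false),(5,false),(2,true)]⟩,⟨1359,[],[]⟩,⟨1359,[(114,true),(163,false),(114,false)],[(0,false),(1,false),(4,false),(5,false),(2,false),(4,false),(5,false),(4,false),(6,false),(2,true)]⟩,⟨1359,[(114,true),(163,true),(114,false)],[(0,false),(2,false),(5,false),(2,false),(4,false),(1,false),(4,false),(6,false),(4,false),(1,false),(5,false)]⟩,⟨1729,[(114,true),(163,true),(114,false)],[(5,false),(4,false),(1,false),(3,false),(4,false),(2,true),(5,false),(4,false),(6,false)]⟩,⟨839,[],[]⟩]⟩))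
 (.fork (.one ⟨[0,1,6,4,3], [⟨578,[(163,false),(114,true),(113,false)],[(3,false),(5,false),(2,true),(5,false),(4,false),(5,false),(6,false),(4,false),(5,false)]⟩,⟨151,[(114,true),(113,false)],[(1,false),(5,false),(4,false),(1,false),(3,false),(4,false),(5,false),(4,false)]⟩,⟨1585,[],[(1,false),(6,false),(2,true)]⟩,⟨1235,[],[(0,false),(1,false)]⟩,⟨1217,[],[(0,false)]⟩,⟨593,[],[(0,false),(1,false),(4,false)]⟩,⟨1899,[],[(3,false),(4,false)]⟩]⟩)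
 (.one ⟨[], []⟩)))
 (.fork (.fork (.one ⟨[1,6,4,3], [⟨749,[],[(4,false),(6,false)]⟩,⟨535,[],[(1,false),(3,false)]⟩,⟨959,[],[(5,false)]⟩,⟨375,[],[]⟩,⟨943,[],[(0,false)]⟩,⟨1049,[],[(1,false)]⟩,⟨933,[],[]⟩]⟩)
 (.one ⟨[0,4,3,2,1,7,5,4,3], [⟨1379,[],[(0,false)]⟩,⟨1391,[],[(5,false)]⟩,⟨266,[(163,true),(113,false)],[(1,false),(2,false),(4,false),(3,false),(6,false),(4,false),(5,false),(2,false),(4,false)]⟩,⟨1969,[],[(5,false),(6,false),(4,false)]⟩,⟨1389,[],[(1,false)]⟩,⟨755,[],[]⟩,⟨269,[],[]⟩]⟩))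
 (.fork (.one ⟨[5,4,3,2,1,3], [⟨1061,[],[]⟩,⟨937,[],[]⟩,⟨1553,[],[(0,false),(5,false)]⟩,⟨1589,[],[(5,false)]⟩,⟨1375,[],[]⟩,⟨1581,[],[(2,true)]⟩,⟨4033,[],[(1,false),(5,false),(6,false)]⟩]⟩)
 (.one ⟨[], []⟩))))))
 (.fork (.fork (.fork (.fork (.fork (.one ⟨[3], [⟨202,[],[(1,false)]⟩,⟨1055,[],[(0,false),(6,false)]⟩,⟨1055,[(163,true)],[(1,false),(3,false),(4,false),(6,false),(2,true),(5,false),(4,false),(2,true),(5,false),(2,true)]⟩,⟨1055,[(163,false)],[(4,false),(5,false),(4,false),(5,false),(2,false),(5,false),(4,false),(1,false),(5,false)]⟩,⟨291,[],[(2,true),(5,false),(4,false)]⟩,⟨291,[(163,false)],[(3,false),(4,false),(1,false),(6,false),(2,true),(5,false),(4,false),(1,false)]⟩,⟨291,[(163,true)],[(0,false),(5,false),(6,false),(4,false),(1,false),(4,false),(1,false),(2,true),(5,false)]⟩]⟩)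
 (.one ⟨[0,2,3,2,1,6,4,3], [⟨4273,[],[]⟩,⟨1549,[],[(5,false)]⟩,⟨632,[(114,true),(113,false)],[(0,false),(2,false),(5,false),(6,false),(4,false),(5,false),(2,false)]⟩,⟨4273,[(114,false),(163,true)],[(2,false),(3,false),(4,false),(1,false),(5,false),(4,false),(6,false),(4,false),(5,false),(2,false)]⟩,⟨1549,[(163,false),(114,true)],[(0,false),(4,false),(6,false),(4,false),(2,true),(5,false),(4,false)]⟩,⟨4273,[(163,false),(114,true)],[(0,false),(1,false),(4,false),(6,false),(4,false),(5,false),(2,false),(4,false)]⟩,⟨1549,[(114,false),(163,true)],[(3,false),(5,false),(4,false),(1,false),(4,false),(6,false),(4,false),(1,false),(5,false),(2,false)]⟩]⟩))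
 (.fork (.one ⟨[0,1,5,4,3], [⟨1154,[(163,true),(114,false),(163,false),(113,false)],[(0,false),(2,true),(5,false),(2,false),(4,false),(5,false),(4,false),(1,false),(2,true)]⟩,⟨432,[(163,true),(114,true),(113,false)],[(2,false),(4,false),(1,false),(5,false),(6,false),(4,false),(5,false),(4,false),(1,false)]⟩,⟨1557,[],[(4,false)]⟩,⟨1071,[],[(3,false)]⟩,⟨1559,[],[(5,false)]⟩,⟨1757,[],[(6,false)]⟩,⟨645,[],[(6,false),(4,false)]⟩]⟩)
 (.one ⟨[1,2,3,2,1,6,4,3], [⟨1239,[],[]⟩,⟨251,[],[(0,false),(5,false),(6,false)]⟩,⟨1239,[(163,true),(114,false)],[(0,false),(1,false),(4,false),(1,false),(5,false),(6,false),(4,false),(5,false),(4,false)]⟩,⟨4023,[],[(6,false)]⟩,⟨4023,[(163,true),(114,false)],[(2,false),(5,false),(4,false),(1,false),(5,false),(6,false),(4,false),(2,true),(5,false)]⟩,⟨4023,[(114,true),(163,false)],[(5,false),(2,false),(4,false),(6,false),(4,false),(1,false),(4,false),(1,false),(5,false),(6,false)]⟩,⟨1239,[(114,true),(163,false)],[(1,false),(5,false),(4,false),(3,false),(2,true),(5,false),(2,false),(4,false),(5,false),(6,false),(4,false)]⟩]⟩)))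
 (.fork (.fork (.one ⟨[6,6,4,3], [⟨383,[],[]⟩,⟨227,[],[]⟩,⟨747,[],[]⟩,⟨1229,[],[(1,false),(6,false),(2,true)]⟩,⟨267,[],[(0,false),(5,false),(6,false)]⟩,⟨643,[],[]⟩,⟨477,[],[(1,false)]⟩]⟩)
 (.one ⟨[2,3,2,1,7,5,4,3], [⟨1057,[],[]⟩,⟨390,[(163,false),(114,false),(163,true)],[(0,false),(4,false),(5,false),(4,false),(6,false),(4,false),(5,false)]⟩,⟨1713,[],[(4,false),(6,false),(4,false)]⟩,⟨831,[],[(4,false)]⟩,⟨1579,[],[]⟩,⟨3881,[],[(4,false),(3,false),(6,false)]⟩,⟨341,[],[(6,false)]⟩]⟩))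
 (.fork (.one ⟨[0,2,1,6,4,3], [⟨274,[(114,true),(163,true)],[(6,false),(4,false),(2,true),(5,false),(2,false),(4,false),(5,false),(6,false),(4,false),(5,false)]⟩,⟨582,[(114,false),(113,false)],[(0,false),(4,false),(1,false),(4,false),(6,false),(4,false),(1,false),(4,false),(2,true),(5,false),(2,false)]⟩,⟨929,[],[(6,false)]⟩,⟨935,[],[(3,false),(2,true)]⟩,⟨1377,[],[(6,false)]⟩,⟨4021,[],[(1,false),(4,false),(2,true)]⟩,⟨1211,[],[(0,false),(4,false)]⟩]⟩)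
 (.one ⟨[], []⟩))))
 (.fork (.fork (.fork (.one ⟨[4,3], [⟨215,[],[]⟩,⟨585,[],[(1,false),(5,false),(2,true)]⟩,⟨379,[],[]⟩,⟨478,[],[(1,false),(5,false),(6,false),(4,false),(1,false),(4,false),(5,false),(2,false),(5,false),(6,false)]⟩,⟨757,[],[]⟩,⟨317,[],[(2,true)]⟩,⟨320,[],[(3,false),(5,false),(4,false),(2,true),(5,false),(4,false),(1,false),(6,false)]⟩]⟩)
 (.one ⟨[0,2,3,2,1,5,5,4,3], [⟨1889,[],[(5,false),(6,false)]⟩,⟨1575,[],[(1,false)]⟩,⟨759,[],[(0,false),(1,false)]⟩,⟨1363,[],[(1,false),(5,false),(6,false)]⟩,⟨3877,[],[(3,false)]⟩,⟨847,[],[(5,false)]⟩,⟨3875,[],[]⟩]⟩))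
 (.fork (.one ⟨[0,2,3,2,1,4,3], [⟨1747,[],[]⟩,⟨1209,[],[(0,false)]⟩,⟨1201,[],[(3,false)]⟩,⟨853,[],[(2,true)]⟩,⟨525,[],[(5,false),(6,false)]⟩,⟨660,[],[(1,false),(6,false),(2,true),(5,false),(4,false),(5,false),(2,true),(5,false),(4,false)]⟩,⟨1862,[],[(0,false),(6,false),(2,true),(5,false),(4,false),(1,false),(4,false),(5,false),(2,true)]⟩]⟩)
 (.one ⟨[8,6,4,3,2,1,5,4,3], [⟨296,[(114,true),(163,true),(114,false),(113,false)],[(2,false),(3,false),(6,false),(4,false),(5,false),(4,false),(1,false),(4,false),(6,false)]⟩,⟨1227,[],[(6,false),(2,true)]⟩,⟨1399,[],[(0,false),(3,false),(5,false)]⟩,⟨1773,[],[(5,false)]⟩,⟨518,[(114,true),(163,true),(114,false),(113,false)],[(6,false),(2,true),(5,false),(4,false),(5,false),(2,false),(4,false),(5,false),(4,false),(2,true)]⟩,⟨1571,[],[(2,true)]⟩,⟨1547,[],[]⟩]⟩)))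
 (.fork (.fork (.one ⟨[1,5,4,3], [⟨1223,[],[(5,false)]⟩,⟨706,[(114,true),(163,true),(114,true)],[(0,false),(4,false),(1,false),(4,false),(5,false),(4,false),(1,false),(2,true)]⟩,⟨837,[],[]⟩,⟨385,[],[(5,false)]⟩,⟨406,[(114,true),(163,true),(114,true)],[(3,false),(4,false),(1,false),(5,false),(4,false),(5,false),(2,false)]⟩,⟨751,[],[(3,false),(6,false)]⟩,⟨1050,[],[(1,false),(4,false),(1,false),(3,false),(5,false),(2,false),(4,false),(5,false),(4,false)]⟩]⟩)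
 (.one ⟨[0,4,3,6,4,3,2,1,3], [⟨4019,[],[(2,true)]⟩,⟨1213,[],[(6,false),(4,false)]⟩,⟨1741,[],[]⟩,⟨236,[(114,true),(163,true),(114,false)],[(1,false),(4,false),(1,false),(3,false),(2,true),(5,false),(4,false),(5,false),(2,false)]⟩,⟨473,[],[(1,false),(3,false),(6,false)]⟩,⟨1053,[],[(5,false),(6,false)]⟩,⟨1551,[],[(3,false),(2,true)]⟩]⟩))
 (.fork (.one ⟨[0,1,5,5,4,3], [⟨446,[(114,true),(163,false),(114,false)],[(1,false),(4,false),(3,false),(5,false),(2,false),(5,false),(6,false)]⟩,⟨1715,[],[]⟩,⟨527,[],[(2,false),(4,false)]⟩,⟨521,[],[(2,false),(3,false)]⟩,⟨653,[],[(2,false),(4,false)]⟩,⟨1569,[],[(1,false),(2,true)]⟩,⟨1725,[],[(3,false),(5,false),(4,false)]⟩]⟩)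
 (.one ⟨[], []⟩)))))
 (.fork (.fork (.fork (.fork (.one ⟨[0,1], [⟨125,[(114,true)],[(4,false),(3,false),(6,false),(4,false),(5,false)]⟩,⟨421,[],[(2,true)]⟩,⟨314,[(114,true)],[(3,false),(4,false),(1,false),(5,false),(4,false),(5,false),(4,false),(6,false),(4,false),(2,true)]⟩,⟨214,[(114,true)],[(1,false),(4,false),(1,false),(5,false),(2,false),(6,false),(4,false),(1,false),(4,false),(6,false)]⟩,⟨239,[],[]⟩,⟨222,[(114,true),(163,true),(114,true)],[(0,false),(2,true),(5,false),(4,false),(5,false),(6,false),(2,true),(5,false),(4,false)]⟩,⟨1535,[],[]⟩]⟩)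
 (.one ⟨[0,2,1,5,5,4,3], [⟨1065,[],[(0,false),(2,true),(5,false)]⟩,⟨1401,[],[(4,false),(1,false),(6,false)]⟩,⟨618,[(114,true),(163,true),(113,false)],[(1,false),(2,true),(5,false),(4,false),(5,false),(4,false),(1,false),(4,false)]⟩,⟨1221,[],[]⟩,⟨1351,[],[(4,false),(2,true)]⟩,⟨857,[],[]⟩,⟨1219,[],[(4,false)]⟩]⟩))
 (.fork (.one ⟨[1,7,6,4,3], [⟨519,[],[]⟩,⟨387,[],[(0,false),(2,true)]⟩,⟨657,[],[]⟩,⟨1059,[],[(1,false),(2,true)]⟩,⟨381,[],[(1,false),(5,false)]⟩,⟨595,[],[(2,true)]⟩,⟨344,[(114,true),(163,true),(114,false),(113,false)],[(1,false),(2,false),(6,false),(4,false),(1,false),(4,false),(5,false),(2,false),(6,false),(4,false)]⟩]⟩)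
 (.one ⟨[5,4,3,2,1,6,4,3], [⟨1723,[],[(2,false)]⟩,⟨1755,[],[(6,false)]⟩,⟨1731,[],[(0,false),(4,false),(2,true)]⟩,⟨1189,[],[(2,true)]⟩,⟨794,[(114,false),(163,true),(114,true),(113,false)],[(0,false),(5,false),(4,false),(6,false),(4,false),(5,false),(2,true)]⟩,⟨1587,[],[(5,false)]⟩,⟨931,[],[(1,false),(2,true)]⟩]⟩)))
 (.fork (.fork (.one ⟨[0,3,2,1,3], [⟨678,[],[(2,false),(3,false),(5,false),(2,false),(4,false),(5,false),(2,false),(4,false),(5,false),(2,true)]⟩,⟨1682,[],[(1,false),(2,false),(5,false),(4,false),(5,false),(4,false),(2,true)]⟩,⟨1555,[],[]⟩,⟨1361,[],[]⟩,⟨1727,[],[(0,false),(5,false),(2,true)]⟩,⟨1785,[],[(0,false),(2,true)]⟩,⟨533,[],[]⟩]⟩)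
 (.one ⟨[2,3,2,1,7,6,4,3], [⟨1395,[],[(4,false),(1,false),(6,false)]⟩,⟨1193,[],[(4,false)]⟩,⟨3883,[],[]⟩,⟨753,[],[]⟩,⟨471,[],[(2,true),(5,false)]⟩,⟨428,[(114,true),(163,true)],[(4,false),(5,false),(2,false),(4,false),(5,false),(6,false),(2,true),(5,false)]⟩,⟨1739,[],[(4,false)]⟩]⟩))
 (.fork (.one ⟨[0,6,6,4,3,2,1,3], [⟨941,[],[]⟩,⟨1231,[],[(5,false)]⟩,⟨1387,[],[(2,true)]⟩,⟨835,[],[]⟩,⟨1563,[],[(0,false)]⟩,⟨1393,[],[(0,false),(1,false),(2,true)]⟩,⟨371,[],[]⟩]⟩)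
 (.one ⟨[], []⟩))))
 (.fork (.fork (.fork (.one ⟨[2,1,3], [⟨1102,[(114,true),(113,false)],[(0,false),(1,false),(4,false),(2,true),(5,false),(2,false),(4,false),(6,false)]⟩,⟨1769,[],[(0,false)]⟩,⟨1365,[],[(0,false),(3,false)]⟩,⟨655,[],[(1,false)]⟩,⟨1881,[],[]⟩,⟨1763,[],[(2,true)]⟩,⟨1717,[],[]⟩]⟩)
 (.one ⟨[0,2,3,2,1,5,4,3], [⟨1039,[],[(6,false),(2,true)]⟩,⟨1565,[],[(5,false),(2,true)]⟩,⟨346,[(163,true)],[(0,false),(4,false),(5,false),(4,false),(1,false),(4,false),(5,false),(2,false),(5,false),(6,false)]⟩,⟨1314,[],[(0,false),(4,false),(1,false),(6,false),(4,false),(5,false),(2,false),(4,false),(1,false),(5,false)]⟩,⟨1737,[],[]⟩,⟨947,[],[(3,false)]⟩,⟨1533,[],[]⟩]⟩))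
 (.fork (.one ⟨[2,1,6,4,3], [⟨949,[],[(0,false),(4,false)]⟩,⟨423,[],[(3,false),(2,true)]⟩,⟨4027,[],[]⟩,⟨3879,[],[(2,true)]⟩,⟨1026,[(114,false),(163,false),(114,true)],[(5,false),(2,false),(6,false),(4,false),(5,false),(4,false),(1,false),(4,false),(2,true)]⟩,⟨1191,[],[(1,false)]⟩,⟨1765,[],[(1,false),(3,false),(6,false)]⟩]⟩)
 (.one ⟨[], []⟩)))
 (.fork (.fork (.one ⟨[7,6,4,3], [⟨398,[],[(0,false),(1,false),(4,false),(5,false),(4,false),(2,true),(5,false),(4,false),(1,false),(4,false)]⟩,⟨315,[],[]⟩,⟨1043,[],[(5,false)]⟩,⟨284,[],[(3,false),(5,false),(2,false),(6,false),(4,false),(5,false),(2,false),(4,false),(6,false)]⟩,⟨373,[],[(0,false)]⟩,⟨207,[],[(5,false)]⟩,⟨187,[],[]⟩]⟩)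
 (.one ⟨[1,0,2,3,2,1,6,4,3], [⟨841,[],[]⟩,⟨189,[],[(2,true),(5,false)]⟩,⟨334,[],[(0,false),(5,false),(2,false),(4,false),(6,false),(4,false),(5,false),(4,false),(1,false),(4,false),(2,true)]⟩,⟨1383,[],[(0,false)]⟩,⟨1381,[],[]⟩,⟨1051,[],[(5,false)]⟩,⟨1767,[],[(1,false)]⟩]⟩))
 (.fork (.one ⟨[6,6,4,3,2,1,3], [⟨1539,[],[(3,false)]⟩,⟨1749,[],[(0,false),(5,false),(6,false)]⟩,⟨1207,[],[(0,false)]⟩,⟨1783,[],[(1,false),(3,false)]⟩,⟨647,[],[]⟩,⟨1373,[],[]⟩,⟨884,[(163,true),(114,true),(163,false),(114,false)],[(4,false),(1,false),(4,false),(5,false),(6,false),(4,false),(1,false),(4,false),(2,true),(5,false),(2,true)]⟩]⟩)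
 (.one ⟨[], []⟩)))))))

/-- the orbits of state 6 -/
noncomputable def twRoots6 : BT TRoot :=
  twRoots6T1

end CfsgLib.ThPres
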