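import Cfsg.Agent.Lib.TwistTree.Tree

/-!
The orbits of one state with their steps.
-/

set_option autoImplicit false

namespace CfsgLib.ThPres
open CfsgLib.CosetEnum CfsgLib.TwistTree
open CfsgLib.TwistCoset (wOf cOK CLev cSize lettersOK)

/-- the orbits of state 7 -/
noncomputable def twRoots7 : BT TRoot :=
  (.fork (.fork (.fork (.fork (.fork (.one ⟨[], [⟨120,[],[]⟩,⟨166,[],[(1,false)]⟩,⟨166,[(121,true)],[(1,false),(5,false),(6,false)]⟩,⟨166,[(121,false)],[(1,false),(5,false),(2,false),(6,false)]⟩,⟨401,[],[(0,false),(5,false)]⟩,⟨401,[(121,false)],[(0,false),(2,false),(5,false),(6,false),(2,true)]⟩,⟨401,[(121,true)],[(0,false),(2,false),(5,false),(6,false),(2,true)]⟩]⟩)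
 (.one ⟨[5,4,3,6,4,3,2,1,3], [⟨3889,[],[]⟩,⟨243,[],[]⟩,⟨427,[],[]⟩,⟨271,[],[(3,false)]⟩,⟨1597,[],[(0,false),(6,false),(2,true)]⟩,⟨1413,[],[(1,false)]⟩,⟨1259,[],[(4,false),(6,false)]⟩]⟩))
 (.fork (.one ⟨[6,6,4,3,2,1,3], [⟨1087,[],[(3,false),(4,false),(5,false)]⟩,⟨3893,[],[(4,false),(2,true)]⟩,⟨1085,[],[(4,false),(2,true)]⟩,⟨769,[],[(4,false),(2,true)]⟩,⟨148,[],[]⟩,⟨489,[],[]⟩,⟨481,[],[]⟩]⟩)
 (.one ⟨[2,6,4,3,2,1,8,6,4,3], [⟨871,[],[(1,false)]⟩,⟨3895,[],[(0,false)]⟩,⟨1411,[],[]⟩,⟨760,[(137,false)],[(4,false),(1,false),(3,false),(5,false),(6,false),(4,false),(1,false),(5,false),(2,false)]⟩,⟨4035,[],[]⟩,⟨781,[],[(0,false),(4,false),(1,false)]⟩,⟨1787,[],[(6,false)]⟩]⟩)))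
 (.fork (.fork (.one ⟨[0,3,2,1,3], [⟨134,[(137,false),(132,false),(121,false)],[(0,false),(2,false),(4,false),(1,false),(4,false),(6,false),(4,false)]⟩,⟨347,[],[(1,false)]⟩,⟨347,[(121,false),(121,false)],[(1,false)]⟩,⟨347,[(121,true),(121,true)],[(1,false),(2,false)]⟩,⟨297,[],[]⟩,⟨297,[(121,true),(121,true)],[]⟩,⟨297,[(121,false),(121,false)],[]⟩]⟩)
 (.one ⟨[0,3,2,3,6,6,4,3,2,1,3], [⟨865,[],[(6,false)]⟩,⟨336,[(132,true),(121,false),(137,false)],[(0,false),(1,false),(5,false),(4,false),(5,false),(2,false),(5,false),(4,false),(1,false),(4,false)]⟩,⟨865,[(121,true),(137,false),(132,true)],[(0,false),(1,false),(4,false),(6,false),(4,false),(1,false),(4,false),(1,false),(6,false)]⟩,⟨599,[],[]⟩,⟨599,[(121,true),(137,false),(132,true)],[(0,false),(5,false),(6,false),(4,false),(1,false),(4,false),(5,false),(4,false),(1,false)]⟩,⟨599,[(137,true),(132,false),(121,false)],[(1,false),(2,false),(5,false),(4,false),(1,false),(6,false),(4,false),(1,false),(5,false),(4,false),(5,false)]⟩,⟨865,[(137,true),(132,false),(121,false)],[(1,false),(4,false),(1,false),(4,false),(5,false),(4,false),(5,false),(6,false),(4,false),(1,false),(5,false)]⟩]⟩))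
 (.fork (.one ⟨[0,2,3,6,4,3,2,1,3], [⟨3897,[],[]⟩,⟨543,[],[]⟩,⟨775,[],[(3,false)]⟩,⟨603,[],[(1,false),(2,true),(5,false)]⟩,⟨675,[],[(2,true)]⟩,⟨483,[],[(5,false),(6,false)]⟩,⟨609,[],[]⟩]⟩)
 (.one ⟨[], []⟩))))
 (.fork (.fork (.fork (.one ⟨[5,4,3], [⟨601,[],[(4,false),(3,false)]⟩,⟨135,[(132,true),(121,false),(137,false),(121,false)],[(5,false),(4,false),(3,false),(6,false),(4,false),(2,true),(5,false),(2,false),(4,false),(6,false)]⟩,⟨661,[],[(2,false),(6,false)]⟩,⟨343,[],[(4,false),(3,false)]⟩,⟨382,[(121,false),(132,false)],[(6,false),(2,true),(5,false),(2,false),(4,false),(3,false),(5,false),(4,false),(6,false)]⟩,⟨537,[],[(1,false)]⟩,⟨539,[],[(2,true)]⟩]⟩)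
 (.one ⟨[2,3,5,4,3,2,1,3], [⟨1599,[],[(3,false)]⟩,⟨867,[],[(0,false),(6,false),(2,true)]⟩,⟨1423,[],[(3,false),(2,true),(5,false)]⟩,⟨1257,[],[(3,false),(2,true)]⟩,⟨429,[],[(6,false),(2,true)]⟩,⟨1247,[],[(6,false),(4,false)]⟩,⟨1077,[],[(5,false)]⟩]⟩))
 (.fork (.one ⟨[0,3,2,1,6,4,3], [⟨351,[],[(1,false),(2,true)]⟩,⟨397,[],[]⟩,⟨437,[],[(3,false),(4,false)]⟩,⟨391,[],[(1,false),(3,false)]⟩,⟨439,[],[(4,false)]⟩,⟨433,[],[(3,false),(2,true)]⟩,⟨155,[(137,false),(121,false),(137,true),(121,false)],[(4,false),(1,false),(4,false),(5,false),(2,false),(4,false),(5,false),(4,false),(1,false),(5,false)]⟩]⟩)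
 (.one ⟨[], []⟩)))
 (.fork (.fork (.one ⟨[0,5,4,3,2,1,3], [⟨1427,[],[(3,false),(5,false)]⟩,⟨607,[],[(6,false)]⟩,⟨673,[],[(4,false),(3,false)]⟩,⟨663,[],[]⟩,⟨873,[],[(2,false)]⟩,⟨1245,[],[(1,false),(2,false)]⟩,⟨150,[],[(3,false),(4,false)]⟩]⟩)
 (.one ⟨[0,2,4,5,4,3,2,1,6,4,3], [⟨667,[],[(4,false)]⟩,⟨1251,[],[]⟩,⟨977,[],[(5,false),(6,false)]⟩,⟨372,[(132,false),(121,false),(137,false),(121,false)],[(4,false),(1,false),(6,false),(4,false),(1,false),(4,false),(5,false),(4,false),(5,false),(2,false)]⟩,⟨967,[],[(1,false)]⟩,⟨975,[],[(6,false)]⟩,⟨605,[],[]⟩]⟩))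
 (.fork (.one ⟨[0,2,5,4,3,6,4,3,2,1,3], [⟨965,[],[]⟩,⟨295,[],[(4,false)]⟩,⟨1091,[],[]⟩,⟨395,[],[]⟩,⟨1601,[],[(5,false)]⟩,⟨961,[],[]⟩,⟨1415,[],[(1,false),(5,false),(2,true)]⟩]⟩)
 (.one ⟨[], []⟩)))))
 (.fork (.fork (.fork (.fork (.one ⟨[3], [⟨131,[(121,false)],[(3,false),(6,false),(4,false),(1,false),(4,false),(6,false)]⟩,⟨541,[],[(0,false),(6,false),(2,true)]⟩,⟨541,[(121,false),(121,false)],[(0,false),(6,false),(2,true)]⟩,⟨541,[(121,true),(121,true)],[(0,false),(6,false)]⟩,⟨435,[],[(3,false),(4,false)]⟩,⟨435,[(121,true),(121,true)],[(3,false),(4,false)]⟩,⟨435,[(121,false),(121,false)],[(3,false),(4,false)]⟩]⟩)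
 (.one ⟨[1,0,3,6,4,3,2,1,3], [⟨861,[],[(2,true)]⟩,⟨299,[],[(3,false),(2,true)]⟩,⟨332,[(132,true),(121,true),(137,false),(132,false)],[(4,false),(1,false),(2,true),(5,false),(4,false),(5,false),(2,false),(5,false)]⟩,⟨3901,[],[(0,false),(4,false)]⟩,⟨777,[],[(0,false)]⟩,⟨863,[],[]⟩,⟨474,[(132,true),(121,true),(137,false),(132,false)],[(0,false),(1,false),(6,false),(2,true),(5,false),(4,false),(1,false),(5,false),(2,false),(6,false),(4,false)]⟩]⟩))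
 (.fork (.one ⟨[3,2,1,6,4,3], [⟨219,[],[(5,false)]⟩,⟨217,[],[(0,false),(6,false),(4,false)]⟩,⟨241,[],[(0,false),(1,false)]⟩,⟨145,[(132,true),(121,false)],[(4,false),(6,false),(2,true),(5,false),(4,false),(1,false),(5,false),(4,false),(6,false),(2,true)]⟩,⟨181,[],[(4,false),(3,false)]⟩,⟨763,[],[(2,true)]⟩,⟨221,[],[(2,true)]⟩]⟩)
 (.one ⟨[2,5,4,3,2,1,6,4,3], [⟨1789,[],[(0,false),(4,false)]⟩,⟨1075,[],[(0,false),(2,true)]⟩,⟨1186,[(121,true),(137,false),(132,true),(121,false)],[(0,false),(2,true),(5,false),(4,false),(1,false),(5,false),(6,false),(4,false)]⟩,⟨1603,[],[]⟩,⟨485,[],[(6,false),(4,false),(2,true)]⟩,⟨1425,[],[(3,false),(4,false),(5,false)]⟩,⟨771,[],[(3,false),(5,false),(6,false)]⟩]⟩)))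
 (.fork (.fork (.one ⟨[0,2,1,5,4,3], [⟨1409,[],[(1,false),(4,false)]⟩,⟨1417,[],[(0,false),(3,false)]⟩,⟨979,[],[(1,false),(2,true)]⟩,⟨765,[],[(5,false)]⟩,⟨665,[],[(3,false)]⟩,⟨4037,[],[]⟩,⟨273,[],[(4,false),(3,false)]⟩]⟩)
 (.one ⟨[0,6,4,3,2,1,7,6,4,3], [⟨3891,[],[(6,false)]⟩,⟨1079,[],[]⟩,⟨671,[],[]⟩,⟨1253,[],[]⟩,⟨981,[],[(2,false),(6,false)]⟩,⟨859,[],[(0,false),(3,false)]⟩,⟨1093,[],[(0,false),(1,false),(6,false)]⟩]⟩))
 (.fork (.one ⟨[0,2,4,3,6,4,3,2,1,3], [⟨1975,[],[(1,false),(2,true),(5,false)]⟩,⟨869,[],[(3,false),(4,false)]⟩,⟨773,[],[(0,false),(6,false),(2,true)]⟩,⟨1083,[],[(6,false),(4,false),(5,false)]⟩,⟨399,[],[(2,false)]⟩,⟨611,[],[(2,true),(5,false)]⟩,⟨530,[(121,true),(132,false)],[(1,false),(3,false),(4,false),(1,false),(4,false),(6,false),(4,false),(5,false),(2,true),(5,false)]⟩]⟩)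
 (.one ⟨[], []⟩))))
 (.fork (.fork (.fork (.one ⟨[0,2,1,3], [⟨138,[],[]⟩,⟨1421,[],[(5,false),(2,true)]⟩,⟨1421,[(121,false),(121,false)],[(5,false),(2,true)]⟩,⟨1421,[(121,true),(121,true)],[(5,false)]⟩,⟨1419,[],[]⟩,⟨1419,[(121,true),(121,true)],[]⟩,⟨1419,[(121,false),(121,false)],[]⟩]⟩)
 (.one ⟨[0,3,2,3,5,4,3,2,1,3], [⟨973,[],[]⟩,⟨875,[],[]⟩,⟨293,[],[(4,false),(2,true)]⟩,⟨973,[(137,true),(132,true),(121,false)],[(0,false),(2,false),(5,false),(4,false),(6,false),(4,false),(5,false),(4,false),(5,false),(2,false)]⟩,⟨875,[(121,true),(137,false),(132,false)],[(3,false),(5,false),(4,false),(5,false),(4,false),(6,false),(4,false),(5,false),(2,true)]⟩,⟨973,[(121,true),(137,false),(132,false)],[(1,false),(2,false),(3,false),(4,false),(1,false),(4,false),(6,false),(4,false),(1,false)]⟩,⟨875,[(137,true),(132,true),(121,false)],[(1,false),(2,false),(5,false),(4,false),(1,false),(6,false),(4,false),(1,false),(5,false),(4,false),(5,false)]⟩]⟩))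
 (.fork (.one ⟨[0,3,6,4,3,2,1,3], [⟨1255,[],[(0,false),(1,false),(2,true)]⟩,⟨877,[],[(4,false)]⟩,⟨425,[],[(6,false)]⟩,⟨1712,[(137,false),(121,true),(137,true),(121,true)],[(0,false),(4,false),(1,false),(5,false),(2,false),(4,false),(1,false),(6,false),(4,false),(1,false)]⟩,⟨963,[],[(4,false),(2,true),(5,false)]⟩,⟨779,[],[]⟩,⟨345,[],[(6,false)]⟩]⟩)
 (.one ⟨[], []⟩)))
 (.fork (.fork (.one ⟨[5,4,3,2,1,3], [⟨767,[],[(5,false)]⟩,⟨389,[],[(6,false)]⟩,⟨3899,[],[(2,true)]⟩,⟨1073,[],[(0,false)]⟩,⟨393,[],[(3,false)]⟩,⟨1407,[],[(0,false),(4,false),(5,false)]⟩,⟨669,[],[(0,false),(2,true),(5,false)]⟩]⟩)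
 (.one ⟨[2,4,5,4,3,2,1,5,4,3], [⟨349,[],[(6,false),(2,true)]⟩,⟨487,[],[(2,true)]⟩,⟨253,[],[(1,false)]⟩,⟨971,[],[(1,false)]⟩,⟨1249,[],[(0,false),(6,false),(2,true)]⟩,⟨526,[(137,false),(121,true),(137,false)],[(0,false),(1,false),(4,false),(6,false),(4,false),(1,false),(2,true),(5,false),(4,false),(5,false)]⟩,⟨659,[],[(4,false),(5,false),(4,false)]⟩]⟩))
 (.fork (.one ⟨[2,3,6,4,3,2,1,3], [⟨1791,[],[(6,false)]⟩,⟨969,[],[(6,false)]⟩,⟨431,[],[(6,false)]⟩,⟨1081,[],[(0,false),(1,false),(6,false)]⟩,⟨1605,[],[]⟩,⟨1089,[],[]⟩,⟨1030,[(121,true),(137,true),(132,false)],[(0,false),(1,false),(4,false),(6,false),(4,false),(1,false),(4,false),(2,true)]⟩]⟩)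
 (.one ⟨[], []⟩))))))

end CfsgLib.ThPres
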