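import Cfsg.Agent.Lib.TwistTree.Tree

/-!
The orbits of one state with their steps.
-/

set_option autoImplicit false

namespace CfsgLib.ThPres
open CfsgLib.CosetEnum CfsgLib.TwistTree
open CfsgLib.TwistCoset (wOf cOK CLev cSize lettersOK)

/-- a part of the orbits of state 8 -/
noncomputable def twRoots8T1 : BT TRoot := (.fork (.fork (.fork (.fork (.fork (.fork (.one ⟨[], [⟨157,[],[]⟩,⟨370,[],[(5,false),(2,false),(4,false),(3,false),(5,false),(4,false),(6,false),(4,false),(1,false),(2,true)]⟩,⟨301,[],[(0,false)]⟩,⟨443,[],[]⟩,⟨167,[],[(0,false),(1,false),(3,false),(2,true)]⟩,⟨444,[],[(0,false),(1,false),(3,false),(6,false),(2,true),(5,false),(2,false)]⟩,⟨466,[],[(4,false),(6,false),(4,false),(1,false),(5,false),(4,false),(2,true)]⟩]⟩)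
 (.one ⟨[0,5,5,4,3,2,1,3], [⟨625,[],[(6,false),(4,false),(3,false)]⟩,⟨1305,[],[(2,true)]⟩,⟨1299,[],[(3,false)]⟩,⟨1441,[],[(0,false),(1,false)]⟩,⟨1095,[],[(5,false),(2,true)]⟩,⟨993,[],[(6,false)]⟩,⟨364,[(204,true),(158,false),(204,true)],[(1,false),(5,false),(4,false),(2,true),(5,false),(2,false),(4,false),(5,false),(2,false)]⟩]⟩))
 (.fork (.one ⟨[0,3,4,3,2,1,3], [⟨999,[],[]⟩,⟨791,[],[]⟩,⟨807,[],[(6,false)]⟩,⟨1287,[],[(0,false),(5,false),(6,false)]⟩,⟨1117,[],[(0,false),(3,false),(6,false)]⟩,⟨1615,[],[(2,true)]⟩,⟨715,[],[]⟩]⟩)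
 (.one ⟨[], []⟩)))
 (.fork (.fork (.one ⟨[0,3,2,1,3], [⟨1443,[],[(1,false)]⟩,⟨677,[],[(3,false)]⟩,⟨1099,[],[(3,false)]⟩,⟨1291,[],[(2,true)]⟩,⟨1105,[],[]⟩,⟨1133,[],[(6,false),(4,false)]⟩,⟨1449,[],[]⟩]⟩)
 (.one ⟨[], []⟩))
 (.fork (.one ⟨[0,2,3,2,1,5,4,3], [⟨1125,[],[(4,false)]⟩,⟨1445,[],[(5,false),(6,false),(2,true)]⟩,⟨590,[(204,false),(158,false)],[(5,false),(6,false),(4,false),(5,false),(2,false),(4,false),(5,false),(4,false),(1,false),(5,false)]⟩,⟨1429,[],[]⟩,⟨1281,[],[(3,false),(6,false),(2,true)]⟩,⟨809,[],[(0,false),(3,false)]⟩,⟨1109,[],[(3,false),(4,false),(2,true)]⟩]⟩)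
 (.one ⟨[], []⟩))))
 (.fork (.fork (.fork (.one ⟨[1,3], [⟨1007,[],[(5,false),(6,false)]⟩,⟨799,[],[(2,true)]⟩,⟨1111,[],[(2,true)]⟩,⟨3907,[],[]⟩,⟨1629,[],[]⟩,⟨805,[],[(0,false),(3,false),(6,false)]⟩,⟨362,[],[(3,false),(6,false),(2,true),(5,false),(4,false),(1,false),(4,false),(5,false),(6,false)]⟩]⟩)
 (.one ⟨[2,4,5,4,3,2,1,5,4,3], [⟨216,[(204,true),(158,false)],[(0,false),(6,false),(4,false),(1,false),(5,false),(4,false),(5,false),(2,false),(6,false)]⟩,⟨355,[],[(4,false),(1,false),(5,false)]⟩,⟨713,[],[(3,false)]⟩,⟨306,[(158,false)],[(3,false),(5,false),(4,false),(5,false),(6,false),(4,false),(1,false),(5,false),(2,false)]⟩,⟨691,[],[]⟩,⟨505,[],[(1,false),(2,true)]⟩,⟨228,[(172,false)],[(5,false),(2,false),(4,false),(1,false),(3,false),(5,false),(4,false),(1,false),(2,true)]⟩]⟩))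
 (.fork (.one ⟨[0,1,7,6,4,3], [⟨1297,[],[]⟩,⟨275,[],[(2,false),(3,false)]⟩,⟨1265,[],[]⟩,⟨679,[],[(3,false),(6,false)]⟩,⟨553,[],[(0,false)]⟩,⟨555,[],[(3,false),(4,false),(2,true)]⟩,⟨1795,[],[]⟩]⟩)
 (.one ⟨[], []⟩)))
 (.fork (.fork (.one ⟨[0,1,5,4,3], [⟨701,[],[(1,false),(2,true)]⟩,⟨503,[],[]⟩,⟨1285,[],[(0,false),(1,false),(2,true)]⟩,⟨811,[],[(1,false)]⟩,⟨703,[],[]⟩,⟨1113,[],[(1,false)]⟩,⟨353,[],[(0,false),(4,false)]⟩]⟩)
 (.one ⟨[], []⟩))
 (.fork (.one ⟨[0,4,3,6,4,3,2,1,3], [⟨889,[],[]⟩,⟨1793,[],[(6,false)]⟩,⟨447,[],[(5,false),(6,false)]⟩,⟨1631,[],[(1,false),(3,false)]⟩,⟨270,[(158,false),(204,false),(158,false),(204,false),(158,false)],[(3,false),(6,false),(4,false),(1,false),(5,false),(2,false),(4,false),(1,false),(5,false)]⟩,⟨1451,[],[(2,true)]⟩,⟨264,[(158,false),(204,false),(158,false),(204,false),(158,false)],[(1,false),(4,false),(3,false),(2,true),(5,false),(4,false),(2,true),(5,false),(2,false),(4,false),(5,false)]⟩]⟩)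
 (.one ⟨[], []⟩)))))
 (.fork (.fork (.fork (.fork (.one ⟨[1], [⟨783,[],[(0,false),(6,false),(2,true)]⟩,⟨357,[],[(0,false),(6,false),(4,false)]⟩,⟨547,[],[(4,false),(1,false),(2,true)]⟩,⟨542,[],[(1,false),(4,false),(2,true),(5,false),(2,false),(4,false),(5,false)]⟩,⟨633,[],[(1,false),(3,false),(6,false)]⟩,⟨634,[],[(3,false),(5,false),(6,false)]⟩,⟨491,[],[(6,false)]⟩]⟩)
 (.one ⟨[4,3,2,1,7,6,4,3], [⟨938,[(204,true),(158,false),(204,false)],[(0,false),(4,false),(5,false),(2,false),(4,false),(5,false),(2,false),(4,false),(5,false),(2,true)]⟩,⟨4047,[],[(4,false)]⟩,⟨1267,[],[(5,false),(6,false)]⟩,⟨1439,[],[]⟩,⟨1453,[],[(1,false)]⟩,⟨1131,[],[(0,false)]⟩,⟨1283,[],[(0,false)]⟩]⟩))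
 (.fork (.one ⟨[0,6,6,4,3,2,1,3], [⟨182,[(158,false),(204,false),(158,false),(204,false)],[(5,false),(4,false),(3,false),(6,false),(4,false),(2,true)]⟩,⟨891,[],[(5,false)]⟩,⟨210,[(158,false),(204,false),(158,false),(204,false)],[(1,false),(4,false),(1,false),(3,false),(4,false),(5,false),(2,false),(6,false),(4,false)]⟩,⟨303,[],[]⟩,⟨240,[(158,false),(204,false),(158,false),(204,false)],[(0,false),(5,false),(2,false),(4,false),(5,false),(2,false),(4,false),(5,false),(2,true)]⟩,⟨160,[(158,false),(204,false),(158,false),(204,false)],[(2,true),(5,false),(2,false),(4,false),(1,false),(5,false),(6,false),(4,false),(2,true),(5,false)]⟩,⟨257,[],[(6,false)]⟩]⟩)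
 (.one ⟨[], []⟩)))
 (.fork (.fork (.one ⟨[1,5,4,3], [⟨685,[],[(4,false),(2,true)]⟩,⟨1293,[],[(3,false),(2,true),(5,false)]⟩,⟨983,[],[(3,false)]⟩,⟨627,[],[]⟩,⟨617,[],[]⟩,⟨795,[],[]⟩,⟨629,[],[(6,false)]⟩]⟩)
 (.one ⟨[], []⟩))
 (.fork (.one ⟨[0,2,3,2,1,7,5,4,3], [⟨1447,[],[(0,false),(4,false),(5,false)]⟩,⟨4043,[],[(2,true)]⟩,⟨424,[(158,false),(204,true),(158,false),(204,true)],[(2,false),(5,false),(4,false),(3,false),(5,false),(6,false),(2,true),(5,false),(4,false)]⟩,⟨4039,[],[]⟩,⟨1271,[],[(3,false),(2,true)]⟩,⟨1121,[],[(1,false)]⟩,⟨1119,[],[(3,false),(2,true),(5,false)]⟩]⟩)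
 (.one ⟨[], []⟩))))
 (.fork (.fork (.fork (.one ⟨[6,6,4,3], [⟨697,[],[(1,false),(2,true)]⟩,⟨750,[(204,false),(158,false),(204,true),(158,false),(172,false)],[(1,false),(2,false),(3,false),(5,false),(4,false),(5,false),(6,false),(4,false),(5,false),(2,false)]⟩,⟨550,[(204,false),(158,false),(204,true),(158,false),(172,false)],[(1,false),(5,false),(6,false),(4,false),(1,false),(4,false),(6,false),(2,true),(5,false)]⟩,⟨405,[],[(0,false)]⟩,⟨693,[],[(2,true)]⟩,⟨559,[],[]⟩,⟨797,[],[(2,true)]⟩]⟩)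
 (.one ⟨[2,4,5,4,3,2,1,6,4,3], [⟨178,[(204,true),(158,false)],[(3,false),(4,false),(2,true),(5,false),(2,false),(4,false),(5,false),(6,false)]⟩,⟨169,[(204,true),(158,false)],[(1,false),(4,false),(6,false),(4,false),(2,true),(5,false),(4,false),(1,false),(6,false),(4,false),(2,true)]⟩,⟨619,[],[(1,false),(5,false),(2,true)]⟩,⟨321,[],[(6,false)]⟩,⟨245,[],[]⟩,⟨323,[],[(0,false)]⟩,⟨180,[(204,true),(158,false)],[(3,false),(5,false),(2,true),(5,false),(4,false),(1,false),(4,false),(6,false),(4,false)]⟩]⟩))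
 (.fork (.one ⟨[3,2,1,5,4,3], [⟨1627,[],[]⟩,⟨493,[],[(3,false)]⟩,⟨883,[],[]⟩,⟨613,[],[]⟩,⟨1609,[],[(5,false),(6,false)]⟩,⟨1801,[],[]⟩,⟨699,[],[(2,true)]⟩]⟩)
 (.one ⟨[], []⟩)))
 (.fork (.fork (.one ⟨[0,2,3,2,1,4,3], [⟨1625,[],[(6,false),(2,true)]⟩,⟨4045,[],[(1,false)]⟩,⟨631,[],[(1,false)]⟩,⟨1625,[(158,false),(172,false),(158,false),(204,false),(158,false)],[(2,false),(4,false),(6,false),(4,false)]⟩,⟨4045,[(158,false),(204,true),(158,false),(172,false),(158,false)],[(1,false),(6,false),(4,false),(2,true)]⟩,⟨1625,[(158,false),(204,true),(158,false),(172,false),(158,false)],[(4,false)]⟩,⟨4045,[(158,false),(172,false),(158,false),(204,false),(158,false)],[(1,false),(2,false),(4,false),(6,false)]⟩]⟩)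
 (.one ⟨[], []⟩))
 (.fork (.one ⟨[2,4,3,6,4,3,2,1,3], [⟨292,[(204,true),(158,false),(204,false)],[(1,false),(6,false),(4,false),(1,false),(3,false),(5,false),(4,false),(6,false),(2,true)]⟩,⟨292,[(204,true),(158,false),(204,true)],[(1,false),(3,false),(2,true),(5,false),(4,false),(1,false),(5,false),(6,false),(2,true)]⟩,⟨261,[],[]⟩,⟨203,[(204,true),(158,false)],[(4,false),(2,true),(5,false),(2,false),(4,false),(5,false),(4,false),(1,false),(5,false),(2,false)]⟩,⟨292,[(204,true),(158,false)],[(1,false),(3,false),(5,false),(6,false),(4,false),(5,false),(2,false)]⟩,⟨261,[(204,false),(172,false),(158,false),(172,false)],[(0,false),(1,false),(4,false),(6,false),(4,false),(5,false),(4,false),(1,false),(5,false),(2,false)]⟩,⟨261,[(172,false),(158,false),(204,true),(172,false)],[(0,false),(1,false),(4,false),(5,false),(2,false),(4,false),(5,false),(2,false),(6,false),(4,false)]⟩]⟩)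
 (.one ⟨[], []⟩))))))
 (.fork (.fork (.fork (.fork (.fork (.one ⟨[3], [⟨501,[],[(4,false)]⟩,⟨1799,[],[(3,false)]⟩,⟨623,[],[(0,false)]⟩,⟨1001,[],[(3,false),(5,false)]⟩,⟨711,[],[(4,false),(3,false)]⟩,⟨588,[(204,true),(158,false),(204,false),(172,false),(158,false)],[(4,false),(2,true),(5,false),(4,false),(1,false),(4,false),(5,false),(2,false),(4,false)]⟩,⟨592,[(204,true),(158,false),(204,true),(158,false)],[(1,false),(4,false),(1,false),(4,false),(6,false),(4,false),(2,true),(5,false),(4,false),(6,false)]⟩]⟩)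
 (.one ⟨[0,3,6,6,4,3,2,1,3], [⟨918,[(204,true),(158,false),(204,true)],[(4,false),(5,false),(2,false),(5,false),(4,false),(5,false)]⟩,⟨918,[(158,false),(204,false),(158,false),(204,true),(158,false)],[(5,false),(2,true),(5,false),(4,false),(5,false),(6,false),(4,false),(1,false),(4,false)]⟩,⟨1633,[],[(1,false),(5,false),(6,false)]⟩,⟨1633,[(204,true),(172,false),(158,false)],[(0,false),(1,false),(5,false),(4,false),(6,false),(4,false)]⟩,⟨1633,[(158,false),(204,false),(172,false)],[(1,false),(5,false),(4,false),(3,false),(2,true)]⟩,⟨918,[(172,false),(158,false),(204,true),(158,false)],[(3,false),(6,false),(4,false),(1,false),(4,false),(5,false),(4,false),(2,true),(5,false),(2,false)]⟩,⟨840,[],[(1,false),(2,false),(5,false),(4,false),(3,false),(6,false),(2,true),(5,false),(4,false)]⟩]⟩))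
 (.fork (.one ⟨[0,5,4,3,2,1,3], [⟨897,[],[(5,false)]⟩,⟨709,[],[(0,false)]⟩,⟨1115,[],[(5,false)]⟩,⟨681,[],[(0,false),(2,true)]⟩,⟨3903,[],[(4,false),(2,true)]⟩,⟨1433,[],[(1,false)]⟩,⟨1437,[],[(0,false)]⟩]⟩)
 (.one ⟨[], []⟩)))
 (.fork (.fork (.one ⟨[3,2,1,3], [⟨1005,[],[(4,false),(5,false)]⟩,⟨740,[(204,true),(158,false),(172,false),(158,false)],[(1,false),(5,false),(4,false),(1,false),(5,false),(2,false),(4,false),(6,false),(4,false),(1,false)]⟩,⟨1005,[(204,true),(158,false),(172,false)],[(1,false),(4,false),(1,false),(3,false),(5,false),(6,false),(4,false),(1,false),(2,true)]⟩,⟨740,[(158,false)],[(2,false),(5,false),(4,false),(2,true),(5,false),(2,false),(4,false),(5,false),(2,true),(5,false)]⟩,⟨1005,[(172,false),(158,false),(204,false)],[(5,false),(6,false),(4,false),(5,false),(4,false)]⟩,⟨621,[],[]⟩,⟨740,[(172,false),(158,false),(204,false),(158,false)],[(1,false),(3,false),(4,false),(5,false),(4,false),(1,false),(5,false),(2,false),(4,false),(6,false)]⟩]⟩)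
 (.one ⟨[], []⟩))
 (.fork (.one ⟨[3,4,3,2,1,5,4,3], [⟨1431,[],[(5,false)]⟩,⟨985,[],[(6,false),(2,true),(5,false)]⟩,⟨887,[],[(2,true)]⟩,⟨1127,[],[(4,false),(2,true)]⟩,⟨3905,[],[(0,false),(6,false)]⟩,⟨495,[],[(4,false),(2,true)]⟩,⟨1269,[],[(4,false)]⟩]⟩)
 (.one ⟨[], []⟩))))
 (.fork (.fork (.fork (.one ⟨[2,1,3], [⟨785,[],[(0,false),(4,false)]⟩,⟨551,[],[(0,false),(3,false)]⟩,⟨1303,[],[(3,false),(2,true)]⟩,⟨445,[],[(1,false),(3,false),(6,false)]⟩,⟨1279,[],[(4,false),(1,false),(6,false)]⟩,⟨695,[],[(0,false),(1,false)]⟩,⟨1123,[],[(5,false)]⟩]⟩)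
 (.one ⟨[2,8,6,4,3,2,1,5,4,3], [⟨449,[],[]⟩,⟨188,[(158,false),(204,true),(158,false),(172,false)],[(1,false),(5,false),(4,false),(5,false),(6,false),(4,false),(1,false),(4,false),(1,false),(6,false),(4,false)]⟩,⟨229,[],[(5,false)]⟩,⟨403,[],[(1,false),(4,false)]⟩,⟨280,[(204,false),(172,false),(158,false),(172,false)],[(2,false),(3,false),(4,false),(5,false),(4,false),(2,true),(5,false),(4,false),(1,false),(4,false)]⟩,⟨277,[],[(2,false),(4,false)]⟩,⟨440,[],[(3,false),(4,false),(5,false),(2,false),(5,false),(4,false),(5,false),(4,false),(2,true)]⟩]⟩))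
 (.fork (.one ⟨[3,2,1,6,4,3], [⟨1174,[(172,false),(158,false),(204,false),(158,false)],[(1,false),(4,false),(6,false),(4,false),(5,false),(4,false),(1,false),(6,false)]⟩,⟨1129,[],[(3,false)]⟩,⟨899,[],[]⟩,⟨1623,[],[(0,false),(1,false),(6,false)]⟩,⟨879,[],[(5,false),(6,false),(2,true)]⟩,⟨1295,[],[]⟩,⟨598,[(158,false),(204,true),(158,false),(204,true),(172,false)],[(1,false),(3,false),(4,false),(1,false),(4,false),(2,true),(5,false),(4,false),(5,false),(2,false)]⟩]⟩)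
 (.one ⟨[], []⟩)))
 (.fork (.fork (.one ⟨[1,7,6,4,3], [⟨1289,[],[(0,false),(5,false)]⟩,⟨1435,[],[(3,false),(5,false)]⟩,⟨885,[],[(0,false)]⟩,⟨638,[],[(3,false),(5,false),(2,false),(4,false),(5,false),(2,false),(4,false)]⟩,⟨995,[],[(4,false),(2,true)]⟩,⟨1135,[],[(0,false)]⟩,⟨290,[(204,true),(172,false),(158,false),(204,false),(158,false)],[(4,false),(5,false),(4,false),(1,false),(4,false),(2,true),(5,false),(2,false),(4,false),(6,false)]⟩]⟩)
 (.one ⟨[], []⟩))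
 (.fork (.one ⟨[0,4,3,2,1,7,5,4,3], [⟨793,[],[(0,false),(1,false),(2,true)]⟩,⟨1097,[],[]⟩,⟨1170,[(204,false),(158,false),(172,false)],[(0,false),(5,false),(2,false),(6,false),(4,false),(1,false),(4,false),(5,false),(2,true),(5,false)]⟩,⟨1263,[],[(1,false),(6,false),(4,false)]⟩,⟨1617,[],[(1,false),(3,false),(5,false)]⟩,⟨1607,[],[]⟩,⟨916,[(158,false),(204,false),(158,false),(204,false),(158,false)],[(1,false),(3,false),(4,false),(5,false),(4,false),(1,false),(4,false),(1,false),(2,true)]⟩]⟩)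
 (.one ⟨[], []⟩)))))
 (.fork (.fork (.fork (.fork (.one ⟨[0,1], [⟨193,[(204,true),(172,false),(158,false),(172,false),(158,false)],[(0,false),(2,false),(5,false),(6,false),(4,false),(1,false),(5,false),(2,true)]⟩,⟨259,[],[(4,false)]⟩,⟨201,[(204,true),(172,false),(158,false),(172,false),(158,false)],[(2,false),(5,false),(4,false),(3,false),(5,false),(6,false),(4,false)]⟩,⟨246,[(204,true),(172,false),(158,false),(172,false),(158,false)],[(1,false),(3,false),(5,false),(4,false),(5,false),(4,false),(6,false),(4,false),(1,false)]⟩,⟨255,[],[]⟩,⟨199,[(204,true),(172,false),(158,false),(172,false),(158,false)],[(1,false),(4,false),(1,false),(4,false),(6,false),(2,true),(5,false),(4,false),(1,false)]⟩,⟨789,[],[(0,false)]⟩]⟩)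
 (.one ⟨[0,6,4,3,2,1,7,6,4,3], [⟨4041,[],[(0,false),(3,false)]⟩,⟨252,[(204,true),(172,false)],[(0,false),(5,false),(6,false),(2,true),(5,false),(4,false),(1,false),(5,false),(4,false),(1,false),(6,false),(2,true)]⟩,⟨4041,[(158,false),(204,false),(158,false)],[(0,false),(1,false),(5,false),(4,false),(5,false),(6,false),(4,false),(1,false),(5,false),(4,false),(1,false)]⟩,⟨1275,[],[(4,false),(1,false)]⟩,⟨1275,[(158,false),(204,false),(158,false)],[(0,false),(6,false),(2,true),(5,false),(4,false),(1,false),(4,false),(1,false),(5,false),(2,false)]⟩,⟨1275,[(158,false),(204,true),(158,false)],[(1,false),(3,false),(5,false),(4,false),(5,false),(6,false),(4,false),(1,false),(5,false),(2,false)]⟩,⟨4041,[(158,false),(204,true),(158,false)],[(3,false),(4,false),(5,false),(4,false),(5,false),(6,false),(4,false),(5,false)]⟩]⟩))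
 (.fork (.one ⟨[0,6,4,3,2,1,3], [⟨997,[],[]⟩,⟨305,[],[(1,false),(6,false)]⟩,⟨268,[(204,true),(158,false),(204,false),(172,false)],[(1,false),(5,false),(2,false),(4,false),(5,false),(4,false),(2,true),(5,false),(4,false),(5,false)]⟩,⟨319,[],[(4,false)]⟩,⟨683,[],[(3,false),(5,false)]⟩,⟨557,[],[(3,false),(5,false),(6,false)]⟩,⟨497,[],[(0,false),(4,false),(1,false)]⟩]⟩)
 (.one ⟨[], []⟩)))
 (.fork (.fork (.one ⟨[1,6,4,3], [⟨499,[],[(6,false)]⟩,⟨987,[],[(1,false)]⟩,⟨1619,[],[(4,false)]⟩,⟨803,[],[(3,false)]⟩,⟨1009,[],[(4,false),(1,false),(5,false)]⟩,⟨895,[],[(4,false),(3,false)]⟩,⟨1261,[],[(5,false)]⟩]⟩)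
 (.one ⟨[], []⟩))
 (.fork (.one ⟨[0,2,3,2,1,6,6,4,3], [⟨476,[(158,false),(204,true),(158,false),(204,true)],[(4,false),(1,false),(5,false),(6,false),(4,false),(2,true),(5,false),(4,false),(6,false),(2,true)]⟩,⟨394,[(204,false),(158,false),(204,true)],[(1,false),(6,false),(2,true),(5,false),(2,false),(4,false),(5,false),(2,false),(4,false),(5,false)]⟩,⟨801,[],[]⟩,⟨3837,[],[(6,false)]⟩,⟨1273,[],[(2,true)]⟩,⟨342,[(204,false),(158,false),(204,true)],[(6,false),(2,true),(5,false),(4,false),(3,false),(6,false),(2,true),(5,false)]⟩,⟨1011,[],[(0,false)]⟩]⟩)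
 (.one ⟨[], []⟩))))
 (.fork (.fork (.fork (.one ⟨[6,4,3], [⟨1103,[],[(6,false),(4,false),(5,false)]⟩,⟨441,[],[(6,false),(4,false)]⟩,⟨705,[],[(2,false),(4,false)]⟩,⟨881,[],[(3,false)]⟩,⟨1613,[],[(0,false),(5,false)]⟩,⟨549,[],[(3,false)]⟩,⟨536,[(204,false),(172,false),(158,false),(204,true)],[(1,false),(5,false),(4,false),(6,false),(4,false),(5,false),(2,false),(4,false),(6,false)]⟩]⟩)
 (.one ⟨[], []⟩))
 (.fork (.one ⟨[0,2,3,2,1,5,5,4,3], [⟨1003,[],[(0,false),(6,false)]⟩,⟨1101,[],[(5,false),(4,false)]⟩,⟨1107,[],[]⟩,⟨1797,[],[(0,false)]⟩,⟨893,[],[(3,false)]⟩,⟨1301,[],[(2,true)]⟩,⟨1277,[],[(0,false)]⟩]⟩)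
 (.one ⟨[], []⟩)))
 (.fork (.fork (.one ⟨[2,1,6,4,3], [⟨615,[],[(3,false),(6,false)]⟩,⟨224,[(204,true),(172,false),(158,false),(172,false),(158,false)],[(1,false),(4,false),(6,false),(4,false),(1,false),(4,false),(1,false),(6,false),(4,false)]⟩,⟨707,[],[(4,false),(2,true)]⟩,⟨689,[],[(3,false),(4,false),(2,true)]⟩,⟨545,[],[(5,false)]⟩,⟨991,[],[(2,true)]⟩,⟨989,[],[(2,true)]⟩]⟩)
 (.one ⟨[], []⟩))
 (.fork (.one ⟨[2,5,4,3,6,4,3,2,1,3], [⟨1621,[],[]⟩,⟨328,[(158,false),(204,true),(158,false),(172,false)],[(4,false),(1,false),(4,false),(2,true),(5,false),(4,false),(1,false),(4,false),(5,false)]⟩,⟨190,[(158,false),(172,false),(158,false),(204,false),(158,false)],[(0,false),(1,false),(4,false),(6,false),(2,true),(5,false),(2,false),(4,false),(1,false)]⟩,⟨687,[],[]⟩,⟨1611,[],[(1,false),(4,false)]⟩,⟨912,[(158,false),(204,false),(158,false),(204,false),(172,false)],[(0,false),(1,false),(4,false),(5,false),(4,false),(1,false),(4,false),(6,false),(4,false)]⟩,⟨787,[],[(4,false)]⟩]⟩)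
 (.one ⟨[], []⟩)))))))

/-- the orbits of state 8 -/
noncomputable def twRoots8 : BT TRoot :=
  twRoots8T1

end CfsgLib.ThPres
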