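import Cfsg.Agent.Lib.ThPres.DataL
import Cfsg.Agent.Lib.ThPres.TwistFacts
import Cfsg.Agent.Lib.ThPres.TwistJust
import Cfsg.Agent.Lib.ThPres.TwistRoots0
import Cfsg.Agent.Lib.ThPres.TwistRoots1
import Cfsg.Agent.Lib.ThPres.TwistRoots2
import Cfsg.Agent.Lib.ThPres.TwistRoots3
import Cfsg.Agent.Lib.ThPres.TwistRoots4
import Cfsg.Agent.Lib.ThPres.TwistRoots5
import Cfsg.Agent.Lib.ThPres.TwistRoots6
import Cfsg.Agent.Lib.ThPres.TwistRoots7
import Cfsg.Agent.Lib.ThPres.TwistRoots8
import Cfsg.Agent.Lib.ThPres.TwistRoots9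
import Cfsg.Agent.Lib.ThPres.TwistRoots10

/-!
The certified double cosets.
-/

set_option autoImplicit false

namespace CfsgLib.ThPres
open CfsgLib.CosetEnum CfsgLib.TwistTree
open CfsgLib.TwistCoset (wOf cOK CLev cSize lettersOK)

/-- the closure -/
noncomputable def tw : TData where
  C := certL
  B := [0,4,77]
  U := [([0],[0]), ([4],[4]), ([7],[8]), ([2],[2]), ([3,2,3],(wOf 21 0x454532346323466323452)), ([5,4,6],[4,6,4,5]), ([1,0,2,1],[1,0,2,1,4])]
  cosL := [[], [6], [7,6], [6,6], [5,5,7], [6,6,6], [5,8]]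
  pgens := [[8], [5], [4], [3,2,3], [1,0,2,1]]
  cosMove := [[(0,[(2,true)]),(3,[(2,true)]),(1,[]),(2,[(2,false)]),(5,[]),(6,[]),(4,[])],
    [(6,[(2,false)]),(0,[]),(5,[(2,false)]),(1,[]),(2,[]),(3,[]),(4,[(2,false)])],
    [(0,[(1,false)]),(1,[(5,false)]),(2,[(5,false)]),(3,[(2,true),(5,false),(2,false)]),(4,[(1,false),(2,true),(5,false),(2,false)]),(5,[(1,false),(2,true),(5,false),(2,false)]),(6,[(1,false),(2,true),(5,false),(2,false)])],
    [(0,[(4,false)]),(1,[(4,false)]),(2,[(4,false)]),(3,[(4,false)]),(4,[(4,false)]),(5,[(4,false)]),(6,[(4,false)])],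
    [(0,[(6,false)]),(1,[(6,false)]),(2,[(6,false)]),(3,[(6,false)]),(4,[(6,false)]),(5,[(6,false)]),(6,[(6,false)])]]
  sq := [0, 2]
  ns := 11
  par := [(0,[]),(0,[]),(1,[3]),(1,[1,6]),(1,[1,3]),(1,[1,3,6]),(1,[1,3,5,5,7]),(2,[1]),(2,[1,5,5,7]),(4,[1,4,6,6,4,3,5]),(3,[3,2,3,6,4,3,2,1,3,6,6])]
  facts := twFacts
  prfs := twJust
  menuE := [[6,9,6,9,2,0,6], (wOf 13 0x2050292050295), (wOf 19 0x2030293402920302934), (wOf 19 0x3402920302934029203), (wOf 19 0x4302920302943029203), (wOf 32 0x41021302934212013029203102130293), (wOf 32 0x34212013029203102130293029410213), (wOf 32 0x20310213029302941021302934212013), (wOf 32 0x30294102130293421201302920310213), (wOf 36 0x203120130293102124302920312014029203), (wOf 36 0x310212430292031201402920302920312013), (wOf 36 0x203120140292030292031201302931021243), (wOf 36 0x203029203120130293102124302920312014), (wOf 46 0x6635502966355029663550294323466643234532320355), (wOf 35 0x60292050296029205029602920502969205), (wOf 35 0x20502960292050296029205029692050296)]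
  menuS := [(wOf 14 0x2960296029620), (wOf 14 0x43930294393029), (wOf 14 0x30293493029349), (wOf 31 0x3102130293029410213029342120139), (wOf 41 0x66302323643234555432349663559663559663559), (wOf 53 0x66355029663550296635502966554323466643234532320355029)]
  roots := [twRoots0, twRoots1, twRoots2, twRoots3, twRoots4, twRoots5, twRoots6, twRoots7, twRoots8, twRoots9, twRoots10]
  nroots := [1,4,3,19,11,425,54,26,39,45,5]

end CfsgLib.ThPres
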