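import Cfsg.Agent.Lib.ThPres.CentQData
import Cfsg.Agent.Lib.ThPres.Twist

/-!
Kernel check of a chain in the centraliser inside the point stabiliser.
-/

set_option autoImplicit false
set_option Elab.async false

namespace CfsgLib.ThPres
open CfsgLib.CosetEnum CfsgLib.TwistTree
open CfsgLib.TwistCoset (cOK CLev cSize)

theorem pa_base0 : levBase certL [] 0 paGens0 paEnt0 = true := by decide +kernel

theorem pa_base1 : levBase certL [0] 4 paGens1 paEnt1 = true := by decide +kernel

theorem pa_base2 : levBase certL [4, 0] 77 paGens2 paEnt2 = true := by decide +kernel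

theorem pa_walk0 : walkOK certL paGens0 paEnt0 [0] = true := by decide +kernel

theorem pa_walk1 : walkOK certL paGens1 paEnt1 [4] = true := by decide +kernel

theorem pa_walk2 : walkOK certL paGens2 paEnt2 [77] = true := by decide +kernel

theorem pa_len : paEnt0.length = 8 ∧ paEnt1.length = 2047 ∧ paEnt2.length = 41 := by decide +kernel

/-- the chain -/
noncomputable def paChain : List CLev :=
  [treeLev 0 paGens0 paEnt0, treeLev 4 paGens1 paEnt1, treeLev 77 paGens2 paEnt2]

theorem pa_cOK : cOK certL [] paChain = true :=
  cOK_tree (levOK_of pa_base0 pa_walk0) (cOK_tree (levOK_of pa_base1 pa_walk1)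
    (cOK_tree (levOK_of pa_base2 pa_walk2) TwistTree.cOK_nil))

theorem pa_size : cSize paChain = 774144 := by
  simp [paChain, cSize, treeLev_length, pa_len.1, pa_len.2.1, pa_len.2.2]

theorem pa_letters : ((paGens0 ++ paGens1 ++ paGens2).all fun g => g.all fun c =>
    [0, 2, 3, 4, 5, 6, 7, 8].contains c) = true := by decide +kernel

end CfsgLib.ThPres
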