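import Cfsg.Agent.Lib.ThPres.CentDefs

/-!
The list of the class is complete.
-/

set_option autoImplicit false
set_option Elab.async false

namespace CfsgLib.ThPres

theorem class_ok : classOK = true := by decide +kernel

theorem class_closed0 : closedOK 0 = true := by decide +kernel

theorem class_closed1 : closedOK 1 = true := by decide +kernel

theorem class_closed2 : closedOK 2 = true := by decide +kernel

theorem class_closed3 : closedOK 3 = true := by decide +kernel

theorem class_closed4 : closedOK 4 = true := by decide +kernel

theorem class_closed5 : closedOK 5 = true := by decide +kernel

theorem class_closed6 : closedOK 6 = true := by decide +kernel

theorem class_closed7 : closedOK 7 = true := by decide +kernel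

theorem class_closed8 : closedOK 8 = true := by decide +kernel

end CfsgLib.ThPres
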