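import Cfsg.Agent.Lib.ThPres.CentDefs

/-!
Generators of a stabiliser moved to the point stabiliser.
-/

set_option autoImplicit false
set_option Elab.async false

namespace CfsgLib.ThPres

theorem stab_img2_9 : imgOK 2 (stabImg2.getD 9 ([], [])) = true := by decide +kernel

end CfsgLib.ThPres
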