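import Cfsg.Agent.Lib.ThPres.Twist
import Cfsg.Agent.Lib.ThPres.Stab1

/-!
Kernel checks of a chain of one subgroup.
-/

set_option autoImplicit false
set_option Elab.async false

namespace CfsgLib.ThPres
open CfsgLib.CosetEnum CfsgLib.TwistTree
open CfsgLib.TwistCoset (wOf cOK CLev cSize)

theorem k1_base0 : levBase certL [] 100 k1Gens0 k1Ents0 = true := by decide +kernel

theorem k1_walk0_0 : walkStep certL k1Gens0 k1Ent0P0 [100] [840,935,1148,1814,1738,1589,1897,392,122,100] = true := by decide +kernel

theorem k1_walk0_1 : walkStep certL k1Gens0 k1Ent0P1 [840,935,1148,1814,1738,1589,1897,392,122,100] [1403,1174,607,2104,2075,478,396,376,100] = true := by decide +kernel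

theorem k1_walk0_2 : walkStep certL k1Gens0 k1Ent0P2 [1403,1174,607,2104,2075,478,396,376,100] [1891,1335,63,88,391,376,100] = true := by decide +kernel

theorem k1_walk0_3 : walkStep certL k1Gens0 k1Ent0P3 [1891,1335,63,88,391,376,100] [492,1947,87,376,100] = true := by decide +kernel

theorem k1_walk0_4 : walkStep certL k1Gens0 k1Ent0P4 [492,1947,87,376,100] [1439,1894,388,100] = true := by decide +kernel

theorem k1_walk0_5 : walkStep certL k1Gens0 k1Ent0P5 [1439,1894,388,100] [817,2265,1143,959,1915,100] = true := by decide +kernel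

theorem k1_walk0_6 : walkOK certL k1Gens0 k1Ent0P6 [817,2265,1143,959,1915,100] = true := by decide +kernel

theorem k1_lev0 : levOK certL [] 100 k1Gens0 k1Ents0 = true := by
  refine levOK_of k1_base0 ?_
  simp only [k1Ents0, List.flatten_cons, List.flatten_nil, List.append_nil]
  exact walkStep_append k1_walk0_0 (walkStep_append k1_walk0_1 (walkStep_append k1_walk0_2 (walkStep_append k1_walk0_3 (walkStep_append k1_walk0_4 (walkStep_append k1_walk0_5 (k1_walk0_6))))))

theorem k1_len0 : k1Ents0.length = 2047 := by decide +kernel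

theorem k1_base1 : levBase certL [100] 2 k1Gens1 k1Ents1 = true := by decide +kernel

theorem k1_walk1_0 : walkOK certL k1Gens1 k1Ent1P0 [2] = true := by decide +kernel

theorem k1_lev1 : levOK certL [100] 2 k1Gens1 k1Ents1 = true := by
  refine levOK_of k1_base1 ?_
  simp only [k1Ents1, List.flatten_cons, List.flatten_nil, List.append_nil]
  exact k1_walk1_0

theorem k1_len1 : k1Ents1.length = 17 := by decide +kernel

theorem k1_cOK : cOK certL [] k1Chain = true :=
  cOK_tree k1_lev0 (cOK_tree k1_lev1 (TwistTree.cOK_nil))

theorem k1_size : cSize k1Chain = 36864 := by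
  simp [k1Chain, cSize, treeLev_length, k1_len0, k1_len1]

theorem k1_gens : k1Chain.map CLev.gens = k1Wits.map Prod.fst := rfl

end CfsgLib.ThPres
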