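import Cfsg.Agent.Lib.ThPres.Twist
import Cfsg.Agent.Lib.ThPres.Stab10

/-!
Kernel checks of a chain of one subgroup.
-/

set_option autoImplicit false
set_option Elab.async false

namespace CfsgLib.ThPres
open CfsgLib.CosetEnum CfsgLib.TwistTree
open CfsgLib.TwistCoset (wOf cOK CLev cSize)

theorem k10_base0 : levBase certL [] 50 k10Gens0 k10Ents0 = true := by decide +kernel

theorem k10_walk0_0 : walkStep certL k10Gens0 k10Ent0P0 [50] [874,1312,2432,1780,1782,680,2352,601,1042,50] = true := by decide +kernel

theorem k10_walk0_1 : walkStep certL k10Gens0 k10Ent0P1 [874,1312,2432,1780,1782,680,2352,601,1042,50] [1110,2234,1434,878,1824,729,1999,164,50] = true := by decide +kernel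

theorem k10_walk0_2 : walkStep certL k10Gens0 k10Ent0P2 [1110,2234,1434,878,1824,729,1999,164,50] [1026,580,1361,1115,1052,1184,1291,2093,184,50] = true := by decide +kernel

theorem k10_walk0_3 : walkOK certL k10Gens0 k10Ent0P3 [1026,580,1361,1115,1052,1184,1291,2093,184,50] = true := by decide +kernel

theorem k10_lev0 : levOK certL [] 50 k10Gens0 k10Ents0 = true := by
  refine levOK_of k10_base0 ?_
  simp only [k10Ents0, List.flatten_cons, List.flatten_nil, List.append_nil]
  exact walkStep_append k10_walk0_0 (walkStep_append k10_walk0_1 (walkStep_append k10_walk0_2 (k10_walk0_3)))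

theorem k10_len0 : k10Ents0.length = 1175 := by decide +kernel

theorem k10_base1 : levBase certL [50] 0 k10Gens1 k10Ents1 = true := by decide +kernel

theorem k10_walk1_0 : walkOK certL k10Gens1 k10Ent1P0 [0] = true := by decide +kernel

theorem k10_lev1 : levOK certL [50] 0 k10Gens1 k10Ents1 = true := by
  refine levOK_of k10_base1 ?_
  simp only [k10Ents1, List.flatten_cons, List.flatten_nil, List.append_nil]
  exact k10_walk1_0

theorem k10_len1 : k10Ents1.length = 2 := by decide +kernel

theorem k10_cOK : cOK certL [] k10Chain = true :=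
  cOK_tree k10_lev0 (cOK_tree k10_lev1 (TwistTree.cOK_nil))

theorem k10_size : cSize k10Chain = 3528 := by
  simp [k10Chain, cSize, treeLev_length, k10_len0, k10_len1]

theorem k10_gens : k10Chain.map CLev.gens = k10Wits.map Prod.fst := rfl

end CfsgLib.ThPres
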