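import Cfsg.Agent.Lib.ThPres.Twist
import Cfsg.Agent.Lib.ThPres.Stab2

/-!
Kernel checks of a chain of one subgroup.
-/

set_option autoImplicit false
set_option Elab.async false

namespace CfsgLib.ThPres
open CfsgLib.CosetEnum CfsgLib.TwistTree
open CfsgLib.TwistCoset (wOf cOK CLev cSize)

theorem k2_base0 : levBase certL [] 50 k2Gens0 k2Ents0 = true := by decide +kernel

theorem k2_walk0_0 : walkStep certL k2Gens0 k2Ent0P0 [50] [1661,2128,1139,199,524,50] = true := by decide +kernel

theorem k2_walk0_1 : walkStep certL k2Gens0 k2Ent0P1 [1661,2128,1139,199,524,50] [2099,619,2421,213,832,50] = true := by decide +kernel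

theorem k2_walk0_2 : walkStep certL k2Gens0 k2Ent0P2 [2099,619,2421,213,832,50] [301,408,575,3,2062,50] = true := by decide +kernel

theorem k2_walk0_3 : walkStep certL k2Gens0 k2Ent0P3 [301,408,575,3,2062,50] [1069,528,486,1455,991,1088,50] = true := by decide +kernel

theorem k2_walk0_4 : walkStep certL k2Gens0 k2Ent0P4 [1069,528,486,1455,991,1088,50] [1599,2407,2262,2236,1378,644,50] = true := by decide +kernel

theorem k2_walk0_5 : walkStep certL k2Gens0 k2Ent0P5 [1599,2407,2262,2236,1378,644,50] [228,113,699,1084,50] = true := by decide +kernel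

theorem k2_walk0_6 : walkStep certL k2Gens0 k2Ent0P6 [228,113,699,1084,50] [2151,1464,1900,2164,1084,50] = true := by decide +kernel

theorem k2_walk0_7 : walkOK certL k2Gens0 k2Ent0P7 [2151,1464,1900,2164,1084,50] = true := by decide +kernel

theorem k2_lev0 : levOK certL [] 50 k2Gens0 k2Ents0 = true := by
  refine levOK_of k2_base0 ?_
  simp only [k2Ents0, List.flatten_cons, List.flatten_nil, List.append_nil]
  exact walkStep_append k2_walk0_0 (walkStep_append k2_walk0_1 (walkStep_append k2_walk0_2 (walkStep_append k2_walk0_3 (walkStep_append k2_walk0_4 (walkStep_append k2_walk0_5 (walkStep_append k2_walk0_6 (k2_walk0_7)))))))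

theorem k2_len0 : k2Ents0.length = 2303 := by decide +kernel

theorem k2_base1 : levBase certL [50] 2 k2Gens1 k2Ents1 = true := by decide +kernel

theorem k2_walk1_0 : walkOK certL k2Gens1 k2Ent1P0 [2] = true := by decide +kernel

theorem k2_lev1 : levOK certL [50] 2 k2Gens1 k2Ents1 = true := by
  refine levOK_of k2_base1 ?_
  simp only [k2Ents1, List.flatten_cons, List.flatten_nil, List.append_nil]
  exact k2_walk1_0

theorem k2_len1 : k2Ents1.length = 5 := by decide +kernel

theorem k2_cOK : cOK certL [] k2Chain = true :=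
  cOK_tree k2_lev0 (cOK_tree k2_lev1 (TwistTree.cOK_nil))

theorem k2_size : cSize k2Chain = 13824 := by
  simp [k2Chain, cSize, treeLev_length, k2_len0, k2_len1]

theorem k2_gens : k2Chain.map CLev.gens = k2Wits.map Prod.fst := rfl

end CfsgLib.ThPres
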