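import Cfsg.Agent.Lib.TwistTree.Tree

/-!
A chain of one subgroup on 2457 points.
-/

set_option autoImplicit false
set_option Elab.async false

namespace CfsgLib.ThPres
open CfsgLib.CosetEnum CfsgLib.TwistTree
open CfsgLib.TwistCoset (wOf cOK CLev cSize)

/-- part 0 of the tree of level 0 -/
noncomputable def k3Ent0P0 : List ℕ := nOf 28 287 0x41437a0408920031483c031011a04148aa030c16e030806e030418803006630218087041487a04105d3040c5e104005ae031850e041896e040c72d031462d030861f021419703181dc041837b0314370021020f0318300031412d020c0c4041474603181de0208062031815e04147df031479e0310049030c47b02041db0318069031017102004bf01180ba05085e30414905040c5ad04085c904004ba0318934050c4000418654031436e05184c3041431e031084d0414751030c527041889403087be04184b00300770021889a050c5a70418904040c81e05184ad04006d90318837030c79c04183d9041403903085a403044d802141fa051848f04148e1031876c051848d04186da03143ab020c66b04188070414952031870104185b4031493b030c76e0208196041831f031453b030c858020447601145e9051467604145f2031823904185de04144ca031474c03083a803041aa02184890418494041461d031879405186230418520040865503144b504148f603085c303045e802145bb011003305145c0041432f031824104184b1041463d0314880041845d03101b7030c18b021831704183300318776040c77103141f9030c90a02144d1031807403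1448702100a5010c08b05147580414643040c35904080e004040c0031818a051456b04188d20518832041436a03149770418616030403e021818c0514624041852e05184cd041462a031878f051863104184a303147260414305030c122021476b04148d3031463902100800310227020c08a010800f05148430414683031881705144c204181ce05188000414951031438a041803f0414884031051f030c06304180c803081ab021819e051475c04184e005187da04148a2031871a051881c041832804043c203145c104142f303048cb0214856041821c041486803180dc0210031031008c020c08d04145cc031465d03100240410030030c22602080810104092051448c0414903041006f0514457040c2fb031810d04188390518650041436f03148c004182ac030c09d04180790308172041847a04147d7040c1840304562030010602180cd05149610418526051893204147e4040c7f0040012c0318668050c84b050039e04184ee040c5cd040897d0404972031490704182970414853030c58104186ed041420e030898704143e4040c0d0030487402145540414973040489903147d30210028041803a051443d04146480318223041485403146cb031002a020c09404180780318463041495c0514733040c8fc03144a604144d203100a80410037030c07f02080a904181760514824041478b031807504187210414936040458003140cf03100a70410093030c00d05142ea04146700410225040c03803080a4020402f01000a6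

/-- the tree of level 0 -/
noncomputable def k3Ents0 : List ℕ := [k3Ent0P0].flatten

/-- the generators of level 0 -/
noncomputable def k3Gens0 : List (List ℕ) := [[0,1,0,2,1,0,6,4,5], [5,5,4,6,6], [0,2,4,5,4,6], [0,1,0,2,1,0,4], [7,6,4,5,8], (wOf 26 0x32132321432863467123231232), (wOf 21 0x14643823123463231234)]

/-- the generators of level 0 as products of facts -/
def k3Wit0 : List (List (ℕ × Bool)) := [[(54,false)], [(55,false)], [(56,false)], [(57,false)], [(58,false)], [(83,false)], [(100,false)]]

/-- the chain -/
noncomputable def k3Chain : List CLev :=
  [treeLev 50 k3Gens0 k3Ents0]

/-- the generators with their witnesses -/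
noncomputable def k3Wits : List (List (List ℕ) × List (List (ℕ × Bool))) :=
  [(k3Gens0, k3Wit0)]

end CfsgLib.ThPres
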