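import Cfsg.Agent.Lib.ThPres.Twist
import Cfsg.Agent.Lib.ThPres.Stab4

/-!
Kernel checks of a chain of one subgroup.
-/

set_option autoImplicit false
set_option Elab.async false

namespace CfsgLib.ThPres
open CfsgLib.CosetEnum CfsgLib.TwistTree
open CfsgLib.TwistCoset (wOf cOK CLev cSize)

theorem k4_base0 : levBase certL [] 50 k4Gens0 k4Ents0 = true := by decide +kernel

theorem k4_walk0_0 : walkStep certL k4Gens0 k4Ent0P0 [50] [1250,2063,1402,345,551,50] = true := by decide +kernel

theorem k4_walk0_1 : walkOK certL k4Gens0 k4Ent0P1 [1250,2063,1402,345,551,50] = true := by decide +kernel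

theorem k4_lev0 : levOK certL [] 50 k4Gens0 k4Ents0 = true := by
  refine levOK_of k4_base0 ?_
  simp only [k4Ents0, List.flatten_cons, List.flatten_nil, List.append_nil]
  exact walkStep_append k4_walk0_0 (k4_walk0_1)

theorem k4_len0 : k4Ents0.length = 485 := by decide +kernel

theorem k4_cOK : cOK certL [] k4Chain = true :=
  cOK_tree k4_lev0 (TwistTree.cOK_nil)

theorem k4_size : cSize k4Chain = 486 := by
  simp [k4Chain, cSize, treeLev_length, k4_len0]

theorem k4_gens : k4Chain.map CLev.gens = k4Wits.map Prod.fst := rfl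

end CfsgLib.ThPres
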