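/-!
Masks and paths of the chain of one subgroup.
-/

set_option autoImplicit false

namespace CfsgLib.ThPres

/-- level 0 -/
def siftTab5_0 : Nat × Nat × List Nat :=
  (0x400000000000000000000000000000000000000000000000000000000000000000000000000000000000000000000000000000000000000000000000000000000000000000000000000000000000000000000000000000000000000000000000000000000000000000000000000000000000000000000000000000000000000000000000000000000000000000000000000000000000000000000000000000001000000000000000000000000000000400000000000000000000000000000000000000000000000000000000000000200000000000000000000000000000000000000000000000000000000000100000000000000000000000000004000000000000, 18, [0,
    0,
    0x42000000000000000000000000000000000000000000000000000000000000000000000000000000000000000000000000000000000000000000000000000000000000000000000000000000000000000000,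
    0,
    0,
    0,
    0x1040000000000000000000000000000000000000000000000000000000000000000000000000000000000000000000000,
    0,
    0,
    0,
    0x1042000000000000000000000000000000000000000000000000000000000000000000000000000000000,
    0,
    0x1002000000000000000000000000000000000000000000000000000000,
    0,
    0,
    0,
    0,
    0,
    0,
    0,
    0,
    0,
    0,
    0,
    0,
    0,
    0,
    0,
    0,
    0,
    0,
    0,
    0x1000000000000000000000000000000000000000000000000000000000000000,
    0,
    0,
    0,
    0,
    0,
    0])

/-- all levels -/
def siftTab5 : List (Nat × Nat × List Nat) := [siftTab5_0]

end CfsgLib.ThPres
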