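import Cfsg.Agent.Lib.TwistTree.Tree

/-!
A chain of one subgroup on 2457 points.
-/

set_option autoImplicit false
set_option Elab.async false

namespace CfsgLib.ThPres
open CfsgLib.CosetEnum CfsgLib.TwistTree
open CfsgLib.TwistCoset (wOf cOK CLev cSize)

/-- part 0 of the tree of level 0 -/
noncomputable def k5Ent0P0 : List ℕ := nOf 28 5 0x20429202000a40104195020430c010080e

/-- the tree of level 0 -/
noncomputable def k5Ents0 : List ℕ := [k5Ent0P0].flatten

/-- the generators of level 0 -/
noncomputable def k5Gens0 : List (List ℕ) := [(wOf 19 0x102312343231230123), (wOf 16 0x323123401232343)]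

/-- the generators of level 0 as products of facts -/
def k5Wit0 : List (List (ℕ × Bool)) := [[(109,false)], [(110,false)]]

/-- the chain -/
noncomputable def k5Chain : List CLev :=
  [treeLev 50 k5Gens0 k5Ents0]

/-- the generators with their witnesses -/
noncomputable def k5Wits : List (List (List ℕ) × List (List (ℕ × Bool))) :=
  [(k5Gens0, k5Wit0)]

end CfsgLib.ThPres
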