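import Cfsg.Agent.Lib.ThPres.CentDefs
import Cfsg.Agent.Lib.ThPres.StabCheck5
import Cfsg.Agent.Lib.ThPres.SiftTab5

/-!
The members of the class in the stabiliser of one state.
-/

set_option autoImplicit false
set_option Elab.async false

namespace CfsgLib.ThPres

theorem cls_sift5 : siftClass k5Chain siftTab5 [] = true := by decide +kernel

end CfsgLib.ThPres
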