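import Cfsg.Agent.Lib.TwistTree.Tree

/-!
A chain of one subgroup on 2457 points.
-/

set_option autoImplicit false
set_option Elab.async false

namespace CfsgLib.ThPres
open CfsgLib.CosetEnum CfsgLib.TwistTree
open CfsgLib.TwistCoset (wOf cOK CLev cSize)

/-- part 0 of the tree of level 0 -/
noncomputable def k6Ent0P0 : List ℕ := nOf 28 53 0x40873305084e904009360304840020872604081df0308187030439005086830408869030049a02046de01088c705087fe04045ca03083d305081e104084d9040425704008aa03046c602085ad06085c805049880408215060864305085d80404832030853f0204292060863e05045dc04086d50608831050847404046aa030808602000a401041950508852040496b030848b05084b504087db03043c90208982040845e05044c5050025104048000308745020430c010080e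

/-- the tree of level 0 -/
noncomputable def k6Ents0 : List ℕ := [k6Ent0P0].flatten

/-- the generators of level 0 -/
noncomputable def k6Gens0 : List (List ℕ) := [(wOf 19 0x102312343231230123), (wOf 16 0x323123401232343), (wOf 22 0x3286432534553234123012)]

/-- the generators of level 0 as products of facts -/
def k6Wit0 : List (List (ℕ × Bool)) := [[(113,false)], [(114,false)], [(163,false)]]

/-- the chain -/
noncomputable def k6Chain : List CLev :=
  [treeLev 50 k6Gens0 k6Ents0]

/-- the generators with their witnesses -/
noncomputable def k6Wits : List (List (List ℕ) × List (List (ℕ × Bool))) :=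
  [(k6Gens0, k6Wit0)]

end CfsgLib.ThPres
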