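import Cfsg.Agent.Lib.TwistTree.Tree

/-!
A chain of one subgroup on 2457 points.
-/

set_option autoImplicit false
set_option Elab.async false

namespace CfsgLib.ThPres
open CfsgLib.CosetEnum CfsgLib.TwistTree
open CfsgLib.TwistCoset (wOf cOK CLev cSize)

/-- part 0 of the tree of level 0 -/
noncomputable def k7Ent0P0 : List ℕ := nOf 28 125 0x5082b00408089030070d020886f04085db060830905088460400245030842c02003e1010890b060818b050807904005f303084ac0508989040854e03004d40208936040075e0308592040811f06005dd05045a504000b903041a202000a9010403104005c3030855705084fd05003a2040830e030062f02085d206086850500388040845b060863505084b8040010c0308851050009e04084930508355060477405008d4040449a03000b802041a1050059d040880006084d506002b20508326040071f0308848060083a05084a5070897e060830a0500726040897b060081a05086a406080df070467406000ff050415e04000a8030409406004dc050879407086c10700189060820c050040204088d107005510608458070834306002d70508818070019306083a8070837807008c706044c1050014504041a30700832060891708087b3080034d07082bf06005b005087e808007ca0708610080855607004e70608914080090f07086e0080821e07041a406002260504092080084d070889909001560808217070031d060892d090041308083ca09083a308000f50708614060419f0500227040003303000a402000930100225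

/-- the tree of level 0 -/
noncomputable def k7Ents0 : List ℕ := [k7Ent0P0].flatten

/-- the generators of level 0 -/
noncomputable def k7Gens0 : List (List ℕ) := [[1,0,2,1,4,8], [1,2,1,3,2,1,8], (wOf 16 0x3843231234231232)]

/-- the generators of level 0 as products of facts -/
def k7Wit0 : List (List (ℕ × Bool)) := [[(121,false)], [(132,false)], [(137,false)]]

/-- the chain -/
noncomputable def k7Chain : List CLev :=
  [treeLev 50 k7Gens0 k7Ents0]

/-- the generators with their witnesses -/
noncomputable def k7Wits : List (List (List ℕ) × List (List (ℕ × Bool))) :=
  [(k7Gens0, k7Wit0)]

end CfsgLib.ThPres
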