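import Cfsg.Agent.Lib.TwistTree.Tree

/-!
A chain of one subgroup on 2457 points.
-/

set_option autoImplicit false
set_option Elab.async false

namespace CfsgLib.ThPres
open CfsgLib.CosetEnum CfsgLib.TwistTree
open CfsgLib.TwistCoset (wOf cOK CLev cSize)

/-- part 0 of the tree of level 0 -/
noncomputable def k8Ent0P0 : List ℕ := nOf 28 77 0x600373050888504088ac050854a04044450300661020814c05003e304087400508019050485e04002cc03080fe05087d104082c0030470002000eb01080f005085c604002e0030820a05085e2060801305000180408022040454d030049d020864b04081e9050422b040046f03086030508240050077b0408485060089005085bd05044de0400399030481d0200520010436a05040f1040036d03082d0060060005086d1060833e06047d605006dc04086ce060825205081f5040438d03008e502088e006085700500326040834d060868e07080e50600335050839205045a904008050308585050840406041cc05003340408231060806c060056c050820004044a7030033802040ef0100462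

/-- the tree of level 0 -/
noncomputable def k8Ents0 : List ℕ := [k8Ent0P0].flatten

/-- the generators of level 0 -/
noncomputable def k8Gens0 : List (List ℕ) := [[1,0,2,1,4], (wOf 23 0x12154321545343231234553), (wOf 26 0x1021366432673461234623460)]

/-- the generators of level 0 as products of facts -/
def k8Wit0 : List (List (ℕ × Bool)) := [[(158,false)], [(172,false)], [(204,false)]]

/-- the chain -/
noncomputable def k8Chain : List CLev :=
  [treeLev 100 k8Gens0 k8Ents0]

/-- the generators with their witnesses -/
noncomputable def k8Wits : List (List (List ℕ) × List (List (ℕ × Bool))) :=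
  [(k8Gens0, k8Wit0)]

end CfsgLib.ThPres
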