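import Cfsg.Agent.Lib.ThPres.Twist
import Cfsg.Agent.Lib.ThPres.Stab8

/-!
Kernel checks of a chain of one subgroup.
-/

set_option autoImplicit false
set_option Elab.async false

namespace CfsgLib.ThPres
open CfsgLib.CosetEnum CfsgLib.TwistTree
open CfsgLib.TwistCoset (wOf cOK CLev cSize)

theorem k8_base0 : levBase certL [] 100 k8Gens0 k8Ents0 = true := by decide +kernel

theorem k8_walk0_0 : walkOK certL k8Gens0 k8Ent0P0 [100] = true := by decide +kernel

theorem k8_lev0 : levOK certL [] 100 k8Gens0 k8Ents0 = true := by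
  refine levOK_of k8_base0 ?_
  simp only [k8Ents0, List.flatten_cons, List.flatten_nil, List.append_nil]
  exact k8_walk0_0

theorem k8_len0 : k8Ents0.length = 77 := by decide +kernel

theorem k8_cOK : cOK certL [] k8Chain = true :=
  cOK_tree k8_lev0 (TwistTree.cOK_nil)

theorem k8_size : cSize k8Chain = 78 := by
  simp [k8Chain, cSize, treeLev_length, k8_len0]

theorem k8_gens : k8Chain.map CLev.gens = k8Wits.map Prod.fst := rfl

end CfsgLib.ThPres
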