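import Cfsg.Agent.Lib.ThPres.CentClosed
import Cfsg.Agent.Lib.ThPres.CentKill1
import Cfsg.Agent.Lib.ThPres.CentKill2
import Cfsg.Agent.Lib.ThPres.CentKill3
import Cfsg.Agent.Lib.ThPres.CentSift1
import Cfsg.Agent.Lib.ThPres.CentSift2
import Cfsg.Agent.Lib.ThPres.CentSift3
import Cfsg.Agent.Lib.ThPres.CentSift4
import Cfsg.Agent.Lib.ThPres.CentSift5
import Cfsg.Agent.Lib.ThPres.CentSift6
import Cfsg.Agent.Lib.ThPres.CentSift7
import Cfsg.Agent.Lib.ThPres.CentSift8
import Cfsg.Agent.Lib.ThPres.CentSift9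
import Cfsg.Agent.Lib.ThPres.CentSift10
import Cfsg.Agent.Lib.ThPres.CentImg1P0
import Cfsg.Agent.Lib.ThPres.CentImg1P1
import Cfsg.Agent.Lib.ThPres.CentImg1P2
import Cfsg.Agent.Lib.ThPres.CentImg1P3
import Cfsg.Agent.Lib.ThPres.CentImg1P4
import Cfsg.Agent.Lib.ThPres.CentImg2P0
import Cfsg.Agent.Lib.ThPres.CentImg2P1
import Cfsg.Agent.Lib.ThPres.CentImg2P10
import Cfsg.Agent.Lib.ThPres.CentImg2P2
import Cfsg.Agent.Lib.ThPres.CentImg2P3
import Cfsg.Agent.Lib.ThPres.CentImg2P4
import Cfsg.Agent.Lib.ThPres.CentImg2P5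
import Cfsg.Agent.Lib.ThPres.CentImg2P6
import Cfsg.Agent.Lib.ThPres.CentImg2P7
import Cfsg.Agent.Lib.ThPres.CentImg2P8
import Cfsg.Agent.Lib.ThPres.CentImg2P9
import Cfsg.Agent.Lib.ThPres.CentImg3P0
import Cfsg.Agent.Lib.ThPres.CentImg3P1
import Cfsg.Agent.Lib.ThPres.CentImg3P2
import Cfsg.Agent.Lib.ThPres.CentImg3P3
import Cfsg.Agent.Lib.ThPres.CentImg3P4

/-!
The kernel checks for the centraliser, collected.
-/

set_option autoImplicit false

namespace CfsgLib.ThPres

open CfsgLib.CosetEnum CfsgLib.TwistTree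
open CfsgLib.TwistCoset (CLev cOK cSize)

theorem stabImg1_ok : ∀ t < 9, imgOK 1 (stabImg1.getD t ([], [])) = true := by
  intro t ht
  match t, ht with
  | 0, _ => exact stab_img1_0
  | 1, _ => exact stab_img1_1
  | 2, _ => exact stab_img1_2
  | 3, _ => exact stab_img1_3
  | 4, _ => exact stab_img1_4
  | 5, _ => exact stab_img1_5
  | 6, _ => exact stab_img1_6
  | 7, _ => exact stab_img1_7
  | 8, _ => exact stab_img1_8
  | t + 9, h => omega

theorem stabImg2_ok : ∀ t < 11, imgOK 2 (stabImg2.getD t ([], [])) = true := by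
  intro t ht
  match t, ht with
  | 0, _ => exact stab_img2_0
  | 1, _ => exact stab_img2_1
  | 2, _ => exact stab_img2_2
  | 3, _ => exact stab_img2_3
  | 4, _ => exact stab_img2_4
  | 5, _ => exact stab_img2_5
  | 6, _ => exact stab_img2_6
  | 7, _ => exact stab_img2_7
  | 8, _ => exact stab_img2_8
  | 9, _ => exact stab_img2_9
  | 10, _ => exact stab_img2_10
  | t + 11, h => omega

theorem stabImg3_ok : ∀ t < 7, imgOK 3 (stabImg3.getD t ([], [])) = true := by
  intro t ht
  match t, ht with
  | 0, _ => exact stab_img3_0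
  | 1, _ => exact stab_img3_1
  | 2, _ => exact stab_img3_2
  | 3, _ => exact stab_img3_3
  | 4, _ => exact stab_img3_4
  | 5, _ => exact stab_img3_5
  | 6, _ => exact stab_img3_6
  | t + 7, h => omega

/-- the members that may stay in the class -/
def keepL : List (List ℕ) := [[], keep1, keep2, keep3, [], [], [], [], [], [], []]

/-- the members that leave it -/
noncomputable def killL : List (List (ℕ × List ℕ)) := [[], kill1, kill2, kill3, [], [], [], [], [], [], []]

/-- the images of generators -/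
noncomputable def imgL : List (List (List ℕ × List ℕ)) := [[], stabImg1, stabImg2, stabImg3, [], [], [], [], [], [], []]

/-- the chains -/
noncomputable def chainL : List (List CLev) := [[], k1Chain, k2Chain, k3Chain, k4Chain, k5Chain, k6Chain, k7Chain, k8Chain, k9Chain, k10Chain]

/-- the witnesses of the chains -/
noncomputable def witL : List (List (List (List ℕ) × List (List (ℕ × Bool))) ) := [[], k1Wits, k2Wits, k3Wits, k4Wits, k5Wits, k6Wits, k7Wits, k8Wits, k9Wits, k10Wits]

/-- the tables of the chains -/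
def tabL : List (List (ℕ × ℕ × List ℕ)) := [[], siftTab1, siftTab2, siftTab3, siftTab4, siftTab5, siftTab6, siftTab7, siftTab8, siftTab9, siftTab10]

/-- a generator is a product of facts -/
noncomputable def witOK (i : ℕ) (e : List ℕ × List (ℕ × Bool)) : Bool :=
  match tw.kList 4360 i e.2 with
  | some k => tw.eq e.1 k
  | none => false

theorem wits_ok : ((List.range 11).all fun i => (witL.getD i []).all fun l =>
    Nat.beq l.1.length l.2.length && (l.1.zip l.2).all (witOK i)) = true := by decide +kernel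

theorem size_mul1 : cSize k1Chain * orbSizes.getD 1 0 = 634023936 := by
  rw [k1_size]
  decide +kernel

theorem size_mul2 : cSize k2Chain * orbSizes.getD 2 0 = 634023936 := by
  rw [k2_size]
  decide +kernel

theorem size_mul3 : cSize k3Chain * orbSizes.getD 3 0 = 634023936 := by
  rw [k3_size]
  decide +kernel

theorem size_mul4 : cSize k4Chain * orbSizes.getD 4 0 = 634023936 := by
  rw [k4_size]
  decide +kernel

theorem size_mul5 : cSize k5Chain * orbSizes.getD 5 0 = 634023936 := by
  rw [k5_size]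
  decide +kernel

theorem size_mul6 : cSize k6Chain * orbSizes.getD 6 0 = 634023936 := by
  rw [k6_size]
  decide +kernel

theorem size_mul7 : cSize k7Chain * orbSizes.getD 7 0 = 634023936 := by
  rw [k7_size]
  decide +kernel

theorem size_mul8 : cSize k8Chain * orbSizes.getD 8 0 = 634023936 := by
  rw [k8_size]
  decide +kernel

theorem size_mul9 : cSize k9Chain * orbSizes.getD 9 0 = 634023936 := by
  rw [k9_size]
  decide +kernel

theorem size_mul10 : cSize k10Chain * orbSizes.getD 10 0 = 634023936 := by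
  rw [k10_size]
  decide +kernel

/-- the states' chains -/
theorem chain_facts : ∀ i, 1 ≤ i → i < 11 → cOK certL [] (chainL.getD i []) = true ∧
    (chainL.getD i []).map CLev.gens = (witL.getD i []).map Prod.fst ∧
    cSize (chainL.getD i []) * orbSizes.getD i 0 = 634023936 ∧
    siftClass (chainL.getD i []) (tabL.getD i []) (keepL.getD i [] ++ (killL.getD i []).map Prod.fst) = true := by
  intro i h1 hi
  match i, h1, hi with
  | 1, _, _ =>
    rw [show chainL.getD 1 [] = k1Chain from rfl]
    exact ⟨k1_cOK, k1_gens, size_mul1, cls_sift1⟩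
  | 2, _, _ =>
    rw [show chainL.getD 2 [] = k2Chain from rfl]
    exact ⟨k2_cOK, k2_gens, size_mul2, cls_sift2⟩
  | 3, _, _ =>
    rw [show chainL.getD 3 [] = k3Chain from rfl]
    exact ⟨k3_cOK, k3_gens, size_mul3, cls_sift3⟩
  | 4, _, _ =>
    rw [show chainL.getD 4 [] = k4Chain from rfl]
    exact ⟨k4_cOK, k4_gens, size_mul4, cls_sift4⟩
  | 5, _, _ =>
    rw [show chainL.getD 5 [] = k5Chain from rfl]
    exact ⟨k5_cOK, k5_gens, size_mul5, cls_sift5⟩
  | 6, _, _ =>
    rw [show chainL.getD 6 [] = k6Chain from rfl]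
    exact ⟨k6_cOK, k6_gens, size_mul6, cls_sift6⟩
  | 7, _, _ =>
    rw [show chainL.getD 7 [] = k7Chain from rfl]
    exact ⟨k7_cOK, k7_gens, size_mul7, cls_sift7⟩
  | 8, _, _ =>
    rw [show chainL.getD 8 [] = k8Chain from rfl]
    exact ⟨k8_cOK, k8_gens, size_mul8, cls_sift8⟩
  | 9, _, _ =>
    rw [show chainL.getD 9 [] = k9Chain from rfl]
    exact ⟨k9_cOK, k9_gens, size_mul9, cls_sift9⟩
  | 10, _, _ =>
    rw [show chainL.getD 10 [] = k10Chain from rfl]
    exact ⟨k10_cOK, k10_gens, size_mul10, cls_sift10⟩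
  | i + 11, _, h => omega

theorem kills_ok : ∀ i < 11, (killL.getD i []).all (killOK (imgL.getD i [])) = true := by
  intro i hi
  match i, hi with
  | 0, _ => exact rfl
  | 1, _ => exact cls_kill1
  | 2, _ => exact cls_kill2
  | 3, _ => exact cls_kill3
  | 4, _ => exact rfl
  | 5, _ => exact rfl
  | 6, _ => exact rfl
  | 7, _ => exact rfl
  | 8, _ => exact rfl
  | 9, _ => exact rfl
  | 10, _ => exact rfl
  | i + 11, h => omega

theorem imgs_ok : ∀ i < 11, ∀ t < (imgL.getD i []).length, imgOK i ((imgL.getD i []).getD t ([], [])) = true := by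
  intro i hi t ht
  match i, hi with
  | 0, _ => simp [imgL] at ht
  | 1, _ => exact stabImg1_ok t ht
  | 2, _ => exact stabImg2_ok t ht
  | 3, _ => exact stabImg3_ok t ht
  | 4, _ => simp [imgL] at ht
  | 5, _ => simp [imgL] at ht
  | 6, _ => simp [imgL] at ht
  | 7, _ => simp [imgL] at ht
  | 8, _ => simp [imgL] at ht
  | 9, _ => simp [imgL] at ht
  | 10, _ => simp [imgL] at ht
  | i + 11, h => omega

end CfsgLib.ThPres
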