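import Cfsg.Agent.Lib.TwistTree.Tree

/-!
The class of the involution in the stabilisers of the other states.
-/

set_option autoImplicit false

namespace CfsgLib.ThPres
open CfsgLib.TwistCoset (wOf)

/-- members of the class in the stabiliser of state 1 that stay in it -/
def keep1 : List ℕ := [107,121,127]

/-- the generators of the stabiliser of state 1 with their images in the point stabiliser -/
noncomputable def stabImg1 : List (List ℕ × List ℕ) := [([0], [0]),
  ([4], [4]),
  ([8], [7]),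
  ([2], [2]),
  ((wOf 18 0x102312343231230123), [0,3,2,3,0]),
  ([4,6,4,5], [5,7,5,7,4,5,7,4]),
  ([1,0,2,1,4], [1,0,2,1]),
  ((wOf 16 0x2453234683231201), (wOf 20 0x32375423230120175757)),
  ((wOf 18 0x254832346123012346), (wOf 28 0x1201432354323475423230120155))]

/-- those that move to the other class, as products of those generators -/
noncomputable def kill1 : List (ℕ × List ℕ) := [(147, [1,6]),
  (333, [0,1,3,6]),
  (122, [4,1,6,4]),
  (37, [3,4,1,6,4]),
  (413, [1,4,1,6,4,1]),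
  (155, [4,6,4,1,4,6]),
  (565, [7,7,8]),
  (139, [0,4,6,4,1,4,6]),
  (695, [1,3,4,1,6,4,1]),
  (624, [7,7,8,3]),
  (21, [1,4,6,4,1,4,1,6]),
  (551, [1,5,4,1,6,4,1,5]),
  (245, [7,7,8,1,5,6,4,1,3,5]),
  (580, [8,7,2,3,4,1,5]),
  (108, [8,7,0,1,2,5,4,6,4]),
  (8, [0,1,4,6,4,1,4,1,6]),
  (419, [7,7,8,1,3,5,6,4,1,5]),
  (38, [8,7,1,2,3,5,4,6,4]),
  (646, [7,7,7,7,1,2,5,4,5,2,6,4]),
  (326, (wOf 14 0x46225107877777)),
  (703, [7,7,7,8,1,5,2,2,4]),
  (631, [8,7,2,4,1,5]),
  (477, (wOf 13 0x4654142177777)),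
  (351, (wOf 14 0x46225317877777)),
  (780, [7,7,7,8,1,5,2,2,4,3]),
  (128, [7,7,7,7,7,0,1,2,4,1,5,4]),
  (591, (wOf 14 0x46541432177777)),
  (561, [8,2,5,2,4,1,4,1]),
  (585, (wOf 13 0x1454622507877)),
  (390, [7,7,7]),
  (724, [7,7,7,8,7,0,2,4,1,5,6]),
  (571, [7,8,7]),
  (317, [7,7,7,7,8,1,2,5,4,3,6]),
  (535, [7,7,7,8,7,2,4,1,3,5,6]),
  (384, [7,7,7,0,3]),
  (577, [7,8,7,0]),
  (329, [7,7,7,7,8,1,2,5,4,6]),
  (50, [7,7,7,7,7,1,2,3,4,1,5,4]),
  (651, (wOf 14 0x64541461877777)),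
  (229, [7,7,1,4,3,5,2]),
  (588, [7,7,8,7,5,2,2,6,4,5,4,1]),
  (241, [7,7,1,3,4,5,2]),
  (762, (wOf 14 0x52543221877777)),
  (709, (wOf 13 0x1464525487777)),
  (626, (wOf 13 0x4146421078777)),
  (511, (wOf 13 0x4641454877777)),
  (345, [7,7,2,5,2,4,3,5,2,2]),
  (397, [7,7,2,3,5,2,4,5,2,2])]

/-- members of the class in the stabiliser of state 2 that stay in it -/
def keep2 : List ℕ := [107]

/-- the generators of the stabiliser of state 2 with their images in the point stabiliser -/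
noncomputable def stabImg2 : List (List ℕ × List ℕ) := [((wOf 22 0x2325432645534552345234), [5,7,5,7,4,3,2,3,4,5,7]),
  ((wOf 16 0x2432346432345323), (wOf 31 0x1201323432312015432342323075757)),
  ((wOf 19 0x102312343231230123), [0,2]),
  ((wOf 18 0x232645323463234543), (wOf 33 0x432345432312014232343230120175757)),
  ((wOf 21 0x324326455345523452346), (wOf 34 0x5432312014323477540120132301201755)),
  ((wOf 16 0x2543234643234323), [5,7,4,3,2,3,4,5,7,5,7]),
  ([0,7,6,4,3,2,3,4,5,8], (wOf 34 0x5543231201423234541201323012017757)),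
  ((wOf 21 0x324325453455234552345), (wOf 26 0x43234543234543234323057757)),
  ([8], [7,7]),
  ([0,2,3,2,5,4,3,6,6,4,6,8], (wOf 20 0x55432323477543230755)),
  ((wOf 16 0x2754323454323466), (wOf 13 0x7575423234757))]

/-- those that move to the other class, as products of those generators -/
noncomputable def kill2 : List (ℕ × List ℕ) := [(345, [6]),
  (38, [0,1]),
  (229, [2,4]),
  (571, [0,2,7]),
  (397, [10,10,10,4,5]),
  (577, [10,10,10,10,0,8,6]),
  (127, [10,10,10,10,2,5,8]),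
  (121, [10,10,10]),
  (241, [10,10,10,5,2,6]),
  (155, [0,2,3,5]),
  (139, [10,0,3,8]),
  (108, [10,8,6,7]),
  (477, [10,10,10,10,2,8,4]),
  (591, [10,10,10,10,6,8]),
  (21, [10,10,10,1,5,3,7]),
  (8, [10,10,10,1,3,5,7]),
  (329, [10,10,10,1,7]),
  (317, [10,10,10,7,1])]

/-- members of the class in the stabiliser of state 3 that stay in it -/
def keep3 : List ℕ := []

/-- the generators of the stabiliser of state 3 with their images in the point stabiliser -/
noncomputable def stabImg3 : List (List ℕ × List ℕ) := [([0,1,0,2,1,0,6,4,5], [1,0,2,1,0,2]),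
  ([5,5,4,6,6], [7,5,7,5,7,4,5,4]),
  ([0,2,4,5,4,6], [7,5,7,5,7,1,0,2,1,4,5,4]),
  ([0,1,0,2,1,0,4], [1,0,2,1,0,2,4]),
  ([7,6,4,5,8], [5,5,5,7,4,5,7,7,4]),
  ((wOf 26 0x32132321432863467123231232), (wOf 39 0x755323412301323475432342120132301201555)),
  ((wOf 21 0x14643823123463231234), (wOf 32 0x73512341230132312014232341201755))]

/-- those that move to the other class, as products of those generators -/
noncomputable def kill3 : List (ℕ × List ℕ) := [(147, [0,2,4]),
  (333, [1,3,4]),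
  (127, [0,1,2,3])]

end CfsgLib.ThPres
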