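import Cfsg.Agent.Lib.ThPres.Invar

/-!
The data of the invariants of the double cosets.
-/

set_option autoImplicit false

namespace CfsgLib.ThPres

/-- the words of the states -/
def wsWord : List (List ℕ) := [[],
  [9],
  [9,3,9],
  [9,1,6,9],
  [9,1,3,9],
  [9,1,3,6,9],
  [9,1,3,5,5,7,9],
  [9,3,9,1,9],
  [9,3,9,1,5,5,7,9],
  [9,1,3,9,1,4,6,6,4,3,5,9],
  [9,1,6,9,3,2,3,6,4,3,2,1,3,6,6,9]]

/-- polynomials -/
def polys : List (List ℕ) := [[2,1],
  [0,2,1],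
  [0,2,1],
  [0,2,0,1],
  [2,0,0,1],
  [0,0,0,0,0,1,1,2,0,1,1,1,1,0,1,1,0,0,1,1],
  [2,2,2,1,1,1],
  [0,0,1,2,0,2,1],
  [0,0,1,2,2,2,1],
  [1,0,2,0,0,0,2,0,1],
  [1,1]]

/-- the traces -/
def traces : List ℕ := [1, 0, 1, 2, 1, 2, 1, 0, 0, 2, 2]

/-- polynomial, state, whether it vanishes -/
def zeroAt : List (ℕ × ℕ × Bool) := [(0,0,true), (0,2,false), (0,4,false), (0,6,false), (2,2,true), (2,4,false), (2,6,false), (4,4,true), (4,6,false), (1,1,true), (1,7,false), (1,8,false), (7,7,true), (7,8,false), (10,10,true), (10,3,false), (10,9,false), (10,5,false), (3,3,true), (3,9,false), (3,5,false), (9,9,true), (9,5,false)]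

end CfsgLib.ThPres
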