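import Cfsg.Agent.Lib.TwistCoset.Act
import Cfsg.Agent.Lib.TwistTree.Tree

/-!
Membership by sifting: when a chain has the full size of a subgroup, each element of the subgroup
passes through it.
-/

set_option autoImplicit false

namespace CfsgLib.ThPres

open CfsgLib.CosetEnum
open CfsgLib.TwistCoset (Act CLev cOK cSize pathWord lettersOK lettersOK_iff newFrom newFrom_spec)

/-- the generators along a packed path: six bits of length, then six bits for each -/
noncomputable def pathOf (n : ℕ) : List ℕ :=
  strict n fun n => TwistTree.nOf 6 (Nat.mod n 64) (Nat.div n 64)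

/-- the packed path to a point in a table with a width and rows of 64 -/
noncomputable def tblPath (w : ℕ) (rows : List ℕ) (q : ℕ) : ℕ :=
  strict (rows.getD (Nat.div q 64) 0) fun r =>
    Nat.mod (Nat.shiftRight r (Nat.mul w (Nat.mod q 64))) (Nat.pow 2 w)

/-- an element passes through a chain; each level has a mask of its orbit and a table of paths -/
noncomputable def siftOK (C : Cert) (B : List ℕ) :
    List CLev → List (ℕ × ℕ × List ℕ) → List ℕ → Bool
  | [], _, w => B.all fun b => Nat.beq (C.run b w) b
  | _ :: _, [], _ => true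
  | l :: ls, t :: ts, w => strict (C.run l.base w) fun q =>
    if Nat.testBit t.1 q then
      if Nat.beq (C.run l.base (pathWord l.gens (pathOf (tblPath t.2.1 t.2.2 q)))) q then
        siftOK C B ls ts (w ++ C.revInv (pathWord l.gens (pathOf (tblPath t.2.1 t.2.2 q))))
      else true
    else false

/-- the masks contain the orbits -/
noncomputable def maskOK : List CLev → List (ℕ × ℕ × List ℕ) → Bool
  | l :: ls, t :: ts => (l.orbit.all fun e => Nat.testBit t.1 e.1) && maskOK ls ts
  | _, _ => true

variable {P : Type*} [Group P] {C : Cert} {gen : ℕ → P}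

theorem sift_mem [Finite P] (A : Act C gen) (K : Subgroup P) {B : List ℕ} (hB : ∀ b ∈ B, b < C.N)
    (hrev : ∀ w, (∀ g ∈ w, g < C.K) → ∀ g ∈ C.revInv w, g < C.K) :
    ∀ {ls : List CLev} {ts : List (ℕ × ℕ × List ℕ)} {prev : List ℕ}, cOK C prev ls = true →
      maskOK ls ts = true → (∀ l ∈ ls, ∀ g ∈ l.gens, prodW gen g ∈ K) →
      Nat.card (A.fixer K prev) ≤ cSize ls →
      ∀ {w : List ℕ}, (∀ g ∈ w, g < C.K) → prodW gen w ∈ A.fixer K prev → siftOK C B ls ts w = true
  | [], _, prev, _, _, _, hle, w, hw, hmem => by
    haveI := Finite.card_le_one_iff_subsingleton.mp (by simpa [cSize] using hle : Nat.card (A.fixer K prev) ≤ 1)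
    have e : prodW gen w = 1 :=
      congrArg Subtype.val (Subsingleton.elim (⟨_, hmem⟩ : A.fixer K prev) 1)
    simp only [siftOK, List.all_eq_true]
    intro b hb
    have h1 := A.apply w hw ⟨b, hB b hb⟩
    rw [e, map_one] at h1
    exact Nat.beq_eq ▸ h1.symm
  | _ :: _, [], _, _, _, _, _, _, _, _ => by simp [siftOK]
  | l :: ls, t :: ts, prev, h, hmask, hK, hle, w, hw, hmem => by
    have h' := h
    simp only [cOK, Bool.and_eq_true, List.all_eq_true, Nat.blt_eq, lettersOK_iff] at h'
    obtain ⟨⟨⟨⟨hb, hgs⟩, hpt⟩, hnew⟩, hok⟩ := h'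
    have hnd := (newFrom_spec hnew).1
    have hK' : ∀ l' ∈ ls, ∀ g ∈ l'.gens, prodW gen g ∈ K := fun l' hl' => hK l' (List.mem_cons_of_mem _ hl')
    have hlt := Act.pathWord_lt (C := C) fun g hg => (hgs g hg).1
    have hpath : ∀ path, prodW gen (pathWord l.gens path) ∈ A.fixer K prev := by
      intro path
      induction path with
      | nil => simp [pathWord]
      | cons k path ihp =>
        rw [pathWord, List.flatMap_cons, prodW_append]
        refine mul_mem ?_ ihp
        by_cases hk : k < l.gens.length
        · rw [List.getD_eq_getElem _ _ hk]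
          obtain ⟨hl, hfx⟩ := hgs _ (List.getElem_mem hk)
          refine ⟨hK l List.mem_cons_self _ (List.getElem_mem hk), fun b hb' hbN => ?_⟩
          refine Fin.ext ?_
          rw [A.apply _ hl]
          exact Nat.eq_of_beq_eq_true (hfx b hb')
        · rw [List.getD_eq_default _ _ (by omega), prodW_nil]
          exact one_mem _
    have hdown : A.fixer K (l.base :: prev) ≤ A.fixer K prev := fun x hx =>
      ⟨hx.1, fun b hb' => hx.2 b (List.mem_cons_of_mem _ hb')⟩
    let φ : Fin l.orbit.length × A.fixer K (l.base :: prev) → A.fixer K prev := fun q =>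
      ⟨q.2.1 * prodW gen (pathWord l.gens l.orbit[q.1].2), mul_mem (hdown q.2.2) (hpath _)⟩
    have e1 : ∀ (r : A.fixer K (l.base :: prev)) (j : Fin l.orbit.length),
        ((A.ψ (r.1 * prodW gen (pathWord l.gens l.orbit[j].2))).unop ⟨l.base, hb⟩ : ℕ) =
          (l.orbit.map Prod.fst)[(j : ℕ)]'(by simp) := by
      intro r j
      rw [map_mul, MulOpposite.unop_mul, Equiv.Perm.mul_apply, r.2.2 _ List.mem_cons_self hb,
        A.apply _ (hlt _), List.getElem_map]
      exact Nat.eq_of_beq_eq_true (hpt _ (List.getElem_mem j.2))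
    have hφ : Function.Injective φ := by
      rintro ⟨j, r⟩ ⟨j', r'⟩ e
      have e' := congrArg Subtype.val e
      simp only [φ] at e'
      have e2 := e1 r j
      rw [e', e1 r' j'] at e2
      obtain rfl : j = j' := Fin.ext ((hnd.getElem_inj_iff).mp e2.symm)
      exact Prod.ext rfl (Subtype.ext (mul_right_cancel e'))
    have hcard := Nat.card_le_card_of_injective φ hφ
    rw [Nat.card_prod, Nat.card_fin] at hcard
    have hpos : 0 < Nat.card (A.fixer K (l.base :: prev)) := Nat.card_pos
    have hlen : 0 < l.orbit.length := by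
      by_contra h0
      have : Nat.card (A.fixer K prev) ≤ 0 := by simpa [cSize, Nat.eq_zero_of_not_pos h0] using hle
      exact absurd Nat.card_pos (Nat.not_lt.2 this)
    have ih := A.cOK_card K hok hK'
    have hF : 0 < Nat.card (A.fixer K ((ls.map CLev.base).reverse ++ (l.base :: prev))) := Nat.card_pos
    have hnext : Nat.card (A.fixer K (l.base :: prev)) ≤ cSize ls := by
      have h2 := hcard.trans hle
      rw [cSize] at h2
      exact Nat.le_of_mul_le_mul_left h2 hlen
    have heq : Nat.card (Fin l.orbit.length × A.fixer K (l.base :: prev)) = Nat.card (A.fixer K prev) := by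
      rw [Nat.card_prod, Nat.card_fin]
      refine le_antisymm hcard (hle.trans ?_)
      rw [cSize]
      exact Nat.mul_le_mul_left _ ((Nat.le_mul_of_pos_right _ hF).trans ih)
    obtain ⟨⟨j, r⟩, he⟩ := ((Nat.bijective_iff_injective_and_card φ).2 ⟨hφ, heq⟩).2 ⟨_, hmem⟩
    have he' : r.1 * prodW gen (pathWord l.gens l.orbit[j].2) = prodW gen w := congrArg Subtype.val he
    have hrun : C.run l.base w = l.orbit[j].1 := by
      have e2 := e1 r j
      rw [he', A.apply _ hw, List.getElem_map] at e2
      exact e2
    simp only [maskOK, Bool.and_eq_true, List.all_eq_true] at hmask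
    have hbit : Nat.testBit t.1 (C.run l.base w) = true := by
      rw [hrun]
      exact hmask.1 _ (List.getElem_mem j.2)
    rw [siftOK, strict_eq, if_pos hbit]
    split
    · rename_i hp
      refine sift_mem A K hB hrev hok hmask.2 hK' hnext (fun g hg => (List.mem_append.1 hg).elim (hw g)
        (hrev _ (hlt _) g)) ?_
      rw [prodW_append, A.revInv_eq]
      refine ⟨mul_mem hmem.1 (inv_mem (hpath _).1), fun b hb' hbN => ?_⟩
      rcases List.mem_cons.1 hb' with rfl | hb'
      · have e : (A.ψ (prodW gen w)).unop ⟨l.base, hb⟩ =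
            (A.ψ (prodW gen (pathWord l.gens (pathOf (tblPath t.2.1 t.2.2 (C.run l.base w)))))).unop
              ⟨l.base, hb⟩ :=
          Fin.ext (by rw [A.apply _ hw, A.apply _ (hlt _)]; exact (Nat.eq_of_beq_eq_true hp).symm)
        rw [map_mul, MulOpposite.unop_mul, Equiv.Perm.mul_apply, map_inv, MulOpposite.unop_inv,
          Equiv.Perm.inv_eq_iff_eq, e]
      · exact (mul_mem hmem (inv_mem (hpath _))).2 b hb' hbN
    · rfl

end CfsgLib.ThPres
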