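import Cfsg.Agent.Lib.ThPres.Index

/-!
The presented Thompson group is simple.
-/

set_option autoImplicit false
set_option Elab.async false

namespace CfsgLib.ThPres

open Cfsg.Spor CfsgLib.CosetEnum CfsgLib.TwistTree

/-- inverse of a word in the nine letters -/
def iw9 (w : List ℕ) : List ℕ := certL.revInv w

/-- `x w (y⁻¹ w^12 y) x⁻¹` -/
noncomputable def conjWord (y x : List ℕ) : List ℕ :=
  x ++ (word13 ++ (certL.revInv y ++ ((List.replicate 12 word13).flatten ++ (y ++ certL.revInv x))))

theorem conj_checks : (tw.eq [0] (conjWord [4, 4, 2, 1, 7, 1, 1, 8, 2] [1, 2, 3, 2]) &&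
    tw.eq [3] (conjWord [5, 8, 6, 6] [2, 1, 0, 4, 5, 5])) = true := by decide +kernel

theorem word13_mem (N : Subgroup PT) [N.Normal] (hN : N ≠ ⊥) : prodW pGen word13 ∈ N := by
  haveI := finite_PT
  have h := thirteen_dvd_normal N hN
  have hP : Nat.card N * N.index = 634023936 := by rw [Subgroup.card_mul_index, card_PT]
  have h13 : ¬ 13 ∣ N.index := fun h' => by
    have h169 : 13 * 13 ∣ 634023936 := hP ▸ Nat.mul_dvd_mul h h'
    norm_num at h169
  rw [← QuotientGroup.eq_one_iff, ← orderOf_eq_one_iff]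
  have h1 : orderOf ((prodW pGen word13 : PT) : PT ⧸ N) ∣ 13 :=
    orderOf_dvd_of_pow_eq_one (by rw [← QuotientGroup.mk_pow, orderOf_word13.1, QuotientGroup.mk_one])
  have h2 : orderOf ((prodW pGen word13 : PT) : PT ⧸ N) ∣ N.index := orderOf_dvd_natCard _
  rcases (Nat.dvd_prime (by norm_num)).1 h1 with h3 | h3
  · exact h3
  · rw [h3] at h2
    exact absurd h2 h13

theorem conj_mem (N : Subgroup PT) [hn : N.Normal] (hw : prodW pGen word13 ∈ N) (y x : List ℕ) :
    prodW pGen (conjWord y x) ∈ N := by
  have h12 : prodW pGen (List.replicate 12 word13).flatten = prodW pGen word13 ^ 12 := by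
    simp [prodW, List.map_flatten, List.prod_flatten, pow_succ', mul_assoc]
  have h : prodW pGen (conjWord y x) = prodW pGen x * (prodW pGen word13 *
      ((prodW pGen y)⁻¹ * prodW pGen word13 ^ 12 * prodW pGen y)) * (prodW pGen x)⁻¹ := by
    simp only [conjWord, prodW_append, pAct.revInv_eq, h12, mul_assoc]
  rw [h]
  refine hn.conj_mem _ (mul_mem hw ?_) _
  simpa using hn.conj_mem _ (pow_mem hw 12) (prodW pGen y)⁻¹

theorem ad_mem (N : Subgroup PT) [N.Normal] (hN : N ≠ ⊥) : pGen 0 ∈ N ∧ pGen 3 ∈ N := by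
  have h := conj_checks
  rw [Bool.and_eq_true] at h
  have hw := word13_mem N hN
  refine ⟨?_, ?_⟩
  · rw [← prodW_one_letter 0, eq_sound0 h.1]; exact conj_mem N hw _ _
  · rw [← prodW_one_letter 3, eq_sound0 h.2]; exact conj_mem N hw _ _
where
  prodW_one_letter (g : ℕ) : prodW pGen [g] = pGen g := prodW_single pGen g

/-- the sum of the sizes of some of the orbits -/
def subSum (m : ℕ) : ℕ :=
  1 + ((List.range 10).map fun k => bif m.testBit k then orbSizes.getD (k + 1) 0 else 0).sum

theorem union_table : ((List.range 1024).all fun m =>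
    !(Nat.beq (143127000 % subSum m) 0) || Nat.beq m 0 || Nat.beq m 1023) = true := by decide +kernel

/-- a mask of a set of numbers from one on -/
def maskOf (p : ℕ → Bool) : ℕ → ℕ
  | 0 => 0
  | n + 1 => Nat.lor (maskOf p n) (bif p (n + 1) then 2 ^ n else 0)

theorem testBit_maskOf (p : ℕ → Bool) : ∀ n k, (maskOf p n).testBit k = (decide (k < n) && p (k + 1))
  | 0, k => by simp [maskOf]
  | n + 1, k => by
    rw [maskOf, show ∀ a b : ℕ, Nat.lor a b = a ||| b from fun _ _ => rfl, Nat.testBit_or,
      testBit_maskOf p n k]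
    rcases lt_trichotomy k n with hk | rfl | hk
    · cases p (n + 1) <;> simp [hk, hk.trans (Nat.lt_succ_self n), Nat.testBit_two_pow, hk.ne']
    · cases p (k + 1) <;> simp [Nat.testBit_two_pow]
    · cases p (n + 1) <;> simp [show ¬ k < n by omega, show ¬ k < n + 1 by omega, Nat.testBit_two_pow, hk.ne]

theorem range_maximal (M : Subgroup Th) (hM : toP.range ≤ M) : M = toP.range ∨ M = ⊤ := by
  classical
  haveI := finite_PT
  haveI : Finite (Th ⧸ toP.range) := Finite.of_surjective _ toCoset_surj
  let T : Set (Th ⧸ toP.range) := QuotientGroup.mk '' (M : Set Th)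
  have hTm : ∀ q ∈ T, ∀ y : PT, toP y • q ∈ T := by
    rintro _ ⟨m, hm, rfl⟩ y
    exact ⟨toP y * m, mul_mem (hM ⟨y, rfl⟩) hm, rfl⟩
  let S : Finset ℕ := (Finset.range 11).filter fun i => TData.pt rig i ∈ T
  have hT : T = ⋃ i ∈ S, TData.orb rig i := by
    refine Set.Subset.antisymm (fun q hq => ?_) (Set.iUnion₂_subset fun i hi => ?_)
    · obtain ⟨⟨i, y⟩, rfl⟩ := toCoset_surj q
      induction y using QuotientGroup.induction_on with
      | _ y =>
        refine Set.mem_iUnion₂.mpr ⟨i, Finset.mem_filter.mpr ⟨Finset.mem_range.mpr i.2, ?_⟩, y, rfl⟩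
        have e : TData.pt rig i = toP y⁻¹ • TData.toCoset rig holds ⟨i, (y : PT ⧸ _)⟩ := by
          change _ = toP y⁻¹ • ((toP y * (TData.wst rig i)⁻¹ : Th) : Th ⧸ toP.range)
          rw [map_inv, MulAction.Quotient.smul_coe, smul_eq_mul, inv_mul_cancel_left]
          rfl
        rw [e]
        exact hTm _ hq _
    · rintro _ ⟨y, rfl⟩
      exact hTm _ (Finset.mem_filter.mp hi).2 y
  have hcard : Nat.card T = ∑ i ∈ S, orbSizes.getD i 0 := by
    have hd : (S : Set ℕ).PairwiseDisjoint fun i => TData.orb rig i := by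
      intro i hi j hj hne
      exact (TData.orb_eq_or_disjoint (R := rig) i j).resolve_left fun e =>
        hne (orb_inj i (Finset.mem_range.mp (Finset.mem_filter.mp hi).1) j
          (Finset.mem_range.mp (Finset.mem_filter.mp hj).1) e)
    rw [hT, Nat.card_coe_set_eq, ← Finset.set_biUnion_coe,
      Set.Finite.ncard_biUnion S.finite_toSet (fun i _ => Set.toFinite _) hd, finsum_mem_coe_finset]
    refine Finset.sum_congr rfl fun i hi => ?_
    rw [← orb_card i (Finset.mem_range.mp (Finset.mem_filter.mp hi).1), Nat.card_coe_set_eq]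
  have hrel : Nat.card T = toP.range.relIndex M := by
    let f : M ⧸ toP.range.subgroupOf M → Th ⧸ toP.range := fun q => Quotient.liftOn q
      (fun m => ((m : Th) : Th ⧸ toP.range)) fun a b hab => by
        rw [QuotientGroup.eq]
        have hk : a⁻¹ * b ∈ toP.range.subgroupOf M := QuotientGroup.leftRel_apply.mp hab
        exact hk
    have hf : Function.Injective f := by
      intro p q
      induction p using QuotientGroup.induction_on with
      | _ a =>
        induction q using QuotientGroup.induction_on with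
        | _ b =>
          intro h
          change ((a : Th) : Th ⧸ toP.range) = ((b : Th) : Th ⧸ toP.range) at h
          rw [QuotientGroup.eq] at h ⊢
          exact h
    have hr : Set.range f = T := by
      ext x
      constructor
      · rintro ⟨q, rfl⟩
        induction q using QuotientGroup.induction_on with
        | _ a => exact ⟨a, a.2, rfl⟩
      · rintro ⟨m, hm, rfl⟩
        exact ⟨((⟨m, hm⟩ : M) : M ⧸ toP.range.subgroupOf M), rfl⟩
    rw [← hr, Nat.card_range_of_injective hf]
    rfl
  have h0 : (0 : ℕ) ∈ S := by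
    refine Finset.mem_filter.mpr ⟨Finset.mem_range.mpr (by norm_num), ?_⟩
    rw [TData.pt, TData.wst_zero, inv_one]
    exact ⟨1, one_mem _, rfl⟩
  let m := maskOf (fun i => decide (i ∈ S)) 10
  have hexp : ∑ i ∈ S, orbSizes.getD i 0 = subSum m := by
    have hsub : S ⊆ Finset.range 11 := Finset.filter_subset _ _
    rw [show ∑ i ∈ S, orbSizes.getD i 0 = ∑ i ∈ Finset.range 11, if i ∈ S then orbSizes.getD i 0 else 0 by
      rw [← Finset.sum_filter, Finset.filter_mem_eq_inter, Finset.inter_eq_right.mpr hsub],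
      Finset.sum_range_succ', if_pos h0, subSum, add_comm]
    congr 1
    rw [show ((List.range 10).map fun k => bif m.testBit k then orbSizes.getD (k + 1) 0 else 0).sum =
      ∑ k ∈ Finset.range 10, bif m.testBit k then orbSizes.getD (k + 1) 0 else 0 from rfl]
    refine Finset.sum_congr rfl fun k hk => ?_
    rw [show m.testBit k = decide (k + 1 ∈ S) by
      simp only [m, testBit_maskOf, Finset.mem_range.1 hk, decide_true, Bool.true_and], Bool.cond_decide]
  have hmu := Subgroup.relIndex_mul_index hM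
  rw [index_toP, ← hrel, hcard, hexp] at hmu
  have hm : m < 1024 := Nat.lt_pow_two_of_testBit (n := 10) m fun k hk => by
    simp only [m, testBit_maskOf]
    simp [show ¬ k < 10 by omega]
  have ht := List.all_eq_true.1 union_table m (List.mem_range.2 hm)
  rw [Nat.mod_eq_zero_of_dvd ⟨M.index, hmu.symm⟩, Nat.beq_refl] at ht
  simp only [Bool.or_eq_true, Bool.not_true, Bool.false_eq_true, false_or] at ht
  rcases ht with h | h <;> rw [Nat.eq_of_beq_eq_true h] at hexp hmu
  · left
    refine le_antisymm (Subgroup.relIndex_eq_one.mp ?_) hM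
    rw [← hrel, hcard, hexp]
    rfl
  · right
    rw [show subSum 1023 = 143127000 by decide +kernel] at hmu
    exact Subgroup.index_eq_one.mp (Nat.eq_of_mul_eq_mul_left (by norm_num) (hmu.trans (mul_one _).symm))

theorem range_not_normal : ¬ toP.range.Normal := by
  intro hn
  have h := orb_card 1 (by norm_num)
  have hsub : TData.orb rig 1 ⊆ {TData.pt rig 1} := by
    rintro _ ⟨y, rfl⟩
    rw [Set.mem_singleton_iff, TData.pt]
    change ((toP y * (TData.wst rig 1)⁻¹ : Th) : Th ⧸ toP.range) = _
    rw [QuotientGroup.eq]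
    have h2 := hn.conj_mem _ (inv_mem (⟨y, rfl⟩ : toP y ∈ toP.range)) (TData.wst rig 1)
    simpa [mul_assoc] using h2
  have h2 := Set.ncard_le_ncard hsub
  rw [Set.ncard_singleton, ← Nat.card_coe_set_eq, h] at h2
  simp [orbSizes] at h2

theorem not_mem_stb : prodW pGen word13 ∉ TData.stb rig 1 := by
  haveI := finite_PT
  intro hmem
  have h := orb_card 1 (by norm_num)
  rw [TData.card_orb] at h
  have hmul := (TData.stb rig 1).card_mul_index
  rw [h, card_PT, show orbSizes.getD 1 0 = 17199 from rfl] at hmul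
  have hne : prodW pGen word13 ≠ 1 := fun e => orderOf_word13.2 (by rw [e, map_one])
  haveI : Fact (Nat.Prime 13) := ⟨by norm_num⟩
  have ho : orderOf (prodW pGen word13) = 13 := orderOf_eq_prime orderOf_word13.1 hne
  have hd := orderOf_dvd_natCard (⟨_, hmem⟩ : TData.stb rig 1)
  rw [← Subgroup.orderOf_coe, ho] at hd
  revert hmul hd
  generalize Nat.card (TData.stb rig 1) = c
  intro hd hmul
  omega

/-- the number of fixed points of a word -/
noncomputable def fixCount (w : List ℕ) : ℕ :=
  (List.range certL.N).countP fun p => Nat.beq (certL.run p w) p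

/-- all letters belong to the subgroup -/
def lettersP (w : List ℕ) : Bool := w.all fun g => Nat.blt g 9

theorem pair4 : ((Nat.beq (fixCount (tw.U.getD 4 ([], [])).1) 153) &&
    Nat.beq (fixCount (tw.U.getD 4 ([], [])).2) 25 &&
    lettersP (tw.U.getD 4 ([], [])).1 && lettersP (tw.U.getD 4 ([], [])).2 &&
    Nat.blt 4 tw.U.length) = true := by decide +kernel

theorem fixCount_eq {w : List ℕ} (hw : ∀ g ∈ w, g < certL.K) :
    fixCount w = Nat.card {p : Fin certL.N // pPerm (prodW pGen w) p = p} := by
  classical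
  rw [Nat.card_eq_fintype_card, Fintype.card_subtype]
  unfold fixCount
  refine (TData.countP_range (fun p => Nat.beq (certL.run p w) p) certL.N).symm.trans
    (congrArg Finset.card (Finset.ext fun p => ?_))
  have e := pPerm_word hw p
  simp only [Finset.mem_filter, Finset.mem_univ, true_and]
  constructor
  · intro h
    have hp : (pPerm (prodW pGen w))⁻¹ p = p := Fin.ext (e.trans (Nat.eq_of_beq_eq_true h))
    exact (Equiv.Perm.inv_eq_iff_eq.1 hp).symm
  · intro h
    rw [Equiv.Perm.inv_eq_iff_eq.2 h.symm] at e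
    exact Nat.beq_eq ▸ e.symm

/-- the twist fuses two classes of the subgroup -/
theorem no_complement (v : PT) :
    prodW pGen (tw.U.getD 4 ([], [])).1 * v ≠ v * prodW pGen (tw.U.getD 4 ([], [])).2 := by
  intro he
  have h := pair4
  simp only [lettersP, Bool.and_eq_true, List.all_eq_true, Nat.blt_eq] at h
  obtain ⟨⟨⟨⟨h1, h2⟩, l1⟩, l2⟩, -⟩ := h
  have hK : certL.K = 9 := cert_sizes.2.2.2.2.2.2.1
  rw [← hK] at l1 l2
  have h1' := Nat.eq_of_beq_eq_true h1
  have h2' := Nat.eq_of_beq_eq_true h2
  rw [fixCount_eq l1] at h1'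
  rw [fixCount_eq l2] at h2'
  have hc : Nat.card {p // pPerm (prodW pGen (tw.U.getD 4 ([], [])).2) p = p} =
      Nat.card {p // pPerm (prodW pGen (tw.U.getD 4 ([], [])).1) p = p} := by
    refine Nat.card_congr (Equiv.subtypeEquiv (pPerm v) fun p => ?_)
    rw [← Equiv.Perm.mul_apply, ← map_mul, he, map_mul, Equiv.Perm.mul_apply,
      (pPerm v).apply_eq_iff_eq]
  omega

theorem finite_Th : Finite Th := (Nat.card_ne_zero.mp (by rw [card_Th]; norm_num)).2

theorem simple_Th : IsSimpleGroup Th := by
  haveI := finite_Th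
  haveI := finite_PT
  haveI : Nontrivial Th := Finite.one_lt_card_iff_nontrivial.mp (by rw [card_Th]; norm_num)
  refine ⟨fun N hN => or_iff_not_imp_left.mpr fun hne => ?_⟩
  haveI := hN
  -- the subgroup is not in the point stabiliser
  have hle : ¬ N ≤ toP.range := fun hle => by
    have hK : N.comap toP ≠ ⊥ := fun h => hne ((Subgroup.eq_bot_iff_forall _).2 fun x hx => by
      obtain ⟨y, rfl⟩ := hle hx
      rw [(Subgroup.eq_bot_iff_forall _).1 h y hx, map_one])
    have hw : toP (prodW pGen word13) ∈ N := word13_mem (N.comap toP) hK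
    refine not_mem_stb ((TData.mem_stb 1 _).2 ?_)
    exact hle (hN.conj_mem _ hw (TData.wst rig 1))
  have htop : toP.range ⊔ N = ⊤ := (range_maximal _ le_sup_left).resolve_left fun h => hle (sup_eq_left.mp h)
  let f := QuotientGroup.mk' N
  have hf : ∀ x, f x = 1 ↔ x ∈ N := fun x => QuotientGroup.eq_one_iff x
  obtain ⟨v, hv⟩ : ∃ v : PT, f (tg 9) = f (toP v) := by
    have hu : tg 9 ∈ (↑(toP.range ⊔ N) : Set Th) := by rw [htop]; trivial
    rw [Subgroup.mul_normal, Set.mem_mul] at hu
    obtain ⟨_, ⟨v, rfl⟩, n, hn, e⟩ := hu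
    exact ⟨v, by rw [← e, map_mul, (hf n).2 hn, mul_one]⟩
  have hK : N.comap toP ≠ ⊥ := fun h => by
    have h4 : 4 < tw.U.length := by
      have := pair4
      simp only [Bool.and_eq_true, Nat.blt_eq] at this
      exact this.2
    have ht := twist_U _ (List.getElem_mem h4)
    rw [← List.getD_eq_getElem _ ([], []) h4] at ht
    have e := congrArg f ht
    rw [map_mul, map_mul, hv, ← map_mul, ← map_mul, ← map_mul, ← map_mul] at e
    refine no_complement v ?_
    have e2 : toP ((v * prodW pGen (tw.U.getD 4 ([], [])).2)⁻¹ * (prodW pGen (tw.U.getD 4 ([], [])).1 * v)) ∈ N := by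
      rw [← hf, map_mul toP, map_inv, map_mul f, map_inv, e, inv_mul_cancel]
    exact (inv_mul_eq_one.1 ((Subgroup.eq_bot_iff_forall _).1 h _ e2)).symm
  obtain ⟨ha, hd⟩ := ad_mem (N.comap toP) hK
  -- every letter dies in the quotient
  have rel : ∀ r ∈ relsTh, prodW (fun g => f (tg g)) r = 1 := fun r hr => by
    rw [← map_prodW, relTh_one r hr, map_one]
  have sq : ∀ g < 5, f (tg g) * f (tg g) = 1 := fun g hg => by rw [← map_mul, tg_sq hg, map_one]
  have a1 : f (tg 0) = 1 := by rw [← toP_gen (show (0 : ℕ) < 9 by norm_num)]; exact (hf _).2 ha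
  have d1 : f (tg 3) = 1 := by rw [← toP_gen (show (3 : ℕ) < 9 by norm_num)]; exact (hf _).2 hd
  have inv1 : ∀ g, f (tg g) * f (tg (inv11 g)) = 1 := fun g => by rw [← map_mul, tg_inv, map_one]
  have cube : ∀ {Q : Type} [Group Q] (x : Q), x * x = 1 → x * (x * x) = 1 → x = 1 :=
    fun x h h' => by rwa [h, mul_one] at h'
  have b1 : f (tg 1) = 1 := by
    have h := rel [0, 1, 0, 1, 0, 1] (by decide +kernel)
    simp only [prodW_cons, prodW_nil, mul_one, a1, one_mul] at h
    exact cube _ (sq 1 (by norm_num)) h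
  have c1 : f (tg 2) = 1 := by
    have h := rel [1, 2, 1, 2, 1, 2] (by decide +kernel)
    simp only [prodW_cons, prodW_nil, mul_one, b1, one_mul] at h
    exact cube _ (sq 2 (by norm_num)) h
  have e1 : f (tg 4) = 1 := by
    have h := rel [3, 4, 3, 4, 3, 4] (by decide +kernel)
    simp only [prodW_cons, prodW_nil, mul_one, d1, one_mul] at h
    exact cube _ (sq 4 (by norm_num)) h
  have s1 : f (tg 5) = 1 := by
    have h := rel [5, 3, 5, 3] (by decide +kernel)
    have h7 := rel [5, 5, 5, 5, 5, 5, 5] (by decide +kernel)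
    simp only [prodW_cons, prodW_nil, mul_one, d1, one_mul] at h h7
    simp only [← mul_assoc, h, one_mul] at h7
    exact h7
  have S1 : f (tg 6) = 1 := by
    have h := inv1 5
    rwa [s1, one_mul] at h
  have u1 : f (tg 9) = 1 := by
    have h := rel [9, 9, 2, 0] (by decide +kernel)
    have h3 := rel [0, 2, 6, 10, 6, 10, 6, 10] (by decide +kernel)
    simp only [prodW_cons, prodW_nil, mul_one, a1, c1, S1, one_mul] at h h3
    have hU : f (tg 10) = f (tg 9) := by
      have h' := inv1 9
      change f (tg 9) * f (tg 10) = 1 at h'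
      exact mul_left_cancel (h'.trans h.symm)
    rw [hU] at h3
    exact cube _ h h3
  have t1 : f (tg 7) = 1 := by
    have h := rel [10, 7, 9, 7] (by decide +kernel)
    have h3 := rel [7, 7, 7] (by decide +kernel)
    have hU : f (tg 10) = 1 := by
      have h' := inv1 9
      rwa [u1, one_mul] at h'
    simp only [prodW_cons, prodW_nil, mul_one, hU, u1, one_mul] at h h3
    exact cube _ h h3
  refine top_le_iff.1 ?_
  rw [← PresentedGroup.closure_range_of, Subgroup.closure_le]
  rintro _ ⟨i, rfl⟩
  cases i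
  exacts [(hf _).1 a1, (hf _).1 b1, (hf _).1 c1, (hf _).1 d1, (hf _).1 e1, (hf _).1 s1, (hf _).1 t1,
    (hf _).1 u1]

theorem isTh : Cfsg.IsTh Th := ⟨simple_Th, card_Th⟩

end CfsgLib.ThPres
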