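import Cfsg.Agent.Lib.ThPres.CentClassData
import Cfsg.Agent.Lib.ThPres.CentHitData
import Cfsg.Agent.Lib.ThPres.Sift
import Cfsg.Agent.Lib.ThPres.Simple
import Cfsg.Agent.Lib.ThPres.InvarData

/-!
The checks for the centraliser of an involution.
-/

set_option autoImplicit false

namespace CfsgLib.ThPres

open CfsgLib.CosetEnum CfsgLib.TwistTree CfsgLib.ThRep
open CfsgLib.TwistCoset (CLev)

/-- the images of the three base points as one number -/
noncomputable def keyRun (w : List ℕ) : ℕ :=
  Nat.add (certL.run 0 w)
    (Nat.add (Nat.shiftLeft (certL.run 4 w) (nat_lit 12)) (Nat.shiftLeft (certL.run 77 w) (nat_lit 24)))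

/-- a member of the class -/
noncomputable def clsWord (h : List ℕ) : List ℕ := certL.revInv h ++ (0 :: h)

/-- increasing -/
noncomputable def incrB : List ℕ → Bool
  | a :: b :: l => Nat.blt a b && incrB (b :: l)
  | _ => true

/-- the list is a set of members of the class -/
noncomputable def classOK : Bool :=
  Nat.beq clsConj.length 819 && Nat.beq clsKey.length 819 && incrB clsKey &&
    ((clsConj.zip clsKey).all fun e =>
      (e.1.all fun g => Nat.blt g 9) && Nat.beq (keyRun (clsWord e.1)) e.2) &&
    Nat.beq (keyRun [0]) (clsKey.getD 107 0)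

/-- the list is closed under conjugation by one letter -/
noncomputable def closedOK (g : ℕ) : Bool :=
  Nat.beq (clsNext.getD g []).length 819 &&
    (clsConj.zip (clsNext.getD g [])).all fun e => Nat.blt e.2 819 &&
      Nat.beq (keyRun (certL.inv g :: clsWord e.1 ++ [g])) (clsKey.getD e.2 0)

/-- members of the class outside the list do not pass a chain -/
noncomputable def siftClass (ls : List CLev) (ts : List (ℕ × ℕ × List ℕ)) (ok : List ℕ) : Bool :=
  maskOK ls ts &&
    clsConj.zipIdx.all fun e => !(siftOK certL [0, 4, 77] ls ts (clsWord e.1)) || ok.contains e.2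

/-- a generator of a stabiliser and its image in the point stabiliser -/
noncomputable def imgOK (i : ℕ) (e : List ℕ × List ℕ) : Bool :=
  (e.1.all fun g => Nat.blt g 9) && (e.2.all fun g => Nat.blt g 9) &&
    Nat.beq (mulP (wordMat (wsWord.getD i [])) (wordMat e.1))
      (mulP (wordMat e.2) (wordMat (wsWord.getD i [])))

/-- a member as a product of generators, its image lying in the other class -/
noncomputable def killOK (gs : List (List ℕ × List ℕ)) (e : ℕ × List ℕ) : Bool :=
  Nat.beq (keyRun (clsWord (clsConj.getD e.1 []))) (keyRun (e.2.flatMap fun t => (gs.getD t ([], [])).1)) &&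
    !(clsKey.any (Nat.beq (keyRun (e.2.flatMap fun t => (gs.getD t ([], [])).2))))

end CfsgLib.ThPres
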