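import Cfsg.Agent.Lib.ThPres.CentQDefs

/-!
Kernel check that the representatives of the cosets are distinct.
-/

set_option autoImplicit false
set_option Elab.async false

namespace CfsgLib.ThPres

theorem reps_ok : repsOK = true := by decide +kernel

end CfsgLib.ThPres
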