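import Cfsg.Agent.Lib.ThPres.CentA
import Cfsg.Agent.Lib.ThPres.CentReps
import Cfsg.Agent.Lib.ThPres.CentChain

/-!
The centraliser of the first letter has order 92897280 and is generated by the letters other than b.
-/

set_option autoImplicit false
set_option linter.style.haveILetI false

namespace CfsgLib.ThPres

open Cfsg.Spor CfsgLib.CosetEnum CfsgLib.TwistTree CfsgLib.ThRep

attribute [local irreducible] certL clsConj clsKey clsNext

/-- the letters other than b -/
def cLet : List ℕ := [0, 2, 3, 4, 5, 6, 7, 8, 9, 10]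

/-- the subgroup they generate -/
def centC : Subgroup Th := Subgroup.closure {x | ∃ g ∈ cLet, tg g = x}

theorem tg_mem_centC {g : ℕ} (h : g ∈ cLet) : tg g ∈ centC := Subgroup.subset_closure ⟨g, h, rfl⟩

theorem word_mem_centC {w : List ℕ} (h : ∀ g ∈ w, g ∈ cLet) : prodW tg w ∈ centC := by
  induction w with
  | nil => simp
  | cons g w ih =>
    rw [prodW_cons]
    exact mul_mem (tg_mem_centC (h g List.mem_cons_self)) (ih fun c hc => h c (List.mem_cons_of_mem _ hc))

theorem comm_checks : (([2, 3, 4, 5, 7].all fun g => tw.eq [g, 0] [0, g]) &&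
    relsTh.contains [10, 0, 9, 0]) = true := by decide +kernel

theorem centC_le : centC ≤ centA := by
  have h := comm_checks
  simp only [Bool.and_eq_true, List.all_eq_true, List.contains_iff_mem] at h
  obtain ⟨hP, hu⟩ := h
  have h0 : toP (pGen 0) = tg 0 := toP_gen (by norm_num)
  have hp : ∀ g, g ∈ [2, 3, 4, 5, 7] → tg g ∈ centA := fun g hg => by
    have hg9 : g < 9 := by simp at hg; omega
    have e := congrArg toP (eq_sound0 (hP g hg))
    rw [toP_word (by simp [hg9]), toP_word (by simp [hg9])] at e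
    simp only [prodW_cons, prodW_nil, mul_one] at e
    rw [mem_centA, h0]
    exact e
  have h9 : tg 9 ∈ centA := by
    have hr := relTh_one _ hu
    simp only [prodW_cons, prodW_nil, mul_one] at hr
    rw [mem_centA, h0]
    have h10 : tg 10 = (tg 9)⁻¹ := eq_inv_of_mul_eq_one_right (tg_inv 9)
    rw [h10] at hr
    calc tg 9 * tg 0 = (tg 0)⁻¹ * tg 9 * ((tg 9)⁻¹ * (tg 0 * (tg 9 * tg 0))) := by group
      _ = (tg 0)⁻¹ * tg 9 := by rw [hr, mul_one]
      _ = tg 0 * tg 9 := by rw [inv_eq_of_mul_eq_one_right (tg_sq (by norm_num : (0 : ℕ) < 5))]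
  rw [centC, Subgroup.closure_le]
  rintro _ ⟨g, hg, rfl⟩
  have hinv : ∀ g, tg (inv11 g) = (tg g)⁻¹ := fun g => eq_inv_of_mul_eq_one_right (tg_inv g)
  simp only [cLet, List.mem_cons, List.not_mem_nil, or_false] at hg
  rw [SetLike.mem_coe]
  rcases hg with rfl | rfl | rfl | rfl | rfl | rfl | rfl | rfl | rfl | rfl
  exacts [(mem_centA _).2 (by rw [h0]), hp 2 (by simp), hp 3 (by simp), hp 4 (by simp), hp 5 (by simp),
    (hinv 5).symm ▸ inv_mem (hp 5 (by simp)), hp 7 (by simp), (hinv 7).symm ▸ inv_mem (hp 7 (by simp)),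
    h9, (hinv 9).symm ▸ inv_mem h9]

/-- invariant along the construction of the representatives -/
def RepInv (ms : List ℕ) (ws : List (List ℕ)) : Prop :=
  ms.length = ws.length ∧ ∀ k < ms.length, Good 248 (ms.getD k 0) ∧ (∀ g ∈ ws.getD k [], g ∈ cLet) ∧
    toMat 248 (ms.getD k 0) =
      ((rho (prodW tg (ws.getD k [])))⁻¹ : U248).val * projM * (rho (prodW tg (ws.getD k [])) : U248).val

/-- the parent of each new node is an earlier one -/
def treeOK : List (ℕ × ℕ) → ℕ → Bool
  | [], _ => true
  | e :: l, n => Nat.blt e.1 n && cLet.contains e.2 && treeOK l (n + 1)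

theorem tree_ok : treeOK repTree 1 = true := by decide +kernel

theorem build_spec : ∀ (l : List (ℕ × ℕ)) (ms : List ℕ) (ws : List (List ℕ)),
    treeOK l ms.length = true → RepInv ms ws → RepInv (buildReps l ms) (repWords l ws)
  | [], ms, ws, _, h => h
  | e :: l, ms, ws, hl, ⟨hlen, h⟩ => by
    simp only [treeOK, Bool.and_eq_true, Nat.blt_eq, List.contains_iff_mem] at hl
    obtain ⟨⟨hp, hg⟩, hl⟩ := hl
    rw [buildReps, buildReps.strictL, strict_eq, repWords]
    refine build_spec l _ _ (by simpa using hl) ⟨by simp [hlen], fun k hk => ?_⟩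
    rw [List.length_append, List.length_singleton] at hk
    rcases Nat.lt_or_ge k ms.length with hk' | hk'
    · rw [List.getD_append _ _ _ _ hk', List.getD_append _ _ _ _ (hlen ▸ hk')]
      exact h k hk'
    · obtain rfl : k = ms.length := by omega
      rw [List.getD_append_right _ _ _ _ le_rfl, List.getD_append_right _ _ _ _ (le_of_eq hlen.symm),
        Nat.sub_self, show ms.length - ws.length = 0 by omega, List.getD_cons_zero, List.getD_cons_zero]
      have hg11 : e.2 < 11 := by simp [cLet] at hg; omega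
      obtain ⟨hgood, hlet, hmat⟩ := h _ hp
      have hm1 := (mat16_spec e.2).1
      have hm2 := (mat16_spec (inv11 e.2)).1
      obtain ⟨g1, e1⟩ := mulP_spec hgood hm1
      obtain ⟨g2, e2⟩ := mulP_spec hm2 g1
      refine ⟨g2, fun g hgm => ?_, ?_⟩
      · rcases List.mem_append.1 hgm with h' | h'
        · exact hlet g h'
        · rw [List.mem_singleton] at h'; exact h' ▸ hg
      · obtain ⟨q1, r1⟩ := rho_word (w := [e.2]) (by simpa using hg11)
        obtain ⟨q2, r2⟩ := rho_word (w := [inv11 e.2]) (by simpa using inv11_lt hg11)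
        simp only [wordMat, prodW_single] at r1 r2
        rw [eq_inv_of_mul_eq_one_right (tg_inv e.2), map_inv] at r2
        rw [prodW_append, prodW_single, e2, e1, hmat, map_mul, mul_inv_rev, Units.val_mul, Units.val_mul,
          r1, r2]
        simp only [mul_assoc]

theorem distinctB_spec : ∀ {l : List ℕ}, distinctB l = true → l.Nodup
  | [], _ => List.nodup_nil
  | a :: l, h => by
    simp only [distinctB, Bool.and_eq_true, List.all_eq_true, Bool.not_eq_true'] at h
    refine List.nodup_cons.2 ⟨fun hm => ?_, distinctB_spec h.2⟩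
    have := h.1 a hm
    simp at this

/-- the representatives -/
noncomputable def repW : List (List ℕ) := repWords repTree [[]]

theorem repWords_length : ∀ (l : List (ℕ × ℕ)) (ws : List (List ℕ)),
    (repWords l ws).length = ws.length + l.length
  | [], ws => rfl
  | e :: l, ws => by
    rw [repWords, repWords_length l, List.length_append, List.length_singleton, List.length_cons]
    omega

theorem reps_facts : repW.length = 120 ∧ (∀ k < 120, ∀ g ∈ repW.getD k [], g ∈ cLet) ∧
    ∀ k < 120, ∀ k' < 120, ((((prodW tg (repW.getD k []))⁻¹ : Th)) : Th ⧸ toP.range) =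
      (((prodW tg (repW.getD k' []))⁻¹ : Th) : Th ⧸ toP.range) → k = k' := by
  have hinit : RepInv [projP] [[]] := ⟨rfl, fun k hk => by
    obtain rfl : k = 0 := by simpa using hk
    exact ⟨projP_good, by simp, by simp [projM]⟩⟩
  obtain ⟨hlen, hspec⟩ := build_spec repTree [projP] [[]] tree_ok hinit
  have hok := reps_ok
  simp only [repsOK, Bool.and_eq_true] at hok
  have hW : repW.length = 120 := by
    rw [repW, repWords_length, Nat.eq_of_beq_eq_true hok.1.1]; rfl
  have hM : (buildReps repTree [projP]).length = 120 := hlen.trans hW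
  refine ⟨hW, fun k hk => (hspec k (hM.symm ▸ hk)).2.1, fun k hk k' hk' e => ?_⟩
  obtain ⟨g1, -, e1⟩ := hspec k (hM.symm ▸ hk)
  obtain ⟨g2, -, e2⟩ := hspec k' (hM.symm ▸ hk')
  obtain ⟨p, hp⟩ := QuotientGroup.eq.1 e
  rw [inv_inv] at hp
  have hr : prodW tg (repW.getD k []) = toP p * prodW tg (repW.getD k' []) := by
    rw [hp, inv_mul_cancel_right]
  have hc : ((rho (toP p))⁻¹ : U248).val * projM * (rho (toP p) : U248).val = projM := by
    have hcm : projM * (rho (toP p) : U248).val = (rho (toP p) : U248).val * projM := projM_comm p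
    rw [mul_assoc, hcm, ← mul_assoc, Units.inv_mul, one_mul]
  have key : toMat 248 ((buildReps repTree [projP]).getD k 0) =
      toMat 248 ((buildReps repTree [projP]).getD k' 0) := by
    rw [e1, e2]
    conv_lhs => rw [← show prodW tg (repW.getD k []) = prodW tg ((repWords repTree [[]]).getD k []) from rfl, hr]
    rw [map_mul, mul_inv_rev, Units.val_mul, Units.val_mul]
    calc _ = ((rho (prodW tg (repW.getD k' [])))⁻¹ : U248).val * (((rho (toP p))⁻¹ : U248).val * projM *
          (rho (toP p) : U248).val) * (rho (prodW tg (repW.getD k' [])) : U248).val := by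
          simp only [mul_assoc]
      _ = _ := by rw [hc]; simp only [repW]
  have hkey := toMat_inj g1 g2 key
  rw [List.getD_eq_getElem _ _ (hM.symm ▸ hk), List.getD_eq_getElem _ _ (hM.symm ▸ hk')] at hkey
  exact (distinctB_spec hok.2).getElem_inj_iff.1 hkey

attribute [local irreducible] repW buildReps

/-- the letters of the chain -/
def paLet : List ℕ := [0, 2, 3, 4, 5, 6, 7, 8]

theorem toP_cent {p : PT} : p ∈ Subgroup.centralizer ({pGen 0} : Set PT) ↔ toP p ∈ centA := by
  rw [Subgroup.mem_centralizer_singleton_iff, mem_centA, ← map_mul, ← map_mul, toP_injective.eq_iff]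

theorem toP_cent_mem {p : PT} (hp : p ∈ Subgroup.centralizer ({pGen 0} : Set PT)) : toP p ∈ centC := by
  haveI := finite_PT
  set K : Subgroup PT := Subgroup.closure {x | ∃ g ∈ paLet, pGen g = x} with hK
  have hle : K ≤ Subgroup.centralizer ({pGen 0} : Set PT) := by
    rw [hK, Subgroup.closure_le]
    rintro _ ⟨g, hg, rfl⟩
    rw [SetLike.mem_coe, toP_cent, toP_gen (by simp [paLet] at hg; omega)]
    exact centC_le (tg_mem_centC (by simp [paLet] at hg; simp [cLet]; omega))
  have hw : ∀ w : List ℕ, (∀ g ∈ w, g ∈ paLet) → prodW pGen w ∈ K := by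
    intro w hw
    induction w with
    | nil => simp
    | cons g w ih =>
      rw [prodW_cons]
      exact mul_mem (Subgroup.subset_closure ⟨g, hw g List.mem_cons_self, rfl⟩)
        (ih fun c hc => hw c (List.mem_cons_of_mem _ hc))
  have hlow : 774144 ≤ Nat.card K := by
    rw [← pa_size]
    refine pAct.card_ge pa_cOK fun l hl g hg => hw g fun c hc => ?_
    have hlet := pa_letters
    simp only [List.all_eq_true, List.contains_iff_mem] at hlet
    refine hlet g ?_ c hc
    simp only [paChain, List.mem_cons, List.not_mem_nil, or_false] at hl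
    simp only [List.mem_append]
    rcases hl with rfl | rfl | rfl
    exacts [Or.inl (Or.inl hg), Or.inl (Or.inr hg), Or.inr hg]
  have heq : K = Subgroup.centralizer ({pGen 0} : Set PT) :=
    Subgroup.eq_of_le_of_card_ge hle (card_centraliser.le.trans hlow)
  rw [← heq] at hp
  suffices h : K ≤ centC.comap toP from h hp
  rw [hK, Subgroup.closure_le]
  rintro _ ⟨g, hg, rfl⟩
  rw [SetLike.mem_coe, Subgroup.mem_comap, toP_gen (by simp [paLet] at hg; omega)]
  exact tg_mem_centC (by simp [paLet] at hg; simp [cLet]; omega)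

theorem centA_split : ∀ g ∈ centA, ∃ k : Fin 120, ∃ p ∈ Subgroup.centralizer ({pGen 0} : Set PT),
    g = (prodW tg (repW.getD k []))⁻¹ * toP p := by
  intro g hg
  obtain ⟨-, hlet, hinj⟩ := reps_facts
  have hrA : ∀ k : Fin 120, (prodW tg (repW.getD k []))⁻¹ ∈ centA := fun k =>
    inv_mem (centC_le (word_mem_centC (hlet k k.2)))
  haveI := finite_PT
  haveI : Finite (Th ⧸ toP.range) := Finite.of_surjective _ toCoset_surj
  haveI : Finite omegaA := Subtype.finite
  let f : Fin 120 → omegaA := fun k => ⟨((prodW tg (repW.getD k []))⁻¹ : Th), (omegaA_iff _).2 ⟨_, hrA k, rfl⟩⟩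
  have hf : Function.Injective f := fun a b e => Fin.ext (hinj a a.2 b b.2 (congrArg Subtype.val e))
  have hb : Function.Bijective f := hf.bijective_of_nat_card_le (by rw [Nat.card_fin]; exact omegaA_le)
  obtain ⟨k, hk⟩ := hb.2 ⟨(g : Th ⧸ toP.range), (omegaA_iff _).2 ⟨g, hg, rfl⟩⟩
  obtain ⟨p, hp⟩ := QuotientGroup.eq.1 (congrArg Subtype.val hk)
  refine ⟨k, p, toP_cent.2 ?_, by rw [hp, mul_inv_cancel_left]⟩
  rw [hp]
  exact mul_mem (inv_mem (hrA k)) hg

theorem centA_eq : centA = centC := le_antisymm (fun g hg => by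
  obtain ⟨k, p, hp, rfl⟩ := centA_split g hg
  exact mul_mem (inv_mem (word_mem_centC (reps_facts.2.1 k k.2))) (toP_cent_mem hp)) centC_le

theorem card_centA : Nat.card centA = 92897280 := by
  obtain ⟨-, hlet, hinj⟩ := reps_facts
  have hrA : ∀ k : Fin 120, (prodW tg (repW.getD k []))⁻¹ ∈ centA := fun k =>
    inv_mem (centC_le (word_mem_centC (hlet k k.2)))
  let f : Fin 120 × Subgroup.centralizer ({pGen 0} : Set PT) → centA := fun e =>
    ⟨(prodW tg (repW.getD e.1 []))⁻¹ * toP e.2, mul_mem (hrA e.1) (toP_cent.1 e.2.2)⟩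
  have hf : Function.Bijective f := by
    refine ⟨fun ⟨k, p⟩ ⟨k', p'⟩ e => ?_, fun ⟨g, hg⟩ => ?_⟩
    · have h : (prodW tg (repW.getD k []))⁻¹ * toP p = (prodW tg (repW.getD k' []))⁻¹ * toP p' :=
        congrArg Subtype.val e
      have hkk : k = k' := Fin.ext (hinj k k.2 k' k'.2 (QuotientGroup.eq.2 ⟨p * (p' : PT)⁻¹, by
        rw [map_mul, map_inv, inv_inv, ← mul_left_cancel_iff (a := (prodW tg (repW.getD k []))⁻¹),
          ← mul_assoc, h]
        group⟩))
      subst hkk
      exact Prod.ext rfl (Subtype.ext (toP_injective (mul_left_cancel h)))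
    · obtain ⟨k, p, hp, rfl⟩ := centA_split g hg
      exact ⟨(k, ⟨p, hp⟩), rfl⟩
  rw [← Nat.card_eq_of_bijective f hf, Nat.card_prod, Nat.card_fin, card_centraliser]

end CfsgLib.ThPres
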