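import Cfsg.Agent.Lib.ThPres.Rig
import Cfsg.Agent.Lib.ThPres.Proj

/-!
An invariant of double cosets: a projection that commutes with the subgroup, moved by the
representative and compressed.
-/

set_option autoImplicit false

namespace CfsgLib.ThPres

open Cfsg.Spor CfsgLib.CosetEnum CfsgLib.ThRep Matrix

/-- a scalar times a matrix plus a matrix -/
noncomputable def addP (c A B : ℕ) : ℕ :=
  strict A fun a => strict B fun b => redP (Nat.add (Nat.mul c a) b)

theorem addP_spec {c A B : ℕ} (hc : c ≤ 2) (hA : Good 248 A) (hB : Good 248 B) :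
    Good 248 (addP c A B) ∧
      toMat 248 (addP c A B) = (c : ZMod 3) • toMat 248 A + toMat 248 B := by
  have hlt : ∀ k < 61504, c * lane A k + lane B k < 1024 := fun k _ => by
    have h1 := hA.2 k
    have h2 := hB.2 k
    have : c * lane A k ≤ 2 * 2 := Nat.mul_le_mul hc h1
    omega
  have e : addP c A B = pack (fun k => (c * lane A k + lane B k) % 3) 61504 := by
    rw [addP, strict_eq, strict_eq, redP_spec]
    have e2 : Nat.add (Nat.mul c A) B = pack (fun k => c * lane A k + lane B k) 61504 := by
      rw [← pack_add]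
      change c * A + B = _
      conv_lhs => rw [← pack_lane hA.1, ← pack_lane hB.1]
      simp [pack, Finset.mul_sum, mul_assoc]
    rw [e2]
    exact pack_congr fun k hk => by rw [lane_pack hlt, if_pos hk]
  have hlt' : ∀ k < 61504, (c * lane A k + lane B k) % 3 < 1024 := fun k _ => by omega
  refine ⟨⟨e ▸ pack_lt hlt', fun k => ?_⟩, ?_⟩
  · rw [e, lane_pack hlt']
    split <;> omega
  · ext i j
    have hk : 248 * (i : ℕ) + j < 61504 := by omega
    simp only [toMat, Matrix.add_apply, Matrix.smul_apply, smul_eq_mul]
    rw [e, lane_pack hlt', if_pos hk, ZMod.natCast_mod]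
    simp

/-- the trace -/
noncomputable def traceP (P : ℕ) : ℕ :=
  strict P fun p => ((List.range 248).map fun k => lane p (249 * k)).sum % 3

theorem traceP_spec (P : ℕ) : (toMat 248 P).trace = (traceP P : ZMod 3) := by
  rw [traceP, strict_eq, ZMod.natCast_mod,
    show ((List.range 248).map fun k => lane P (249 * k)).sum =
      ∑ k ∈ Finset.range 248, lane P (249 * k) from rfl, Nat.cast_sum, ← Fin.sum_univ_eq_sum_range (fun k => (lane P (249 * k) : ZMod 3)) 248]
  refine Finset.sum_congr rfl fun i _ => ?_
  simp only [Matrix.diag, toMat]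
  congr 2
  omega

theorem zero_good : Good 248 0 ∧ toMat 248 0 = 0 :=
  ⟨⟨by positivity, fun k => by simp [lane]⟩, by ext i j; simp [toMat, lane]⟩

/-- the projection -/
noncomputable def projM : Matrix (Fin 248) (Fin 248) (ZMod 3) := toMat 248 projP

/-- a polynomial at a matrix, with the projection as its unit -/
noncomputable def evM (q : List ℕ) (M : Matrix (Fin 248) (Fin 248) (ZMod 3)) :
    Matrix (Fin 248) (Fin 248) (ZMod 3) :=
  match q with
  | [] => 0
  | c :: q => (c : ZMod 3) • projM + M * evM q M

/-- the same on numbers -/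
noncomputable def evQ (q : List ℕ) (M : ℕ) : ℕ :=
  match q with
  | [] => 0
  | c :: q => addP c projP (mulP M (evQ q M))

/-- the compressed projection at a word -/
noncomputable def invMat (w : List ℕ) : ℕ :=
  mulP projP (mulP (wordMat (iw11 w)) (mulP projP (mulP (wordMat w) projP)))

/-- the compressed projection at an element -/
noncomputable def conjE (x : Th) : Matrix (Fin 248) (Fin 248) (ZMod 3) :=
  projM * ((rho x)⁻¹ : U248).val * projM * (rho x : U248).val * projM

theorem proj_checks : (goodB projP &&
    (List.range 9).all fun g => Nat.beq (mulP projP (letMat g)) (mulP (letMat g) projP)) = true := by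
  decide +kernel

theorem projP_good : Good 248 projP := by
  have h := proj_checks
  rw [Bool.and_eq_true] at h
  exact good_of_goodB h.1

theorem projM_comm (x : PT) : Commute projM (toU x).val := by
  have h := proj_checks
  simp only [Bool.and_eq_true, List.all_eq_true, List.mem_range] at h
  have hg : ∀ g < 9, Commute projM (toU (pGen g)).val := fun g hg => by
    have e : (toU (pGen g)).val = toMat 248 (letMat g) := by
      rw [toU, MonoidHom.comp_apply, toP_gen hg, rho_tg (by omega)]
    rw [e, Commute, SemiconjBy, projM, ← (mulP_spec projP_good (good_let (by omega))).2,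
      Nat.eq_of_beq_eq_true (h.2 g hg), (mulP_spec (good_let (by omega)) projP_good).2]
  obtain ⟨w, hw, rfl⟩ := exists_pWord x
  have hK : certL.K = 9 := cert_sizes.2.2.2.2.2.2.1
  induction w with
  | nil => simp [Commute.one_right]
  | cons g w ih =>
    rw [prodW_cons, map_mul, Units.val_mul]
    exact (hg g (hK ▸ hw g List.mem_cons_self)).mul_right (ih fun c hc => hw c (List.mem_cons_of_mem _ hc))

theorem inv11_lt {g : ℕ} (h : g < 11) : inv11 g < 11 := by interval_cases g <;> decide

theorem invMat_spec {w : List ℕ} (hw : ∀ g ∈ w, g < 11) :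
    Good 248 (invMat w) ∧ toMat 248 (invMat w) = conjE (prodW tg w) := by
  have hw' : ∀ g ∈ iw11 w, g < 11 := fun g hg => by
    obtain ⟨c, hc, rfl⟩ := List.mem_map.1 (List.mem_reverse.1 hg)
    exact inv11_lt (hw c hc)
  obtain ⟨g1, e1⟩ := rho_word hw
  obtain ⟨g2, e2⟩ := rho_word hw'
  rw [prodW_iw11, map_inv] at e2
  obtain ⟨g3, e3⟩ := mulP_spec g1 projP_good
  obtain ⟨g4, e4⟩ := mulP_spec projP_good g3
  obtain ⟨g5, e5⟩ := mulP_spec g2 g4
  obtain ⟨g6, e6⟩ := mulP_spec projP_good g5
  refine ⟨g6, ?_⟩
  rw [invMat, e6, e5, e4, e3, conjE, e1, e2]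
  simp only [projM, mul_assoc]

theorem evQ_spec {M : ℕ} (hM : Good 248 M) : ∀ {q : List ℕ}, (∀ c ∈ q, c ≤ 2) →
    Good 248 (evQ q M) ∧ toMat 248 (evQ q M) = evM q (toMat 248 M)
  | [], _ => by simpa [evQ, evM] using zero_good
  | c :: q, h => by
    obtain ⟨h1, h2⟩ := evQ_spec hM (q := q) fun d hd => h d (List.mem_cons_of_mem _ hd)
    obtain ⟨h3, h4⟩ := mulP_spec hM h1
    obtain ⟨h5, h6⟩ := addP_spec (h c List.mem_cons_self) projP_good h3
    exact ⟨h5, by rw [evQ, h6, h4, h2, evM, projM]⟩

theorem evM_conj (y : U248) (hy : Commute projM y.val) (M : Matrix (Fin 248) (Fin 248) (ZMod 3)) :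
    ∀ q : List ℕ, evM q ((y⁻¹ : U248).val * M * y.val) = (y⁻¹ : U248).val * evM q M * y.val
  | [] => by simp [evM]
  | c :: q => by
    rw [evM, evM, evM_conj y hy M q, mul_add, add_mul, Matrix.mul_smul, Matrix.smul_mul,
      mul_assoc _ projM, hy.eq]
    simp only [mul_assoc, Units.inv_mul_cancel_left, Units.mul_inv_cancel_left]

/-- equal double cosets give similar matrices -/
theorem conjE_double (a b : PT) (x : Th) : conjE (toP a * x * toP b) =
    ((toU b)⁻¹ : U248).val * conjE x * (toU b).val := by
  have ha := projM_comm a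
  have hb := projM_comm b
  have ha' : Commute projM ((toU a)⁻¹ : U248).val := ha.units_inv_right
  have hb' : Commute projM ((toU b)⁻¹ : U248).val := hb.units_inv_right
  simp only [conjE, map_mul, _root_.mul_inv_rev, Units.val_mul]
  change projM * (((toU b)⁻¹ : U248).val * (((rho x)⁻¹ : U248).val * ((toU a)⁻¹ : U248).val)) * projM *
    ((toU a).val * (rho x : U248).val * (toU b).val) * projM = _
  calc _ = (projM * ((toU b)⁻¹ : U248).val) * ((rho x)⁻¹ : U248).val *
        (((toU a)⁻¹ : U248).val * (projM * (toU a).val)) * (rho x : U248).val *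
        ((toU b).val * projM) := by simp only [mul_assoc]
    _ = _ := by
      rw [hb'.eq, ha.eq, Units.inv_mul_cancel_left, ← hb.eq]
      simp only [mul_assoc]

theorem trace_double (a b : PT) (x : Th) : (conjE (toP a * x * toP b)).trace = (conjE x).trace := by
  rw [conjE_double]
  exact Matrix.trace_units_conj' (toU b) _

theorem evM_double (a b : PT) (x : Th) (q : List ℕ) :
    evM q (conjE (toP a * x * toP b)) = 0 ↔ evM q (conjE x) = 0 := by
  rw [conjE_double, evM_conj _ (projM_comm b)]
  constructor
  · intro h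
    have e := congrArg (fun X => (toU b).val * X * ((toU b)⁻¹ : U248).val) h
    simpa [mul_assoc] using e
  · rintro h
    simp [h]

end CfsgLib.ThPres
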