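import Cfsg.Agent.Lib.ThPres.CentQData
import Cfsg.Agent.Lib.ThPres.CentDefs
import Cfsg.Agent.Lib.ThPres.Invar

/-!
Checks for the extraspecial subgroup and the representatives of the cosets.
-/

set_option autoImplicit false

namespace CfsgLib.ThPres

open CfsgLib.CosetEnum CfsgLib.TwistTree CfsgLib.ThRep

/-- the words of all products of some generators in their order -/
def subWords : List (List ℕ) → List (List ℕ) → List (List ℕ)
  | [], acc => acc
  | q :: qs, acc => subWords qs (acc ++ acc.map (· ++ q))

/-- the elements -/
def qElts : List (List ℕ) := subWords qGens [[]]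

/-- move a packed triple by a word -/
noncomputable def actKey (k : ℕ) (w : List ℕ) : ℕ :=
  Nat.add (certL.run (Nat.mod k 4096) w)
    (Nat.add (Nat.shiftLeft (certL.run (Nat.mod (Nat.div k 4096) 4096) w) (nat_lit 12))
      (Nat.shiftLeft (certL.run (Nat.div k 16777216) w) (nat_lit 24)))

/-- pairwise distinct -/
noncomputable def distinctB : List ℕ → Bool
  | [] => true
  | a :: l => (l.all fun b => !(Nat.beq a b)) && distinctB l

/-- the keys are those of the elements, distinct, and the squares are central -/
noncomputable def qKeyOK : Bool :=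
  Nat.beq qElts.length 512 && Nat.beq qKey.length 512 && Nat.beq qGens.length 9 && (qGens.getD 0 [] == [0]) &&
    (qGens.all fun q => q.all fun g => Nat.blt g 9) &&
    (qElts.zip qKey).all fun e => (e.1.all fun g => Nat.blt g 9) && Nat.beq (keyRun e.1) e.2 &&
      (Nat.beq (actKey e.2 e.1) (keyRun []) || Nat.beq (actKey e.2 e.1) (keyRun [0]))

/-- closed under one generator -/
noncomputable def qMulOK (j : ℕ) : Bool :=
  Nat.beq (qMul.getD j []).length 512 &&
    (qKey.zip (qMul.getD j [])).all fun e => Nat.blt e.2 512 &&
      Nat.beq (actKey e.1 (qGens.getD j [])) (qKey.getD e.2 0)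

/-- conjugates of the generators by one letter -/
noncomputable def qConjOK (e : ℕ × List ℕ) : Bool :=
  Nat.blt e.1 9 && Nat.beq e.2.length qGens.length &&
    (qGens.zip e.2).all fun p => Nat.blt p.2 512 &&
      Nat.beq (keyRun (certL.inv e.1 :: p.1 ++ [e.1])) (qKey.getD p.2 0)

/-- each element but the two central ones fails to commute with its witness -/
noncomputable def qWitOK : Bool :=
  Nat.beq qWit.length 512 &&
    ((qElts.zip qWit).drop 2).all fun e => Nat.blt e.2 9 &&
      !(Nat.beq (keyRun (e.1 ++ qGens.getD e.2 [])) (keyRun (qGens.getD e.2 [] ++ e.1)))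

/-- the first two elements -/
noncomputable def qFirst : Bool :=
  (qElts.take 2 == [[], [0]]) && !(Nat.beq (keyRun []) (keyRun [0])) && Nat.beq (keyRun [0]) (qKey.getD 1 0) &&
    (qElts.all fun w => Nat.beq (keyRun (0 :: w)) (keyRun (w ++ [0])))

/-- conjugates of a generator by the last letter -/
noncomputable def qConjUOK (j : ℕ) : Bool :=
  Nat.blt (qConjU.getD j 0) 512 &&
    Nat.beq (wordMat ([10] ++ qGens.getD j [] ++ [9])) (wordMat (qElts.getD (qConjU.getD j 0) []))

/-- build the moved projections along the tree -/
noncomputable def buildReps : List (ℕ × ℕ) → List ℕ → List ℕ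
  | [], acc => acc
  | e :: l, acc => strictL (mulP (mat16 (inv11 e.2)) (mulP (acc.getD e.1 0) (mat16 e.2))) fun M =>
      buildReps l (acc ++ [M])
where
  /-- evaluate before use -/
  strictL (n : ℕ) (f : ℕ → List ℕ) : List ℕ := strict n f

/-- the representatives' words -/
def repWords : List (ℕ × ℕ) → List (List ℕ) → List (List ℕ)
  | [], acc => acc
  | e :: l, acc => repWords l (acc ++ [acc.getD e.1 [] ++ [e.2]])

/-- the representatives give distinct projections -/
noncomputable def repsOK : Bool :=
  Nat.beq repTree.length 119 && (repTree.all fun e => Nat.blt e.2 11 && !(Nat.beq e.2 1)) &&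
    distinctB (buildReps repTree [projP])

end CfsgLib.ThPres
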