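import Cfsg.Agent.Lib.ThRep.Hom

/-!
The letters of the presented Thompson group and the relators as words in them.
-/

set_option autoImplicit false

namespace CfsgLib.ThPres

open Cfsg Cfsg.Spor CfsgLib.CosetEnum CfsgLib.ThRep

/-- the formal inverse of one of the eleven letters -/
def inv11 (g : ℕ) : ℕ := [0, 1, 2, 3, 4, 6, 5, 8, 7, 10, 9].getD g g

/-- the eleven letters of the presented group -/
def tg (g : ℕ) : Th :=
  if g < 11 then PresentedGroup.mk (coxRelators Th.edges ∪ {r | r ∈ Th.extra}) (free16 g) else 1

theorem tg_mk {g : ℕ} (h : g < 11) :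
    tg g = PresentedGroup.mk (coxRelators Th.edges ∪ {r | r ∈ Th.extra}) (free16 g) := if_pos h

theorem rel_mem {x : FreeGroup Th.Gen} (h : x ∈ Th.extra) :
    PresentedGroup.mk (coxRelators Th.edges ∪ {r | r ∈ Th.extra}) x = 1 :=
  PresentedGroup.one_of_mem (Or.inr h)

theorem tg_sq {g : ℕ} (h : g < 5) : tg g * tg g = 1 := by
  rw [tg_mk (by omega), ← map_mul]
  have hm : free16 g * free16 g ∈ Th.extra := by
    interval_cases g <;> simp [free16, Th.extra, pow_two]
  exact rel_mem hm

theorem tg_inv (g : ℕ) : tg g * tg (inv11 g) = 1 := by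
  by_cases h : g < 5
  · rw [show inv11 g = g by interval_cases g <;> rfl]
    exact tg_sq h
  · by_cases h' : g < 11
    · rw [tg_mk h', tg_mk (by interval_cases g <;> decide), ← map_mul]
      interval_cases g <;> simp [inv11, free16]
    · rw [inv11, List.getD_eq_default _ _ (by simp; omega)]
      simp [tg, h']

/-- one of the eleven letters for one of the sixteen -/
def base16 (g : ℕ) : ℕ := if g < 11 then g else if g < 16 then g - 11 else g

theorem tg_base16 (g : ℕ) :
    tg (base16 g) = PresentedGroup.mk (coxRelators Th.edges ∪ {r | r ∈ Th.extra}) (free16 g) := by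
  by_cases h : g < 11
  · rw [base16, if_pos h, tg_mk h]
  · by_cases h' : g < 16
    · rw [base16, if_neg h, if_pos h', eq_inv_of_mul_eq_one_left (tg_sq (g := g - 11) (by omega)),
        tg_mk (by omega), ← map_inv]
      interval_cases g <;> rfl
    · obtain ⟨n, rfl⟩ : ∃ n, g = n + 16 := ⟨g - 16, by omega⟩
      simp [base16, tg, free16]

/-- free cancellation -/
def canon : List ℕ → List ℕ
  | [] => []
  | g :: w =>
    match canon w with
    | [] => [g]
    | k :: r => if Nat.beq k (inv11 g) then r else g :: k :: r

theorem prodW_canon : ∀ w : List ℕ, prodW tg (canon w) = prodW tg w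
  | [] => rfl
  | g :: w => by
    have ih := prodW_canon w
    rw [canon]
    cases hc : canon w with
    | nil => rw [hc, prodW_nil] at ih; rw [prodW_cons, prodW_cons, ← ih, prodW_nil]
    | cons k r =>
      rw [hc, prodW_cons] at ih
      simp only
      split
      · rename_i hk
        rw [prodW_cons, ← ih, Nat.eq_of_beq_eq_true hk, ← mul_assoc, tg_inv, one_mul]
      · rw [prodW_cons, prodW_cons, prodW_cons, ← ih]

/-- a relator as one word -/
def flat (r : List (List ℕ × ℕ)) : List ℕ :=
  r.flatMap fun f => (List.replicate f.2 f.1).flatten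

/-- the relators as words in the eleven letters -/
def relsTh : List (List ℕ) := relFactors.map fun r => canon ((flat r).map base16)

theorem prodW_flat (gen : ℕ → FreeGroup Th.Gen) : ∀ r : List (List ℕ × ℕ),
    prodW gen (flat r) = (r.map fun f => prodW gen f.1 ^ f.2).prod
  | [] => by simp [flat]
  | f :: r => by
    have hp : ∀ n, prodW gen ((List.replicate n f.1).flatten) = prodW gen f.1 ^ n := fun n => by
      induction n with
      | zero => simp
      | succ n ih => rw [List.replicate_succ, List.flatten_cons, prodW_append, ih, pow_succ']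
    rw [flat, List.flatMap_cons, prodW_append, hp, List.map_cons, List.prod_cons]
    congr 1
    exact prodW_flat gen r

theorem relTh_one : ∀ r ∈ relsTh, prodW tg r = 1 := by
  intro r hr
  obtain ⟨f, hf, rfl⟩ := List.mem_map.1 hr
  rw [prodW_canon]
  have h := rel_mem (x := facFree f) (facFree_eq ▸ List.mem_map_of_mem hf)
  rw [facFree, ← prodW_flat, map_prodW] at h
  rw [← h, prodW, prodW, List.map_map]
  exact congrArg List.prod (List.map_congr_left fun g _ => tg_base16 g)

theorem rho_tg {g : ℕ} (h : g < 11) : (rho (tg g) : U248).val = toMat 248 (letMat g) := by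
  rw [tg_mk h, rho_mk, (mat16_spec g).2, mat16, if_pos h]

end CfsgLib.ThPres
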