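import Cfsg.Agent.Lib.ThPres.CheckN
import Cfsg.Agent.Lib.ThPres.CheckE
import Cfsg.Agent.Lib.ThPres.CentAltData
import Cfsg.Agent.Lib.ThPres.Words

/-!
Checks for the quotient of the centraliser.
-/

set_option autoImplicit false
set_option Elab.async false

namespace CfsgLib.ThPres

open CfsgLib.CosetEnum

/-- the letters of the certificate as letters of the group -/
def nLet (k : ℕ) : ℕ := [0, 2, 3, 4, 5, 6, 7, 8, 9, 10].getD k 11

/-- the letters of the inner certificate as letters of the outer one -/
def eLet (k : ℕ) : ℕ := [2, 3, 4, 5, 6, 7].getD k 10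

/-- the relators with those that pair a letter with its inverse -/
def relsN : List (List ℕ) := certN.rels ++ (List.range 10).map fun g => [g, certN.inv g]

/-- an image of a point -/
def nineAt (g i : ℕ) : ℕ := (ninePts.getD (certN.inv g) []).getD i i

/-- a word at a point -/
def nineRun : List ℕ → ℕ → ℕ
  | [], i => i
  | g :: w, i => nineAt g (nineRun w i)

/-- a cycle at a point -/
def cyc3 (a b c i : ℕ) : ℕ :=
  if Nat.beq i a then b else if Nat.beq i b then c else if Nat.beq i c then a else i

/-- the table consists of permutations, the relators fix all points, the cycles are right -/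
noncomputable def nineOK : Bool :=
  ((List.range 11).all fun g => (List.range 9).all fun i =>
      Nat.blt (nineAt g i) 9 && Nat.beq (nineAt (certN.inv g) (nineAt g i)) i) &&
    (relsN.all fun r => (List.range 9).all fun i => Nat.beq (nineRun r i) i) &&
    threeWords.all fun e => (e.2.2.2.all fun g => Nat.blt g 10) &&
      (List.range 9).all fun i => Nat.beq (nineRun e.2.2.2 i) (cyc3 e.1 e.2.1 e.2.2.1 i)

/-- every cycle is in the table up to rotation -/
noncomputable def coverOK : Bool :=
  (List.range 9).all fun a => (List.range 9).all fun b => (List.range 9).all fun c =>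
    Nat.beq a b || Nat.beq b c || Nat.beq a c || threeWords.any fun e =>
      (Nat.beq e.1 a && Nat.beq e.2.1 b && Nat.beq e.2.2.1 c) ||
        (Nat.beq e.1 b && Nat.beq e.2.1 c && Nat.beq e.2.2.1 a) ||
        (Nat.beq e.1 c && Nat.beq e.2.1 a && Nat.beq e.2.2.1 b)

theorem nine_ok : nineOK = true := by decide +kernel

theorem cover_ok : coverOK = true := by decide +kernel

theorem certN_sizes : certN.K = 10 ∧ certN.N = 120 ∧ certN.subs = [[2], [3], [4], [6]] ∧
    certE.K = 6 ∧ certE.N = 1512 ∧ certE.subs = [] := by decide +kernel

theorem certN_inv : ((List.range 11).all fun g => Nat.blt (certN.inv g) 11 &&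
    Nat.beq (certN.inv (certN.inv g)) g && (Nat.beq g 10 || Nat.beq (nLet (certN.inv g)) (inv11 (nLet g)))) &&
    Nat.beq (certN.inv 10) 10 = true := by decide +kernel

theorem certE_inv : ((List.range 7).all fun g => Nat.blt (certE.inv g) 7 &&
    Nat.beq (eLet (certE.inv g)) (certN.inv (eLet g))) = true := by decide +kernel

theorem relsN_th : (certN.rels.all fun r => r.all (fun g => Nat.blt g 10) &&
    (r == [1] || relsTh.contains (r.map nLet))) = true := by decide +kernel

theorem relsE_in : (certE.rels.all fun r => relsN.contains (r.map eLet)) = true := by decide +kernel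

end CfsgLib.ThPres
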