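import Cfsg.Agent.Lib.ThPres.CentQ
import Cfsg.Agent.Lib.ThPres.CentQuotData
import Mathlib.GroupTheory.SpecificGroups.Alternating

/-!
The quotient of the centraliser of the first letter by its extraspecial subgroup is alternating.
-/

set_option autoImplicit false
set_option linter.style.haveILetI false

namespace CfsgLib.ThPres

open Cfsg.Spor CfsgLib.CosetEnum

attribute [local irreducible] certL relsN relsTh threeWords

/-- the free generators -/
def genF (k : ℕ) : FreeGroup (Fin 10) := if h : k < 10 then FreeGroup.of ⟨k, h⟩ else 1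

/-- the relators in the free group -/
def relsP : Set (FreeGroup (Fin 10)) := {x | ∃ r ∈ relsN, prodW genF r = x}

/-- the presented quotient -/
abbrev PN : Type := PresentedGroup relsP

/-- its generators -/
def gN (k : ℕ) : PN := if h : k < 10 then PresentedGroup.of ⟨k, h⟩ else 1

theorem gN_of_ge {k : ℕ} (h : 10 ≤ k) : gN k = 1 := by rw [gN, dif_neg (by omega)]

theorem gN_rel {r : List ℕ} (hr : r ∈ relsN) : prodW gN r = 1 := by
  have h := PresentedGroup.one_of_mem (rels := relsP) (x := prodW genF r) ⟨r, hr, rfl⟩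
  rw [map_prodW] at h
  refine (prodW_congr fun g _ => ?_).trans h
  by_cases hg : g < 10
  · rw [gN, genF, dif_pos hg, dif_pos hg]; rfl
  · rw [gN, genF, dif_neg hg, dif_neg hg, map_one]

theorem certN_inv_facts : certN.inv 10 = 10 ∧ ∀ g < 11, certN.inv g < 11 ∧ certN.inv (certN.inv g) = g ∧
    (g < 10 → nLet (certN.inv g) = inv11 (nLet g)) := by
  have h := certN_inv
  simp only [Bool.and_eq_true, List.all_eq_true, List.mem_range, Nat.blt_eq, Bool.or_eq_true] at h
  refine ⟨Nat.eq_of_beq_eq_true h.2, fun g hg => ⟨(h.1 g hg).1.1, Nat.eq_of_beq_eq_true (h.1 g hg).1.2,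
    fun hg' => ?_⟩⟩
  rcases (h.1 g hg).2 with e | e
  · have := Nat.eq_of_beq_eq_true e; omega
  · exact Nat.eq_of_beq_eq_true e

theorem certN_inv_ge {g : ℕ} (hg : 10 ≤ g) : certN.inv g = g := by
  have hl : certN.invs.length = 10 := by decide +kernel
  rw [Cert.inv, List.getD_eq_default _ _ (by omega)]

theorem pair_mem {g : ℕ} (hg : g < 10) : [g, certN.inv g] ∈ relsN := by
  rw [relsN, List.mem_append]
  exact Or.inr (List.mem_map.2 ⟨g, List.mem_range.2 hg, rfl⟩)

theorem gN_inv (g : ℕ) : gN g * gN (certN.inv g) = 1 := by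
  by_cases hg : g < 10
  · simpa using gN_rel (pair_mem hg)
  · rw [certN_inv_ge (by omega), gN_of_ge (by omega), one_mul]

theorem card_PN_le : Finite PN ∧ Nat.card PN ≤ 181440 := by
  obtain ⟨hNK, hNN, hNsubs, hEK, hEN, hEsubs⟩ := certN_sizes
  set gE : ℕ → PN := fun k => gN (eLet k) with hgE
  have hinvE : ∀ g, gE g * gE (certE.inv g) = 1 := fun g => by
    have h := certE_inv
    simp only [Bool.and_eq_true, List.all_eq_true, List.mem_range, Nat.blt_eq] at h
    by_cases hg : g < 7
    · simp only [gE, Nat.eq_of_beq_eq_true (h g hg).2]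
      exact gN_inv _
    · have hi : certE.inv g = g := by
        have hl : certE.invs.length = 6 := by decide +kernel
        rw [Cert.inv, List.getD_eq_default _ _ (by omega)]
      have he : eLet g = 10 := by
        rw [eLet, List.getD_eq_default]
        simp; omega
      simp only [gE, hi, he, gN_of_ge (le_refl 10), mul_one]
  have mE : Model certE (⊥ : Subgroup PN) gE :=
    { gen_K := by rw [hEK]; exact gN_of_ge (le_refl 10)
      inv_mul := hinvE
      rel := fun r hr => by
        have h := relsE_in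
        simp only [List.all_eq_true, List.contains_iff_mem] at h
        rw [show prodW gE r = prodW gN (r.map eLet) from by simp [prodW, gE, List.map_map, Function.comp_def]]
        exact gN_rel (h r hr)
      sub := fun w hw => by simp [hEsubs] at hw }
  obtain ⟨hfE, hcE⟩ := finite_card_le certE_complete mE 1 (by simp)
  set H : Subgroup PN := Subgroup.closure {y | ∃ g < certE.K, gE g = y} with hH
  have hinH : ∀ k, k < 6 → gN (eLet k) ∈ H := fun k hk =>
    Subgroup.subset_closure ⟨k, hEK.symm ▸ hk, rfl⟩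
  have mN : Model certN H gN :=
    { gen_K := by rw [hNK]; exact gN_of_ge (le_refl 10)
      inv_mul := gN_inv
      rel := fun r hr => gN_rel (by rw [relsN, List.mem_append]; exact Or.inl hr)
      sub := fun w hw => by
        rw [hNsubs] at hw
        simp only [List.mem_cons, List.not_mem_nil, or_false] at hw
        rcases hw with rfl | rfl | rfl | rfl <;> rw [prodW_single]
        exacts [hinH 0 (by norm_num), hinH 1 (by norm_num), hinH 2 (by norm_num), hinH 4 (by norm_num)] }
  haveI : Finite H := hfE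
  have hH' : Nat.card H ≤ 1512 := by rw [hEN, mul_one] at hcE; exact hcE
  obtain ⟨hf, hc⟩ := finite_card_le certN_complete mN 1512 hH'
  have htop : Subgroup.closure {y | ∃ g < certN.K, gN g = y} = (⊤ : Subgroup PN) := by
    rw [eq_top_iff, ← PresentedGroup.closure_range_of relsP, Subgroup.closure_le]
    rintro _ ⟨i, rfl⟩
    exact Subgroup.subset_closure ⟨i, hNK.symm ▸ i.2, by rw [gN, dif_pos i.2]⟩
  rw [htop] at hf hc
  haveI := hf
  refine ⟨Finite.of_equiv _ Subgroup.topEquiv.toEquiv, ?_⟩
  rw [hNN, Subgroup.card_top] at hc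
  omega

/-- the extraspecial subgroup inside the centraliser -/
noncomputable def qCent : Subgroup centA := qTh.subgroupOf centA

instance qCent_normal : qCent.Normal := Subgroup.normal_subgroupOf_of_le_normalizer mem_normalizer_qTh

theorem card_qCent : Nat.card qCent = 512 := by
  rw [qCent, Nat.card_congr (Subgroup.subgroupOfEquivOfLe qTh_le).toEquiv, card_qTh]

theorem qCent_extraspecial : Cfsg.IsExtraspecial 2 qCent := by
  haveI := finite_PT
  haveI : Finite qCent := Nat.finite_of_card_ne_zero (by rw [card_qCent]; norm_num)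
  haveI : Fact (Nat.Prime 2) := ⟨Nat.prime_two⟩
  exact CfsgLib.Extraspecial.isExtraspecial_congr
    ((qGrp.equivMapOfInjective toP toP_injective).trans (Subgroup.subgroupOfEquivOfLe qTh_le).symm)
    qGrp_extraspecial

theorem card_quot : Nat.card (centA ⧸ qCent) = 181440 := by
  have h := qCent.card_eq_card_quotient_mul_card_subgroup
  rw [card_centA, card_qCent] at h
  omega

theorem tg_nLet_mem {k : ℕ} (hk : k < 10) : tg (nLet k) ∈ centA :=
  centC_le (tg_mem_centC (by interval_cases k <;> simp [nLet, cLet]))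

/-- the generators in the centraliser -/
noncomputable def gA (k : ℕ) : centA := if h : k < 10 then ⟨tg (nLet k), tg_nLet_mem h⟩ else 1

theorem gA_word : ∀ {r : List ℕ}, (∀ g ∈ r, g < 10) → ((prodW gA r : centA) : Th) = prodW tg (r.map nLet)
  | [], _ => by simp
  | g :: r, h => by
    rw [List.map_cons, prodW_cons, prodW_cons, Subgroup.coe_mul,
      gA_word fun c hc => h c (List.mem_cons_of_mem _ hc), gA, dif_pos (h g List.mem_cons_self)]

theorem gA_rel : ∀ r ∈ relsN, prodW (fun k => (gA k : centA ⧸ qCent)) r = 1 := by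
  intro r hr
  rw [show prodW (fun k => (gA k : centA ⧸ qCent)) r = ((prodW gA r : centA) : centA ⧸ qCent) from
    (map_prodW (QuotientGroup.mk' qCent) gA r).symm, QuotientGroup.eq_one_iff]
  rw [qCent, Subgroup.mem_subgroupOf]
  rw [relsN, List.mem_append] at hr
  rcases hr with hr | hr
  · have h := relsN_th
    simp only [List.all_eq_true, Bool.and_eq_true, Nat.blt_eq, Bool.or_eq_true, beq_iff_eq,
      List.contains_iff_mem] at h
    obtain ⟨hl, h | h⟩ := h r hr
    · subst h
      rw [gA_word hl]
      refine ⟨prodW pGen [2], Subgroup.subset_closure ⟨[2], by simp [qGens], rfl⟩, ?_⟩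
      rw [toP_word (by simp)]
      rfl
    · rw [gA_word hl, relTh_one _ h]
      exact one_mem _
  · obtain ⟨g, hg, rfl⟩ := List.mem_map.1 hr
    rw [List.mem_range] at hg
    obtain ⟨h10, hi⟩ := certN_inv_facts
    obtain ⟨h1, h2, h3⟩ := hi g (by omega)
    have hlt : certN.inv g < 10 := by
      rcases Nat.lt_or_ge (certN.inv g) 10 with h | h
      · exact h
      · rw [show certN.inv g = 10 by omega, h10] at h2; omega
    rw [gA_word (by simp [hg, hlt])]
    simp only [List.map_cons, List.map_nil, prodW_cons, prodW_nil, mul_one, h3 hg, tg_inv]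
    exact one_mem _

/-- the map onto the quotient -/
noncomputable def toQuot : PN →* centA ⧸ qCent :=
  PresentedGroup.toGroup (f := fun i : Fin 10 => (gA i : centA ⧸ qCent)) (by
    rintro _ ⟨r, hr, rfl⟩
    rw [map_prodW]
    refine (prodW_congr fun g _ => ?_).trans (gA_rel r hr)
    by_cases hg : g < 10
    · rw [genF, dif_pos hg, FreeGroup.lift_apply_of]
    · rw [genF, dif_neg hg, map_one, gA, dif_neg hg, QuotientGroup.mk_one])

theorem toQuot_gen {k : ℕ} (hk : k < 10) : toQuot (gN k) = (gA k : centA ⧸ qCent) := by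
  rw [gN, dif_pos hk, toQuot, PresentedGroup.toGroup.of]

theorem toQuot_surjective : Function.Surjective toQuot := by
  set S : Subgroup centA := toQuot.range.comap (QuotientGroup.mk' qCent) with hS
  have hle : centC ≤ S.map centA.subtype := by
    rw [centC, Subgroup.closure_le]
    rintro _ ⟨g, hg, rfl⟩
    have hex : ∀ g ∈ cLet, ∃ k, k < 10 ∧ nLet k = g := by decide
    obtain ⟨k, hk10, hn⟩ := hex g hg
    refine ⟨gA k, ⟨gN k, toQuot_gen hk10⟩, ?_⟩
    rw [Subgroup.coe_subtype, gA, dif_pos hk10]
    exact congrArg tg hn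
  intro x
  induction x using QuotientGroup.induction_on with
  | _ a =>
    obtain ⟨b, hb, e⟩ := hle (show (a : Th) ∈ centC by rw [← centA_eq]; exact a.2)
    obtain rfl : b = a := Subtype.ext e
    exact hb

theorem toQuot_bijective : Function.Bijective toQuot := by
  haveI := card_PN_le.1
  exact toQuot_surjective.bijective_of_nat_card_le (card_quot ▸ card_PN_le.2)

theorem nine_facts : (∀ g < 11, ∀ i < 9, nineAt g i < 9 ∧ nineAt (certN.inv g) (nineAt g i) = i) ∧
    (∀ r ∈ relsN, ∀ i < 9, nineRun r i = i) ∧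
    ∀ e ∈ threeWords, (∀ g ∈ e.2.2.2, g < 10) ∧
      ∀ i < 9, nineRun e.2.2.2 i = cyc3 e.1 e.2.1 e.2.2.1 i := by
  have h := nine_ok
  simp only [nineOK, Bool.and_eq_true, List.all_eq_true, List.mem_range, Nat.blt_eq] at h
  exact ⟨fun g hg i hi => ⟨(h.1.1 g hg i hi).1, Nat.eq_of_beq_eq_true (h.1.1 g hg i hi).2⟩,
    fun r hr i hi => Nat.eq_of_beq_eq_true (h.1.2 r hr i hi),
    fun e he => ⟨(h.2 e he).1, fun i hi => Nat.eq_of_beq_eq_true ((h.2 e he).2 i hi)⟩⟩

/-- a letter on the nine points -/
noncomputable def nineGen (g : ℕ) : Equiv.Perm (Fin 9) :=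
  if h : g < 11 then
    { toFun := fun i => ⟨nineAt g i, (nine_facts.1 g h i i.2).1⟩
      invFun := fun i => ⟨nineAt (certN.inv g) i, (nine_facts.1 _ (certN_inv_facts.2 g h).1 i i.2).1⟩
      left_inv := fun i => Fin.ext (nine_facts.1 g h i i.2).2
      right_inv := fun i => Fin.ext (by
        have e := (nine_facts.1 _ (certN_inv_facts.2 g h).1 i i.2).2
        rwa [(certN_inv_facts.2 g h).2.1] at e) }
  else 1

theorem nineGen_word : ∀ {w : List ℕ}, (∀ g ∈ w, g < 11) → ∀ i : Fin 9,
    ((prodW nineGen w i : Fin 9) : ℕ) = nineRun w i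
  | [], _, i => rfl
  | g :: w, h, i => by
    rw [prodW_cons, Equiv.Perm.mul_apply, nineRun, ← nineGen_word (fun c hc => h c (List.mem_cons_of_mem _ hc)) i,
      nineGen, dif_pos (h g List.mem_cons_self)]
    rfl

theorem relsN_lt : ∀ r ∈ relsN, ∀ g ∈ r, g < 11 := by
  intro r hr g hg
  rw [relsN, List.mem_append] at hr
  rcases hr with hr | hr
  · have h := relsN_th
    simp only [List.all_eq_true, Bool.and_eq_true, Nat.blt_eq] at h
    exact ((h r hr).1 g hg).trans (by norm_num)
  · obtain ⟨k, hk, rfl⟩ := List.mem_map.1 hr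
    rw [List.mem_range] at hk
    simp only [List.mem_cons, List.not_mem_nil, or_false] at hg
    rcases hg with rfl | rfl
    · omega
    · exact (certN_inv_facts.2 k (by omega)).1

/-- the action on nine points -/
noncomputable def toNine : PN →* Equiv.Perm (Fin 9) :=
  PresentedGroup.toGroup (f := fun i : Fin 10 => nineGen i) (by
    rintro _ ⟨r, hr, rfl⟩
    rw [map_prodW]
    have e : prodW nineGen r = 1 := Equiv.ext fun i => Fin.ext (by
      rw [nineGen_word (relsN_lt r hr), nine_facts.2.1 r hr i i.2]; rfl)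
    refine (prodW_congr fun g _ => ?_).trans e
    by_cases hg : g < 10
    · rw [genF, dif_pos hg, FreeGroup.lift_apply_of]
    · rw [genF, dif_neg hg, map_one, nineGen]
      by_cases hg' : g < 11
      · obtain rfl : g = 10 := by omega
        rw [dif_pos hg']
        refine Equiv.ext fun i => Fin.ext ?_
        show i.val = nineAt 10 i
        rw [nineAt, certN_inv_facts.1, List.getD_eq_default ninePts _ (by decide)]
        rfl
      · rw [dif_neg hg'])

theorem three_mem {σ : Equiv.Perm (Fin 9)} (hσ : σ.IsThreeCycle) : σ ∈ toNine.range := by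
  have hpos : σ.support.Nonempty := Finset.card_pos.1 (by rw [hσ.card_support]; norm_num)
  obtain ⟨a, ha⟩ := hpos
  have hsupp := (hσ.support_eq_iff_mem_support).2 ha
  have h3 : σ (σ (σ a)) = a := by
    have h := pow_orderOf_eq_one σ
    rw [hσ.orderOf] at h
    exact congrArg (fun f : Equiv.Perm (Fin 9) => f a) h
  have hne : σ a ≠ a := Equiv.Perm.mem_support.1 ha
  have hab : σ a ≠ σ (σ a) := fun e => hne (σ.injective e.symm)
  have hac : a ≠ σ (σ a) := fun e => hne (by conv_lhs => rw [e, h3])
  have hc := cover_ok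
  simp only [coverOK, List.all_eq_true, List.mem_range, Bool.or_eq_true, List.any_eq_true,
    Bool.and_eq_true] at hc
  rcases hc a.val a.2 (σ a).val (σ a).2 (σ (σ a)).val (σ (σ a)).2 with ((h | h) | h) | ⟨e, he, hm⟩
  · exact absurd (Fin.ext (Nat.eq_of_beq_eq_true h)).symm hne
  · exact absurd (Fin.ext (Nat.eq_of_beq_eq_true h)) hab
  · exact absurd (Fin.ext (Nat.eq_of_beq_eq_true h)) hac
  obtain ⟨hl, hrun⟩ := nine_facts.2.2 e he
  refine ⟨prodW gN e.2.2.2, ?_⟩
  rw [map_prodW]
  rw [prodW_congr (gen' := nineGen) fun g hg => by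
    rw [gN, dif_pos (hl g hg), toNine, PresentedGroup.toGroup.of]]
  refine Equiv.ext fun i => Fin.ext ?_
  rw [nineGen_word (fun g hg => (hl g hg).trans (by norm_num)), hrun i i.2]
  have hout : i ≠ a → i ≠ σ a → i ≠ σ (σ a) → σ i = i := fun h1 h2 h3' => by
    refine Equiv.Perm.notMem_support.1 ?_
    rw [hsupp]
    simp [h1, h2, h3']
  have n1 : (σ a : ℕ) ≠ a := fun x => hne (Fin.ext x)
  have n2 : (σ a : ℕ) ≠ σ (σ a) := fun x => hab (Fin.ext x)
  have n3 : (a : ℕ) ≠ σ (σ a) := fun x => hac (Fin.ext x)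
  have hbeq : ∀ x y : ℕ, Nat.beq x y = true ↔ x = y := fun x y =>
    ⟨Nat.eq_of_beq_eq_true, fun h => h ▸ Nat.beq_refl x⟩
  simp only [hbeq] at hm
  simp only [cyc3, hbeq]
  by_cases i1 : i = a
  · subst i1
    rcases hm with ((hm | hm) | hm) <;> obtain ⟨⟨x, y⟩, z⟩ := hm <;> rw [x, y, z] <;>
      simp [n1, n1.symm, n2, n2.symm, n3, n3.symm]
  by_cases i2 : i = σ a
  · subst i2
    rcases hm with ((hm | hm) | hm) <;> obtain ⟨⟨x, y⟩, z⟩ := hm <;> rw [x, y, z] <;>
      simp [n1, n1.symm, n2, n2.symm, n3, n3.symm]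
  by_cases i3 : i = σ (σ a)
  · subst i3
    rcases hm with ((hm | hm) | hm) <;> obtain ⟨⟨x, y⟩, z⟩ := hm <;> rw [x, y, z, h3] <;>
      simp [n1, n1.symm, n2, n2.symm, n3, n3.symm]
  have m1 : (i : ℕ) ≠ a := fun x => i1 (Fin.ext x)
  have m2 : (i : ℕ) ≠ σ a := fun x => i2 (Fin.ext x)
  have m3 : (i : ℕ) ≠ σ (σ a) := fun x => i3 (Fin.ext x)
  rw [hout i1 i2 i3]
  rcases hm with ((hm | hm) | hm) <;> obtain ⟨⟨x, y⟩, z⟩ := hm <;> rw [x, y, z] <;> simp [m1, m2, m3]

theorem toNine_range : toNine.range = alternatingGroup (Fin 9) := by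
  haveI := card_PN_le.1
  have hle : alternatingGroup (Fin 9) ≤ toNine.range := by
    rw [← Equiv.Perm.closure_three_cycles_eq_alternating, Subgroup.closure_le]
    exact fun σ h => three_mem h
  refine (Subgroup.eq_of_le_of_card_ge hle ?_).symm
  refine (Nat.card_le_card_of_surjective _ toNine.rangeRestrict_surjective).trans ?_
  rw [nat_card_alternatingGroup, Nat.card_fin]
  exact card_PN_le.2.trans (by decide +kernel)

theorem quot_iso : Nonempty (centA ⧸ qCent ≃* alternatingGroup (Fin 9)) := by
  haveI := card_PN_le.1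
  have h : Function.Bijective toNine.rangeRestrict :=
    toNine.rangeRestrict_surjective.bijective_of_nat_card_le (by
      rw [toNine_range, nat_card_alternatingGroup, Nat.card_fin]
      exact card_PN_le.2.trans (by decide +kernel))
  exact ⟨((MulEquiv.ofBijective toQuot toQuot_bijective).symm.trans (MulEquiv.ofBijective _ h)).trans
    (MulEquiv.subgroupCongr toNine_range)⟩

end CfsgLib.ThPres
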