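import Cfsg.Agent.Lib.TwistTree.Tree

/-!
A chain of one subgroup on 2457 points.
-/

set_option autoImplicit false
set_option Elab.async false

namespace CfsgLib.ThPres
open CfsgLib.CosetEnum CfsgLib.TwistTree
open CfsgLib.TwistCoset (wOf cOK CLev cSize)

/-- part 0 of the tree of level 0 -/
noncomputable def k9Ent0P0 : List ℕ := nOf 28 71 0x50443d050045804042a20504978040097303006bc020466d040433e07044be06041f8050013c0400199030412905048470404297030053b0200433010452d0604717060032c05047d806049410500337040060b03044e205044090404478060444a05046a0040029c030017402048ec070442a070001406042470500350040410706048c3050490007044cf06049200500640040022c030488c08041a407042e606008d205044d907047090604334070495b06003550500926040447209041ca080400b07004e1060424e080446207002a906002aa0504248090476a080061b07001a9060499305006f8040008f03006a90200029010086a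

/-- the tree of level 0 -/
noncomputable def k9Ents0 : List ℕ := [k9Ent0P0].flatten

/-- the generators of level 0 -/
noncomputable def k9Gens0 : List (List ℕ) := [(wOf 25 0x2164321543645234623468121), (wOf 21 0x213215463234612346232)]

/-- the generators of level 0 as products of facts -/
def k9Wit0 : List (List (ℕ × Bool)) := [[(3911,false)], [(3912,false)]]

/-- the chain -/
noncomputable def k9Chain : List CLev :=
  [treeLev 0 k9Gens0 k9Ents0]

/-- the generators with their witnesses -/
noncomputable def k9Wits : List (List (List ℕ) × List (List (ℕ × Bool))) :=
  [(k9Gens0, k9Wit0)]

end CfsgLib.ThPres
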