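import Cfsg.Agent.Lib.ThPres.Twist
import Cfsg.Agent.Lib.ThPres.Stab9

/-!
Kernel checks of a chain of one subgroup.
-/

set_option autoImplicit false
set_option Elab.async false

namespace CfsgLib.ThPres
open CfsgLib.CosetEnum CfsgLib.TwistTree
open CfsgLib.TwistCoset (wOf cOK CLev cSize)

theorem k9_base0 : levBase certL [] 0 k9Gens0 k9Ents0 = true := by decide +kernel

theorem k9_walk0_0 : walkOK certL k9Gens0 k9Ent0P0 [0] = true := by decide +kernel

theorem k9_lev0 : levOK certL [] 0 k9Gens0 k9Ents0 = true := by
  refine levOK_of k9_base0 ?_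
  simp only [k9Ents0, List.flatten_cons, List.flatten_nil, List.append_nil]
  exact k9_walk0_0

theorem k9_len0 : k9Ents0.length = 71 := by decide +kernel

theorem k9_cOK : cOK certL [] k9Chain = true :=
  cOK_tree k9_lev0 (TwistTree.cOK_nil)

theorem k9_size : cSize k9Chain = 72 := by
  simp [k9Chain, cSize, treeLev_length, k9_len0]

theorem k9_gens : k9Chain.map CLev.gens = k9Wits.map Prod.fst := rfl

end CfsgLib.ThPres
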