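import Cfsg.Agent.Lib.ThPres.Invar
import Cfsg.Agent.Lib.TwistTree.Count

/-!
Kernel checks on the cosets of the stabiliser of two points.
-/

set_option autoImplicit false
set_option Elab.async false

namespace CfsgLib.ThPres
open CfsgLib.CosetEnum CfsgLib.ThRep CfsgLib.TwistTree

/-- the projection moved to a coset -/
noncomputable def cosMat (m : ℕ) : ℕ :=
  mulP (wordMat (tw.cosL.getD m [] ++ [9])) (mulP projP (wordMat (iw11 (tw.cosL.getD m [] ++ [9]))))

/-- no two cosets agree -/
noncomputable def cosDistOK : Bool :=
  (List.range 7).all fun m => strict (cosMat m) fun A =>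
    (List.range m).all fun m' => !(Nat.beq A (cosMat m'))

theorem cosDist : cosDistOK = true := by decide +kernel

theorem tw_cos : (tw.cosOK && tw.fixOK) = true := by decide +kernel

theorem ws_letters : ((List.range 7).all fun m => (tw.cosL.getD m []).all fun g => Nat.blt g 9) = true := by
  decide +kernel

theorem tw_sizes : (Nat.beq tw.cosL.length 7 && Nat.beq tw.ns 11) = true := by decide +kernel

end CfsgLib.ThPres
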