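import Cfsg.Agent.Lib.TwistTree.Count
import Cfsg.Agent.Lib.ThPres.Twist
import Cfsg.Agent.Lib.ThPres.TwistTree0

/-!
Kernel check of the steps out of the points of one state.
-/

set_option autoImplicit false
set_option Elab.async false

namespace CfsgLib.ThPres
open CfsgLib.CosetEnum CfsgLib.TwistTree
open CfsgLib.TwistCoset (wOf)

/-- the forest of state 0 -/
noncomputable def twForest0 : List Leaf :=
  (twTree0P0 ++ twTree0P1 ++ twTree0P2 ++ twTree0P3 ++ twTree0P4 ++ twTree0P5 ++ twTree0P6).map leafOf

/-- the counts out of state 0 -/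
noncomputable def twOut0 : List (ℕ × List ℕ × ℕ) :=
   [(1, [7], 17199)]

theorem tw_state0 : tw.stateOK 4360 0 twForest0 twOut0 = true := by decide +kernel

end CfsgLib.ThPres
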