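import Cfsg.Agent.Lib.TwistTree.Count
import Cfsg.Agent.Lib.ThPres.Twist
import Cfsg.Agent.Lib.ThPres.TwistTree1

/-!
Kernel check of the steps out of the points of one state.
-/

set_option autoImplicit false
set_option Elab.async false

namespace CfsgLib.ThPres
open CfsgLib.CosetEnum CfsgLib.TwistTree
open CfsgLib.TwistCoset (wOf)

/-- the forest of state 1 -/
noncomputable def twForest1 : List Leaf :=
  (twTree1P0 ++ twTree1P1 ++ twTree1P2 ++ twTree1P3 ++ twTree1P4 ++ twTree1P5 ++ twTree1P6).map leafOf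

/-- the counts out of state 1 -/
noncomputable def twOut1 : List (ℕ × List ℕ × ℕ) :=
   [(0, [1,0,0,0], 1),
    (2, [0,4,1,0], 480),
    (3, [0,0,6,0], 2304),
    (4, [0,0,0,1], 2048),
    (5, [0,0,0,3], 6144),
    (6, [0,0,0,3], 6144)]

theorem tw_state1 : tw.stateOK 4360 1 twForest1 twOut1 = true := by decide +kernel

end CfsgLib.ThPres
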