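import Cfsg.Agent.Lib.TwistTree.Count
import Cfsg.Agent.Lib.ThPres.Twist
import Cfsg.Agent.Lib.ThPres.TwistTree10

/-!
Kernel check of the steps out of the points of one state.
-/

set_option autoImplicit false
set_option Elab.async false

namespace CfsgLib.ThPres
open CfsgLib.CosetEnum CfsgLib.TwistTree
open CfsgLib.TwistCoset (wOf)

/-- the forest of state 10 -/
noncomputable def twForest10 : List Leaf :=
  (twTree10P0 ++ twTree10P1 ++ twTree10P2 ++ twTree10P3 ++ twTree10P4 ++ twTree10P5 ++ twTree10P6).map leafOf

/-- the counts out of state 10 -/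
noncomputable def twOut10 : List (ℕ × List ℕ × ℕ) :=
   [(3, [1,0,0,0,0], 588)]

theorem tw_state10 : tw.stateOK 4360 10 twForest10 twOut10 = true := by decide +kernel

end CfsgLib.ThPres
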