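import Cfsg.Agent.Lib.TwistTree.Count
import Cfsg.Agent.Lib.ThPres.Twist
import Cfsg.Agent.Lib.ThPres.TwistTree2

/-!
Kernel check of the steps out of the points of one state.
-/

set_option autoImplicit false
set_option Elab.async false

namespace CfsgLib.ThPres
open CfsgLib.CosetEnum CfsgLib.TwistTree
open CfsgLib.TwistCoset (wOf)

/-- the forest of state 2 -/
noncomputable def twForest2 : List Leaf :=
  (twTree2P0 ++ twTree2P1 ++ twTree2P2 ++ twTree2P3 ++ twTree2P4 ++ twTree2P5 ++ twTree2P6).map leafOf

/-- the counts out of state 2 -/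
noncomputable def twOut2 : List (ℕ × List ℕ × ℕ) :=
   [(1, [4,0,1], 180),
    (7, [0,1,0], 2304),
    (8, [0,3,0], 6912)]

theorem tw_state2 : tw.stateOK 4360 2 twForest2 twOut2 = true := by decide +kernel

end CfsgLib.ThPres
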