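import Cfsg.Agent.Lib.TwistTree.Count
import Cfsg.Agent.Lib.ThPres.Twist
import Cfsg.Agent.Lib.ThPres.TwistTree3

/-!
Kernel check of the steps out of the points of one state.
-/

set_option autoImplicit false
set_option Elab.async false

namespace CfsgLib.ThPres
open CfsgLib.CosetEnum CfsgLib.TwistTree
open CfsgLib.TwistCoset (wOf)

/-- the forest of state 3 -/
noncomputable def twForest3 : List Leaf :=
  (twTree3P0 ++ twTree3P1 ++ twTree3P2 ++ twTree3P3 ++ twTree3P4 ++ twTree3P5 ++ twTree3P6).map leafOf

/-- the counts out of state 3 -/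
noncomputable def twOut3 : List (ℕ × List ℕ × ℕ) :=
   [(1, (wOf 19 0x101), 18),
    (9, (wOf 19 0x6100010000000100000), 624),
    (10, (wOf 19 0x100000000000000), 48)]

theorem tw_state3 : tw.stateOK 4360 3 twForest3 twOut3 = true := by decide +kernel

end CfsgLib.ThPres
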