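import Cfsg.Agent.Lib.TwistTree.Count
import Cfsg.Agent.Lib.ThPres.Twist
import Cfsg.Agent.Lib.ThPres.TwistTree6

/-!
Kernel check of the steps out of the points of one state.
-/

set_option autoImplicit false
set_option Elab.async false

namespace CfsgLib.ThPres
open CfsgLib.CosetEnum CfsgLib.TwistTree
open CfsgLib.TwistCoset (wOf)

/-- the forest of state 6 -/
noncomputable def twForest6 : List Leaf :=
  (twTree6P0 ++ twTree6P1 ++ twTree6P2 ++ twTree6P3 ++ twTree6P4 ++ twTree6P5 ++ twTree6P6).map leafOf

/-- the counts out of state 6 -/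
noncomputable def twOut6 : List (ℕ × List ℕ × ℕ) :=
   [(1, (wOf 54 0x1), 9)]

theorem tw_state6 : tw.stateOK 4360 6 twForest6 twOut6 = true := by decide +kernel

end CfsgLib.ThPres
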