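import Cfsg.Agent.Lib.ThPres.Faith
import Cfsg.Agent.Lib.ThPres.CheckC

/-!
The group side of the double coset certificate in the presented Thompson group.
-/

set_option autoImplicit false

namespace CfsgLib.ThPres

open Cfsg Cfsg.Spor CfsgLib.CosetEnum CfsgLib.TwistTree CfsgLib.ThRep
open CfsgLib.TwistCoset (Act cOK cSize lettersOK lettersOK_iff)

theorem prodW_single {G : Type*} [Group G] (f : ℕ → G) (g : ℕ) : prodW f [g] = f g := by simp

/-- the formal inverse of a word -/
def iw11 (w : List ℕ) : List ℕ := (w.map inv11).reverse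

theorem prodW_iw11 : ∀ w : List ℕ, prodW tg (iw11 w) = (prodW tg w)⁻¹
  | [] => by simp [iw11]
  | c :: w => by
    have e : iw11 (c :: w) = iw11 w ++ [inv11 c] := by simp [iw11]
    rw [e, prodW_append, prodW_iw11 w, prodW_single, prodW_cons, eq_inv_of_mul_eq_one_right (tg_inv c),
      mul_inv_rev]

theorem u_sq : tg 9 * tg 9 = prodW tg [0, 2] := by
  have h := relTh_one [9, 9, 2, 0] (by decide +kernel)
  have e2 : tg 2 * tg 2 = 1 := tg_sq (by norm_num)
  have e0 : tg 0 * tg 0 = 1 := tg_sq (by norm_num)
  simp only [prodW_cons, prodW_nil, mul_one] at h ⊢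
  calc tg 9 * tg 9 = tg 9 * (tg 9 * (tg 2 * tg 0)) * (tg 0 * tg 2) := by
        simp only [mul_assoc]
        rw [← mul_assoc (tg 0) (tg 0), e0, one_mul, e2, mul_one]
    _ = tg 0 * tg 2 := by rw [h, one_mul]

theorem u_inv : tg 10 = prodW tg [9, 2, 0] := by
  have h : tg 9 * tg 10 = 1 := tg_inv 9
  rw [eq_inv_of_mul_eq_one_right h]
  refine inv_eq_of_mul_eq_one_right ?_
  have h' := relTh_one [9, 9, 2, 0] (by decide +kernel)
  simpa [prodW_cons, mul_assoc] using h'

/-- write the inverse of u without it -/
def expU (w : List ℕ) : List ℕ := w.flatMap fun g => if g == 10 then [9, 2, 0] else [g]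

theorem prodW_expU : ∀ w : List ℕ, prodW tg (expU w) = prodW tg w
  | [] => rfl
  | g :: w => by
    rw [expU, List.flatMap_cons, prodW_append, ← expU, prodW_expU w, prodW_cons]
    congr 1
    by_cases h : g = 10
    · subst h; rw [u_inv]; rfl
    · rw [if_neg (by simpa using h), prodW_single]

/-- replace the squares of u -/
def squash : List ℕ → List ℕ
  | g :: h :: w => if g == 9 && h == 9 then 0 :: 2 :: squash w else g :: squash (h :: w)
  | w => w

theorem prodW_squash : ∀ w : List ℕ, prodW tg (squash w) = prodW tg w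
  | [] => rfl
  | [_] => rfl
  | g :: h :: w => by
    rw [squash]
    split
    · rename_i e
      simp only [Bool.and_eq_true, beq_iff_eq] at e
      obtain ⟨rfl, rfl⟩ := e
      have e := u_sq
      simp only [prodW_cons, prodW_nil, mul_one] at e
      rw [prodW_cons, prodW_cons, prodW_squash w, prodW_cons, prodW_cons, ← mul_assoc, ← e, mul_assoc]
    · rw [prodW_cons, prodW_squash (h :: w)]
      simp [prodW_cons]

/-- cancel and replace, some times -/
def nfU (w : List ℕ) : List ℕ := (List.range 6).foldl (fun v _ => squash (canon v)) w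

theorem prodW_nfU (w : List ℕ) : prodW tg (nfU w) = prodW tg w := by
  unfold nfU
  induction List.range 6 generalizing w with
  | nil => rfl
  | cons i l ih => rw [List.foldl_cons, ih, prodW_squash, prodW_canon]

/-- the last relator before cancellation -/
def rawLast : List ℕ := [3, 6, 6, 9, 5, 5, 3, 6, 6, 9, 5, 5, 3, 6, 6, 9, 5, 5, 3, 6, 6, 9, 5, 5, 6, 6,
  4, 3, 2, 3, 4, 5, 5, 5, 4, 3, 2, 3, 4, 6, 3, 2, 3, 2, 0]

/-- the words equal to one from which the menus come -/
def menuRels : List (List ℕ) := relsTh ++ [rawLast]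

theorem menuRels_one : ∀ r ∈ menuRels, prodW tg r = 1 := by
  intro r hr
  rcases List.mem_append.1 hr with hr | hr
  · exact relTh_one r hr
  · rw [List.mem_singleton] at hr
    subst hr
    rw [← prodW_canon]
    exact relTh_one _ (by decide +kernel)

/-- where the words equal to u come from -/
def witE : List (ℕ × Bool × Bool × ℕ) := [(36, true, false, 2), (36, false, false, 3), (31, false, false, 2), (31, false, false, 6), (31, true, false, 4), (33, true, false, 0), (33, true, false, 7), (33, true, false, 16), (33, true, false, 25), (33, false, false, 1), (33, false, false, 10), (33, false, false, 19), (33, false, false, 28), (38, false, false, 3), (37, true, false, 4), (37, true, false, 6)]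

/-- where the words equal to one come from -/
def witS : List (ℕ × Bool × Bool × ℕ) := [(36, false, false, 0), (31, false, false, 2), (31, true, false, 4), (33, false, false, 10), (38, false, false, 3), (39, true, false, 47)]

/-- a relator or its inverse, rewritten and rotated -/
def menuRot (e : ℕ × Bool × Bool × ℕ) : List ℕ :=
  let r := expU (if e.2.1 then iw11 (menuRels.getD e.1 []) else menuRels.getD e.1 [])
  let q := if e.2.2.1 then nfU r else r
  q.drop e.2.2.2 ++ q.take e.2.2.2

theorem menuRot_one (e : ℕ × Bool × Bool × ℕ) : prodW tg (menuRot e) = 1 := by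
  have h1 : prodW tg (menuRels.getD e.1 []) = 1 := by
    by_cases h : e.1 < menuRels.length
    · rw [List.getD_eq_getElem _ _ h]
      exact menuRels_one _ (List.getElem_mem h)
    · rw [List.getD_eq_default _ _ (by omega), prodW_nil]
  unfold menuRot
  dsimp only
  generalize hr : (if e.2.1 = true then iw11 (menuRels.getD e.1 []) else menuRels.getD e.1 []) = r0
  have hr0 : prodW tg r0 = 1 := by
    rw [← hr]
    split
    · rw [prodW_iw11, h1, inv_one]
    · exact h1
  generalize hq : (if e.2.2.1 = true then nfU (expU r0) else expU r0) = q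
  have hq1 : prodW tg q = 1 := by
    rw [← hq]
    split
    · rw [prodW_nfU, prodW_expU, hr0]
    · rw [prodW_expU, hr0]
  rw [prodW_append]
  rw [← List.take_append_drop e.2.2.2 q, prodW_append] at hq1
  exact mul_eq_one_comm.mp hq1

theorem menu_checks :
    ((tw.menuE == witE.map fun e => nfU (expU (iw11 (menuRot e).tail))) &&
      (witE.all fun e => (menuRot e).head? == some 9) &&
      (tw.menuS == witS.map menuRot) &&
      ((tw.menuE ++ tw.menuS).all fun Q => Q.all fun c => Nat.ble c 9)) = true := by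
  decide +kernel

theorem prodW_twoPart {Q : List ℕ} (h : ∀ c ∈ Q, c ≤ 9) :
    prodW (fun c => if c < tw.C.K then toP (pGen c) else tg 9) Q = prodW tg Q := by
  refine prodW_congr fun c hc => ?_
  rw [tw_C, cert_sizes.2.2.2.2.2.2.1]
  by_cases h' : c < 9
  · rw [if_pos h', toP_gen h']
  · rw [if_neg h', show c = 9 by have := h c hc; omega]

theorem menuE_ok : ∀ Q ∈ tw.menuE,
    prodW (fun c => if c < tw.C.K then toP (pGen c) else tg 9) Q = tg 9 := by
  have h := menu_checks
  simp only [Bool.and_eq_true, beq_iff_eq, List.all_eq_true, Nat.ble_eq] at h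
  obtain ⟨⟨⟨hE, hEw⟩, -⟩, hlt⟩ := h
  intro Q hQ
  rw [prodW_twoPart (hlt Q (List.mem_append_left _ hQ))]
  rw [hE, List.mem_map] at hQ
  obtain ⟨e, he, rfl⟩ := hQ
  have h1 := menuRot_one e
  have h2 := hEw e he
  cases hr : menuRot e with
  | nil => simp [hr] at h2
  | cons c r =>
    simp only [hr, List.head?_cons, Option.some.injEq] at h2
    subst h2
    rw [hr, prodW_cons] at h1
    rw [List.tail_cons, prodW_nfU, prodW_expU, prodW_iw11]
    exact inv_eq_of_mul_eq_one_left h1

theorem menuS_ok : ∀ Q ∈ tw.menuS,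
    prodW (fun c => if c < tw.C.K then toP (pGen c) else tg 9) Q = 1 := by
  have h := menu_checks
  simp only [Bool.and_eq_true, beq_iff_eq, List.all_eq_true, Nat.ble_eq] at h
  obtain ⟨⟨-, hS⟩, hlt⟩ := h
  intro Q hQ
  rw [prodW_twoPart (hlt Q (List.mem_append_right _ hQ))]
  rw [hS, List.mem_map] at hQ
  obtain ⟨e, he, rfl⟩ := hQ
  exact menuRot_one e

theorem eq_sound0 {l m : List ℕ} (h : tw.eq l m = true) : prodW pGen l = prodW pGen m := by
  haveI := finite_PT
  refine pAct.eqW_sound top_cOK (card_PT.le.trans top_size.ge) ?_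
  rw [top_bases]
  exact h

/-- the letters of the centraliser certificate -/
def lmC : List ℕ := [0, 2, 3, 4, 5, 6, 7, 8, 9, 10]

/-- those letters in the Thompson group -/
def cGen (g : ℕ) : Th := if g < 10 then tg (lmC.getD g 0) else 1

theorem certC_data : (Nat.beq certC.K 10 && Nat.beq certC.invs.length 10 &&
    (certC.rels.all fun r => (r.all fun g => Nat.blt g 10) && relsTh.contains (r.map fun g => lmC.getD g 0)) &&
    ((List.range 10).all fun g => Nat.blt (certC.inv g) 10 &&
      Nat.beq (lmC.getD (certC.inv g) 0) (inv11 (lmC.getD g 0))) &&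
    (certC.subs.all fun w => w.all fun g => Nat.blt g 10 && Nat.blt (lmC.getD g 0) 9)) = true := by
  decide +kernel

theorem cModel : Model certC toP.range cGen := by
  have h := certC_data
  simp only [Bool.and_eq_true, List.all_eq_true, List.contains_iff_mem, List.mem_range, Nat.blt_eq] at h
  obtain ⟨⟨⟨⟨hK, hl⟩, hR⟩, hI⟩, hS⟩ := h
  replace hK := Nat.eq_of_beq_eq_true hK
  replace hl := Nat.eq_of_beq_eq_true hl
  refine ⟨by simp [cGen, hK], fun g => ?_, fun r hr => ?_, fun w hw => ?_⟩
  · by_cases hg : g < 10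
    · obtain ⟨h1, h2⟩ := hI g hg
      simp only [cGen, if_pos hg, if_pos h1, Nat.eq_of_beq_eq_true h2]
      exact tg_inv _
    · rw [Cert.inv, List.getD_eq_default _ _ (by omega)]
      simp [cGen, hg]
  · obtain ⟨hlt, hm⟩ := hR r hr
    rw [prodW_congr (gen := cGen) (gen' := fun g => tg (lmC.getD g 0)) fun g hg => (if_pos (hlt g hg) : cGen g = _)]
    have := relTh_one _ hm
    rwa [prodW, List.map_map] at this
  · refine Subgroup.list_prod_mem _ fun x hx => ?_
    obtain ⟨g, hg, rfl⟩ := List.mem_map.mp hx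
    obtain ⟨h1, h2⟩ := hS w hw g hg
    exact ⟨pGen (lmC.getD g 0), by rw [toP_gen h2, cGen, if_pos h1]⟩

/-- a word in the letters of the centraliser certificate -/
def toC (w : List ℕ) : List ℕ := w.map fun g => lmC.findIdx (fun k => Nat.beq k g)

/-- the check of one pair -/
noncomputable def pairOK (e : List ℕ × List ℕ) : Bool :=
  strict (wordMat ([10] ++ e.1 ++ [9])) (fun A => Nat.beq A (wordMat e.2)) &&
    (e.1.all fun g => Nat.blt g 9) && (e.2.all fun g => Nat.blt g 9) &&
    (([10] ++ e.1 ++ [9]).all fun g => lmC.contains g) &&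
    Nat.beq (certC.run 0 (toC ([10] ++ e.1 ++ [9]))) 0

theorem pair_spec {e : List ℕ × List ℕ} (h : pairOK e = true) :
    toP (prodW pGen e.1) * tg 9 = tg 9 * toP (prodW pGen e.2) := by
  simp only [pairOK, Bool.and_eq_true, List.all_eq_true, Nat.blt_eq, List.contains_iff_mem, strict_eq] at h
  obtain ⟨⟨⟨⟨hm, h1⟩, h2⟩, hc⟩, hrun⟩ := h
  have hlet : ∀ g, g ∈ lmC → lmC.findIdx (fun k => Nat.beq k g) < 10 ∧
      cGen (lmC.findIdx fun k => Nat.beq k g) = tg g := by
    intro g hg
    have hx : lmC.findIdx (fun k => Nat.beq k g) < lmC.length :=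
      List.findIdx_lt_length.2 ⟨g, hg, by simp⟩
    refine ⟨hx, ?_⟩
    rw [cGen, if_pos (show _ < 10 from hx), List.getD_eq_getElem _ _ hx]
    exact congrArg tg (Nat.eq_of_beq_eq_true (List.findIdx_getElem (w := hx)))
  have hK : certC.K = 10 := by decide +kernel
  have hmem : prodW cGen (toC ([10] ++ e.1 ++ [9])) ∈ toP.range := by
    refine mem_of_run_eq_zero certC_complete cModel (fun g hg => ?_) (Nat.eq_of_beq_eq_true hrun)
    obtain ⟨k, hk, rfl⟩ := List.mem_map.1 hg
    rw [hK]
    exact (hlet k (hc k hk)).1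
  have e1 : prodW cGen (toC ([10] ++ e.1 ++ [9])) = prodW tg ([10] ++ e.1 ++ [9]) := by
    rw [toC, prodW, List.map_map]
    exact congrArg List.prod (List.map_congr_left fun g hg => (hlet g (hc g hg)).2)
  rw [e1] at hmem
  obtain ⟨x, hx⟩ := hmem
  have hlt : ∀ g ∈ [10] ++ e.1 ++ [9], g < 11 := fun g hg => by
    simp only [List.mem_append, List.mem_singleton] at hg
    rcases hg with (rfl | hg) | rfl
    · norm_num
    · exact (h1 g hg).trans (by norm_num)
    · norm_num
  have hxe : x = prodW pGen e.2 := toU_injective (Units.ext (by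
    simp only [toU, MonoidHom.comp_apply]
    rw [hx, toP_word h2, (rho_word hlt).2, (rho_word fun g hg => (h2 g hg).trans (by norm_num)).2,
      Nat.eq_of_beq_eq_true hm]))
  subst hxe
  rw [hx, toP_word h1, prodW_append, prodW_append, prodW_single, prodW_single]
  have h10 : tg 9 * tg 10 = 1 := tg_inv 9
  simp only [← mul_assoc, h10, one_mul]

theorem twist_checks : ((tw.U.take 6).all pairOK && Nat.beq tw.U.length 7 &&
    (tw.U.getD 6 ([], []) == ([1, 0, 2, 1], [1, 0, 2, 1, 4])) &&
    relsTh.contains [10, 1, 2, 0, 1, 9, 1, 0, 2, 1, 4]) = true := by decide +kernel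

theorem twist_U : ∀ e ∈ tw.U, toP (prodW pGen e.1) * tg 9 = tg 9 * toP (prodW pGen e.2) := by
  have h := twist_checks
  simp only [Bool.and_eq_true, List.all_eq_true, beq_iff_eq, List.contains_iff_mem] at h
  obtain ⟨⟨⟨h6, hlen⟩, hy⟩, hrel⟩ := h
  intro e he
  rw [← List.take_append_drop 6 tw.U, List.mem_append] at he
  rcases he with he | he
  · exact pair_spec (h6 e he)
  · have hd : tw.U.drop 6 = [tw.U.getD 6 ([], [])] := by
      have hlen' := Nat.eq_of_beq_eq_true hlen
      rw [List.getD_eq_getElem _ _ (by omega), List.drop_eq_getElem_cons (by omega),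
        List.drop_eq_nil_of_le (by omega)]
    rw [hd, List.mem_singleton, hy] at he
    subst he
    rw [toP_word (by decide), toP_word (by decide)]
    have hr := relTh_one _ hrel
    rw [show ([10, 1, 2, 0, 1, 9, 1, 0, 2, 1, 4] : List ℕ) =
      [10] ++ ([1, 2, 0, 1] ++ ([9] ++ [1, 0, 2, 1, 4])) from rfl, prodW_append, prodW_append,
      prodW_append, prodW_single, prodW_single] at hr
    have hy : prodW tg [1, 0, 2, 1] = (prodW tg [1, 2, 0, 1])⁻¹ := (prodW_iw11 [1, 2, 0, 1])
    have h10 : tg 10 = (tg 9)⁻¹ := eq_inv_of_mul_eq_one_right (tg_inv 9)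
    rw [h10] at hr
    rw [hy]
    have := congrArg (fun x => (prodW tg [1, 2, 0, 1])⁻¹ * tg 9 * x) hr
    simpa [mul_assoc] using this.symm

theorem gen_top : Subgroup.closure (insert (tg 9) (toP.range : Set Th)) = ⊤ := by
  rw [eq_top_iff, ← PresentedGroup.closure_range_of, Subgroup.closure_le]
  rintro _ ⟨i, rfl⟩
  have hP : ∀ g < 9, tg g ∈ Subgroup.closure (insert (tg 9) (toP.range : Set Th)) := fun g hg =>
    Subgroup.subset_closure (Set.mem_insert_of_mem _ ⟨pGen g, toP_gen hg⟩)
  cases i
  exacts [hP 0 (by norm_num), hP 1 (by norm_num), hP 2 (by norm_num), hP 3 (by norm_num),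
    hP 4 (by norm_num), hP 5 (by norm_num), hP 7 (by norm_num),
    Subgroup.subset_closure (Set.mem_insert _ _)]

theorem fix_zero : ∀ w, (∀ g ∈ w, g < tw.C.K) → tw.C.run 0 w = 0 →
    prodW pGen w ∈ Subgroup.closure {y | ∃ x ∈ tw.pgens, prodW pGen x = y} := by
  intro w hw h0
  have hsub : certL.subs = tw.pgens := by decide +kernel
  have hK : certL.K = 9 := cert_sizes.2.2.2.2.2.2.1
  have hgen : ∀ g < certL.K, genIn certL lmT g = pGen g := fun g hg => by
    rw [genIn, if_pos hg]
    rw [hK] at hg
    interval_cases g <;> rfl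
  have hs := maps_ok
  simp only [Bool.and_eq_true] at hs
  have hl : (certL.subs.all fun v => v.all fun g => Nat.blt g certL.K) = true := by decide +kernel
  simp only [List.all_eq_true, Nat.blt_eq] at hl
  have m : Model certL (Subgroup.closure {y | ∃ x ∈ tw.pgens, prodW pGen x = y}) (genIn certL lmT) :=
    model_in hs.1.1.1.2 fun v hv => by
      rw [prodW_congr fun g hg => hgen g (hl v hv g hg)]
      exact Subgroup.subset_closure ⟨v, hsub ▸ hv, rfl⟩
  rw [← prodW_congr fun g hg => hgen g (hw g hg)]
  exact mem_of_run_eq_zero certL_complete m hw h0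

/-- the group side -/
theorem rig : TRig tw pGen toP toP.range (tg 9) where
  inv_mul := pAct.inv_mul
  inv_lt := pAct.inv_lt
  eq_sound _ _ := eq_sound0
  H_eq := rfl
  gen_top := gen_top
  gen0_top := by rw [tw_C, cert_sizes.2.2.2.2.2.2.1]; exact closure_pGen
  twist := twist_U
  t_sq := by
    rw [u_sq, show tw.sq = [0, 2] from rfl, toP_word (by decide)]
  menuE := menuE_ok
  menuS := menuS_ok
  par0 := by decide +kernel
  fixZero := fix_zero
  run_cong u w hu hw e := by
    rw [tw_C] at hu hw ⊢
    have h1 := pAct.apply u hu pt0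
    have h2 := pAct.apply w hw pt0
    rw [e, h2] at h1
    exact h1.symm

end CfsgLib.ThPres
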