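import Cfsg.Agent.Lib.ThPres.TwistDefs

/-!
Kernel check of one block of facts.
-/

set_option autoImplicit false
set_option Elab.async false

namespace CfsgLib.ThPres
open CfsgLib.CosetEnum CfsgLib.TwistTree

theorem tw_facts12 : allUp factOK' 8 (12 * 2 ^ 8) = true := by decide +kernel

end CfsgLib.ThPres
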