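import Cfsg.Agent.Lib.ThPres.TwistDefs

/-!
Kernel check of the orbits of one state.
-/

set_option autoImplicit false
set_option Elab.async false

namespace CfsgLib.ThPres
open CfsgLib.CosetEnum CfsgLib.TwistTree

theorem tw_root9_0 : allUp (rootOK' 9) 6 (0 * 2 ^ 6) = true := by decide +kernel

end CfsgLib.ThPres
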