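import Cfsg.Agent.Lib.ThPres.TwistFactCheck0
import Cfsg.Agent.Lib.ThPres.TwistFactCheck1
import Cfsg.Agent.Lib.ThPres.TwistFactCheck2
import Cfsg.Agent.Lib.ThPres.TwistFactCheck3
import Cfsg.Agent.Lib.ThPres.TwistFactCheck4
import Cfsg.Agent.Lib.ThPres.TwistFactCheck5
import Cfsg.Agent.Lib.ThPres.TwistFactCheck6
import Cfsg.Agent.Lib.ThPres.TwistFactCheck7
import Cfsg.Agent.Lib.ThPres.TwistFactCheck8
import Cfsg.Agent.Lib.ThPres.TwistFactCheck9
import Cfsg.Agent.Lib.ThPres.TwistFactCheck10
import Cfsg.Agent.Lib.ThPres.TwistFactCheck11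
import Cfsg.Agent.Lib.ThPres.TwistFactCheck12
import Cfsg.Agent.Lib.ThPres.TwistFactCheck13
import Cfsg.Agent.Lib.ThPres.TwistFactCheck14
import Cfsg.Agent.Lib.ThPres.TwistFactCheck15
import Cfsg.Agent.Lib.ThPres.TwistFactCheck16
import Cfsg.Agent.Lib.ThPres.TwistFactCheck17
import Cfsg.Agent.Lib.ThPres.TwistRootCheck0
import Cfsg.Agent.Lib.ThPres.TwistRootCheck1
import Cfsg.Agent.Lib.ThPres.TwistRootCheck2
import Cfsg.Agent.Lib.ThPres.TwistRootCheck3
import Cfsg.Agent.Lib.ThPres.TwistRootCheck4
import Cfsg.Agent.Lib.ThPres.TwistRootCheck5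
import Cfsg.Agent.Lib.ThPres.TwistRootCheck6
import Cfsg.Agent.Lib.ThPres.TwistRootCheck7
import Cfsg.Agent.Lib.ThPres.TwistRootCheck8
import Cfsg.Agent.Lib.ThPres.TwistRootCheck9
import Cfsg.Agent.Lib.ThPres.TwistRootCheck10
import Cfsg.Agent.Lib.CosetEnum.Chunks
import Cfsg.Agent.Lib.ThPres.Rig

/-!
All facts and roots hold.
-/

set_option autoImplicit false

namespace CfsgLib.ThPres
open CfsgLib.CosetEnum CfsgLib.TwistTree

theorem facts_ok : ∀ n < 4360, tw.factOK n = true := by
  intro n hn
  have h := allUp_blocks (f := factOK') (k := 8) (n := 18) (fun j hj => by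
    match j, hj with
    | 0, _ => exact tw_facts0
    | 1, _ => exact tw_facts1
    | 2, _ => exact tw_facts2
    | 3, _ => exact tw_facts3
    | 4, _ => exact tw_facts4
    | 5, _ => exact tw_facts5
    | 6, _ => exact tw_facts6
    | 7, _ => exact tw_facts7
    | 8, _ => exact tw_facts8
    | 9, _ => exact tw_facts9
    | 10, _ => exact tw_facts10
    | 11, _ => exact tw_facts11
    | 12, _ => exact tw_facts12
    | 13, _ => exact tw_facts13
    | 14, _ => exact tw_facts14
    | 15, _ => exact tw_facts15
    | 16, _ => exact tw_facts16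
    | 17, _ => exact tw_facts17
    | j + 18, h => omega) n (by omega)
  rwa [factOK', show Nat.blt n 4360 = true from by rw [Nat.blt_eq]; exact hn, pick_true] at h

theorem roots_ok : ∀ i < tw.ns, tw.rootsOK 4360 i = true := by
  intro i hi
  simp only [TData.rootsOK, List.all_eq_true, List.mem_range]
  intro r hr
  suffices h : rootOK' i r = true by
    rwa [rootOK', show Nat.blt r (tw.nroots.getD i 0) = true from by rw [Nat.blt_eq]; exact hr, pick_true] at h
  match i, hi with
  | 0, _ =>
    refine allUp_blocks (f := rootOK' 0) (k := 0) (n := 1) (fun j hj => by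
      match j, hj with
      | 0, _ => exact tw_root0_0
      | j + 1, h => omega) r ?_
    change r < 1 at hr
    omega
  | 1, _ =>
    refine allUp_blocks (f := rootOK' 1) (k := 2) (n := 1) (fun j hj => by
      match j, hj with
      | 0, _ => exact tw_root1_0
      | j + 1, h => omega) r ?_
    change r < 4 at hr
    omega
  | 2, _ =>
    refine allUp_blocks (f := rootOK' 2) (k := 2) (n := 1) (fun j hj => by
      match j, hj with
      | 0, _ => exact tw_root2_0
      | j + 1, h => omega) r ?_
    change r < 3 at hr
    omega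
  | 3, _ =>
    refine allUp_blocks (f := rootOK' 3) (k := 5) (n := 1) (fun j hj => by
      match j, hj with
      | 0, _ => exact tw_root3_0
      | j + 1, h => omega) r ?_
    change r < 19 at hr
    omega
  | 4, _ =>
    refine allUp_blocks (f := rootOK' 4) (k := 4) (n := 1) (fun j hj => by
      match j, hj with
      | 0, _ => exact tw_root4_0
      | j + 1, h => omega) r ?_
    change r < 11 at hr
    omega
  | 5, _ =>
    refine allUp_blocks (f := rootOK' 5) (k := 6) (n := 7) (fun j hj => by
      match j, hj with
      | 0, _ => exact tw_root5_0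
      | 1, _ => exact tw_root5_1
      | 2, _ => exact tw_root5_2
      | 3, _ => exact tw_root5_3
      | 4, _ => exact tw_root5_4
      | 5, _ => exact tw_root5_5
      | 6, _ => exact tw_root5_6
      | j + 7, h => omega) r ?_
    change r < 425 at hr
    omega
  | 6, _ =>
    refine allUp_blocks (f := rootOK' 6) (k := 6) (n := 1) (fun j hj => by
      match j, hj with
      | 0, _ => exact tw_root6_0
      | j + 1, h => omega) r ?_
    change r < 54 at hr
    omega
  | 7, _ =>
    refine allUp_blocks (f := rootOK' 7) (k := 5) (n := 1) (fun j hj => by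
      match j, hj with
      | 0, _ => exact tw_root7_0
      | j + 1, h => omega) r ?_
    change r < 26 at hr
    omega
  | 8, _ =>
    refine allUp_blocks (f := rootOK' 8) (k := 6) (n := 1) (fun j hj => by
      match j, hj with
      | 0, _ => exact tw_root8_0
      | j + 1, h => omega) r ?_
    change r < 39 at hr
    omega
  | 9, _ =>
    refine allUp_blocks (f := rootOK' 9) (k := 6) (n := 1) (fun j hj => by
      match j, hj with
      | 0, _ => exact tw_root9_0
      | j + 1, h => omega) r ?_
    change r < 45 at hr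
    omega
  | 10, _ =>
    refine allUp_blocks (f := rootOK' 10) (k := 3) (n := 1) (fun j hj => by
      match j, hj with
      | 0, _ => exact tw_root10_0
      | j + 1, h => omega) r ?_
    change r < 5 at hr
    omega
  | i + 11, h => change i + 11 < 11 at h; omega

end CfsgLib.ThPres
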