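import Cfsg.Agent.Lib.ThPres.Twist
import Cfsg.Agent.Lib.ThPres.Stab0

/-!
Kernel checks of a chain of one subgroup.
-/

set_option autoImplicit false
set_option Elab.async false

namespace CfsgLib.ThPres
open CfsgLib.CosetEnum CfsgLib.TwistTree
open CfsgLib.TwistCoset (wOf cOK CLev cSize)

theorem top_base0 : levBase certL [] 0 topGens0 topEnts0 = true := by decide +kernel

theorem top_walk0_0 : walkStep certL topGens0 topEnt0P0 [0] [2157,1669,1281,612,605,352,104,93,43,42,13,12,7,3,2,0] = true := by decide +kernel

theorem top_walk0_1 : walkStep certL topGens0 topEnt0P1 [2157,1669,1281,612,605,352,104,93,43,42,13,12,7,3,2,0] [355,159,99,98,51,42,13,12,7,3,2,0] = true := by decide +kernel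

theorem top_walk0_2 : walkStep certL topGens0 topEnt0P2 [355,159,99,98,51,42,13,12,7,3,2,0] [63,62,46,28,12,7,3,2,0] = true := by decide +kernel

theorem top_walk0_3 : walkStep certL topGens0 topEnt0P3 [63,62,46,28,12,7,3,2,0] [2193,2131,1362,1371,1524,606,351,114,102,37,36,15,8,4,2,0] = true := by decide +kernel

theorem top_walk0_4 : walkStep certL topGens0 topEnt0P4 [2193,2131,1362,1371,1524,606,351,114,102,37,36,15,8,4,2,0] [2103,2104,1591,872,533,545,173,102,37,36,15,8,4,2,0] = true := by decide +kernel

theorem top_walk0_5 : walkStep certL topGens0 topEnt0P5 [2103,2104,1591,872,533,545,173,102,37,36,15,8,4,2,0] [2065,1882,1881,783,734,701,217,106,103,31,32,16,8,4,2,0] = true := by decide +kernel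

theorem top_walk0_6 : walkStep certL topGens0 topEnt0P6 [2065,1882,1881,783,734,701,217,106,103,31,32,16,8,4,2,0] [1091,697,331,207,206,64,31,32,16,8,4,2,0] = true := by decide +kernel

theorem top_walk0_7 : walkStep certL topGens0 topEnt0P7 [1091,697,331,207,206,64,31,32,16,8,4,2,0] [278,287,135,58,39,16,8,4,2,0] = true := by decide +kernel

theorem top_walk0_8 : walkOK certL topGens0 topEnt0P8 [278,287,135,58,39,16,8,4,2,0] = true := by decide +kernel

theorem top_lev0 : levOK certL [] 0 topGens0 topEnts0 = true := by
  refine levOK_of top_base0 ?_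
  simp only [topEnts0, List.flatten_cons, List.flatten_nil, List.append_nil]
  exact walkStep_append top_walk0_0 (walkStep_append top_walk0_1 (walkStep_append top_walk0_2 (walkStep_append top_walk0_3 (walkStep_append top_walk0_4 (walkStep_append top_walk0_5 (walkStep_append top_walk0_6 (walkStep_append top_walk0_7 (top_walk0_8))))))))

theorem top_len0 : topEnts0.length = 2456 := by decide +kernel

theorem top_base1 : levBase certL [0] 4 topGens1 topEnts1 = true := by decide +kernel

theorem top_walk1_0 : walkStep certL topGens1 topEnt1P0 [4] [584,161,71,35,14,7,4] = true := by decide +kernel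

theorem top_walk1_1 : walkStep certL topGens1 topEnt1P1 [584,161,71,35,14,7,4] [1934,893,407,663,228,68,38,39,16,8,4] = true := by decide +kernel

theorem top_walk1_2 : walkStep certL topGens1 topEnt1P2 [1934,893,407,663,228,68,38,39,16,8,4] [1285,1127,353,303,176,93,30,16,8,4] = true := by decide +kernel

theorem top_walk1_3 : walkStep certL topGens1 topEnt1P3 [1285,1127,353,303,176,93,30,16,8,4] [2350,600,185,121,255,190,90,18,19,6,4] = true := by decide +kernel

theorem top_walk1_4 : walkStep certL topGens1 topEnt1P4 [2350,600,185,121,255,190,90,18,19,6,4] [2340,1957,1658,913,309,206,64,65,19,6,4] = true := by decide +kernel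

theorem top_walk1_5 : walkStep certL topGens1 topEnt1P5 [2340,1957,1658,913,309,206,64,65,19,6,4] [2213,1002,1003,995,533,545,173,102,31,32,6,4] = true := by decide +kernel

theorem top_walk1_6 : walkOK certL topGens1 topEnt1P6 [2213,1002,1003,995,533,545,173,102,31,32,6,4] = true := by decide +kernel

theorem top_lev1 : levOK certL [0] 4 topGens1 topEnts1 = true := by
  refine levOK_of top_base1 ?_
  simp only [topEnts1, List.flatten_cons, List.flatten_nil, List.append_nil]
  exact walkStep_append top_walk1_0 (walkStep_append top_walk1_1 (walkStep_append top_walk1_2 (walkStep_append top_walk1_3 (walkStep_append top_walk1_4 (walkStep_append top_walk1_5 (top_walk1_6))))))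

theorem top_len1 : topEnts1.length = 2047 := by decide +kernel

theorem top_base2 : levBase certL [4,0] 77 topGens2 topEnts2 = true := by decide +kernel

theorem top_walk2_0 : walkOK certL topGens2 topEnt2P0 [77] = true := by decide +kernel

theorem top_lev2 : levOK certL [4,0] 77 topGens2 topEnts2 = true := by
  refine levOK_of top_base2 ?_
  simp only [topEnts2, List.flatten_cons, List.flatten_nil, List.append_nil]
  exact top_walk2_0

theorem top_len2 : topEnts2.length = 125 := by decide +kernel

theorem top_cOK : cOK certL [] topChain = true :=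
  cOK_tree top_lev0 (cOK_tree top_lev1 (cOK_tree top_lev2 (TwistTree.cOK_nil)))

theorem top_size : cSize topChain = 634023936 := by
  simp [topChain, cSize, treeLev_length, top_len0, top_len1, top_len2]

theorem top_bases : topChain.map CLev.base = tw.B := rfl

end CfsgLib.ThPres
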