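import Cfsg.Agent.Lib.ThPres.PGroup
import Cfsg.Agent.Lib.ThPres.SubOrbits
import Cfsg.Agent.Lib.ThPres.StabCheck0

/-!
The order of the presented subgroup and its faithfulness in the matrices of degree 248.
-/

set_option autoImplicit false

namespace CfsgLib.ThPres

open Cfsg Cfsg.Spor CfsgLib.CosetEnum CfsgLib.TwistTree CfsgLib.ThRep
open CfsgLib.TwistCoset (Act cOK cSize lettersOK lettersOK_iff newFrom newFrom_spec)

theorem tw_C : tw.C = certL := rfl

theorem card_PT : Nat.card PT = 634023936 := by
  haveI := finite_PT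
  refine le_antisymm card_PT_le.2 ?_
  have h := pAct.card_ge (K := (⊤ : Subgroup PT)) top_cOK fun _ _ _ _ => trivial
  rwa [top_size, Subgroup.card_top] at h

theorem exists_pWord (x : PT) : ∃ w : List ℕ, (∀ g ∈ w, g < certL.K) ∧ prodW pGen w = x := by
  have hK : certL.K = 9 := cert_sizes.2.2.2.2.2.2.1
  have hx : x ∈ Subgroup.closure {y | ∃ g < 9, pGen g = y} := by rw [closure_pGen]; trivial
  induction hx using Subgroup.closure_induction_right with
  | one => exact ⟨[], by simp, rfl⟩
  | mul_right a _ b hb ih =>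
    obtain ⟨g, hg, rfl⟩ := hb
    obtain ⟨w, hw, rfl⟩ := ih
    exact ⟨w ++ [g], List.forall_mem_append.2 ⟨hw, by simp [hK, hg]⟩, by simp [prodW_append, prodW_cons]⟩
  | mul_inv_cancel a _ b hb ih =>
    obtain ⟨g, hg, rfl⟩ := hb
    obtain ⟨w, hw, rfl⟩ := ih
    refine ⟨w ++ [inv11 g], List.forall_mem_append.2 ⟨hw, ?_⟩, ?_⟩
    · simp only [List.mem_singleton, forall_eq, hK]
      interval_cases g <;> decide
    · rw [prodW_append, prodW_cons, prodW_nil, mul_one, eq_inv_of_mul_eq_one_right (pGen_inv g)]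

/-- the base point -/
def pt0 : Fin certL.N := ⟨0, certL_complete.N_pos⟩

/-- the action as a homomorphism -/
noncomputable def pPerm : PT →* Equiv.Perm (Fin certL.N) where
  toFun x := (pAct.ψ x).unop⁻¹
  map_one' := by simp
  map_mul' x y := by simp [mul_inv_rev]

theorem pPerm_word {w : List ℕ} (hw : ∀ g ∈ w, g < certL.K) (p : Fin certL.N) :
    ((pPerm (prodW pGen w))⁻¹ p : ℕ) = certL.run p w := by
  change ((pAct.ψ (prodW pGen w)).unop⁻¹⁻¹ p : ℕ) = _
  rw [inv_inv, pAct.apply w hw]

theorem pPerm_eq_one {x : PT} (h : ∀ p, pPerm x p = p) : x = 1 := by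
  haveI := finite_PT
  obtain ⟨w, hw, rfl⟩ := exists_pWord x
  rw [← prodW_nil pGen]
  refine pAct.eqW_sound top_cOK (card_PT_le.2.trans top_size.ge) ?_
  simp only [TwistCoset.Act.eqW, Bool.and_eq_true, lettersOK_iff, List.all_eq_true]
  refine ⟨⟨hw, by simp⟩, fun b hb => ?_⟩
  have hbN : b < certL.N := by
    have h2 : (tw.B.all fun b => Nat.blt b certL.N) = true := by decide +kernel
    rw [top_bases] at hb
    simpa using List.all_eq_true.1 h2 b hb
  have e := pPerm_word hw ⟨b, hbN⟩
  rw [show (pPerm (prodW pGen w))⁻¹ ⟨b, hbN⟩ = ⟨b, hbN⟩ by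
    rw [Equiv.Perm.inv_eq_iff_eq, h]] at e
  rw [Cert.run_nil]
  exact Nat.beq_eq ▸ e.symm

theorem lev_spec {prev : List ℕ} {b : ℕ} {gens : List (List ℕ)} {ents : List ℕ}
    (h : levOK certL prev b gens ents = true) :
    b < certL.N ∧ (∀ g ∈ gens, (∀ c ∈ g, c < certL.K) ∧ ∀ q ∈ prev, certL.run q g = q) ∧
      (b :: ents.map entPt).Nodup ∧
      ∀ q ∈ b :: ents.map entPt, ∃ path, certL.run b (TwistCoset.pathWord gens path) = q := by
  have hc := cOK_tree h (cOK_nil (C := certL))
  simp only [TwistCoset.cOK, Bool.and_eq_true, List.all_eq_true, Nat.blt_eq, lettersOK_iff] at hc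
  obtain ⟨⟨⟨⟨hb, hg⟩, hpt⟩, hnew⟩, -⟩ := hc
  have hl : (treeLev b gens ents).orbit.map Prod.fst = b :: ents.map entPt := by
    rw [treeLev, List.map_cons, expand_fst]
  refine ⟨hb, fun g hgm => ⟨(hg g hgm).1, fun q hq => Nat.eq_of_beq_eq_true ((hg g hgm).2 q hq)⟩,
    hl ▸ (newFrom_spec hnew).1, fun q hq => ?_⟩
  rw [← hl, List.mem_map] at hq
  obtain ⟨e, he, rfl⟩ := hq
  exact ⟨e.2, Nat.eq_of_beq_eq_true (hpt e he)⟩

theorem transitive_pt (p : Fin certL.N) : ∃ x : PT, pPerm x pt0 = p := by
  obtain ⟨-, hg, hnd, hrun⟩ := lev_spec top_lev0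
  have hlen : (0 :: topEnts0.map entPt).length = certL.N := by
    rw [List.length_cons, List.length_map, top_len0, cert_sizes.2.2.2.2.2.2.2.1]
  have hlt : ∀ q ∈ 0 :: topEnts0.map entPt, q < certL.N := fun q hq => by
    obtain ⟨path, rfl⟩ := hrun q hq
    exact certL_action.run_lt certL_complete.N_pos (TwistCoset.Act.pathWord_lt (fun g h => (hg g h).1) path)
  have hall : ∀ q < certL.N, q ∈ 0 :: topEnts0.map entPt := by
    intro q hq
    have hsub : (0 :: topEnts0.map entPt).toFinset ⊆ Finset.range certL.N := fun x hx =>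
      Finset.mem_range.2 (hlt x (List.mem_toFinset.1 hx))
    have he := Finset.eq_of_subset_of_card_le hsub
      (by rw [Finset.card_range, List.toFinset_card_of_nodup hnd, hlen])
    exact List.mem_toFinset.1 (he ▸ Finset.mem_range.2 hq)
  obtain ⟨path, e⟩ := hrun p (hall p p.2)
  refine ⟨(prodW pGen (TwistCoset.pathWord topGens0 path))⁻¹, ?_⟩
  rw [map_inv]
  exact Fin.ext ((pPerm_word (TwistCoset.Act.pathWord_lt (fun g h => (hg g h).1) path) pt0).trans e)

theorem subOrb_lev : ((List.range 3).all fun j =>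
    levOK certL [0] (subOrbRep.getD j 0) tw.pgens ([subOrb0, subOrb1, subOrb2].getD j [])) = true := by
  decide +kernel

theorem subOrb_cover : (newFrom (0 :: (List.range 3).flatMap fun j =>
    subOrbRep.getD j 0 :: ([subOrb0, subOrb1, subOrb2].getD j []).map entPt) 0 &&
    ((List.range 3).map fun j => ([subOrb0, subOrb1, subOrb2].getD j []).length + 1) == [24, 384, 2048]) = true := by
  decide +kernel

/-- orbit `j` of the stabiliser of the first point -/
noncomputable def orbSet (j : ℕ) : List ℕ := subOrbRep.getD j 0 :: ([subOrb0, subOrb1, subOrb2].getD j []).map entPt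

theorem word13_ok : (tw.eq ((List.replicate 13 word13).flatten) [] &&
    !(Nat.beq (wordMat word13) oneP) && lettersOK certL word13) = true := by decide +kernel

theorem toMat_inj {A B : ℕ} (hA : Good 248 A) (hB : Good 248 B) (h : toMat 248 A = toMat 248 B) :
    A = B := by
  refine eq_of_lanes hA.1 hB.1 fun k hk => ?_
  have e := congrFun (congrFun h ⟨k / 248, by omega⟩) ⟨k % 248, by omega⟩
  simp only [toMat, Nat.div_add_mod] at e
  have h1 := hA.2 k
  have h2 := hB.2 k
  rw [ZMod.natCast_eq_natCast_iff, Nat.ModEq] at e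
  omega

/-- the map to the matrices -/
noncomputable def toU : PT →* U248 := rho.comp toP

theorem rho_word {w : List ℕ} (hw : ∀ g ∈ w, g < 11) :
    Good 248 (wordMat w) ∧ (rho (prodW tg w) : U248).val = toMat 248 (wordMat w) := by
  refine ⟨(wordMat_spec w).1, ?_⟩
  rw [← (wordMat_spec w).2, map_prodW, map_prodW]
  exact congrArg Units.val (prodW_congr fun g hg => by rw [tg_mk (hw g hg), rho_mk])

theorem orderOf_word13 : prodW pGen word13 ^ 13 = 1 ∧ toU (prodW pGen word13) ≠ 1 := by
  have h := word13_ok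
  simp only [Bool.and_eq_true, Bool.not_eq_true', lettersOK_iff] at h
  obtain ⟨⟨h1, h2⟩, h3⟩ := h
  have hK : certL.K = 9 := cert_sizes.2.2.2.2.2.2.1
  haveI := finite_PT
  constructor
  · have e := pAct.eqW_sound top_cOK (card_PT_le.2.trans top_size.ge)
      (l := (List.replicate 13 word13).flatten) (m := []) (by rw [top_bases]; exact h1)
    rw [pow_succ', pow_succ', pow_succ', pow_succ', pow_succ', pow_succ', pow_succ', pow_succ', pow_succ', pow_succ', pow_succ', pow_succ', pow_one]
    simpa [prodW, List.map_flatten, List.prod_flatten, List.replicate] using e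
  · intro e
    rw [toU, MonoidHom.comp_apply, toP_word fun g hg => hK ▸ h3 g hg] at e
    obtain ⟨g1, g2⟩ := rho_word (w := word13) fun g hg => (hK ▸ h3 g hg).trans (by norm_num)
    rw [e, Units.val_one, ← oneP_spec.2] at g2
    rw [toMat_inj g1 oneP_spec.1 g2.symm] at h2
    simp at h2

theorem thirteen_dvd_normal (K : Subgroup PT) [hKn : K.Normal] (hK : K ≠ ⊥) : 13 ∣ Nat.card K := by
  haveI := finite_PT
  let f : K →* Equiv.Perm (Fin certL.N) := pPerm.comp K.subtype
  letI : MulAction K (Fin certL.N) := MulAction.compHom _ f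
  have hsm : ∀ (k : K) (p : Fin certL.N), k • p = pPerm k.1 p := fun _ _ => rfl
  have hO : ∀ q : Fin certL.N, q ∈ MulAction.orbit K pt0 →
      ∀ w : List ℕ, (∀ g ∈ w, g < certL.K) → certL.run 0 w = 0 →
      ∀ r : Fin certL.N, (r : ℕ) = certL.run q w → r ∈ MulAction.orbit K pt0 := by
    rintro q ⟨k, rfl⟩ w hw h0 r hr
    have hn : (prodW pGen w)⁻¹ * k.1 * (prodW pGen w)⁻¹⁻¹ ∈ K :=
      hKn.conj_mem _ k.2 _
    refine ⟨⟨_, hn⟩, ?_⟩
    show (⟨_, hn⟩ : K) • pt0 = r
    have hfix : (pPerm (prodW pGen w))⁻¹ pt0 = pt0 := Fin.ext ((pPerm_word hw pt0).trans h0)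
    rw [hsm]
    simp only [inv_inv]
    rw [map_mul, map_mul, map_inv, Equiv.Perm.mul_apply, Equiv.Perm.mul_apply,
      show pPerm (prodW pGen w) pt0 = pt0 by rw [← Equiv.Perm.eq_inv_iff_eq, hfix]]
    exact Fin.ext ((pPerm_word hw _).trans hr.symm)
  by_cases hone : ∀ k : K, pPerm k.1 pt0 = pt0
  · exfalso
    refine hK ((Subgroup.eq_bot_iff_forall K).2 fun x hx => ?_)
    refine pPerm_eq_one fun p => ?_
    obtain ⟨y, rfl⟩ := transitive_pt p
    have h := hone ⟨_, hKn.conj_mem x hx y⁻¹⟩
    simp only [inv_inv, map_mul, map_inv, Equiv.Perm.mul_apply, Equiv.Perm.inv_eq_iff_eq] at h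
    exact h
  · push_neg at hone
    obtain ⟨k0, hk0⟩ := hone
    have hlev := subOrb_lev
    simp only [List.all_eq_true, List.mem_range] at hlev
    have hcov := subOrb_cover
    simp only [Bool.and_eq_true, beq_iff_eq] at hcov
    obtain ⟨hnew, hlens⟩ := hcov
    have hnd := (newFrom_spec hnew).1
    change (0 :: (List.range 3).flatMap orbSet).Nodup at hnd
    have hpg : ∀ g ∈ tw.pgens, (∀ c ∈ g, c < certL.K) ∧ certL.run 0 g = 0 := fun g hg =>
      ⟨((lev_spec (hlev 0 (by norm_num))).2.1 g hg).1,
        ((lev_spec (hlev 0 (by norm_num))).2.1 g hg).2 0 List.mem_cons_self⟩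
    have hpath : ∀ path, (∀ c ∈ TwistCoset.pathWord tw.pgens path, c < certL.K) ∧
        certL.run 0 (TwistCoset.pathWord tw.pgens path) = 0 := by
      intro path
      refine ⟨TwistCoset.Act.pathWord_lt (fun g h => (hpg g h).1) path, ?_⟩
      induction path with
      | nil => exact Cert.run_nil _ 0
      | cons i path ih =>
        rw [TwistCoset.pathWord, List.flatMap_cons, run_append]
        by_cases hi : i < tw.pgens.length
        · rw [List.getD_eq_getElem _ _ hi, (hpg _ (List.getElem_mem hi)).2]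
          exact ih
        · rw [List.getD_eq_default _ _ (by omega), Cert.run_nil]
          exact ih
    have hlt : ∀ j < 3, ∀ q ∈ orbSet j, q < certL.N := fun j hj q hq => by
      obtain ⟨hb, -, -, hr⟩ := lev_spec (hlev j hj)
      obtain ⟨path, rfl⟩ := hr q hq
      exact certL_action.run_lt hb (hpath path).1
    -- an orbit of the stabiliser that meets the orbit of the kernel lies in it
    have hall : ∀ j < 3, ∀ q (hq : q < certL.N), q ∈ orbSet j →
        (⟨q, hq⟩ : Fin certL.N) ∈ MulAction.orbit K pt0 →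
        ∀ r (hr : r < certL.N), r ∈ orbSet j → (⟨r, hr⟩ : Fin certL.N) ∈ MulAction.orbit K pt0 := by
      intro j hj q hq hqj hqO r hr hrj
      obtain ⟨hb, -, -, hrun⟩ := lev_spec (hlev j hj)
      obtain ⟨pq, epq⟩ := hrun q hqj
      obtain ⟨pr, epr⟩ := hrun r hrj
      have hw := (hpath pq).1
      have hrev := TwistCoset.Act.revInv_lt hw pAct
      have hback : ∀ x, x < certL.N →
          certL.run (certL.run x (TwistCoset.pathWord tw.pgens pq))
            (certL.revInv (TwistCoset.pathWord tw.pgens pq)) = x := fun x hx => by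
        rw [← run_append, ← pAct.apply _ (List.forall_mem_append.2 ⟨hw, hrev⟩) ⟨x, hx⟩, prodW_append,
          pAct.revInv_eq, mul_inv_cancel, map_one]
        rfl
      have hrep : (⟨subOrbRep.getD j 0, hb⟩ : Fin certL.N) ∈ MulAction.orbit K pt0 := by
        refine hO _ hqO _ hrev ?_ _ ?_
        · conv_lhs => rw [← (hpath pq).2]
          exact hback 0 certL_complete.N_pos
        · change _ = certL.run q _
          rw [← epq, hback _ hb]
      exact hO _ hrep _ (hpath pr).1 (hpath pr).2 _ epr.symm
    -- the size of the orbit of the kernel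
    classical
    haveI : Fintype K := Fintype.ofFinite _
    let O : Finset ℕ := ((MulAction.orbit K pt0).toFinset).map Fin.valEmbedding
    have hO0 : ∀ q, q ∈ O ↔ ∃ h : q < certL.N, (⟨q, h⟩ : Fin certL.N) ∈ MulAction.orbit K pt0 := by
      intro q
      simp only [O, Finset.mem_map, Set.mem_toFinset, Fin.valEmbedding_apply]
      exact ⟨fun ⟨p, hp, e⟩ => e ▸ ⟨p.2, hp⟩, fun ⟨h, hp⟩ => ⟨_, hp, rfl⟩⟩
    have hdvd : O.card ∣ Nat.card K := by
      rw [Finset.card_map, Set.toFinset_card, Nat.card_eq_fintype_card,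
        ← MulAction.card_orbit_mul_card_stabilizer_eq_card_group K pt0]
      exact Dvd.intro _ rfl
    let a : ℕ → ℕ := fun j => if (orbSet j).toFinset ⊆ O then (orbSet j).length else 0
    have hcount : O.card = 1 + (a 0 + a 1 + a 2) := by
      have hp : ∀ j < 3, ((orbSet j).toFinset ∩ O).card = a j ∧ (orbSet j).Nodup := by
        intro j hj
        have hn : (orbSet j).Nodup :=
          ((List.nodup_flatMap.1 (List.nodup_cons.1 hnd).2).1 j (List.mem_range.2 hj))
        refine ⟨?_, hn⟩
        by_cases hs : (orbSet j).toFinset ⊆ O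
        · rw [Finset.inter_eq_left.2 hs, List.toFinset_card_of_nodup hn]
          exact (if_pos hs).symm
        · rw [show a j = 0 from if_neg hs, Finset.card_eq_zero, Finset.eq_empty_iff_forall_notMem]
          intro q hq
          obtain ⟨hqj, hqO⟩ := Finset.mem_inter.1 hq
          obtain ⟨hqN, hqO'⟩ := (hO0 q).1 hqO
          exact hs fun r hr => (hO0 r).2 ⟨hlt j hj r (List.mem_toFinset.1 hr),
            hall j hj q hqN (List.mem_toFinset.1 hqj) hqO' r _ (List.mem_toFinset.1 hr)⟩
      have hcover : (0 :: (List.range 3).flatMap orbSet).toFinset = Finset.range certL.N := by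
        refine Finset.eq_of_subset_of_card_le (fun q hq => Finset.mem_range.2 ?_) ?_
        · rcases List.mem_cons.1 (List.mem_toFinset.1 hq) with rfl | hq
          · exact certL_complete.N_pos
          · obtain ⟨j, hj, hqj⟩ := List.mem_flatMap.1 hq
            exact hlt j (List.mem_range.1 hj) q hqj
        · rw [Finset.card_range, List.toFinset_card_of_nodup hnd, cert_sizes.2.2.2.2.2.2.2.1,
            List.length_cons, List.length_flatMap]
          have e : ((List.range 3).map fun j => (orbSet j).length) = [24, 384, 2048] := by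
            rw [← hlens]
            simp [orbSet]
          rw [e]
          rfl
      have hsplit : (List.range 3).flatMap orbSet = orbSet 0 ++ (orbSet 1 ++ orbSet 2) := by
        simp [List.range_succ]
      rw [hsplit] at hcover hnd
      obtain ⟨h0n, hrest⟩ := List.nodup_cons.1 hnd
      obtain ⟨n0, n12, d0⟩ := List.nodup_append'.1 hrest
      obtain ⟨n1, n2, d1⟩ := List.nodup_append'.1 n12
      have h0O : 0 ∈ O := (hO0 0).2 ⟨_, MulAction.mem_orbit_self pt0⟩
      have hdec : O = insert 0 (((orbSet 0).toFinset ∩ O) ∪ (((orbSet 1).toFinset ∩ O) ∪ ((orbSet 2).toFinset ∩ O))) := by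
        ext q
        simp only [Finset.mem_insert, Finset.mem_union, Finset.mem_inter, List.mem_toFinset]
        constructor
        · intro hq
          have : q ∈ (0 :: (orbSet 0 ++ (orbSet 1 ++ orbSet 2))).toFinset := by
            rw [hcover]; exact Finset.mem_range.2 ((hO0 q).1 hq).1
          simp only [List.mem_toFinset, List.mem_cons, List.mem_append] at this
          rcases this with h | h | h | h
          exacts [Or.inl h, Or.inr (Or.inl ⟨h, hq⟩), Or.inr (Or.inr (Or.inl ⟨h, hq⟩)),
            Or.inr (Or.inr (Or.inr ⟨h, hq⟩))]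
        · rintro (rfl | h | h | h)
          exacts [h0O, h.2, h.2, h.2]
      have dis12 : Disjoint ((orbSet 1).toFinset ∩ O) ((orbSet 2).toFinset ∩ O) :=
        Finset.disjoint_left.2 fun q h1 h2 => d1 (List.mem_toFinset.1 (Finset.mem_inter.1 h1).1)
          (List.mem_toFinset.1 (Finset.mem_inter.1 h2).1)
      have dis0 : Disjoint ((orbSet 0).toFinset ∩ O)
          (((orbSet 1).toFinset ∩ O) ∪ ((orbSet 2).toFinset ∩ O)) :=
        Finset.disjoint_left.2 fun q h1 h2 => d0 (List.mem_toFinset.1 (Finset.mem_inter.1 h1).1)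
          (by
            rcases Finset.mem_union.1 h2 with h2 | h2
            · exact List.mem_append_left _ (List.mem_toFinset.1 (Finset.mem_inter.1 h2).1)
            · exact List.mem_append_right _ (List.mem_toFinset.1 (Finset.mem_inter.1 h2).1))
      conv_lhs => rw [hdec]
      rw [Finset.card_insert_of_notMem, Finset.card_union_of_disjoint dis0,
        Finset.card_union_of_disjoint dis12, (hp 0 (by norm_num)).1, (hp 1 (by norm_num)).1,
        (hp 2 (by norm_num)).1]
      · omega
      · intro h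
        simp only [Finset.mem_union, Finset.mem_inter, List.mem_toFinset] at h
        refine h0n ?_
        simp only [List.mem_append]
        rcases h with h | h | h
        exacts [Or.inl h.1, Or.inr (Or.inl h.1), Or.inr (Or.inr h.1)]
    have hgt : 1 < O.card := by
      refine Finset.one_lt_card.2 ⟨0, (hO0 0).2 ⟨_, MulAction.mem_orbit_self pt0⟩,
        (pPerm k0.1 pt0 : ℕ), (hO0 _).2 ⟨_, ⟨k0, rfl⟩⟩, fun e => hk0 (Fin.ext e.symm)⟩
    have hlen : (orbSet 0).length = 24 ∧ (orbSet 1).length = 384 ∧ (orbSet 2).length = 2048 := by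
      have e : ((List.range 3).map fun j => (orbSet j).length) = [24, 384, 2048] := by
        rw [← hlens]
        simp [orbSet]
      simpa [List.range_succ] using e
    have hP : Nat.card K * K.index = 634023936 := by
      rw [Subgroup.card_mul_index, card_PT]
    have h13 : 13 ∣ O.card := by
      have h1 : O.card ∣ 634023936 := hdvd.trans ⟨_, hP.symm⟩
      have ha0 : a 0 = 0 ∨ a 0 = 24 := by
        simp only [a]; split <;> simp [hlen.1]
      have ha1 : a 1 = 0 ∨ a 1 = 384 := by
        simp only [a]; split <;> simp [hlen.2.1]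
      have ha2 : a 2 = 0 ∨ a 2 = 2048 := by
        simp only [a]; split <;> simp [hlen.2.2]
      rw [hcount] at h1 hgt ⊢
      rcases ha0 with e0 | e0 <;> rcases ha1 with e1 | e1 <;> rcases ha2 with e2 | e2 <;>
        simp [e0, e1, e2] at h1 hgt ⊢ <;> norm_num at h1 ⊢
    exact h13.trans hdvd

theorem toU_injective : Function.Injective toU := by
  haveI := finite_PT
  rw [← MonoidHom.ker_eq_bot_iff]
  by_contra hne
  have h := thirteen_dvd_normal toU.ker hne
  have hP : Nat.card toU.ker * Nat.card toU.range = 634023936 := by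
    rw [← card_PT, ← Subgroup.index_ker, Subgroup.card_mul_index]
  obtain ⟨e1, e2⟩ := orderOf_word13
  haveI : Fact (Nat.Prime 13) := ⟨by norm_num⟩
  have ho : orderOf (toU (prodW pGen word13)) = 13 :=
    orderOf_eq_prime (by rw [← map_pow, e1, map_one]) e2
  have h13r : 13 ∣ Nat.card toU.range := by
    have := orderOf_dvd_natCard (⟨_, prodW pGen word13, rfl⟩ : toU.range)
    rwa [← Subgroup.orderOf_coe, ho] at this
  have h169 : 13 * 13 ∣ 634023936 := hP ▸ Nat.mul_dvd_mul h h13r
  norm_num at h169

end CfsgLib.ThPres
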