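import Cfsg.Agent.Lib.ThPres.Orbits
import Cfsg.Agent.Lib.ThPres.CountCheck0
import Cfsg.Agent.Lib.ThPres.CountCheck1
import Cfsg.Agent.Lib.ThPres.CountCheck2
import Cfsg.Agent.Lib.ThPres.CountCheck3
import Cfsg.Agent.Lib.ThPres.CountCheck4
import Cfsg.Agent.Lib.ThPres.CountCheck5
import Cfsg.Agent.Lib.ThPres.CountCheck6
import Cfsg.Agent.Lib.ThPres.CountCheck7
import Cfsg.Agent.Lib.ThPres.CountCheck8
import Cfsg.Agent.Lib.ThPres.CountCheck9
import Cfsg.Agent.Lib.ThPres.CountCheck10

/-!
The sizes of the orbits and the index of the stabiliser.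
-/

set_option autoImplicit false

namespace CfsgLib.ThPres

open Cfsg.Spor CfsgLib.CosetEnum CfsgLib.TwistTree

theorem fix_ok : tw.cosOK = true ∧ tw.fixOK = true := by simpa using tw_cos

theorem run_lt' : ∀ w, (∀ g ∈ w, g < tw.C.K) → tw.C.run 0 w < tw.C.N := fun w hw => by
  rw [tw_C] at hw ⊢
  have h := pAct.apply w hw pt0
  change _ = certL.run 0 _ at h
  rw [← h]
  exact Fin.isLt _

/-- the forest of a state -/
noncomputable def forest : List (List Leaf) := [twForest0, twForest1, twForest2, twForest3, twForest4,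
  twForest5, twForest6, twForest7, twForest8, twForest9, twForest10]

/-- the counts out of a state -/
noncomputable def outs : List (List (ℕ × List ℕ × ℕ)) :=
  [twOut0, twOut1, twOut2, twOut3, twOut4, twOut5, twOut6, twOut7, twOut8, twOut9, twOut10]

theorem state_ok : ∀ i < 11, tw.stateOK 4360 i (forest.getD i []) (outs.getD i []) = true := by
  intro i hi
  match i, hi with
  | 0, _ => exact tw_state0
  | 1, _ => exact tw_state1
  | 2, _ => exact tw_state2
  | 3, _ => exact tw_state3
  | 4, _ => exact tw_state4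
  | 5, _ => exact tw_state5
  | 6, _ => exact tw_state6
  | 7, _ => exact tw_state7
  | 8, _ => exact tw_state8
  | 9, _ => exact tw_state9
  | 10, _ => exact tw_state10
  | i + 11, h => omega

theorem moves_card {i : ℕ} (hi : i < 11) {j : ℕ} {w : List ℕ} {v : ℕ} (hj : j < 11)
    (hmem : (j, w, v) ∈ outs.getD i []) :
    Nat.card (TData.moves rig i j) = v * Nat.card (tw.Lgrp pGen) := by
  haveI := finite_PT
  have h := state_ok i hi
  rw [TData.stateOK, Bool.and_eq_true, List.all_eq_true] at h
  rw [TData.card_moves rig fix_ok.1 fix_ok.2 holds roots_ok cos_inj orb_inj run_lt' hi h.1 hj,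
    TData.cnt_eq rig (roots_ok i hi) (e := (j, w, v)) (h.2 _ hmem)]

/-- two neighbouring states -/
theorem orb_step {i j a b : ℕ} (hi : i < 11) (hj : j < 11)
    (ha : ∃ w, (j, w, a) ∈ outs.getD i []) (hb : ∃ w, (i, w, b) ∈ outs.getD j []) :
    Nat.card (TData.orb rig i) * a = Nat.card (TData.orb rig j) * b := by
  haveI := finite_PT
  obtain ⟨w, hw⟩ := ha
  obtain ⟨w', hw'⟩ := hb
  exact TData.orbit_ratio rig (moves_card hi hj hw) (moves_card hj hi hw')

/-- the entry of a state in a table of counts -/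
def hasOut (l : List (ℕ × List ℕ × ℕ)) (j v : ℕ) : Bool := l.any fun e => Nat.beq e.1 j && Nat.beq e.2.2 v

theorem hasOut_spec {l : List (ℕ × List ℕ × ℕ)} {j v : ℕ} (h : hasOut l j v = true) :
    ∃ w, (j, w, v) ∈ l := by
  simp only [hasOut, List.any_eq_true, Bool.and_eq_true] at h
  obtain ⟨⟨a, w, b⟩, hm, h1, h2⟩ := h
  obtain rfl := Nat.eq_of_beq_eq_true h1
  obtain rfl := Nat.eq_of_beq_eq_true h2
  exact ⟨w, hm⟩

/-- the sizes of the orbits -/
def orbSizes : List ℕ := [1, 17199, 45864, 2201472, 1304576, 105670656, 11741184, 5031936, 8128512,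
  8805888, 179712]

/-- the tree of states with its counts -/
def orbTree : List (ℕ × ℕ × ℕ × ℕ) := [(0, 1, 17199, 1), (1, 2, 480, 180), (1, 3, 2304, 18),
  (1, 4, 2048, 27), (1, 5, 6144, 1), (1, 6, 6144, 9), (2, 7, 2304, 21), (2, 8, 6912, 39),
  (3, 9, 624, 156), (3, 10, 48, 588)]

theorem orbTree_ok : (orbTree.all fun e => Nat.blt e.1 11 && Nat.blt e.2.1 11 &&
    hasOut (outs.getD e.1 []) e.2.1 e.2.2.1 && hasOut (outs.getD e.2.1 []) e.1 e.2.2.2 &&
    Nat.beq (orbSizes.getD e.1 0 * e.2.2.1) (orbSizes.getD e.2.1 0 * e.2.2.2) &&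
    Nat.blt 0 e.2.2.2) = true := by decide +kernel

theorem tree_step {i j a b : ℕ} (h : (i, j, a, b) ∈ orbTree)
    (hi : Nat.card (TData.orb rig i) = orbSizes.getD i 0) :
    Nat.card (TData.orb rig j) = orbSizes.getD j 0 := by
  have e := List.all_eq_true.1 orbTree_ok _ h
  simp only [Bool.and_eq_true, Nat.blt_eq] at e
  obtain ⟨⟨⟨⟨⟨h1, h2⟩, h3⟩, h4⟩, h5⟩, h6⟩ := e
  have hs := orb_step h1 h2 (hasOut_spec h3) (hasOut_spec h4)
  rw [hi, Nat.eq_of_beq_eq_true h5] at hs
  exact (Nat.eq_of_mul_eq_mul_right h6 hs).symm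

theorem orb_card : ∀ i < 11, Nat.card (TData.orb rig i) = orbSizes.getD i 0 := by
  haveI := finite_PT
  have h0 : Nat.card (TData.orb rig 0) = orbSizes.getD 0 0 := by
    rw [TData.card_orb, TData.stb_zero, Subgroup.index_top]
    rfl
  have h1 := tree_step (i := 0) (j := 1) (a := 17199) (b := 1) (by simp [orbTree]) h0
  have h2 := tree_step (i := 1) (j := 2) (a := 480) (b := 180) (by simp [orbTree]) h1
  have h3 := tree_step (i := 1) (j := 3) (a := 2304) (b := 18) (by simp [orbTree]) h1
  intro i hi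
  match i, hi with
  | 0, _ => exact h0
  | 1, _ => exact h1
  | 2, _ => exact h2
  | 3, _ => exact h3
  | 4, _ => exact tree_step (i := 1) (a := 2048) (b := 27) (by simp [orbTree]) h1
  | 5, _ => exact tree_step (i := 1) (a := 6144) (b := 1) (by simp [orbTree]) h1
  | 6, _ => exact tree_step (i := 1) (a := 6144) (b := 9) (by simp [orbTree]) h1
  | 7, _ => exact tree_step (i := 2) (a := 2304) (b := 21) (by simp [orbTree]) h2
  | 8, _ => exact tree_step (i := 2) (a := 6912) (b := 39) (by simp [orbTree]) h2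
  | 9, _ => exact tree_step (i := 3) (a := 624) (b := 156) (by simp [orbTree]) h3
  | 10, _ => exact tree_step (i := 3) (a := 48) (b := 588) (by simp [orbTree]) h3
  | i + 11, h => omega

theorem toCoset_surj : Function.Surjective (TData.toCoset rig holds) := by
  haveI := finite_PT
  refine TData.toCoset_surjective rig fix_ok.1 holds (show 0 < 11 by norm_num) roots_ok (fun i hi => ?_) run_lt'
  have h := state_ok i hi
  rw [TData.stateOK, Bool.and_eq_true] at h
  exact TData.reach_of_colOK rig h.1

theorem index_toP : toP.range.index = 143127000 := by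
  haveI := finite_PT
  rw [TData.index_eq_sum holds toCoset_surj, show Finset.range tw.ns = Finset.range 11 from rfl,
    Finset.sum_congr rfl fun i hi => ?_, show ∑ i ∈ Finset.range 11, orbSizes.getD i 0 = 143127000 from rfl]
  have hi' := Finset.mem_range.1 hi
  rw [TData.newCard, if_neg, orb_card i hi']
  rintro ⟨j, hj, e⟩
  exact absurd (orb_inj j (hj.trans hi') i hi' e) hj.ne

theorem toP_injective : Function.Injective toP :=
  Function.Injective.of_comp (f := CfsgLib.ThRep.rho) toU_injective

theorem card_Th : Nat.card Th = 90745943887872000 := by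
  rw [← Subgroup.card_mul_index toP.range, index_toP,
    Nat.card_congr (MonoidHom.ofInjective toP_injective).toEquiv.symm, card_PT]

end CfsgLib.ThPres
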