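import Cfsg.Agent.Lib.ThPres.InvarDefs

/-!
Kernel check of the invariants of one double coset.
-/

set_option autoImplicit false
set_option Elab.async false

namespace CfsgLib.ThPres

theorem invar2 : invOK 2 [(0, false), (2, true)] = true := by decide +kernel

end CfsgLib.ThPres
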