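import Cfsg.Agent.Lib.ThPres.Invar
import Cfsg.Agent.Lib.ThPres.InvarData

/-!
The check of the invariants of one double coset.
-/

set_option autoImplicit false

namespace CfsgLib.ThPres
open CfsgLib.CosetEnum

/-- trace and polynomial tests of state `i` -/
noncomputable def invOK (i : ℕ) (ts : List (ℕ × Bool)) : Bool :=
  strict (invMat (wsWord.getD i [])) fun M =>
    Nat.beq (traceP M) (traces.getD i 0) &&
      ts.all fun e => Nat.beq (evQ (polys.getD e.1 []) M) 0 == e.2

end CfsgLib.ThPres
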