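import Cfsg.Agent.Lib.ThPres.Facts
import Cfsg.Agent.Lib.ThPres.CosCheck
import Cfsg.Agent.Lib.ThPres.InvarCheck0
import Cfsg.Agent.Lib.ThPres.InvarCheck1
import Cfsg.Agent.Lib.ThPres.InvarCheck2
import Cfsg.Agent.Lib.ThPres.InvarCheck3
import Cfsg.Agent.Lib.ThPres.InvarCheck4
import Cfsg.Agent.Lib.ThPres.InvarCheck5
import Cfsg.Agent.Lib.ThPres.InvarCheck6
import Cfsg.Agent.Lib.ThPres.InvarCheck7
import Cfsg.Agent.Lib.ThPres.InvarCheck8
import Cfsg.Agent.Lib.ThPres.InvarCheck9
import Cfsg.Agent.Lib.ThPres.InvarCheck10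
import Cfsg.Agent.Lib.CosetEnum.Act

/-!
The eleven double cosets are distinct, and so are the seven cosets behind the second.
-/

set_option autoImplicit false

namespace CfsgLib.ThPres

open Cfsg.Spor CfsgLib.CosetEnum CfsgLib.TwistTree CfsgLib.ThRep

theorem holds : ∀ f < 4360, TData.Holds rig (tw.fct f) := TData.facts_holds rig facts_ok

theorem wsWord_ok : ((List.range 11).all fun j =>
    ((wsWord.getD j []).all fun g => Nat.blt g 11) &&
      (tw.par.getD j (j, [])).2.all (fun g => Nat.blt g 9) &&
      if (tw.par.getD j (j, [])).1 < j then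
        wsWord.getD j [] == wsWord.getD (tw.par.getD j (j, [])).1 [] ++ (tw.par.getD j (j, [])).2 ++ [9]
      else wsWord.getD j [] == []) = true := by decide +kernel

theorem wst_word : ∀ j < 11, TData.wst rig j = prodW tg (wsWord.getD j []) := by
  have h := wsWord_ok
  simp only [List.all_eq_true, List.mem_range, Bool.and_eq_true, Nat.blt_eq] at h
  intro j
  induction j using Nat.strong_induction_on with
  | _ j ih =>
    intro hj
    obtain ⟨⟨-, hg⟩, he⟩ := h j hj
    rw [TData.wst]
    by_cases hp : (tw.par.getD j (j, [])).1 < j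
    · rw [if_pos hp, beq_iff_eq] at he
      rw [dif_pos hp, he, ih _ hp (hp.trans hj), TData.ev, toP_word hg, prodW_append, prodW_append,
        prodW_single]
    · rw [if_neg hp, beq_iff_eq] at he
      rw [dif_neg hp, he, prodW_nil]

theorem ws_lt {j : ℕ} (hj : j < 11) : ∀ g ∈ wsWord.getD j [], g < 11 := by
  have h := wsWord_ok
  simp only [List.all_eq_true, List.mem_range, Bool.and_eq_true, Nat.blt_eq] at h
  exact (h j hj).1.1

/-- the invariants of one state -/
theorem state_inv {i : ℕ} (hi : i < 11) {ts : List (ℕ × Bool)} (h : invOK i ts = true) :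
    (conjE (TData.wst rig i)).trace = (traces.getD i 0 : ZMod 3) ∧
      ∀ e ∈ ts, evM (polys.getD e.1 []) (conjE (TData.wst rig i)) = 0 ↔ e.2 = true := by
  rw [invOK, strict_eq, Bool.and_eq_true] at h
  obtain ⟨hg, he⟩ := invMat_spec (ws_lt hi)
  rw [← wst_word i hi] at he
  refine ⟨by rw [← he, traceP_spec, Nat.eq_of_beq_eq_true h.1], fun e hm => ?_⟩
  have h2 := beq_iff_eq.1 (List.all_eq_true.1 h.2 e hm)
  have hq : ((List.range 11).all fun k => (polys.getD k []).all fun c => Nat.ble c 2) = true := by
    decide +kernel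
  have hc : ∀ c ∈ polys.getD e.1 [], c ≤ 2 := by
    by_cases hk : e.1 < 11
    · simp only [List.all_eq_true, List.mem_range, Nat.ble_eq] at hq
      exact hq _ hk
    · rw [List.getD_eq_default _ _ (show polys.length ≤ e.1 by change 11 ≤ e.1; omega)]
      simp
  obtain ⟨g1, e1⟩ := evQ_spec hg hc
  rw [← he, ← e1, ← h2]
  constructor
  · intro hz
    rw [toMat_inj g1 zero_good.1 (hz.trans zero_good.2.symm)]
    rfl
  · intro hb
    rw [Nat.eq_of_beq_eq_true hb, zero_good.2]

/-- what is known of one state: the trace, and whether a polynomial vanishes -/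
def sigs : List (List (ℕ × Bool)) := [[(0, true)], [(1, true)], [(0, false), (2, true)],
  [(10, false), (3, true)], [(0, false), (2, false), (4, true)], [(10, false), (3, false), (9, false)],
  [(0, false), (2, false), (4, false)], [(1, false), (7, true)], [(1, false), (7, false)],
  [(10, false), (3, false), (9, true)], [(10, true)]]

theorem sig_ok : ∀ i < 11, invOK i (sigs.getD i []) = true := by
  intro i hi
  match i, hi with
  | 0, _ => exact invar0
  | 1, _ => exact invar1
  | 2, _ => exact invar2
  | 3, _ => exact invar3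
  | 4, _ => exact invar4
  | 5, _ => exact invar5
  | 6, _ => exact invar6
  | 7, _ => exact invar7
  | 8, _ => exact invar8
  | 9, _ => exact invar9
  | 10, _ => exact invar10
  | i + 11, h => omega

theorem sig_sep : ((List.range 11).all fun i => (List.range 11).all fun j => Nat.beq i j ||
    !(Nat.beq (traces.getD i 0) (traces.getD j 0)) ||
      (sigs.getD i []).any fun e => (sigs.getD j []).any fun e' =>
        Nat.beq e.1 e'.1 && (e.2 != e'.2)) = true := by decide +kernel

theorem orb_inj : ∀ i < tw.ns, ∀ j < tw.ns, TData.orb rig i = TData.orb rig j → i = j := by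
  intro i hi j hj e
  change i < 11 at hi
  change j < 11 at hj
  have hmem : TData.pt rig j ∈ TData.orb rig i := by
    rw [e]
    exact ⟨1, by simp⟩
  obtain ⟨y, hy⟩ := hmem
  simp only [TData.pt] at hy
  change ((toP y * (TData.wst rig i)⁻¹ : Th) : Th ⧸ toP.range) = _ at hy
  rw [QuotientGroup.eq] at hy
  obtain ⟨z, hz⟩ := hy
  have hw : TData.wst rig j = toP z⁻¹ * TData.wst rig i * toP y⁻¹ := by
    rw [map_inv, hz, map_inv]
    simp [mul_assoc]
  obtain ⟨ti, si⟩ := state_inv hi (sig_ok i hi)
  obtain ⟨tj, sj⟩ := state_inv hj (sig_ok j hj)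
  have h := List.all_eq_true.1 (List.all_eq_true.1 sig_sep i (List.mem_range.2 hi)) j (List.mem_range.2 hj)
  simp only [Bool.or_eq_true, List.any_eq_true, Bool.and_eq_true, Bool.not_eq_true', bne_iff_ne] at h
  rcases h with (h | h) | ⟨a, ha, b, hb, hab, hne⟩
  · exact Nat.eq_of_beq_eq_true h
  · exfalso
    have et : (traces.getD j 0 : ZMod 3) = (traces.getD i 0 : ZMod 3) := by
      rw [← ti, ← tj, hw, trace_double]
    have hl : ∀ k, traces.getD k 0 ≤ 2 := fun k => by
      by_cases hk : k < 11
      · interval_cases k <;> decide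
      · rw [List.getD_eq_default _ _ (show traces.length ≤ k by change 11 ≤ k; omega)]
        omega
    rw [ZMod.natCast_eq_natCast_iff, Nat.ModEq] at et
    have := hl i
    have := hl j
    rw [show traces.getD i 0 = traces.getD j 0 by omega] at h
    simp at h
  · exfalso
    refine hne (Bool.eq_iff_iff.2 ?_)
    rw [← si a ha, ← sj b hb, hw, evM_double, Nat.eq_of_beq_eq_true hab]

/-- the projection moved to a coset is an invariant of the coset of the stabiliser of two points -/
theorem cos_inj : ∀ m < tw.cosL.length, ∀ m' < tw.cosL.length,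
    (prodW pGen (tw.cosL.getD m []))⁻¹ * prodW pGen (tw.cosL.getD m' []) ∈ tw.Lgrp pGen → m = m' := by
  intro m hm m' hm' hl
  change m < 7 at hm
  change m' < 7 at hm'
  obtain ⟨l, hlt, hl'⟩ : ∃ y : PT, toP ((prodW pGen (tw.cosL.getD m []))⁻¹ * prodW pGen (tw.cosL.getD m' [])) *
      tg 9 = tg 9 * toP y ∧ True := by
    refine Subgroup.closure_induction (p := fun x _ => ∃ y : PT, toP x * tg 9 = tg 9 * toP y ∧ True)
      ?_ ?_ ?_ ?_ hl
    · rintro x ⟨e, he, rfl⟩
      exact ⟨_, twist_U e he, trivial⟩
    · exact ⟨1, by simp, trivial⟩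
    · rintro x y - - ⟨a, ha, -⟩ ⟨b, hb, -⟩
      exact ⟨a * b, by rw [map_mul, mul_assoc, hb, ← mul_assoc, ha, map_mul, mul_assoc], trivial⟩
    · rintro x - ⟨a, ha, -⟩
      refine ⟨a⁻¹, ?_, trivial⟩
      rw [map_inv, map_inv, eq_mul_inv_iff_mul_eq, mul_assoc, ← ha, inv_mul_cancel_left]
  have hlet := ws_letters
  simp only [List.all_eq_true, List.mem_range, Nat.blt_eq] at hlet
  have hF : ∀ k < 7, Good 248 (cosMat k) ∧ toMat 248 (cosMat k) =
      (rho (toP (prodW pGen (tw.cosL.getD k [])) * tg 9) : U248).val * projM *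
        ((rho (toP (prodW pGen (tw.cosL.getD k [])) * tg 9))⁻¹ : U248).val := by
    intro k hk
    have hw : ∀ g ∈ tw.cosL.getD k [] ++ [9], g < 11 := fun g hg => by
      rcases List.mem_append.1 hg with h | h
      · exact (hlet k hk g h).trans (by norm_num)
      · rw [List.mem_singleton] at h; omega
    have hw' : ∀ g ∈ iw11 (tw.cosL.getD k [] ++ [9]), g < 11 := fun g hg => by
      obtain ⟨c, hc, rfl⟩ := List.mem_map.1 (List.mem_reverse.1 hg)
      exact inv11_lt (hw c hc)
    obtain ⟨g1, e1⟩ := rho_word hw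
    obtain ⟨g2, e2⟩ := rho_word hw'
    rw [prodW_iw11, map_inv] at e2
    obtain ⟨g3, e3⟩ := mulP_spec projP_good g2
    obtain ⟨g4, e4⟩ := mulP_spec g1 g3
    refine ⟨g4, ?_⟩
    rw [cosMat, e4, e3, toP_word (hlet k hk), ← prodW_single tg 9, ← prodW_append, e1, e2, projM,
      mul_assoc]
  have hy : toP (prodW pGen (tw.cosL.getD m' [])) * tg 9 =
      toP (prodW pGen (tw.cosL.getD m [])) * tg 9 * toP l := by
    rw [map_mul, map_inv, mul_assoc, inv_mul_eq_iff_eq_mul, ← mul_assoc] at hlt
    exact hlt
  have he : cosMat m' = cosMat m := by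
    refine toMat_inj (hF m' hm').1 (hF m hm).1 ?_
    rw [(hF m' hm').2, (hF m hm).2, hy, map_mul]
    change ((rho _ : U248) * toU l).val * projM * ((rho _ * toU l)⁻¹ : U248).val = _
    rw [_root_.mul_inv_rev, Units.val_mul, Units.val_mul,
      mul_assoc _ (toU l).val projM, ← (projM_comm l).eq]
    simp only [mul_assoc, Units.mul_inv_cancel_left]
  have hd := cosDist
  simp only [cosDistOK, strict_eq, List.all_eq_true, List.mem_range, Bool.not_eq_true'] at hd
  rcases Nat.lt_trichotomy m m' with h | h | h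
  · exfalso; have := hd m' hm' m h; rw [he] at this; simp at this
  · exact h
  · exfalso; have := hd m hm m' h; rw [he] at this; simp at this

end CfsgLib.ThPres
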