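import Cfsg.Agent.Lib.ThPres.Triality
import Cfsg.Prelude.Def_Exceptional
import Cfsg.Prelude.Def_Sporadic

/-!
The index of the named subgroup and the realization by matrices.
-/

set_option autoImplicit false

namespace CfsgLib.ThPres

open Cfsg Cfsg.Spor CfsgLib.CosetEnum CfsgLib.ThRep

theorem named_eq : (Subgroup.closure ({Th.a, Th.b, Th.c, Th.d, Th.e, Th.s, Th.t} : Set (FreeGroup Th.Gen))).map
    (PresentedGroup.mk (coxRelators Th.edges ∪ {r | r ∈ Th.extra})) = toP.range := by
  rw [MonoidHom.map_closure]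
  refine le_antisymm ?_ ?_
  · rw [Subgroup.closure_le]
    rintro _ ⟨x, hx, rfl⟩
    have h : ∀ g < 9, tg g ∈ toP.range := fun g hg => ⟨pGen g, toP_gen hg⟩
    simp only [Set.mem_insert_iff, Set.mem_singleton_iff] at hx
    rcases hx with rfl | rfl | rfl | rfl | rfl | rfl | rfl
    exacts [h 0 (by norm_num), h 1 (by norm_num), h 2 (by norm_num), h 3 (by norm_num), h 4 (by norm_num),
      h 5 (by norm_num), h 7 (by norm_num)]
  · rw [MonoidHom.range_eq_map, ← closure_pGen, MonoidHom.map_closure, Subgroup.closure_le]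
    rintro _ ⟨_, ⟨g, hg, rfl⟩, rfl⟩
    rw [toP_gen hg]
    have hm : ∀ x ∈ ({Th.a, Th.b, Th.c, Th.d, Th.e, Th.s, Th.t} : Set (FreeGroup Th.Gen)),
        PresentedGroup.mk (coxRelators Th.edges ∪ {r | r ∈ Th.extra}) x ∈
          Subgroup.closure ((PresentedGroup.mk (coxRelators Th.edges ∪ {r | r ∈ Th.extra})) ''
            ({Th.a, Th.b, Th.c, Th.d, Th.e, Th.s, Th.t} : Set (FreeGroup Th.Gen))) :=
      fun x hx => Subgroup.subset_closure ⟨x, hx, rfl⟩
    have hi : ∀ g, tg (inv11 g) = (tg g)⁻¹ := fun g => eq_inv_of_mul_eq_one_right (tg_inv g)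
    rw [SetLike.mem_coe]
    interval_cases g
    exacts [hm Th.a (by simp), hm Th.b (by simp), hm Th.c (by simp), hm Th.d (by simp), hm Th.e (by simp),
      hm Th.s (by simp), (hi 5).symm ▸ inv_mem (hm Th.s (by simp)),
      hm Th.t (by simp), (hi 7).symm ▸ inv_mem (hm Th.t (by simp))]

theorem rho_injective : Function.Injective rho := by
  haveI := simple_Th
  rw [← MonoidHom.ker_eq_bot_iff]
  refine rho.normal_ker.eq_bot_or_eq_top.resolve_right fun h => orderOf_word13.2 ?_
  have hm : toP (prodW pGen word13) ∈ rho.ker := by rw [h]; trivial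
  exact MonoidHom.mem_ker.1 hm

theorem matrix_realization : ∃ H : Subgroup (GL (Fin 248) (ZMod 3)), IsTh H ∧
    ∃ K : Subgroup H, K.index = 143127000 ∧ ∃ L : Subgroup H, L ≤ K ∧ Is3D4 L := by
  let e : Th ≃* rho.range := MonoidHom.ofInjective rho_injective
  haveI := simple_Th
  haveI := simple_S13
  let f : PT →* rho.range := e.toMonoidHom.comp toP
  have hf : Function.Injective f := e.injective.comp toP_injective
  have hs : IsSimpleGroup rho.range := @MulEquiv.isSimpleGroup rho.range _ Th _ simple_Th e.symm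
  have hc : Nat.card rho.range = 90745943887872000 := (Nat.card_congr e.toEquiv).symm.trans card_Th
  refine ⟨rho.range, ⟨hs, hc⟩,
    toP.range.map e.toMonoidHom, ?_, S13.map f, ?_, ?_, 2, ?_, ?_⟩
  · exact (Subgroup.index_map_of_bijective (f := e.toMonoidHom) e.bijective _).trans index_toP
  · rintro _ ⟨x, -, rfl⟩
    exact ⟨toP x, ⟨x, rfl⟩, rfl⟩
  · exact @MulEquiv.isSimpleGroup _ _ S13 _ simple_S13 (S13.equivMapOfInjective f hf).symm
  · exact Nat.Prime.isPrimePow (by norm_num)
  · refine ((Nat.card_congr (S13.equivMapOfInjective f hf).toEquiv).symm.trans card_S13).trans ?_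
    norm_num

end CfsgLib.ThPres
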