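import Cfsg.Agent.Lib.ThPres.Simple

/-!
The simple subgroup of index three of the point stabiliser.
-/

set_option autoImplicit false
set_option Elab.async false

namespace CfsgLib.ThPres

open Cfsg.Spor CfsgLib.CosetEnum CfsgLib.TwistTree

/-- the normal closure of an element of order thirteen -/
noncomputable def S13 : Subgroup PT := Subgroup.normalClosure {prodW pGen word13}

instance : S13.Normal := Subgroup.normalClosure_normal

theorem S13_ne : S13 ≠ ⊥ := fun h => orderOf_word13.2 (by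
  have hw : prodW pGen word13 ∈ S13 := Subgroup.subset_normalClosure rfl
  rw [h, Subgroup.mem_bot] at hw
  rw [hw, map_one])

theorem S13_le (N : Subgroup PT) [N.Normal] (hN : N ≠ ⊥) : S13 ≤ N :=
  Subgroup.normalClosure_le_normal (Set.singleton_subset_iff.2 (word13_mem N hN))

/-- the weight of a letter modulo three -/
def wt3 (g : ℕ) : ZMod 3 := if g = 7 then 1 else if g = 8 then -1 else 0

theorem wt3_rels : (pRels.all fun r => (r.map wt3).sum == 0) = true := by decide +kernel

theorem exists_chi : ∃ χ : PT →* Multiplicative (ZMod 3), χ (pGen 7) = Multiplicative.ofAdd 1 ∧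
    χ (prodW pGen word13) = 1 := by
  let f : Fin 9 → Multiplicative (ZMod 3) := fun g => Multiplicative.ofAdd (wt3 g)
  have hlift : ∀ g, FreeGroup.lift f (pFree g) = Multiplicative.ofAdd (wt3 g) := fun g => by
    by_cases h : g < 9
    · simp [pFree, h, f]
    · simp [pFree, h, wt3, show g ≠ 7 by omega, show g ≠ 8 by omega]
  have hw : ∀ w : List ℕ, FreeGroup.lift f (prodW pFree w) = Multiplicative.ofAdd (w.map wt3).sum := by
    intro w
    induction w with
    | nil => simp
    | cons g w ih => rw [prodW_cons, map_mul, hlift, ih, List.map_cons, List.sum_cons, ofAdd_add]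
  have hr : ∀ r ∈ pRelSet, FreeGroup.lift f r = 1 := by
    rintro r ⟨w, hwm, rfl⟩
    rw [hw, beq_iff_eq.1 (List.all_eq_true.1 wt3_rels w hwm), ofAdd_zero]
  let χ := PresentedGroup.toGroup hr
  have hχ : ∀ x, χ (PresentedGroup.mk pRelSet x) = FreeGroup.lift f x := fun x => rfl
  refine ⟨χ, ?_, ?_⟩
  · rw [pGen, hχ, hlift]
    simp [wt3]
  · have e : prodW pGen word13 = PresentedGroup.mk pRelSet (prodW pFree word13) := by
      rw [map_prodW]; rfl
    rw [e, hχ, hw, show (word13.map wt3).sum = 0 by decide, ofAdd_zero]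

theorem small_rels : (tw.eq [0, 1, 0, 1, 0, 1] [] && tw.eq [1, 2, 1, 2, 1, 2] [] &&
    tw.eq [3, 4, 3, 4, 3, 4] [] && tw.eq [5, 3, 5, 3] [] && tw.eq [5, 5, 5, 5, 5, 5, 5] [] &&
    tw.eq [1, 1] [] && tw.eq [2, 2] [] && tw.eq [4, 4] [] && tw.eq [7, 7, 7] []) = true := by
  decide +kernel

theorem mem_or_t (g : ℕ) : g < 9 → pGen g ∈ S13 ∨ g = 7 ∨ g = 8 := by
  intro hg
  obtain ⟨ha, hd⟩ := ad_mem S13 S13_ne
  let f := QuotientGroup.mk' S13
  have hf : ∀ x, f x = 1 ↔ x ∈ S13 := fun x => QuotientGroup.eq_one_iff x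
  have hs := small_rels
  simp only [Bool.and_eq_true] at hs
  obtain ⟨⟨⟨⟨⟨⟨⟨⟨r1, r2⟩, r3⟩, r4⟩, r5⟩, s1⟩, s2⟩, s4⟩, -⟩ := hs
  have rel : ∀ {w : List ℕ}, tw.eq w [] = true → prodW (fun g => f (pGen g)) w = 1 := fun {w} h => by
    rw [← map_prodW, eq_sound0 h, prodW_nil, map_one]
  have cube : ∀ {Q : Type} [Group Q] (x : Q), x * x = 1 → x * (x * x) = 1 → x = 1 :=
    fun x h h' => by rwa [h, mul_one] at h'
  have a1 : f (pGen 0) = 1 := (hf _).2 ha
  have d1 : f (pGen 3) = 1 := (hf _).2 hd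
  have q1 := rel r1; have q2 := rel r2; have q3 := rel r3; have q4 := rel r4; have q5 := rel r5
  have t1 := rel s1; have t2 := rel s2; have t4 := rel s4
  simp only [prodW_cons, prodW_nil, mul_one, a1, d1, one_mul] at q1 q2 q3 q4 q5 t1 t2 t4
  have b1 : f (pGen 1) = 1 := cube _ t1 q1
  simp only [b1, one_mul] at q2
  have c1 : f (pGen 2) = 1 := cube _ t2 q2
  have e1 : f (pGen 4) = 1 := cube _ t4 q3
  simp only [← mul_assoc, q4, one_mul] at q5
  have e6 : pGen 6 ∈ S13 := by
    have h : pGen 5 * pGen 6 = 1 := pGen_inv 5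
    rw [eq_inv_of_mul_eq_one_right h]
    exact inv_mem ((hf _).1 q5)
  interval_cases g
  exacts [Or.inl ha, Or.inl ((hf _).1 b1), Or.inl ((hf _).1 c1), Or.inl hd, Or.inl ((hf _).1 e1),
    Or.inl ((hf _).1 q5), Or.inl e6, Or.inr (Or.inl rfl), Or.inr (Or.inr rfl)]

theorem t_cube : pGen 7 ^ 3 = 1 := by
  have hs := small_rels
  simp only [Bool.and_eq_true] at hs
  have h := eq_sound0 hs.2
  simpa [pow_succ', mul_assoc] using h

theorem sup_t : S13 ⊔ Subgroup.zpowers (pGen 7) = ⊤ := by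
  rw [eq_top_iff, ← closure_pGen, Subgroup.closure_le]
  rintro _ ⟨g, hg, rfl⟩
  rcases mem_or_t g hg with h | rfl | rfl
  · exact Subgroup.mem_sup_left h
  · exact Subgroup.mem_sup_right (Subgroup.mem_zpowers _)
  · have h : pGen 7 * pGen 8 = 1 := pGen_inv 7
    rw [eq_inv_of_mul_eq_one_right h]
    exact Subgroup.mem_sup_right (inv_mem (Subgroup.mem_zpowers _))

theorem index_S13 : S13.index = 3 := by
  haveI := finite_PT
  haveI : Fact (Nat.Prime 3) := ⟨by norm_num⟩
  have hne : pGen 7 ∉ S13 := by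
    intro h
    obtain ⟨χ, h7, h13⟩ := exists_chi
    have hle : S13 ≤ χ.ker := Subgroup.normalClosure_le_normal (Set.singleton_subset_iff.2 h13)
    have e := hle h
    rw [MonoidHom.mem_ker, h7] at e
    exact one_ne_zero (ofAdd_eq_one.1 e)
  have e := Subgroup.relIndex_sup_right (H := Subgroup.zpowers (pGen 7)) (K := S13)
  rw [sup_comm, sup_t, Subgroup.relIndex_top_right] at e
  rw [e]
  have hd : S13.relIndex (Subgroup.zpowers (pGen 7)) ∣ 3 := by
    refine (Subgroup.index_dvd_card _).trans ?_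
    rw [Nat.card_zpowers]
    exact orderOf_dvd_of_pow_eq_one t_cube
  rcases (Nat.dvd_prime (by norm_num)).1 hd with h | h
  · exact absurd (Subgroup.relIndex_eq_one.1 h (Subgroup.mem_zpowers _)) hne
  · exact h

theorem card_S13 : Nat.card S13 = 211341312 := by
  haveI := finite_PT
  have h := S13.card_mul_index
  rw [index_S13, card_PT] at h
  omega

theorem card_sup_dvd {G : Type*} [Group G] [Finite G] (A B : Subgroup G) [B.Normal] :
    Nat.card (A ⊔ B : Subgroup G) ∣ Nat.card A * Nat.card B := by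
  have h1 : Nat.card B * B.relIndex (A ⊔ B) = Nat.card (A ⊔ B : Subgroup G) := by
    rw [← Subgroup.relIndex_bot_left, ← Subgroup.relIndex_bot_left,
      Subgroup.relIndex_mul_relIndex _ _ _ bot_le le_sup_right]
  rw [← h1, Subgroup.relIndex_sup_right, mul_comm]
  exact Nat.mul_dvd_mul_right (Subgroup.index_dvd_card _) _

theorem simple_S13 : IsSimpleGroup S13 := by
  haveI := finite_PT
  haveI : Nontrivial S13 := (Subgroup.nontrivial_iff_ne_bot _).2 S13_ne
  haveI hp : Fact (Nat.Prime 13) := ⟨by norm_num⟩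
  refine ⟨fun N hN => or_iff_not_imp_left.mpr fun hne => ?_⟩
  haveI := hN
  let φ : MulAut S13 := MulAut.conjNormal (pGen 7)
  have hφ : φ ^ 3 = 1 := by rw [← map_pow, t_cube, map_one]
  let N1 := N.map φ.toMonoidHom
  let N2 := N1.map φ.toMonoidHom
  haveI hN1 : N1.Normal := hN.map _ φ.surjective
  haveI : N2.Normal := hN1.map _ φ.surjective
  let K := N ⊔ N1 ⊔ N2
  have h3 : N2.map φ.toMonoidHom = N := by
    simp only [N2, N1, Subgroup.map_map]
    conv_rhs => rw [← Subgroup.map_id N]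
    congr 1
    ext x
    have e := DFunLike.congr_fun hφ x
    rw [pow_succ', pow_succ', pow_one] at e
    exact congrArg Subtype.val e
  have hK : K.map φ.toMonoidHom = K := by
    simp only [K, Subgroup.map_sup, h3]
    change N1 ⊔ N2 ⊔ N = N ⊔ N1 ⊔ N2
    rw [sup_comm (N1 ⊔ N2) N, sup_assoc]
  have hKn : K.Normal := Subgroup.sup_normal (N ⊔ N1) N2
  let K' := K.map S13.subtype
  haveI hK' : K'.Normal := by
    rw [← Subgroup.normalizer_eq_top_iff, eq_top_iff, ← sup_t, sup_le_iff]
    constructor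
    · intro x hx
      rw [Subgroup.mem_normalizer_iff]
      have hc : ∀ (y : PT) (s : S13), y ∈ K' → (s : PT) * y * (s : PT)⁻¹ ∈ K' := by
        rintro _ s ⟨k, hk, rfl⟩
        exact ⟨s * k * s⁻¹, hKn.conj_mem k hk s, rfl⟩
      refine fun y => ⟨fun hy => hc y ⟨x, hx⟩ hy, fun hy => ?_⟩
      have h := hc _ (⟨x, hx⟩⁻¹) hy
      simpa [mul_assoc] using h
    · rw [Subgroup.zpowers_le, Subgroup.mem_normalizer_iff]
      intro y
      constructor
      · rintro ⟨k, hk, rfl⟩
        exact ⟨φ k, hK.le ⟨k, hk, rfl⟩, MulAut.conjNormal_apply _ _⟩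
      · rintro ⟨k, hk, e⟩
        obtain ⟨j, hj, rfl⟩ := hK.ge hk
        refine ⟨j, hj, ?_⟩
        have e' : pGen 7 * (j : PT) * (pGen 7)⁻¹ = pGen 7 * y * (pGen 7)⁻¹ :=
          (MulAut.conjNormal_apply _ _).symm.trans e
        exact mul_left_cancel (mul_right_cancel e')
  have hKne : K' ≠ ⊥ := fun h => hne (le_bot_iff.1 (by
    rw [Subgroup.map_eq_bot_iff, Subgroup.ker_subtype, le_bot_iff] at h
    exact (le_sup_left.trans le_sup_left).trans h.le))
  have h13 : 13 ∣ Nat.card N := by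
    have h := thirteen_dvd_normal K' hKne
    rw [Subgroup.card_map_of_injective S13.subtype_injective] at h
    have e1 : Nat.card N1 = Nat.card N := Subgroup.card_map_of_injective φ.injective
    have e2 : Nat.card N2 = Nat.card N := (Subgroup.card_map_of_injective φ.injective).trans e1
    have hd : Nat.card K ∣ Nat.card N * Nat.card N1 * Nat.card N2 :=
      (card_sup_dvd (N ⊔ N1) N2).trans (Nat.mul_dvd_mul_right (card_sup_dvd N N1) _)
    rw [e1, e2] at hd
    have := h.trans hd
    rcases hp.out.dvd_mul.1 this with h' | h'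
    · rcases hp.out.dvd_mul.1 h' with h'' | h'' <;> exact h''
    · exact h'
  have hco : ¬ 13 ∣ N.index := fun h => by
    have h169 : 13 * 13 ∣ 211341312 := card_S13 ▸ N.card_mul_index ▸ Nat.mul_dvd_mul h13 h
    norm_num at h169
  have hgen : S13 ≤ N.map S13.subtype := by
    refine (Subgroup.closure_le _).2 fun y hy => ?_
    obtain ⟨a, ha, hc⟩ := Group.mem_conjugatesOfSet_iff.1 hy
    rw [Set.mem_singleton_iff] at ha
    subst ha
    obtain ⟨c, rfl⟩ := isConj_iff.1 hc
    have hmem : c * prodW pGen word13 * c⁻¹ ∈ S13 :=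
      Subgroup.Normal.conj_mem (inferInstance : S13.Normal) _ (Subgroup.subset_normalClosure rfl) c
    refine ⟨⟨_, hmem⟩, ?_, rfl⟩
    rw [SetLike.mem_coe, ← QuotientGroup.eq_one_iff, ← orderOf_eq_one_iff]
    have h1 : orderOf ((⟨_, hmem⟩ : S13) : S13 ⧸ N) ∣ 13 :=
      orderOf_dvd_of_pow_eq_one (by
        rw [← QuotientGroup.mk_pow, ← QuotientGroup.mk_one]
        refine congrArg _ (Subtype.ext ?_)
        rw [SubmonoidClass.coe_pow, conj_pow, orderOf_word13.1, mul_one, mul_inv_cancel, Subgroup.coe_one])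
    have h2 : orderOf ((⟨_, hmem⟩ : S13) : S13 ⧸ N) ∣ N.index := orderOf_dvd_natCard _
    rcases (Nat.dvd_prime hp.out).1 h1 with h | h
    · exact h
    · exact absurd (h ▸ h2) hco
  refine eq_top_iff.2 fun x _ => ?_
  obtain ⟨y, hy, e⟩ := hgen x.2
  rwa [← Subtype.ext e]

end CfsgLib.ThPres
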