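import Cfsg.Agent.Lib.ThPres.Twist

/-!
The checks of facts and roots by number.
-/

set_option autoImplicit false
set_option Elab.async false

namespace CfsgLib.ThPres
open CfsgLib.CosetEnum CfsgLib.TwistTree

/-- the check of a fact, if it is one -/
noncomputable def factOK' (n : ℕ) : Bool := pick (Nat.blt n 4360) (tw.factOK n) true

/-- the check of a root, if it is one -/
noncomputable def rootOK' (i r : ℕ) : Bool := pick (Nat.blt r (tw.nroots.getD i 0)) (tw.rootOK 4360 i r) true

end CfsgLib.ThPres
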