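import Cfsg.Agent.Lib.ThPres.TwistDefs

/-!
Kernel check of the orbits of one state.
-/

set_option autoImplicit false
set_option Elab.async false

namespace CfsgLib.ThPres
open CfsgLib.CosetEnum CfsgLib.TwistTree

theorem tw_root5_0 : allUp (rootOK' 5) 6 (0 * 2 ^ 6) = true := by decide +kernel

theorem tw_root5_1 : allUp (rootOK' 5) 6 (1 * 2 ^ 6) = true := by decide +kernel

theorem tw_root5_2 : allUp (rootOK' 5) 6 (2 * 2 ^ 6) = true := by decide +kernel

theorem tw_root5_3 : allUp (rootOK' 5) 6 (3 * 2 ^ 6) = true := by decide +kernel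

theorem tw_root5_4 : allUp (rootOK' 5) 6 (4 * 2 ^ 6) = true := by decide +kernel

theorem tw_root5_5 : allUp (rootOK' 5) 6 (5 * 2 ^ 6) = true := by decide +kernel

theorem tw_root5_6 : allUp (rootOK' 5) 6 (6 * 2 ^ 6) = true := by decide +kernel

end CfsgLib.ThPres
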