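import Cfsg.Agent.Lib.TwistTree.Tree

/-!
The orbits of one state with their steps.
-/

set_option autoImplicit false

namespace CfsgLib.ThPres
open CfsgLib.CosetEnum CfsgLib.TwistTree
open CfsgLib.TwistCoset (wOf cOK CLev cSize lettersOK)

/-- a part of the orbits of state 9 -/
noncomputable def twRoots9T1 : BT TRoot := (.fork (.fork (.fork (.fork (.fork (.fork (.one ⟨[], [⟨3830,[],[]⟩,⟨3850,[],[(1,false),(3,false),(5,false),(4,false),(6,false),(2,true),(5,false),(4,false),(2,true),(5,false),(2,true)]⟩,⟨3866,[],[(0,false),(2,false),(4,false),(6,false),(4,false),(1,false),(4,false),(5,false),(4,false),(1,false)]⟩,⟨3908,[],[(1,false),(4,false),(1,false),(3,false),(4,false),(6,false),(4,false),(2,true),(5,false),(2,false),(4,false),(6,false)]⟩,⟨3832,[],[(3,false),(2,true),(5,false),(2,false),(4,false),(1,false),(5,false),(2,true)]⟩,⟨3858,[],[(1,false),(5,false),(2,false),(4,false),(6,false),(4,false),(1,false),(4,false)]⟩,⟨3860,[],[(0,false),(5,false),(4,false),(5,false),(2,false),(5,false),(4,false),(1,false),(4,false),(6,false)]⟩]⟩)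
 (.one ⟨[3,4,3,2,1,5,4,3], [⟨4272,[(3911,true),(3912,false),(3911,false)],[(1,false),(4,false),(5,false),(4,false),(5,false),(6,false),(2,true),(5,false),(4,false),(1,false)]⟩,⟨4135,[],[(5,false)]⟩,⟨3998,[(3911,true),(3912,false),(3911,false)],[(0,false),(2,false),(4,false),(5,false),(6,false),(4,false),(5,false),(4,false)]⟩,⟨4220,[(3911,true),(3912,false),(3911,false)],[(5,false),(2,false),(4,false),(5,false),(4,false),(1,false),(4,false),(5,false),(4,false)]⟩,⟨4032,[(3912,false),(3911,false)],[(0,false),(4,false),(1,false),(6,false),(4,false),(2,true),(5,false),(2,false),(4,false)]⟩,⟨3994,[(3911,true),(3912,false),(3911,false)],[(5,false),(4,false),(5,false),(2,true),(5,false),(4,false),(1,false),(5,false),(2,true)]⟩,⟨3898,[(3911,true),(3911,true),(3912,false)],[(1,false),(3,false),(4,false),(1,false),(5,false),(4,false),(6,false),(4,false),(1,false),(2,true)]⟩]⟩))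
 (.fork (.one ⟨[3,2,1,4,3], [⟨3846,[(3912,true)],[(3,false),(4,false),(1,false),(4,false),(5,false),(6,false)]⟩,⟨4279,[],[(2,false),(3,false)]⟩,⟨3984,[(3912,true)],[(2,false),(5,false),(4,false),(6,false),(4,false),(1,false),(4,false),(2,true),(5,false)]⟩,⟨3934,[(3912,true)],[(0,false),(1,false),(5,false),(2,false),(6,false),(4,false),(5,false),(4,false),(2,true),(5,false),(4,false)]⟩,⟨3890,[(3911,false),(3912,true),(3911,false),(3911,false)],[(1,false),(2,false),(5,false),(6,false),(4,false),(2,true),(5,false),(2,false),(4,false),(5,false),(6,false)]⟩,⟨3884,[(3912,true)],[(5,false),(4,false),(1,false),(4,false),(1,false),(5,false),(6,false),(2,true)]⟩,⟨4228,[(3912,true)],[(5,false),(2,false),(4,false),(1,false),(4,false),(6,false),(4,false)]⟩]⟩)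
 (.one ⟨[], []⟩)))
 (.fork (.fork (.one ⟨[6,6,4,3], [⟨4077,[],[(5,false)]⟩,⟨4105,[],[]⟩,⟨4077,[(3912,true),(3911,true),(3912,false),(3911,false),(3911,false)],[(0,false),(2,false),(4,false),(1,false),(4,false),(5,false),(2,false),(4,false),(1,false),(4,false)]⟩,⟨4105,[(3912,false),(3911,true),(3911,true),(3912,true),(3911,false)],[(4,false),(1,false),(6,false),(4,false),(1,false),(2,true),(5,false),(4,false),(5,false),(6,false),(4,false)]⟩,⟨4077,[(3912,false),(3911,true),(3911,true),(3912,true),(3911,false)],[(4,false),(5,false),(2,false),(4,false),(5,false),(4,false),(2,true),(5,false),(4,false),(1,false)]⟩,⟨4053,[],[(5,false),(2,true)]⟩,⟨4105,[(3912,true),(3911,true),(3912,false),(3911,false),(3911,false)],[(1,false),(2,false),(5,false),(4,false),(2,true),(5,false),(4,false),(1,false),(4,false),(5,false),(4,false)]⟩]⟩)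
 (.one ⟨[3,2,3,6,4,3,2,1,3], [⟨4030,[(3911,false),(3912,false),(3911,false),(3911,false)],[(0,false),(5,false),(6,false),(2,true),(5,false),(4,false),(1,false),(5,false),(4,false),(2,true),(5,false)]⟩,⟨3892,[(3912,true),(3911,false),(3911,false),(3912,false)],[(5,false),(2,false),(4,false),(5,false),(4,false),(2,true),(5,false),(4,false),(2,true)]⟩,⟨3922,[(3912,true),(3911,false),(3911,false),(3912,false)],[(1,false),(5,false),(4,false),(2,true),(5,false),(4,false),(1,false),(4,false),(5,false),(2,true)]⟩,⟨4081,[],[(3,false),(6,false),(2,true)]⟩,⟨4159,[],[]⟩,⟨3958,[(3912,true),(3911,false),(3911,false),(3912,false)],[(0,false),(4,false),(1,false),(6,false),(4,false),(2,true),(5,false),(4,false),(5,false),(2,false)]⟩,⟨4196,[],[(4,false),(5,false),(2,false),(5,false),(4,false),(1,false),(4,false),(5,false),(2,false)]⟩]⟩))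
 (.fork (.one ⟨[0,1,7,6,4,3], [⟨3980,[(3912,true),(3911,false),(3912,true)],[(2,false),(4,false),(1,false),(4,false),(1,false),(5,false),(4,false),(1,false),(6,false)]⟩,⟨3990,[(3911,false),(3912,false),(3911,false),(3911,false)],[(3,false),(5,false),(2,false),(4,false),(5,false),(4,false),(5,false),(6,false)]⟩,⟨4224,[(3911,true),(3912,false),(3911,false)],[(1,false),(4,false),(6,false),(2,true),(5,false),(4,false),(5,false),(4,false),(6,false),(2,true)]⟩,⟨4311,[],[(1,false),(6,false)]⟩,⟨3976,[(3912,true),(3911,false),(3912,true)],[(5,false),(4,false),(2,true),(5,false),(4,false),(1,false),(4,false)]⟩,⟨4210,[(3911,true),(3912,false),(3911,false)],[(6,false),(4,false),(1,false),(3,false),(5,false),(4,false),(5,false),(6,false),(4,false)]⟩,⟨4166,[(3911,true),(3912,false),(3911,false),(3911,false)],[(0,false),(2,false),(5,false),(4,false),(5,false),(6,false),(4,false),(1,false),(5,false)]⟩]⟩)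
 (.one ⟨[], []⟩))))
 (.fork (.fork (.fork (.one ⟨[1,3], [⟨3970,[(3912,false),(3911,false),(3911,false),(3912,false),(3911,false)],[(1,false),(2,false),(4,false),(3,false),(5,false),(4,false),(2,true),(5,false),(4,false),(1,false)]⟩,⟨4055,[],[]⟩,⟨4151,[],[(2,true)]⟩,⟨3928,[(3911,false),(3912,false),(3911,false)],[(5,false),(4,false),(1,false),(4,false),(2,true),(5,false),(2,false),(4,false),(1,false),(5,false)]⟩,⟨4066,[],[(1,false),(2,false),(4,false),(5,false),(4,false),(6,false)]⟩,⟨4117,[],[]⟩,⟨4057,[],[]⟩]⟩)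
 (.one ⟨[1,2,3,2,1,4,3], [⟨4202,[],[(2,false),(4,false),(5,false),(2,false),(4,false),(1,false),(6,false)]⟩,⟨4296,[],[(2,false),(4,false),(3,false),(5,false),(4,false),(2,true),(5,false),(4,false)]⟩,⟨4202,[(3911,false),(3911,false)],[(1,false),(2,false),(5,false),(6,false),(4,false),(5,false),(2,false),(4,false)]⟩,⟨3932,[(3911,false),(3911,false)],[(1,false),(2,false),(3,false),(6,false),(4,false),(5,false),(4,false),(1,false),(6,false),(4,false),(2,true)]⟩,⟨3932,[(3911,true),(3911,true)],[(4,false),(5,false),(2,false),(5,false),(4,false),(5,false),(4,false),(2,true),(5,false)]⟩,⟨3932,[],[(2,false),(3,false),(5,false),(4,false),(5,false)]⟩,⟨4202,[(3911,true),(3911,true)],[(5,false),(2,false),(6,false),(4,false),(3,false),(5,false),(2,false),(4,false),(5,false)]⟩]⟩))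
 (.fork (.one ⟨[3,4,3,2,1,3], [⟨4170,[(3912,false),(3911,false),(3911,false)],[(2,false),(6,false),(4,false),(3,false),(5,false),(2,false),(4,false),(1,false),(5,false),(4,false)]⟩,⟨4069,[],[(3,false)]⟩,⟨4073,[],[]⟩,⟨4089,[],[]⟩,⟨4074,[(3911,true),(3912,false),(3911,false)],[(0,false),(5,false),(2,false),(5,false),(4,false),(5,false)]⟩,⟨4180,[(3912,false),(3911,false),(3911,false)],[(2,false),(6,false),(4,false),(1,false),(4,false),(5,false),(2,false),(4,false),(6,false)]⟩,⟨4277,[],[]⟩]⟩)
 (.one ⟨[], []⟩)))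
 (.fork (.fork (.one ⟨[7,6,4,3], [⟨4147,[],[(4,false),(3,false),(6,false)]⟩,⟨4147,[(3912,false),(3911,true),(3911,true),(3912,true),(3911,false)],[(0,false),(2,true),(5,false),(4,false),(5,false),(6,false),(4,false),(1,false),(4,false)]⟩,⟨4268,[],[(4,false),(1,false),(5,false),(4,false),(1,false),(5,false),(6,false),(4,false),(2,true),(5,false)]⟩,⟨4054,[],[(6,false),(4,false),(2,true),(5,false),(2,false),(4,false),(6,false)]⟩,⟨4147,[(3912,true),(3911,true),(3912,false),(3911,false),(3911,false)],[(1,false),(4,false),(1,false),(6,false),(4,false),(5,false),(2,true),(5,false),(4,false)]⟩,⟨4268,[(3912,false),(3911,true),(3911,true),(3912,true),(3911,false)],[(1,false),(2,false),(3,false),(4,false),(5,false),(4,false),(5,false),(6,false),(4,false),(2,true)]⟩,⟨4268,[(3912,true),(3911,true),(3912,false),(3911,false),(3911,false)],[(1,false),(2,false),(4,false),(1,false),(4,false),(5,false),(6,false),(4,false),(1,false),(5,false)]⟩]⟩)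
 (.one ⟨(wOf 13 0x3451234672010), [⟨4275,[],[(0,false),(2,true)]⟩,⟨4337,[],[]⟩,⟨4275,[(3911,false)],[(1,false),(2,false),(4,false),(3,false),(5,false),(4,false),(1,false)]⟩,⟨4337,[(3911,true)],[(2,false),(3,false),(5,false),(4,false),(2,true),(5,false),(2,false),(4,false),(5,false),(2,false)]⟩,⟨4275,[(3911,true)],[(2,false),(3,false),(5,false),(4,false),(1,false),(4,false),(5,false),(2,false)]⟩,⟨4339,[],[(6,false)]⟩,⟨4337,[(3911,false)],[(3,false),(5,false),(2,false),(4,false),(5,false),(2,true),(5,false),(4,false),(5,false)]⟩]⟩))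
 (.fork (.one ⟨[0,2,3,2,1,5,5,4,3], [⟨4137,[],[(0,false),(3,false),(5,false)]⟩,⟨3930,[(3912,false),(3911,true)],[(0,false),(2,false),(4,false),(1,false),(5,false),(4,false),(6,false),(4,false),(2,true),(5,false)]⟩,⟨3870,[(3912,false),(3911,true)],[(1,false),(4,false),(6,false),(4,false),(5,false),(4,false),(2,true),(5,false),(4,false),(1,false)]⟩,⟨3842,[(3912,false),(3911,true)],[(4,false),(5,false),(6,false),(4,false),(1,false),(5,false),(4,false),(5,false),(6,false),(2,true)]⟩,⟨3852,[(3912,false),(3911,true)],[(1,false),(5,false),(2,false),(4,false),(5,false),(6,false),(4,false),(5,false),(2,true),(5,false)]⟩,⟨3868,[(3912,false),(3911,true)],[(2,false),(4,false),(6,false),(4,false),(5,false),(4,false),(1,false),(2,true)]⟩,⟨4099,[],[(5,false)]⟩]⟩)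
 (.one ⟨[], []⟩)))))
 (.fork (.fork (.fork (.fork (.one ⟨[1], [⟨3992,[(3911,true),(3911,true),(3912,true),(3911,false)],[(0,false),(2,false),(4,false),(1,false),(4,false),(5,false),(2,false),(4,false),(5,false),(2,false),(4,false)]⟩,⟨4065,[],[(5,false),(6,false)]⟩,⟨4262,[(3911,false),(3912,false),(3911,false)],[(0,false),(1,false),(4,false),(5,false),(2,false),(5,false),(4,false),(1,false),(4,false),(5,false)]⟩,⟨4133,[],[(1,false),(4,false)]⟩,⟨4051,[],[]⟩,⟨3982,[(3911,false),(3912,false),(3911,false)],[(0,false),(2,false),(6,false),(4,false),(5,false),(4,false),(6,false),(2,true),(5,false),(2,false),(4,false)]⟩,⟨4252,[],[(3,false),(6,false),(4,false),(1,false),(2,true),(5,false),(4,false),(5,false),(6,false)]⟩]⟩)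
 (.one ⟨[0,3,2,1,7,6,4,3], [⟨4281,[],[]⟩,⟨3874,[(3911,false),(3911,false),(3912,false),(3911,false)],[(0,false),(1,false),(2,true),(5,false),(2,false),(4,false),(5,false),(6,false),(4,false),(5,false)]⟩,⟨4242,[(3911,false),(3911,false),(3912,false),(3911,false)],[(0,false),(1,false),(4,false),(2,true),(5,false),(2,false),(4,false),(5,false),(6,false),(4,false)]⟩,⟨4127,[],[]⟩,⟨4309,[],[]⟩,⟨4095,[],[(1,false),(6,false)]⟩,⟨3936,[(3911,false),(3911,false),(3912,false),(3911,false)],[(2,false),(4,false),(1,false),(4,false),(5,false),(4,false),(1,false),(4,false),(2,true),(5,false)]⟩]⟩))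
 (.fork (.one ⟨[0,1,6,6,4,3], [⟨4044,[(3912,false),(3911,true)],[(0,false),(1,false),(5,false),(4,false),(6,false),(4,false),(1,false),(4,false),(1,false),(5,false),(6,false)]⟩,⟨4028,[(3912,false),(3911,true)],[(0,false),(1,false),(4,false),(5,false),(6,false),(4,false),(2,true),(5,false),(2,false),(4,false),(5,false)]⟩,⟨4012,[(3912,true),(3911,false),(3912,true)],[(0,false),(4,false),(1,false),(4,false),(5,false),(2,false),(4,false),(1,false),(4,false),(5,false)]⟩,⟨4204,[],[(3,false),(4,false),(1,false),(5,false),(6,false),(2,true)]⟩,⟨4123,[],[(5,false)]⟩,⟨4062,[(3911,true),(3912,false),(3911,false),(3911,false)],[(1,false),(2,false),(4,false),(5,false),(2,true),(5,false)]⟩,⟨4244,[(3912,true),(3911,false),(3912,true)],[(0,false),(5,false),(2,false),(4,false),(1,false),(5,false),(4,false),(1,false),(2,true)]⟩]⟩)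
 (.one ⟨[], []⟩)))
 (.fork (.fork (.one ⟨[0,1,4,3], [⟨4018,[(3912,true),(3911,true),(3912,false),(3911,false)],[(4,false),(1,false),(5,false),(2,false),(6,false),(4,false),(5,false),(4,false),(5,false)]⟩,⟨4006,[(3912,false),(3911,true),(3911,true)],[(4,false),(5,false),(4,false),(6,false),(4,false),(5,false),(4,false),(6,false),(2,true)]⟩,⟨3972,[(3912,false),(3911,true),(3911,true)],[(3,false),(4,false),(1,false),(6,false),(2,true),(5,false),(4,false),(5,false),(2,false)]⟩,⟨4080,[(3912,false),(3911,false),(3911,false),(3912,false)],[(1,false),(6,false),(4,false),(2,true),(5,false),(4,false),(1,false),(4,false),(6,false),(2,true)]⟩,⟨4063,[],[(0,false),(2,true)]⟩,⟨3896,[(3911,true),(3912,false),(3911,false)],[(2,false),(3,false),(5,false),(2,false),(4,false),(1,false),(4,false),(6,false),(4,false),(5,false)]⟩,⟨3878,[(3911,true),(3912,false),(3911,false)],[(6,false),(4,false),(5,false),(2,true),(5,false),(4,false),(1,false)]⟩]⟩)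
 (.one ⟨[3,2,4,3,2,1,8,5,4,3], [⟨4285,[],[(3,false)]⟩,⟨4182,[(3912,false),(3911,false),(3911,false),(3911,false)],[(0,false),(5,false),(4,false),(1,false),(6,false),(2,true),(5,false),(4,false),(6,false)]⟩,⟨4182,[(3911,false),(3912,false),(3911,false)],[(1,false),(3,false),(2,true),(5,false),(4,false),(1,false),(4,false),(6,false),(4,false),(1,false),(5,false)]⟩,⟨4182,[(3912,true),(3911,false),(3912,true)],[(0,false),(2,false),(4,false),(5,false),(4,false),(1,false),(6,false),(4,false),(2,true)]⟩,⟨4315,[],[]⟩,⟨4315,[(3912,true),(3911,true),(3911,true),(3912,false)],[(5,false),(6,false),(4,false),(5,false),(4,false),(6,false),(2,true),(5,false),(2,false)]⟩,⟨4315,[(3912,true),(3911,false),(3911,false),(3912,false)],[(3,false),(6,false),(2,true),(5,false),(4,false),(5,false),(2,false),(5,false),(4,false),(6,false)]⟩]⟩))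
 (.fork (.one ⟨[3,2,1,6,4,3], [⟨4188,[(3912,false),(3911,false)],[(1,false),(3,false),(4,false),(6,false),(4,false),(5,false),(4,false),(6,false),(2,true)]⟩,⟨3854,[(3912,true),(3911,true),(3912,false),(3911,false)],[(4,false),(5,false),(2,false),(4,false)]⟩,⟨3954,[(3912,false),(3911,false)],[(0,false),(6,false),(2,true),(5,false),(4,false),(1,false),(5,false)]⟩,⟨4270,[(3912,false),(3911,false)],[(6,false),(4,false),(1,false),(5,false),(2,false),(4,false),(1,false),(5,false),(6,false)]⟩,⟨3926,[(3911,false),(3912,true),(3911,false),(3911,false)],[(0,false),(2,false),(4,false),(6,false),(4,false),(5,false),(2,false),(4,false),(1,false),(6,false),(4,false)]⟩,⟨4266,[(3912,false),(3911,false)],[(0,false),(2,false),(4,false),(1,false),(5,false),(6,false),(4,false),(5,false),(4,false),(2,true)]⟩,⟨4250,[(3911,false),(3912,true),(3911,false),(3911,false)],[(1,false),(3,false),(4,false),(1,false),(4,false),(2,true),(5,false),(4,false),(5,false)]⟩]⟩)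
 (.one ⟨[], []⟩))))
 (.fork (.fork (.fork (.one ⟨[0,1,3], [⟨3848,[(3911,false),(3912,true),(3911,false),(3911,false)],[(2,true),(5,false),(2,false)]⟩,⟨3962,[(3911,false),(3912,true),(3911,false),(3911,false)],[(0,false),(6,false),(2,true),(5,false),(2,false),(4,false),(1,false),(4,false),(5,false)]⟩,⟨4212,[(3911,false),(3912,true),(3911,false),(3911,false)],[(3,false),(6,false),(4,false),(1,false),(4,false),(6,false),(2,true),(5,false),(2,false),(4,false),(6,false)]⟩,⟨3946,[(3911,true),(3912,false),(3911,false),(3911,false)],[(3,false),(6,false),(2,true),(5,false),(4,false),(5,false),(2,false)]⟩,⟨4113,[],[]⟩,⟨4085,[],[(0,false),(2,true)]⟩,⟨4002,[(3911,true),(3912,false),(3911,false),(3911,false)],[(0,false),(1,false),(5,false),(2,false),(6,false),(4,false),(1,false),(5,false),(4,false),(5,false)]⟩]⟩)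
 (.one ⟨[1,0,3,2,1,5,4,3], [⟨4260,[(3911,true),(3912,true),(3911,false)],[(0,false),(1,false),(5,false),(2,false),(4,false),(5,false),(2,false),(6,false)]⟩,⟨3872,[(3911,true),(3912,true),(3911,true)],[(5,false),(4,false),(6,false),(4,false),(5,false),(4,false),(5,false)]⟩,⟨3914,[(3911,true),(3912,true),(3911,false)],[(3,false),(4,false),(1,false),(4,false),(5,false),(4,false),(2,true)]⟩,⟨4260,[(3911,false),(3911,false),(3912,true)],[(1,false),(2,false),(5,false),(4,false),(1,false),(6,false),(4,false),(1,false),(5,false),(4,false)]⟩,⟨3872,[(3911,false),(3911,false),(3912,true)],[(3,false),(2,true),(5,false),(4,false),(6,false)]⟩,⟨4260,[(3911,true),(3912,true),(3911,true)],[(2,false),(4,false),(1,false),(3,false),(6,false),(4,false),(5,false),(4,false),(1,false),(2,true)]⟩,⟨3872,[(3911,true),(3912,true),(3911,false)],[(0,false),(4,false),(1,false),(5,false),(6,false),(4,false),(1,false),(4,false),(5,false),(2,false)]⟩]⟩))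
 (.fork (.one ⟨[0,2,1,6,6,4,3], [⟨4192,[(3912,false),(3911,false),(3911,false),(3912,true)],[(2,false),(3,false),(5,false),(4,false),(5,false),(2,false),(4,false),(5,false),(6,false),(2,true)]⟩,⟨4192,[],[(2,false),(3,false),(4,false),(1,false),(5,false),(4,false),(5,false),(2,false),(6,false)]⟩,⟨4103,[],[(5,false)]⟩,⟨4103,[(3912,false),(3911,true),(3911,true),(3912,true)],[(1,false),(6,false),(4,false),(5,false),(2,false),(4,false),(5,false),(6,false),(2,true)]⟩,⟨4103,[(3912,false),(3911,false),(3911,false),(3912,true)],[(1,false),(6,false),(4,false),(5,false),(2,true),(5,false),(4,false),(1,false),(6,false)]⟩,⟨4192,[(3912,false),(3911,true),(3911,true),(3912,true)],[(1,false),(6,false),(4,false),(3,false),(5,false),(4,false),(1,false)]⟩,⟨4286,[],[(1,false),(5,false),(4,false),(3,false),(5,false),(6,false),(4,false),(1,false)]⟩]⟩)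
 (.one ⟨[], []⟩)))
 (.fork (.fork (.one ⟨[0,3,2,1,4,3], [⟨4184,[(3912,true),(3911,false),(3912,true)],[(2,false),(5,false),(4,false),(3,false),(6,false),(4,false),(5,false),(2,false),(4,false),(1,false)]⟩,⟨4176,[(3912,true),(3911,false),(3912,true)],[(1,false),(2,false),(4,false),(1,false),(4,false),(5,false),(4,false),(1,false)]⟩,⟨3996,[(3912,true),(3911,false),(3912,true)],[(0,false),(2,false),(5,false),(4,false),(6,false),(2,true),(5,false),(2,false),(4,false),(5,false)]⟩,⟨4109,[],[(4,false),(1,false)]⟩,⟨4119,[],[(0,false)]⟩,⟨3988,[(3912,true),(3911,false),(3912,true)],[(0,false),(4,false),(1,false),(4,false),(5,false),(6,false),(4,false)]⟩,⟨4305,[],[(3,false),(4,false)]⟩]⟩)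
 (.one ⟨[], []⟩))
 (.fork (.one ⟨[0,2,3,2,1,5,4,3], [⟨4289,[],[(1,false),(5,false)]⟩,⟨3916,[(3912,false),(3911,true)],[(1,false),(6,false),(4,false),(3,false),(5,false),(2,false),(5,false),(4,false),(5,false)]⟩,⟨4303,[],[(5,false)]⟩,⟨4283,[],[(1,false),(3,false),(5,false)]⟩,⟨4132,[(3912,false),(3911,true)],[(1,false),(2,true),(5,false),(2,false),(4,false),(1,false),(3,false),(4,false),(6,false),(4,false)]⟩,⟨3840,[(3912,false),(3911,true)],[(4,false),(5,false),(4,false),(1,false),(4,false),(5,false),(2,false),(4,false),(6,false)]⟩,⟨4131,[],[(0,false)]⟩]⟩)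
 (.one ⟨[], []⟩))))))
 (.fork (.fork (.fork (.fork (.fork (.one ⟨[3], [⟨4186,[(3912,true),(3911,true),(3912,false),(3911,false),(3911,false)],[(0,false),(5,false),(2,false),(4,false),(5,false),(6,false),(2,true)]⟩,⟨4186,[],[(0,false),(4,false),(6,false),(2,true),(5,false),(4,false),(1,false),(5,false),(4,false),(5,false)]⟩,⟨4143,[],[]⟩,⟨4301,[],[(3,false),(5,false),(6,false)]⟩,⟨4186,[(3912,false),(3911,true),(3911,true),(3912,true),(3911,false)],[(0,false),(1,false),(4,false),(5,false),(4,false),(1,false),(4,false),(6,false),(2,true)]⟩,⟨4143,[(3912,false),(3911,true),(3911,true),(3912,true),(3911,false)],[(1,false),(5,false),(6,false),(4,false),(2,true),(5,false),(4,false),(1,false),(6,false),(2,true),(5,false)]⟩,⟨4143,[(3912,true),(3911,true),(3912,false),(3911,false),(3911,false)],[(4,false),(3,false),(6,false),(4,false),(2,true),(5,false),(4,false),(1,false),(6,false),(4,false)]⟩]⟩)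
 (.one ⟨[0,2,1,7,6,4,3], [⟨4157,[],[]⟩,⟨4129,[],[(0,false),(3,false)]⟩,⟨4157,[(3912,false),(3911,false),(3912,true)],[(4,false),(2,true),(5,false),(4,false),(2,true),(5,false),(2,false)]⟩,⟨4129,[(3912,false),(3911,true),(3912,true)],[(1,false),(3,false),(4,false),(5,false),(4,false),(5,false),(2,true)]⟩,⟨4157,[(3912,false),(3911,true),(3912,true)],[(2,false),(5,false),(4,false),(1,false),(4,false),(2,true)]⟩,⟨4333,[],[(1,false),(3,false),(5,false)]⟩,⟨4129,[(3912,false),(3911,false),(3912,true)],[(2,false),(4,false),(3,false),(5,false),(2,true),(5,false),(4,false),(1,false),(5,false)]⟩]⟩))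
 (.fork (.one ⟨[1,0,2,1,3], [⟨4240,[(3911,false),(3911,false),(3912,false),(3911,false)],[(3,false),(4,false),(6,false),(2,true),(5,false),(2,false),(4,false),(5,false),(2,true)]⟩,⟨4240,[(3912,false),(3911,false)],[(2,false),(3,false),(4,false),(5,false),(6,false),(4,false),(1,false),(4,false),(2,true),(5,false),(4,false)]⟩,⟨3944,[(3911,false),(3911,false),(3912,false),(3911,false)],[(3,false),(4,false),(1,false),(4,false),(5,false),(4,false),(2,true),(5,false),(4,false),(5,false)]⟩,⟨3944,[(3912,false),(3911,false)],[(1,false),(4,false),(1,false),(3,false),(4,false),(2,true),(5,false)]⟩,⟨3944,[(3911,true),(3911,true),(3912,false),(3911,false)],[(2,false),(3,false),(5,false),(6,false),(4,false),(1,false),(5,false),(4,false),(6,false)]⟩,⟨4240,[(3911,true),(3911,true),(3912,false),(3911,false)],[(0,false),(2,false),(4,false),(5,false),(6,false),(4,false)]⟩,⟨4295,[],[(0,false),(1,false),(5,false)]⟩]⟩)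
 (.one ⟨[], []⟩)))
 (.fork (.fork (.one ⟨[0,3,2,1,3], [⟨4014,[(3912,false),(3911,false),(3912,true),(3911,true)],[(2,false),(6,false),(4,false),(1,false),(5,false),(4,false),(6,false),(2,true),(5,false),(2,true)]⟩,⟨4107,[],[]⟩,⟨3864,[(3912,false),(3911,false),(3912,true),(3911,true)],[(6,false),(4,false),(1,false),(4,false),(5,false),(2,false),(4,false),(5,false),(4,false)]⟩,⟨4293,[],[(0,false),(4,false),(2,true)]⟩,⟨3844,[(3912,false),(3911,true),(3912,false)],[(1,false),(4,false),(1,false),(4,false),(6,false),(2,true),(5,false),(4,false),(1,false),(6,false),(4,false)]⟩,⟨3856,[(3912,false),(3911,false),(3912,true),(3911,true)],[(2,false),(5,false),(2,false),(4,false),(5,false),(2,false),(4,false),(5,false),(4,false)]⟩,⟨4282,[(3912,false),(3911,false),(3912,true),(3911,true)],[(0,false),(4,false),(6,false),(4,false),(5,false),(2,false),(4,false),(5,false),(6,false)]⟩]⟩)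
 (.one ⟨[0,1,2,3,2,1,7,6,4,3], [⟨4094,[(3911,true),(3911,true)],[(2,false),(4,false),(1,false),(4,false),(5,false),(4,false),(1,false),(4,false),(5,false)]⟩,⟨4093,[],[(2,true)]⟩,⟨4094,[(3911,false),(3911,false)],[(3,false),(5,false),(6,false),(4,false),(1,false),(4,false),(5,false),(6,false)]⟩,⟨4093,[(3911,false),(3911,false)],[(2,false),(3,false),(5,false),(6,false),(4,false),(2,true),(5,false),(2,false),(4,false),(5,false),(6,false)]⟩,⟨4094,[],[(4,false),(1,false),(5,false),(4,false),(1,false),(5,false),(2,false)]⟩,⟨4341,[],[(0,false),(6,false)]⟩,⟨4093,[(3911,true),(3911,true)],[(1,false),(3,false),(6,false),(4,false),(2,true),(5,false),(4,false),(1,false),(6,false)]⟩]⟩))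
 (.fork (.one ⟨[6,6,4,3,2,1,3], [⟨4145,[],[]⟩,⟨4317,[],[]⟩,⟨4034,[(3912,true),(3911,false),(3911,false),(3912,false)],[(1,false),(2,false),(5,false),(4,false),(1,false),(4,false),(6,false),(4,false),(5,false)]⟩,⟨4291,[],[]⟩,⟨4226,[(3912,true),(3911,false),(3911,false),(3912,false)],[(2,false),(3,false),(6,false),(4,false),(1,false),(5,false),(4,false),(1,false),(6,false)]⟩,⟨4048,[(3912,true),(3911,false),(3911,false),(3912,false)],[(1,false),(2,false),(5,false),(4,false),(6,false),(4,false),(2,true),(5,false),(4,false),(5,false),(6,false)]⟩,⟨4287,[],[(2,true)]⟩]⟩)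
 (.one ⟨[], []⟩))))
 (.fork (.fork (.fork (.one ⟨[4,3], [⟨4313,[],[(3,false)]⟩,⟨3978,[],[(1,false),(4,false),(1,false),(4,false),(6,false),(4,false),(2,true),(5,false),(4,false),(5,false)]⟩,⟨4236,[(3912,false),(3911,true),(3911,true),(3912,true),(3911,false)],[(0,false),(2,true),(5,false),(4,false),(1,false),(6,false),(4,false)]⟩,⟨4038,[(3912,false),(3911,true),(3911,true),(3912,true),(3911,false)],[(5,false),(2,true),(5,false),(4,false),(5,false),(4,false),(2,true)]⟩,⟨4097,[],[(6,false)]⟩,⟨4101,[],[(3,false),(6,false),(4,false)]⟩,⟨4022,[(3912,true),(3911,false),(3911,false),(3911,false)],[(0,false),(2,false),(6,false),(4,false),(5,false),(4,false),(6,false),(2,true),(5,false),(2,false),(4,false)]⟩]⟩)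
 (.one ⟨[1,0,2,1,6,6,4,3], [⟨4049,[],[(6,false),(2,true)]⟩,⟨4049,[(3911,true),(3911,true)],[(3,false),(6,false),(4,false),(5,false),(4,false),(1,false)]⟩,⟨4067,[],[(4,false),(3,false)]⟩,⟨4067,[(3911,true),(3911,true)],[(3,false),(2,true),(5,false),(2,false),(4,false),(5,false)]⟩,⟨4067,[(3911,false),(3911,false)],[(2,false),(3,false),(4,false),(1,false),(5,false),(4,false),(2,true),(5,false),(4,false),(2,true)]⟩,⟨4049,[(3911,false),(3911,false)],[(5,false),(2,false),(6,false),(4,false),(1,false),(4,false),(1,false)]⟩,⟨4111,[],[(0,false)]⟩]⟩))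
 (.fork (.one ⟨[1,0,3,2,1,3], [⟨4042,[(3912,false),(3911,true),(3911,true),(3912,true)],[(2,false),(3,false),(4,false),(5,false),(2,false),(4,false),(6,false),(4,false),(5,false),(2,false)]⟩,⟨4075,[],[]⟩,⟨4190,[(3912,false),(3911,true),(3912,false),(3911,false)],[(0,false),(2,false),(5,false),(2,false),(6,false),(4,false),(1,false)]⟩,⟨3952,[(3912,false),(3911,true),(3912,false),(3911,false)],[(5,false),(4,false),(1,false),(4,false),(1,false),(2,true)]⟩,⟨4076,[(3911,true),(3912,false)],[(5,false),(4,false),(6,false),(4,false),(5,false),(4,false),(1,false),(5,false),(2,true)]⟩,⟨3938,[(3911,true),(3912,false)],[(1,false),(4,false),(1,false),(4,false),(6,false),(2,true),(5,false),(4,false),(6,false)]⟩,⟨4024,[(3912,false),(3911,true),(3911,true),(3912,true)],[(0,false),(5,false),(2,false),(4,false),(5,false),(2,false),(4,false),(1,false)]⟩]⟩)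
 (.one ⟨[], []⟩)))
 (.fork (.fork (.one ⟨[0,1,5,4,3], [⟨4010,[(3911,false)],[(2,false),(3,false),(4,false),(5,false),(6,false),(2,true),(5,false)]⟩,⟨4172,[(3912,true),(3911,false),(3912,true),(3911,false),(3911,false)],[(3,false),(5,false),(2,false),(4,false),(1,false),(5,false),(4,false),(1,false)]⟩,⟨4036,[(3912,true),(3911,false),(3912,true),(3911,false),(3911,false)],[(3,false),(4,false),(5,false),(2,true),(5,false),(4,false),(5,false),(4,false),(2,true)]⟩,⟨4299,[],[(5,false),(2,true)]⟩,⟨4079,[],[]⟩,⟨3876,[(3912,true),(3911,false),(3912,true),(3911,false),(3911,false)],[(2,false),(4,false),(3,false),(6,false),(4,false),(1,false),(5,false),(4,false),(5,false),(2,true)]⟩,⟨4264,[(3912,true),(3911,false),(3912,true),(3911,false),(3911,false)],[(0,false),(2,false),(4,false),(1,false),(4,false),(5,false),(4,false),(1,false),(6,false),(2,true)]⟩]⟩)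
 (.one ⟨[], []⟩))
 (.fork (.one ⟨[0,3,2,1,5,4,3], [⟨3942,[(3912,false),(3911,false),(3911,false),(3911,false)],[(3,false),(5,false),(2,false),(5,false),(6,false),(4,false),(1,false),(5,false)]⟩,⟨3940,[(3911,false),(3911,false),(3911,false)],[(1,false),(5,false),(4,false),(6,false),(4,false),(1,false),(4,false),(1,false),(5,false),(6,false),(2,true)]⟩,⟨4087,[],[(0,false),(3,false)]⟩,⟨4307,[],[(5,false)]⟩,⟨4256,[(3911,false),(3911,false),(3911,false)],[(1,false),(4,false),(1,false),(4,false),(6,false),(2,true),(5,false),(4,false),(6,false)]⟩,⟨4206,[(3911,false),(3911,false),(3911,false)],[(1,false),(4,false),(1,false),(3,false),(4,false),(5,false),(4,false),(6,false),(4,false),(5,false),(2,false)]⟩,⟨4016,[(3911,false),(3911,false),(3911,false)],[(5,false),(4,false),(3,false),(2,true),(5,false),(4,false),(6,false),(2,true),(5,false),(2,true)]⟩]⟩)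
 (.one ⟨[], []⟩)))))
 (.fork (.fork (.fork (.fork (.one ⟨[0,1], [⟨4149,[],[(3,false),(6,false),(4,false)]⟩,⟨4161,[],[(1,false)]⟩,⟨4254,[],[(1,false),(2,false),(4,false),(6,false),(4,false),(1,false),(5,false),(4,false),(1,false),(4,false)]⟩,⟨4046,[(3912,true),(3911,true),(3911,true),(3912,true)],[(5,false),(2,false),(5,false),(6,false),(4,false),(1,false),(3,false),(4,false),(6,false)]⟩,⟨4122,[(3912,false),(3911,false),(3911,false),(3912,true)],[(1,false),(6,false),(4,false),(3,false),(5,false),(2,false),(5,false),(4,false),(1,false),(4,false)]⟩,⟨4121,[],[(2,true)]⟩,⟨4274,[],[(1,false),(4,false),(1,false),(3,false),(5,false),(2,false),(4,false),(5,false),(2,true),(5,false)]⟩]⟩)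
 (.one ⟨[0,3,2,1,7,5,4,3], [⟨4000,[(3911,false),(3911,false),(3911,false)],[(1,false),(3,false),(4,false),(2,true),(5,false),(2,false),(4,false),(1,false)]⟩,⟨4234,[(3911,false),(3911,false),(3912,true)],[(1,false),(5,false),(6,false),(4,false),(5,false),(2,false),(4,false),(1,false),(4,false),(6,false)]⟩,⟨4234,[(3911,false),(3911,false),(3911,false)],[(0,false),(1,false),(6,false),(4,false),(1,false),(5,false),(2,false),(4,false),(5,false),(2,true),(5,false)]⟩,⟨4000,[(3912,false),(3911,true),(3911,true)],[(4,false),(5,false),(2,false),(4,false),(6,false),(4,false),(1,false)]⟩,⟨4335,[],[]⟩,⟨4234,[(3912,false),(3911,true),(3911,true)],[(2,false),(4,false),(5,false),(2,true),(5,false),(4,false),(1,false),(4,false),(5,false)]⟩,⟨4000,[(3911,false),(3911,false),(3912,true)],[(2,false),(5,false),(4,false),(5,false),(6,false),(4,false),(1,false),(4,false),(5,false)]⟩]⟩))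
 (.fork (.one ⟨[4,3,2,1,3], [⟨3880,[(3911,false),(3911,false),(3912,true),(3911,false)],[(1,false),(4,false),(1,false),(3,false),(6,false),(2,true),(5,false),(4,false)]⟩,⟨3960,[(3911,false),(3911,false),(3912,true),(3911,false)],[(1,false),(2,false),(4,false),(5,false),(2,false),(4,false),(5,false),(6,false),(2,true),(5,false),(4,false)]⟩,⟨4232,[(3911,false),(3912,false),(3911,true),(3912,true)],[(1,false),(2,false),(4,false),(5,false),(6,false),(4,false),(1,false),(4,false),(5,false),(6,false)]⟩,⟨4040,[(3911,true),(3912,false),(3911,false)],[(3,false),(4,false),(5,false),(4,false),(5,false),(2,true),(5,false)]⟩,⟨4153,[],[(3,false),(4,false),(6,false)]⟩,⟨4008,[(3911,false),(3912,false),(3911,true),(3912,true)],[(0,false),(2,false),(5,false),(2,false),(6,false),(4,false),(5,false),(2,false),(4,false),(5,false)]⟩,⟨4061,[],[(5,false)]⟩]⟩)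
 (.one ⟨[], []⟩)))
 (.fork (.fork (.one ⟨[3,2,1,3], [⟨3906,[(3911,false),(3912,true),(3911,false),(3911,false)],[(6,false),(4,false),(1,false),(2,true),(5,false),(4,false),(5,false),(2,false)]⟩,⟨4198,[(3911,false),(3912,true),(3911,false),(3911,false)],[(1,false),(2,false),(4,false),(5,false),(6,false),(4,false),(1,false),(5,false),(2,true)]⟩,⟨4026,[(3911,false),(3912,true),(3911,false),(3911,false)],[(0,false),(2,false),(4,false),(1,false),(4,false),(6,false),(4,false),(5,false),(4,false),(1,false)]⟩,⟨3950,[(3911,true),(3911,true),(3912,false),(3911,false)],[(1,false),(3,false),(6,false),(4,false),(5,false),(2,true)]⟩,⟨3956,[(3911,false),(3912,true),(3911,false),(3911,false)],[(2,false),(4,false),(5,false),(4,false),(5,false),(2,false),(5,false),(4,false),(6,false)]⟩,⟨4004,[(3911,false),(3912,true),(3911,false),(3911,false)],[(1,false),(3,false),(5,false),(4,false),(5,false),(2,false),(5,false),(6,false),(4,false),(1,false),(5,false)]⟩,⟨4230,[(3911,false),(3912,true),(3911,false),(3911,false)],[(0,false),(5,false),(4,false),(5,false),(6,false),(2,true),(5,false),(4,false),(1,false)]⟩]⟩)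
 (.one ⟨[0,3,2,6,6,4,3,2,1,6,4,3], [⟨4155,[],[(6,false),(2,true)]⟩,⟨4214,[],[(1,false),(4,false),(1,false),(3,false),(4,false),(2,true),(5,false),(2,false),(4,false),(6,false)]⟩,⟨4214,[(3912,true),(3911,false),(3912,false)],[(2,false),(3,false),(4,false),(1,false),(4,false),(5,false),(2,false),(6,false),(4,false),(1,false),(4,false)]⟩,⟨4155,[(3912,true),(3911,false),(3912,false)],[(4,false),(1,false),(6,false),(4,false),(1,false),(5,false),(4,false)]⟩,⟨4125,[],[]⟩,⟨4214,[(3912,true),(3911,true),(3912,false)],[(4,false),(3,false),(5,false),(4,false),(6,false),(4,false),(5,false),(4,false),(2,true)]⟩,⟨4155,[(3912,true),(3911,true),(3912,false)],[(0,false),(2,false),(5,false),(2,false),(4,false),(6,false),(4,false),(5,false),(2,false),(4,false),(5,false)]⟩]⟩))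
 (.fork (.one ⟨[3,2,1,5,4,3], [⟨4194,[(3912,true),(3911,true),(3912,false),(3911,false),(3911,false)],[(3,false),(5,false),(2,true),(5,false),(4,false),(5,false),(4,false),(6,false)]⟩,⟨3948,[(3911,false),(3912,true),(3911,false),(3911,false)],[(5,false),(4,false),(3,false),(2,true),(5,false),(2,true)]⟩,⟨3968,[(3912,true),(3911,true),(3912,false),(3911,false),(3911,false)],[(4,false),(1,false),(4,false),(5,false),(4,false),(6,false),(4,false),(1,false),(2,true)]⟩,⟨4297,[],[(0,false),(6,false),(2,true)]⟩,⟨4216,[(3911,false),(3912,true),(3911,false),(3911,false)],[(1,false),(4,false),(1,false),(3,false),(4,false),(6,false),(2,true),(5,false),(2,false),(4,false),(1,false)]⟩,⟨3974,[(3912,true),(3911,true),(3912,false),(3911,false),(3911,false)],[(2,false),(5,false),(4,false),(1,false),(4,false),(2,true),(5,false),(4,false),(5,false)]⟩,⟨4238,[(3912,true),(3911,true),(3912,false),(3911,false),(3911,false)],[(1,false),(3,false),(6,false),(2,true),(5,false),(2,false),(4,false),(1,false),(6,false),(4,false)]⟩]⟩)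
 (.one ⟨[], []⟩))))
 (.fork (.fork (.fork (.one ⟨[2,1,3], [⟨4139,[],[(2,true)]⟩,⟨3882,[(3912,false),(3911,true)],[(1,false),(5,false),(2,false),(6,false),(4,false),(5,false),(4,false),(5,false),(2,true)]⟩,⟨3886,[(3912,false),(3911,true)],[(1,false),(2,false),(4,false),(3,false),(5,false),(4,false),(1,false),(2,true),(5,false)]⟩,⟨4164,[(3912,false),(3911,true)],[(2,false),(4,false),(1,false),(5,false),(4,false),(1,false),(5,false),(2,false)]⟩,⟨3900,[(3912,false),(3911,true)],[(5,false),(2,false),(4,false),(3,false),(5,false),(4,false),(6,false),(4,false),(1,false)]⟩,⟨3838,[(3912,false),(3911,true)],[(3,false),(4,false),(1,false),(5,false),(4,false),(1,false),(6,false),(4,false),(5,false),(2,false)]⟩,⟨3862,[(3912,false),(3911,true)],[(0,false),(2,true),(5,false),(2,false),(4,false),(5,false),(2,false),(4,false),(1,false)]⟩]⟩)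
 (.one ⟨[2,1,0,6,4,3,2,1,3], [⟨3902,[(3912,false),(3911,true),(3912,false),(3911,false)],[(2,false),(5,false),(4,false),(5,false),(2,false),(6,false),(4,false),(1,false),(4,false),(1,false)]⟩,⟨3986,[(3912,false),(3911,true),(3912,false),(3911,false)],[(3,false),(6,false),(2,true),(5,false),(4,false),(1,false),(6,false),(4,false),(5,false),(2,false)]⟩,⟨4258,[(3912,false),(3911,true),(3912,false),(3911,false)],[(1,false),(2,false),(3,false),(4,false),(5,false),(2,true),(5,false),(4,false),(1,false),(5,false),(4,false)]⟩,⟨4208,[(3912,false),(3911,true),(3912,false),(3911,false)],[(4,false),(1,false),(2,true),(5,false),(4,false),(1,false),(5,false),(2,false),(6,false)]⟩,⟨3918,[(3912,true),(3911,true),(3912,false),(3911,false),(3911,false)],[(4,false),(1,false),(5,false),(4,false),(5,false),(2,false),(5,false),(4,false),(5,false)]⟩,⟨4083,[],[(2,true)]⟩,⟨4020,[(3912,false),(3911,false)],[(6,false),(2,true),(5,false),(2,false),(4,false),(5,false),(2,false)]⟩]⟩))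
 (.fork (.one ⟨[2,1,0,3,2,1,3], [⟨4115,[],[]⟩,⟨4178,[(3911,false),(3911,false),(3911,false)],[(3,false),(4,false),(6,false),(4,false),(1,false),(4,false),(2,true),(5,false),(4,false),(2,true)]⟩,⟨3920,[(3911,false),(3911,false),(3911,false)],[(1,false),(4,false),(3,false),(5,false),(6,false),(4,false),(1,false),(4,false),(5,false),(2,false)]⟩,⟨4059,[],[]⟩,⟨3924,[(3911,false),(3911,false),(3911,false)],[(6,false),(4,false),(5,false),(2,false),(4,false)]⟩,⟨4174,[(3911,false),(3911,false),(3911,false)],[(0,false),(5,false),(2,false),(6,false),(4,false),(1,false),(5,false),(4,false),(1,false),(4,false)]⟩,⟨4246,[],[(3,false),(4,false),(6,false),(2,true),(5,false),(4,false),(5,false),(2,true)]⟩]⟩)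
 (.one ⟨[], []⟩)))
 (.fork (.fork (.one ⟨[0,2,3,2,1,4,3], [⟨3894,[(3912,false)],[(0,false),(1,false),(2,false),(6,false),(4,false),(5,false),(4,false),(1,false),(2,true),(5,false)]⟩,⟨4141,[],[(2,true)]⟩,⟨4091,[],[]⟩,⟨3964,[(3912,false),(3911,true),(3912,false)],[(0,false),(1,false),(6,false),(4,false),(5,false),(4,false),(6,false),(2,true),(5,false),(2,false)]⟩,⟨3966,[(3912,false)],[(1,false),(2,false),(4,false),(1,false),(3,false),(5,false),(4,false),(6,false),(4,false)]⟩,⟨4168,[(3912,false)],[(5,false),(2,false),(6,false),(4,false),(3,false),(5,false),(2,false)]⟩,⟨3888,[(3912,false)],[(4,false),(1,false),(4,false),(5,false),(2,false),(4,false),(1,false),(5,false),(6,false),(2,true)]⟩]⟩)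
 (.one ⟨[], []⟩))
 (.fork (.one ⟨[3,2,1,7,5,4,3], [⟨4071,[],[(2,true)]⟩,⟨4222,[(3911,true),(3912,false),(3911,true)],[(1,false),(5,false),(4,false),(1,false),(3,false),(6,false),(4,false),(5,false),(2,false),(4,false)]⟩,⟨3904,[(3911,true),(3912,false),(3911,true)],[(5,false),(4,false),(2,true),(5,false),(4,false),(1,false),(5,false),(6,false),(2,true)]⟩,⟨4218,[(3911,true),(3912,false),(3911,true)],[(1,false),(4,false),(1,false),(5,false),(4,false),(6,false),(2,true)]⟩,⟨4248,[(3911,true),(3912,false),(3911,true)],[(4,false),(6,false),(4,false),(1,false),(4,false),(5,false),(2,false),(6,false)]⟩,⟨3836,[(3911,true),(3912,false),(3911,true)],[(0,false),(1,false),(5,false),(6,false),(4,false),(5,false),(2,false),(4,false)]⟩,⟨4200,[(3911,true),(3912,false),(3911,true)],[(1,false),(2,false),(5,false),(4,false),(1,false),(6,false),(4,false),(5,false),(2,true)]⟩]⟩)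
 (.one ⟨[], []⟩)))))))

/-- the orbits of state 9 -/
noncomputable def twRoots9 : BT TRoot :=
  twRoots9T1

end CfsgLib.ThPres
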